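import Mathlib
import Cfsg.Prelude.Def_Local

set_option autoImplicit false
open scoped commutatorElement

namespace Cfsg.Agent.Helper22

open Subgroup

variable {G : Type*} [Group G]

/-! ### Conjugates of subgroups -/

/-- The conjugate subgroup `g A g⁻¹`. -/
abbrev conjS (g : G) (A : Subgroup G) : Subgroup G := A.map (MulAut.conj g).toMonoidHom

theorem conjS_mul (g h : G) (A : Subgroup G) : conjS (g * h) A = conjS g (conjS h A) := by
  unfold conjS
  rw [Subgroup.map_map]
  congr 1
  ext x
  simp [MulAut.conj_apply, mul_assoc]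

theorem conjS_one (A : Subgroup G) : conjS 1 A = A := by
  unfold conjS
  ext x
  simp

theorem mem_normalizer_iff_conjS {A : Subgroup G} {g : G} :
    g ∈ normalizer (A : Set G) ↔ conjS g A = A := by
  rw [mem_normalizer_iff_map_conj_eq]
  rfl

theorem conjS_mono (g : G) {A B : Subgroup G} (h : A ≤ B) : conjS g A ≤ conjS g B :=
  Subgroup.map_mono h

theorem conjS_inv_conjS (g : G) (A : Subgroup G) : conjS g⁻¹ (conjS g A) = A := by
  rw [← conjS_mul, inv_mul_cancel, conjS_one]

theorem conjS_conjS_inv (g : G) (A : Subgroup G) : conjS g (conjS g⁻¹ A) = A := by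
  rw [← conjS_mul, mul_inv_cancel, conjS_one]

theorem mem_normalizer_of_conjS_le {A : Subgroup G} {g : G} (h1 : conjS g A ≤ A)
    (h2 : conjS g⁻¹ A ≤ A) : g ∈ normalizer (A : Set G) := by
  rw [mem_normalizer_iff_conjS]
  refine le_antisymm h1 ?_
  have := conjS_mono g h2
  rwa [conjS_conjS_inv] at this

theorem conjS_sup (g : G) (A B : Subgroup G) : conjS g (A ⊔ B) = conjS g A ⊔ conjS g B :=
  Subgroup.map_sup _ _ _

theorem normalizer_inf_le_normalizer_sup (A B : Subgroup G) :
    normalizer (A : Set G) ⊓ normalizer (B : Set G) ≤ normalizer ((A ⊔ B : Subgroup G) : Set G) := by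
  intro g hg
  rw [mem_inf, mem_normalizer_iff_conjS, mem_normalizer_iff_conjS] at hg
  rw [mem_normalizer_iff_conjS, conjS_sup, hg.1, hg.2]

/-- `H ≤ N(A)` and `k ∈ N(H)` imply `H ≤ N(A^k)`. -/
theorem le_normalizer_conjS {H A : Subgroup G} {k : G} (hk : k ∈ normalizer (H : Set G))
    (hA : H ≤ normalizer (A : Set G)) : H ≤ normalizer ((conjS k A : Subgroup G) : Set G) := by
  intro h hh
  rw [mem_normalizer_iff_conjS, ← conjS_mul]
  have h1 : k⁻¹ * h * k ∈ H := by
    have hk' : k⁻¹ ∈ normalizer (H : Set G) := inv_mem hk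
    have := (mem_normalizer_iff.mp hk' h).mp hh
    simpa using this
  have h2 := mem_normalizer_iff_conjS.mp (hA h1)
  have e : h * k = k * (k⁻¹ * h * k) := by group
  rw [e, conjS_mul, h2]

theorem conjS_sSup_le (S : Set (Subgroup G)) (g : G) (h : ∀ A ∈ S, conjS g A ∈ S) :
    conjS g (sSup S) ≤ sSup S := by
  unfold conjS
  rw [Subgroup.map_le_iff_le_comap]
  refine sSup_le ?_
  intro A hA
  rw [← Subgroup.map_le_iff_le_comap]
  exact le_sSup (h A hA)

/-! ### sSup of a sup-closed family in a finite group -/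

theorem sSup_mem_of_supClosed [Finite G] (P : Subgroup G → Prop) (hbot : P ⊥)
    (hsup : ∀ A B, P A → P B → P (A ⊔ B)) : P (sSup {N | P N}) := by
  have hs : SupClosed {N | P N} := fun A hA B hB => hsup A B hA hB
  exact hs.sSup_mem (Set.toFinite _) hbot subset_rfl

/-! ### Radicals -/

/-- A general radical: if `P` is a conjugation-invariant property of subgroups, closed under
`A ⊔ B` when `A` normalizes `B`, then every `P`-subgroup that is normal in a subnormal subgroup
lies in the join of the normal `P`-subgroups. -/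
theorem radical_contains_of_subnormal [Finite G] (P : Subgroup G → Prop) (hbot : P ⊥)
    (hconj : ∀ A g, P A → P (conjS g A))
    (hsup : ∀ A B, P A → P B → A ≤ normalizer (B : Set G) → P (A ⊔ B))
    {K : Subgroup G} (hK : K.IsSubnormal) :
    ∀ Q : Subgroup G, Q ≤ K → K ≤ normalizer (Q : Set G) → P Q →
      Q ≤ sSup {N : Subgroup G | N.Normal ∧ P N} := by
  induction hK with
  | top =>
    intro Q _ hn hQ
    have : Q.Normal := normalizer_eq_top_iff.mp (top_le_iff.mp hn)
    exact le_sSup ⟨this, hQ⟩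
  | step H K h_le hSubn hN ih =>
    intro Q hQH hn hQ
    have hKH : K ≤ normalizer (H : Set G) := (normal_subgroupOf_iff_le_normalizer h_le).mp hN
    let R : Subgroup G → Prop := fun A => A ≤ H ∧ H ≤ normalizer (A : Set G) ∧ P A
    have hRbot : R ⊥ := ⟨bot_le, by
      intro h _; rw [mem_normalizer_iff_conjS]; unfold conjS; simp, hbot⟩
    have hRsup : ∀ A B, R A → R B → R (A ⊔ B) := by
      intro A B hA hB
      refine ⟨sup_le hA.1 hB.1, ?_, hsup A B hA.2.2 hB.2.2 (hA.1.trans hB.2.1)⟩
      exact le_trans (le_inf hA.2.1 hB.2.1) (normalizer_inf_le_normalizer_sup A B)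
    have hRS : R (sSup {A | R A}) := sSup_mem_of_supClosed R hRbot hRsup
    have hQle : Q ≤ sSup {A | R A} := le_sSup ⟨hQH, hn, hQ⟩
    refine hQle.trans (ih _ (hRS.1.trans h_le) ?_ hRS.2.2)
    have hconjle : ∀ k ∈ K, conjS k (sSup {A | R A}) ≤ sSup {A | R A} := by
      intro k hk
      refine conjS_sSup_le _ k ?_
      intro A hA
      refine ⟨?_, ?_, hconj A k hA.2.2⟩
      · have : conjS k H = H := mem_normalizer_iff_conjS.mp (hKH hk)
        calc conjS k A ≤ conjS k H := conjS_mono k hA.1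
          _ = H := this
      · exact le_normalizer_conjS (hKH hk) hA.2.1
    intro k hk
    exact mem_normalizer_of_conjS_le (hconjle k hk) (hconjle k⁻¹ (inv_mem hk))

/-! ### p-cores -/

theorem pCore_eq_sSup (p : ℕ) : Cfsg.pCore p G = sSup {N : Subgroup G | N.Normal ∧ IsPGroup p N} := rfl

theorem isPGroup_pCore [Finite G] (p : ℕ) [Fact p.Prime] : IsPGroup p (Cfsg.pCore p G) := by
  have := sSup_mem_of_supClosed (G := G) (fun N => N.Normal ∧ IsPGroup p N)
    ⟨inferInstance, IsPGroup.of_bot⟩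
    (fun A B hA hB => ⟨by have := hA.1; have := hB.1; infer_instance,
      by have := hB.1; exact IsPGroup.to_sup_of_normal_right hA.2 hB.2⟩)
  exact this.2

theorem le_pCore {p : ℕ} {N : Subgroup G} (hN : N.Normal) (hp : IsPGroup p N) : N ≤ Cfsg.pCore p G :=
  le_sSup ⟨hN, hp⟩

/-- A `p`-subgroup that is normal in a subnormal subgroup lies in `O_p(G)`. -/
theorem le_pCore_of_subnormal [Finite G] {p : ℕ} [Fact p.Prime] {K Q : Subgroup G} (hK : K.IsSubnormal)
    (hQK : Q ≤ K) (hn : K ≤ normalizer (Q : Set G)) (hQ : IsPGroup p Q) : Q ≤ Cfsg.pCore p G :=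
  radical_contains_of_subnormal (fun A => IsPGroup p A) IsPGroup.of_bot
    (fun _ _ hA => hA.map _)
    (fun A B hA hB hAB => IsPGroup.to_sup_of_normal_right' hA hB hAB) hK Q hQK hn hQ

/-- A subnormal `p`-subgroup lies in `O_p(G)`. -/
theorem subnormal_isPGroup_le_pCore [Finite G] {p : ℕ} [Fact p.Prime] {Q : Subgroup G}
    (hQsn : Q.IsSubnormal) (hQ : IsPGroup p Q) : Q ≤ Cfsg.pCore p G :=
  le_pCore_of_subnormal hQsn le_rfl le_normalizer hQ

/-! ### p'-cores -/

theorem card_sup_dvd_of_normal [Finite G] (H K : Subgroup G) [K.Normal] :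
    Nat.card (H ⊔ K : Subgroup G) ∣ Nat.card H * Nat.card K := by
  have h1 : Nat.card (H ⊔ K : Subgroup G) = Nat.card K * K.relIndex H := by
    rw [← relIndex_bot_left, ← relIndex_mul_relIndex ⊥ K (H ⊔ K) bot_le le_sup_right,
      relIndex_bot_left, relIndex_sup_right]
  rw [h1, mul_comm]
  exact Nat.mul_dvd_mul_right (relIndex_dvd_card K H) _

theorem card_subgroupOf_of_le {A N : Subgroup G} (h : A ≤ N) :
    Nat.card (A.subgroupOf N) = Nat.card A :=
  Nat.card_congr (subgroupOfEquivOfLe h).toEquiv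

theorem card_sup_dvd_of_le_normalizer [Finite G] {A B : Subgroup G}
    (hAB : A ≤ normalizer (B : Set G)) :
    Nat.card (A ⊔ B : Subgroup G) ∣ Nat.card A * Nat.card B := by
  have hB : B ≤ normalizer (B : Set G) := le_normalizer
  have h1 := card_sup_dvd_of_normal (A.subgroupOf (normalizer (B : Set G)))
    (B.subgroupOf (normalizer (B : Set G)))
  rw [← subgroupOf_sup hAB hB, card_subgroupOf_of_le (sup_le hAB hB),
    card_subgroupOf_of_le hAB, card_subgroupOf_of_le hB] at h1
  exact h1

theorem card_sup_coprime [Finite G] {p : ℕ} {A B : Subgroup G} (hA : (Nat.card A).Coprime p)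
    (hB : (Nat.card B).Coprime p) (hAB : A ≤ normalizer (B : Set G)) :
    (Nat.card (A ⊔ B : Subgroup G)).Coprime p :=
  Nat.Coprime.coprime_dvd_left (card_sup_dvd_of_le_normalizer hAB) (Nat.Coprime.mul_left hA hB)

theorem pPrimeCore_eq_sSup (p : ℕ) :
    Cfsg.pPrimeCore p G = sSup {N : Subgroup G | N.Normal ∧ (Nat.card N).Coprime p} := rfl

theorem card_pPrimeCore_coprime [Finite G] (p : ℕ) : (Nat.card (Cfsg.pPrimeCore p G)).Coprime p := by
  have := sSup_mem_of_supClosed (G := G) (fun N => N.Normal ∧ (Nat.card N).Coprime p)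
    ⟨inferInstance, by simp⟩
    (fun A B hA hB => ⟨by have := hA.1; have := hB.1; infer_instance,
      card_sup_coprime hA.2 hB.2 (by have := hB.1; rw [normalizer_eq_top]; exact le_top)⟩)
  exact this.2

theorem le_pPrimeCore {p : ℕ} {N : Subgroup G} (hN : N.Normal) (hp : (Nat.card N).Coprime p) :
    N ≤ Cfsg.pPrimeCore p G :=
  le_sSup ⟨hN, hp⟩

theorem card_conjS (g : G) (A : Subgroup G) : Nat.card (conjS g A) = Nat.card A :=
  (Nat.card_congr (A.equivMapOfInjective _ (MulAut.conj g).injective).toEquiv).symm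

/-- A `p'`-subgroup that is normal in a subnormal subgroup lies in `O_{p'}(G)`. -/
theorem le_pPrimeCore_of_subnormal [Finite G] {p : ℕ} {K Q : Subgroup G} (hK : K.IsSubnormal)
    (hQK : Q ≤ K) (hn : K ≤ normalizer (Q : Set G)) (hQ : (Nat.card Q).Coprime p) :
    Q ≤ Cfsg.pPrimeCore p G :=
  radical_contains_of_subnormal (fun A => (Nat.card A).Coprime p) (by simp)
    (fun A g hA => by rw [card_conjS]; exact hA)
    (fun _ _ hA hB hAB => card_sup_coprime hA hB hAB) hK Q hQK hn hQ

end Cfsg.Agent.Helper22
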