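import Mathlib
import Cfsg.Prelude.Def_Local
import Cfsg.Agent.Lib.Helper22.Radical

set_option autoImplicit false
open scoped commutatorElement

namespace Cfsg.Agent.Helper22

open Subgroup

variable {G : Type*} [Group G]

/-- A subgroup of a finite group containing all Sylow subgroups is everything. -/
theorem eq_top_of_sylow_le [Finite G] (T : Subgroup G)
    (h : ∀ (p : ℕ) [Fact p.Prime] (P : Sylow p G), (P : Subgroup G) ≤ T) : T = ⊤ := by
  apply eq_top_of_card_eq
  apply Nat.dvd_antisymm (card_subgroup_dvd_card T)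
  rw [Nat.dvd_iff_prime_pow_dvd_dvd]
  intro p k hp hk
  haveI := Fact.mk hp
  obtain ⟨P⟩ : Nonempty (Sylow p G) := inferInstance
  have h1 : Nat.card P = p ^ (Nat.card G).factorization p := P.card_eq_multiplicity
  have h2 : k ≤ (Nat.card G).factorization p :=
    (hp.pow_dvd_iff_le_factorization Nat.card_pos.ne').mp hk
  calc p ^ k ∣ p ^ (Nat.card G).factorization p := pow_dvd_pow p h2
    _ = Nat.card P := h1.symm
    _ ∣ Nat.card T := card_dvd_of_le (h p P)

theorem fittingSubgroup_eq_sSup :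
    Cfsg.fittingSubgroup G = sSup {N : Subgroup G | N.Normal ∧ Group.IsNilpotent N} := rfl

instance fittingSubgroup_normal : (Cfsg.fittingSubgroup G).Normal :=
  Subgroup.sSup_normal _ (fun _ h => h.1)

theorem le_fittingSubgroup {N : Subgroup G} (hN : N.Normal) (hnil : Group.IsNilpotent N) :
    N ≤ Cfsg.fittingSubgroup G :=
  le_sSup ⟨hN, hnil⟩

theorem pCore_le_fittingSubgroup [Finite G] (p : ℕ) [Fact p.Prime] :
    Cfsg.pCore p G ≤ Cfsg.fittingSubgroup G :=
  le_fittingSubgroup inferInstance (isPGroup_pCore p).isNilpotent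

/-- A nilpotent subgroup which is normal in a subnormal subgroup lies in `⨆ p, O_p(G)`. -/
theorem nilpotent_le_iSup_pCore [Finite G] {K N : Subgroup G} (hK : K.IsSubnormal) (hNK : N ≤ K)
    (hn : K ≤ normalizer (N : Set G)) (hnil : Group.IsNilpotent N) :
    N ≤ ⨆ p : {p : ℕ // p.Prime}, Cfsg.pCore (p : ℕ) G := by
  set F₀ : Subgroup G := ⨆ p : {p : ℕ // p.Prime}, Cfsg.pCore (p : ℕ) G with hF₀
  have hNsn : N.IsSubnormal :=
    IsSubnormal.step N K hNK hK ((normal_subgroupOf_iff_le_normalizer hNK).mpr hn)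
  have key : F₀.subgroupOf N = ⊤ := by
    apply eq_top_of_sylow_le
    intro p _ P
    have hPn : (P : Subgroup N).Normal := inferInstance
    have h1 : ((P : Subgroup N).map N.subtype) ≤ N := map_subtype_le _
    have h2 : N ≤ normalizer (((P : Subgroup N).map N.subtype : Subgroup G) : Set G) := by
      have := (normal_subgroupOf_iff_le_normalizer h1).mp (by
        have e : ((P : Subgroup N).map N.subtype).subgroupOf N = (P : Subgroup N) :=
          comap_map_eq_self_of_injective N.subtype_injective _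
        rw [e]; exact hPn)
      exact this
    have h3 : IsPGroup p ((P : Subgroup N).map N.subtype) := P.isPGroup'.map _
    have h4 := le_pCore_of_subnormal hNsn h1 h2 h3
    have h5 : Cfsg.pCore p G ≤ F₀ :=
      le_iSup (fun q : {p : ℕ // p.Prime} => Cfsg.pCore (q : ℕ) G) ⟨p, Fact.out⟩
    intro x hx
    rw [mem_subgroupOf]
    exact h5 (h4 (mem_map_of_mem _ hx))
  rw [subgroupOf_eq_top] at key
  exact key

theorem iSup_pCore_le_fittingSubgroup [Finite G] :
    (⨆ p : {p : ℕ // p.Prime}, Cfsg.pCore (p : ℕ) G) ≤ Cfsg.fittingSubgroup G := by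
  refine iSup_le ?_
  rintro ⟨p, hp⟩
  haveI := Fact.mk hp
  exact pCore_le_fittingSubgroup p

/-- A nilpotent subgroup which is normal in a subnormal subgroup lies in the Fitting subgroup. -/
theorem nilpotent_le_fittingSubgroup [Finite G] {K N : Subgroup G} (hK : K.IsSubnormal) (hNK : N ≤ K)
    (hn : K ≤ normalizer (N : Set G)) (hnil : Group.IsNilpotent N) :
    N ≤ Cfsg.fittingSubgroup G :=
  (nilpotent_le_iSup_pCore hK hNK hn hnil).trans iSup_pCore_le_fittingSubgroup

/-- A subnormal nilpotent subgroup lies in the Fitting subgroup. -/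
theorem subnormal_nilpotent_le_fittingSubgroup [Finite G] {N : Subgroup G} (hN : N.IsSubnormal)
    (hnil : Group.IsNilpotent N) : N ≤ Cfsg.fittingSubgroup G :=
  nilpotent_le_fittingSubgroup hN le_rfl le_normalizer hnil

/-- `F(G) = ⨆ p, O_p(G)`. -/
theorem fittingSubgroup_eq_iSup_pCore [Finite G] :
    Cfsg.fittingSubgroup G = ⨆ p : {p : ℕ // p.Prime}, Cfsg.pCore (p : ℕ) G := by
  apply le_antisymm _ iSup_pCore_le_fittingSubgroup
  refine sSup_le ?_
  rintro N ⟨hN, hnil⟩
  exact nilpotent_le_iSup_pCore (Subgroup.Normal.isSubnormal hN) le_rfl le_normalizer hnil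

theorem pCore_le_pPrimeCore_of_ne [Finite G] {p q : ℕ} [hp : Fact p.Prime] [hq : Fact q.Prime]
    (hne : p ≠ q) : Cfsg.pCore p G ≤ Cfsg.pPrimeCore q G := by
  apply le_pPrimeCore inferInstance
  obtain ⟨n, hn⟩ := IsPGroup.iff_card.mp (isPGroup_pCore (G := G) p)
  rw [hn]
  exact Nat.Coprime.pow_left n ((Nat.coprime_primes hp.out hq.out).mpr hne)

theorem fittingSubgroup_le_pCore_sup_pPrimeCore [Finite G] (q : ℕ) [hq : Fact q.Prime] :
    Cfsg.fittingSubgroup G ≤ Cfsg.pCore q G ⊔ Cfsg.pPrimeCore q G := by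
  rw [fittingSubgroup_eq_iSup_pCore]
  refine iSup_le ?_
  rintro ⟨p, hp⟩
  haveI := Fact.mk hp
  by_cases h : p = q
  · subst h; exact le_sup_left
  · exact (pCore_le_pPrimeCore_of_ne h).trans le_sup_right

/-- **Fitting's theorem** (finite case): the Fitting subgroup is nilpotent. -/
theorem isNilpotent_fittingSubgroup [Finite G] : Group.IsNilpotent (Cfsg.fittingSubgroup G) := by
  set F := Cfsg.fittingSubgroup G with hF
  refine ((Group.isNilpotent_of_finite_tfae (G := F)).out 0 3 rfl rfl).mpr ?_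
  intro q hq Q
  haveI := hq
  set O : Subgroup F := (Cfsg.pCore q G).subgroupOf F with hO
  have hOn : O.Normal := by rw [hO]; infer_instance
  have hOq : IsPGroup q O := (isPGroup_pCore (G := G) q).comap_subtype
  have hOQ : O ≤ Q := hOq.le_sylow_of_normal Q
  have hcardO : Nat.card O = Nat.card (Cfsg.pCore q G) :=
    card_subgroupOf_of_le (pCore_le_fittingSubgroup q)
  have h1 : Nat.card Q ∣ Nat.card F := card_subgroup_dvd_card _
  have h2 : Nat.card F ∣ Nat.card (Cfsg.pCore q G ⊔ Cfsg.pPrimeCore q G : Subgroup G) :=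
    card_dvd_of_le (fittingSubgroup_le_pCore_sup_pPrimeCore q)
  have h3 := card_sup_dvd_of_normal (Cfsg.pCore q G) (Cfsg.pPrimeCore q G)
  have h4 : Nat.card Q ∣ Nat.card (Cfsg.pCore q G) * Nat.card (Cfsg.pPrimeCore q G) :=
    h1.trans (h2.trans h3)
  obtain ⟨n, hn⟩ := IsPGroup.iff_card.mp Q.isPGroup'
  have h5 : (Nat.card Q).Coprime (Nat.card (Cfsg.pPrimeCore q G)) := by
    rw [hn]
    exact Nat.Coprime.pow_left n (card_pPrimeCore_coprime (G := G) q).symm
  have h6 : Nat.card Q ∣ Nat.card (Cfsg.pCore q G) := h5.dvd_of_dvd_mul_right h4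
  have h7 : Nat.card (Q : Subgroup F) ≤ Nat.card O := by
    rw [hcardO]; exact Nat.le_of_dvd Nat.card_pos h6
  have h8 : O = Q := eq_of_le_of_card_ge hOQ h7
  rw [← h8]; exact hOn

theorem isSolvable_fittingSubgroup [Finite G] : Group.IsSolvable (Cfsg.fittingSubgroup G) :=
  haveI := isNilpotent_fittingSubgroup (G := G)
  inferInstance

end Cfsg.Agent.Helper22
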