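import Mathlib
import Cfsg.Prelude.Def_Local

set_option autoImplicit false
open scoped commutatorElement

namespace Cfsg.Agent.Helper22

open Subgroup

variable {G : Type*} [Group G]

/-! ### Quasisimple groups: proper normal subgroups are central -/

theorem quasisimple_normal_top_or_le_center {X : Type*} [Group X] (hX : Cfsg.IsQuasisimple X)
    (N : Subgroup X) [hN : N.Normal] : N = ⊤ ∨ N ≤ center X := by
  obtain ⟨hperf, hsimple⟩ := hX
  have hmap : (N.map (QuotientGroup.mk' (center X))).Normal :=
    hN.map _ (QuotientGroup.mk'_surjective _)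
  rcases hmap.eq_bot_or_eq_top with h | h
  · right
    rw [Subgroup.map_eq_bot_iff, QuotientGroup.ker_mk'] at h
    exact h
  · left
    have hsup : N ⊔ center X = ⊤ := by
      have := congrArg (Subgroup.comap (QuotientGroup.mk' (center X))) h
      rw [Subgroup.comap_map_eq, QuotientGroup.ker_mk', Subgroup.comap_top] at this
      exact this
    have hcomm : commutator X ≤ N := by
      rw [commutator_def, ← hsup, Subgroup.commutator_le]
      intro a ha b hb
      rw [Subgroup.mem_sup_of_normal_right] at ha hb
      obtain ⟨n, hn, z, hz, rfl⟩ := ha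
      obtain ⟨n', hn', z', hz', rfl⟩ := hb
      rw [Subgroup.mem_center_iff] at hz hz'
      have : ⁅n * z, n' * z'⁆ = ⁅n, n'⁆ := by
        simp only [commutatorElement_def, mul_inv_rev]
        have e1 : ∀ g : X, g * z⁻¹ = z⁻¹ * g := fun g => by
          have := hz g
          calc g * z⁻¹ = z⁻¹ * (z * g) * z⁻¹ := by group
            _ = z⁻¹ * (g * z) * z⁻¹ := by rw [this]
            _ = z⁻¹ * g := by group
        have e2 : ∀ g : X, g * z'⁻¹ = z'⁻¹ * g := fun g => by
          have := hz' g
          calc g * z'⁻¹ = z'⁻¹ * (z' * g) * z'⁻¹ := by group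
            _ = z'⁻¹ * (g * z') * z'⁻¹ := by rw [this]
            _ = z'⁻¹ * g := by group
        calc n * z * (n' * z') * (z⁻¹ * n⁻¹) * (z'⁻¹ * n'⁻¹)
            = n * (z * n') * (z' * z⁻¹) * (n⁻¹ * z'⁻¹) * n'⁻¹ := by group
          _ = n * (n' * z) * (z⁻¹ * z') * (z'⁻¹ * n⁻¹) * n'⁻¹ := by
              rw [← hz n', e1 z', e2 n⁻¹]
          _ = n * n' * n⁻¹ * n'⁻¹ := by group
      rw [this]
      exact N.mul_mem (N.mul_mem (N.mul_mem hn hn') (N.inv_mem hn)) (N.inv_mem hn')
    rw [hperf.commutator_eq_top] at hcomm
    exact top_le_iff.mp hcomm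

/-- Ambient form: `K` quasisimple, `H ≤ K` normalized by `K`; then `K ≤ H` or `[K,H] = 1`. -/
theorem quasisimple_le_or_commutator_eq_bot {K H : Subgroup G} (hK : Cfsg.IsQuasisimple K)
    (hHK : H ≤ K) (hn : K ≤ normalizer (H : Set G)) : K ≤ H ∨ ⁅K, H⁆ = ⊥ := by
  have : (H.subgroupOf K).Normal := (normal_subgroupOf_iff_le_normalizer hHK).mpr hn
  rcases quasisimple_normal_top_or_le_center hK (H.subgroupOf K) with h | h
  · left
    exact subgroupOf_eq_top.mp h
  · right
    rw [commutator_eq_bot_iff_le_centralizer]
    intro k hk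
    rw [mem_centralizer_iff]
    intro x hx
    have hxK : x ∈ K := hHK hx
    have hmem : (⟨x, hxK⟩ : K) ∈ H.subgroupOf K := by
      rw [mem_subgroupOf]; exact hx
    have hc := h hmem
    rw [mem_center_iff] at hc
    have := hc ⟨k, hk⟩
    have := congrArg Subtype.val this
    simpa using this.symm

theorem normalizer_inf_le (A B : Subgroup G) :
    normalizer (A : Set G) ⊓ normalizer (B : Set G) ≤ normalizer ((A ⊓ B : Subgroup G) : Set G) := by
  intro g hg
  rw [mem_inf, mem_normalizer_iff, mem_normalizer_iff] at hg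
  rw [mem_normalizer_iff]
  intro x
  rw [mem_inf, mem_inf, hg.1 x, hg.2 x]

/-- Key lemma, normal case, along a subnormal chain from `K` up to `f n`. -/
theorem chain_le_or_commutator_eq_bot {K : Subgroup G} (hK : Cfsg.IsQuasisimple K)
    (f : ℕ → Subgroup G) (hf0 : f 0 = K) (hle : ∀ i, f i ≤ f (i + 1))
    (hnorm : ∀ i, f (i + 1) ≤ normalizer (f i : Set G)) :
    ∀ n : ℕ, ∀ H : Subgroup G, H ≤ f n → f n ≤ normalizer (H : Set G) → K ≤ H ∨ ⁅K, H⁆ = ⊥ := by
  have hperf : ⁅K, K⁆ = K := by
    have := hK.1
    exact Subgroup.isPerfect_iff.mp this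
  have hKf : ∀ n, K ≤ f n := by
    intro n
    induction n with
    | zero => rw [hf0]
    | succ n ih => exact ih.trans (hle n)
  intro n
  induction n with
  | zero =>
    intro H hH hn
    rw [hf0] at hH hn
    exact quasisimple_le_or_commutator_eq_bot hK hH hn
  | succ n ih =>
    intro H hH hn
    set M := f n with hM
    have hHM : H ⊓ M ≤ M := inf_le_right
    have hMn : M ≤ normalizer ((H ⊓ M : Subgroup G) : Set G) := by
      refine le_trans ?_ (normalizer_inf_le H M)
      exact le_inf ((hle n).trans hn) le_normalizer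
    rcases ih (H ⊓ M) hHM hMn with h | h
    · left; exact h.trans inf_le_left
    · right
      have h1 : ⁅H, K⁆ ≤ H ⊓ M := by
        refine le_inf ?_ ?_
        · have : K ≤ normalizer (H : Set G) := (hKf (n + 1)).trans hn
          rw [le_normalizer_iff_commutator_le_left] at this
          exact this
        · have : H ≤ normalizer (M : Set G) := hH.trans (hnorm n)
          have h2 : ⁅H, M⁆ ≤ M := le_normalizer_iff_commutator_le_right.mp this
          exact (commutator_mono le_rfl (hKf n)).trans h2
      have h3 : ⁅⁅H, K⁆, K⁆ = ⊥ := by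
        rw [eq_bot_iff]
        calc ⁅⁅H, K⁆, K⁆ ≤ ⁅H ⊓ M, K⁆ := commutator_mono h1 le_rfl
          _ = ⁅K, H ⊓ M⁆ := commutator_comm _ _
          _ = ⊥ := h
      have h4 : ⁅⁅K, H⁆, K⁆ = ⊥ := by rw [commutator_comm K H]; exact h3
      have h5 : ⁅⁅K, K⁆, H⁆ = ⊥ := commutator_commutator_eq_bot_of_rotate h4 h3
      rw [hperf] at h5
      exact h5

/-- **Key lemma**: a component `K` and a subnormal subgroup `H`: `K ≤ H` or `[K, H] = 1`. -/
theorem component_le_or_commutator_eq_bot {K H : Subgroup G} (hK : Cfsg.IsComponent K)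
    (hH : H.IsSubnormal) : K ≤ H ∨ ⁅K, H⁆ = ⊥ := by
  obtain ⟨hKsn, hKq⟩ := hK
  induction hH with
  | top => left; exact le_top
  | step H H₁ h_le hSubn hN ih =>
    rcases ih with ih | ih
    · obtain ⟨n, f, hmono, hfn, hf0, hftop⟩ := hKsn.exists_chain
      let g : ℕ → Subgroup G := fun i => f i ⊓ H₁
      have hg0 : g 0 = K := by
        simp only [g, hf0]; exact inf_of_le_left ih
      have hgle : ∀ i, g i ≤ g (i + 1) := fun i =>
        inf_le_inf_right _ (hmono (Nat.le_succ i))
      have hgnorm : ∀ i, g (i + 1) ≤ normalizer (g i : Set G) := by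
        intro i
        refine le_trans ?_ (normalizer_inf_le (f i) H₁)
        refine le_inf ?_ ?_
        · have := (normal_subgroupOf_iff_le_normalizer (hmono (Nat.le_succ i))).mp (hfn i)
          exact inf_le_left.trans this
        · exact inf_le_right.trans le_normalizer
      have hgn : g n = H₁ := by simp [g, hftop]
      have hHn : H₁ ≤ normalizer (H : Set G) :=
        (normal_subgroupOf_iff_le_normalizer h_le).mp hN
      exact chain_le_or_commutator_eq_bot hKq g hg0 hgle hgnorm n H (hgn ▸ h_le) (hgn ▸ hHn)
    · right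
      rw [eq_bot_iff, ← ih]
      exact commutator_mono le_rfl h_le

/-! ### Basic facts on quasisimple groups -/

theorem IsQuasisimple.nontrivial {X : Type*} [Group X] (hX : Cfsg.IsQuasisimple X) : Nontrivial X := by
  have := hX.2
  by_contra h
  rw [not_nontrivial_iff_subsingleton] at h
  have : Nontrivial (X ⧸ center X) := IsSimpleGroup.toNontrivial
  exact not_subsingleton (X ⧸ center X) (inferInstance)

theorem IsQuasisimple.not_isSolvable {X : Type*} [Group X] (hX : Cfsg.IsQuasisimple X) :
    ¬ Group.IsSolvable X := by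
  have := IsQuasisimple.nontrivial hX
  have := hX.1
  exact Group.IsPerfect.not_isSolvable X

theorem map_center_mulEquiv {X Y : Type*} [Group X] [Group Y] (e : X ≃* Y) :
    (center X).map (e : X →* Y) = center Y := by
  ext y
  simp only [mem_map, mem_center_iff]
  constructor
  · rintro ⟨x, hx, rfl⟩ g
    obtain ⟨g', rfl⟩ := e.surjective g
    simp only [MonoidHom.coe_coe]
    rw [← map_mul, ← map_mul, hx g']
  · intro hy
    refine ⟨e.symm y, ?_, by simp⟩
    intro g
    apply e.injective
    simp only [map_mul, MulEquiv.apply_symm_apply]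
    exact hy (e g)

theorem IsQuasisimple.of_mulEquiv {X Y : Type*} [Group X] [Group Y] (e : X ≃* Y)
    (hX : Cfsg.IsQuasisimple X) : Cfsg.IsQuasisimple Y := by
  obtain ⟨hperf, hsimple⟩ := hX
  refine ⟨Group.IsPerfect.ofSurjective (f := (e : X →* Y)) e.surjective, ?_⟩
  let e' : X ⧸ center X ≃* Y ⧸ center Y :=
    QuotientGroup.congr (center X) (center Y) e (map_center_mulEquiv e)
  exact e'.symm.isSimpleGroup

theorem IsQuasisimple.commutator_eq {K : Subgroup G} (hK : Cfsg.IsQuasisimple K) : ⁅K, K⁆ = K :=
  Subgroup.isPerfect_iff.mp hK.1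

theorem IsQuasisimple.ne_bot {K : Subgroup G} (hK : Cfsg.IsQuasisimple K) : K ≠ ⊥ := by
  have := IsQuasisimple.nontrivial hK
  exact (Subgroup.nontrivial_iff_ne_bot K).mp this

theorem IsQuasisimple.not_commutator_eq_bot {K : Subgroup G} (hK : Cfsg.IsQuasisimple K) :
    ⁅K, K⁆ ≠ ⊥ := by
  rw [IsQuasisimple.commutator_eq hK]
  exact IsQuasisimple.ne_bot hK

/-- Subnormal subgroups of a quasisimple group are the whole group or central. -/
theorem quasisimple_subnormal_top_or_le_center {X : Type*} [Group X] (hX : Cfsg.IsQuasisimple X)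
    (H : Subgroup X) (hH : H.IsSubnormal) : H = ⊤ ∨ H ≤ center X := by
  rcases hH.lt_normal with h | ⟨N, hN, hHN, hNtop⟩
  · left; exact h
  · right
    rcases quasisimple_normal_top_or_le_center hX N with h | h
    · exact absurd h hNtop.ne
    · exact hHN.trans h

/-! ### Components -/

theorem IsComponent.map_injective {G' : Type*} [Group G'] {K : Subgroup G} (hK : Cfsg.IsComponent K)
    (f : G →* G') (hf : Function.Bijective f) : Cfsg.IsComponent (K.map f) :=
  ⟨hK.1.map hf.2, IsQuasisimple.of_mulEquiv (K.equivMapOfInjective f hf.1) hK.2⟩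

theorem IsComponent.conj {K : Subgroup G} (hK : Cfsg.IsComponent K) (g : G) :
    Cfsg.IsComponent (K.map (MulAut.conj g).toMonoidHom) :=
  IsComponent.map_injective hK _ (MulAut.conj g).bijective

/-- Distinct components commute. -/
theorem component_commute {K L : Subgroup G} (hK : Cfsg.IsComponent K) (hL : Cfsg.IsComponent L)
    (hne : K ≠ L) : ⁅K, L⁆ = ⊥ := by
  rcases component_le_or_commutator_eq_bot hK hL.1 with h | h
  · rcases component_le_or_commutator_eq_bot hL hK.1 with h' | h'
    · exact absurd (le_antisymm h h') hne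
    · rw [commutator_comm]; exact h'
  · exact h

/-- A component of a subnormal subgroup is a component of the whole group. -/
theorem IsComponent.of_subnormal {H : Subgroup G} (hH : H.IsSubnormal) {K : Subgroup H}
    (hK : Cfsg.IsComponent K) : Cfsg.IsComponent (K.map H.subtype) :=
  ⟨hK.1.trans' hH, IsQuasisimple.of_mulEquiv (K.equivMapOfInjective H.subtype H.subtype_injective) hK.2⟩

/-- A component of `G` contained in `H` is a component of `H`. -/
theorem IsComponent.subgroupOf {H K : Subgroup G} (hK : Cfsg.IsComponent K) (hKH : K ≤ H) :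
    Cfsg.IsComponent (K.subgroupOf H) :=
  ⟨hK.1.subgroupOf, IsQuasisimple.of_mulEquiv (subgroupOfEquivOfLe hKH).symm hK.2⟩

theorem isComponent_map_subtype_iff {H : Subgroup G} (hH : H.IsSubnormal) (K : Subgroup H) :
    Cfsg.IsComponent K ↔ Cfsg.IsComponent (K.map H.subtype) := by
  refine ⟨IsComponent.of_subnormal hH, fun h => ?_⟩
  have := IsComponent.subgroupOf h (map_subtype_le K)
  have e : (K.map H.subtype).subgroupOf H = K :=
    comap_map_eq_self_of_injective H.subtype_injective K
  rwa [e] at this

/-- A component is not contained in a solvable subgroup. -/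
theorem IsComponent.not_le_of_isSolvable {K H : Subgroup G} (hK : Cfsg.IsComponent K)
    (hH : Group.IsSolvable H) : ¬ K ≤ H := by
  intro hle
  have : Group.IsSolvable (K.subgroupOf H) := inferInstance
  have h2 : Group.IsSolvable K :=
    Group.isSolvable_of_isSolvable_injective (f := ((subgroupOfEquivOfLe hle).symm : K →* K.subgroupOf H))
      (subgroupOfEquivOfLe hle).symm.injective
  exact IsQuasisimple.not_isSolvable hK.2 h2

/-- A component centralizes every solvable subnormal subgroup. -/
theorem component_commutator_solvable_subnormal {K H : Subgroup G} (hK : Cfsg.IsComponent K)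
    (hH : H.IsSubnormal) (hs : Group.IsSolvable H) : ⁅K, H⁆ = ⊥ := by
  rcases component_le_or_commutator_eq_bot hK hH with h | h
  · exact absurd h (IsComponent.not_le_of_isSolvable hK hs)
  · exact h

/-! ### The layer -/

theorem layer_map_mulEquiv {G' : Type*} [Group G'] (e : G ≃* G') :
    (Cfsg.layer G).map (e : G →* G') = Cfsg.layer G' := by
  apply le_antisymm
  · unfold Cfsg.layer
    rw [sSup_eq_iSup', Subgroup.map_iSup]
    refine iSup_le ?_
    rintro ⟨K, hK⟩
    exact le_sSup (IsComponent.map_injective hK _ e.bijective)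
  · unfold Cfsg.layer
    refine sSup_le ?_
    intro K hK
    have h1 : Cfsg.IsComponent (K.map (e.symm : G' →* G)) :=
      IsComponent.map_injective hK _ e.symm.bijective
    have h2 : K.map (e.symm : G' →* G) ≤ sSup {K : Subgroup G | Cfsg.IsComponent K} := le_sSup h1
    have h3 := Subgroup.map_mono (f := (e : G →* G')) h2
    rw [Subgroup.map_map] at h3
    have h4 : (e : G →* G').comp (e.symm : G' →* G) = MonoidHom.id G' := by
      ext x; simp
    rw [h4, Subgroup.map_id] at h3
    exact h3

instance layer_normal : (Cfsg.layer G).Normal := by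
  refine ⟨fun x hx g => ?_⟩
  have h := layer_map_mulEquiv (MulAut.conj g : G ≃* G)
  have : (MulAut.conj g : G ≃* G) x ∈ (Cfsg.layer G).map ((MulAut.conj g : G ≃* G) : G →* G) :=
    Subgroup.mem_map_of_mem _ hx
  rw [h] at this
  simpa using this

theorem IsComponent.le_layer {K : Subgroup G} (hK : Cfsg.IsComponent K) : K ≤ Cfsg.layer G :=
  le_sSup hK

theorem layer_map_subtype_le {H : Subgroup G} (hH : H.IsSubnormal) :
    (Cfsg.layer H).map H.subtype ≤ Cfsg.layer G := by
  unfold Cfsg.layer
  rw [Subgroup.map_le_iff_le_comap]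
  refine sSup_le ?_
  intro K hK
  rw [← Subgroup.map_le_iff_le_comap]
  exact le_sSup (IsComponent.of_subnormal hH hK)

/-- A component normalizes every subnormal subgroup. -/
theorem IsComponent.le_normalizer_of_subnormal {K H : Subgroup G} (hK : Cfsg.IsComponent K)
    (hH : H.IsSubnormal) : K ≤ normalizer (H : Set G) := by
  rcases component_le_or_commutator_eq_bot hK hH with h | h
  · exact h.trans le_normalizer
  · exact (commutator_eq_bot_iff_le_centralizer.mp h).trans (centralizer_le_normalizer _)

/-- The layer normalizes every subnormal subgroup. -/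
theorem layer_le_normalizer_of_subnormal {H : Subgroup G} (hH : H.IsSubnormal) :
    Cfsg.layer G ≤ normalizer (H : Set G) :=
  sSup_le fun _ hK => IsComponent.le_normalizer_of_subnormal hK hH

/-! ### Relative components (components of a subgroup `H`, written in `G`) -/

/-- Transport of a relative component along an automorphism of the ambient group. -/
theorem IsComponent.subgroupOf_map_mulEquiv {G' : Type*} [Group G'] (e : G ≃* G') {A H : Subgroup G}
    (hAH : A ≤ H) (hA : Cfsg.IsComponent (A.subgroupOf H)) :
    Cfsg.IsComponent ((A.map (e : G →* G')).subgroupOf (H.map (e : G →* G'))) := by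
  let f : ↥H →* ↥(H.map (e : G →* G')) := (e.subgroupMap H).toMonoidHom
  have hf : Function.Bijective f := (e.subgroupMap H).bijective
  have h1 := IsComponent.map_injective hA f hf
  have h2 : (A.subgroupOf H).map f =
      (A.map (e : G →* G')).subgroupOf (H.map (e : G →* G')) := by
    ext ⟨y, hy⟩
    simp only [mem_map, mem_subgroupOf]
    constructor
    · rintro ⟨⟨a, haH⟩, ha, hay⟩
      have : e a = y := congrArg Subtype.val hay
      exact ⟨a, ha, this⟩
    · rintro ⟨a, ha, hay⟩
      refine ⟨⟨a, hAH ha⟩, ha, ?_⟩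
      apply Subtype.ext
      exact hay
  rwa [h2] at h1

/-- Two relative components of `H` are equal or commute. -/
theorem relative_component_eq_or_commute {A B H : Subgroup G} (hAH : A ≤ H) (hBH : B ≤ H)
    (hA : Cfsg.IsComponent (A.subgroupOf H)) (hB : Cfsg.IsComponent (B.subgroupOf H)) :
    A = B ∨ ⁅A, B⁆ = ⊥ := by
  by_cases h : A.subgroupOf H = B.subgroupOf H
  · left
    have := congrArg (Subgroup.map H.subtype) h
    rwa [map_subgroupOf_eq_of_le hAH, map_subgroupOf_eq_of_le hBH] at this
  · right
    have h1 := component_commute hA hB h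
    have h2 := congrArg (Subgroup.map H.subtype) h1
    rwa [map_commutator, map_subgroupOf_eq_of_le hAH, map_subgroupOf_eq_of_le hBH,
      Subgroup.map_bot] at h2

end Cfsg.Agent.Helper22
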