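import Cfsg.Agent.Lib.Helper1.CD3.Defs
import Cfsg.Agent.Lib.Helper81.CharCoprime
import Cfsg.Agent.Lib.Helper74.LinChar
import Mathlib

set_option autoImplicit false
set_option linter.unusedSectionVars false
set_option linter.style.haveILetI false

namespace Cfsg.Agent.Helper22.CD3B

open Cfsg Cfsg.Agent.Helper81 Cfsg.Agent.Helper1.CD3

universe u

/-- the trivial function is an irreducible character -/
theorem h22_isIrr_one {W : Type u} [Group W] : IsIrrCharacter W (fun _ => (1 : ℂ)) := by
  have h := (Cfsg.Agent.Helper74.Lin.ofHom (1 : W →* ℂˣ)).2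
  have e : ((Cfsg.Agent.Helper74.Lin.ofHom (1 : W →* ℂˣ)) : W → ℂ) = fun _ => (1 : ℂ) := by
    funext g
    simp
  rwa [e] at h

theorem h22_isIrr_linChar {W : Type u} [Group W] [Fintype W] {A : Type u} [CommGroup A] [Finite A]
    (π : W →* A) (ψ : AddChar (Additive A) ℂ) : IsIrrCharacter W (linChar π ψ) := by
  have h := isIrrCharacter_linChar_mul π ψ (h22_isIrr_one (W := W))
  have e : linChar π ψ * (fun _ => (1 : ℂ)) = linChar π ψ := by
    funext g
    simp
  rwa [e] at h

theorem card_Lam {W : Type u} [Group W] [Fintype W] [Fintype (commutator W)] {ω : W → ℂ}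
    (hω : IsIrrCharacter W ω) :
    classInner (fun x : commutator W => ω x) (fun x : commutator W => ω x) = (Nat.card (Lam ω) : ℂ) := by
  classical
  let π : W →* Abelianization W := Abelianization.of
  have hπ : Function.Surjective π := by
    intro a
    obtain ⟨g, rfl⟩ := QuotientGroup.mk_surjective a
    exact ⟨g, rfl⟩
  have hker : ∀ g : W, π g = 1 ↔ g ∈ commutator W := by
    intro g
    have : π.ker = commutator W := Abelianization.ker_of W
    rw [← this, MonoidHom.mem_ker]
  have hcf : IsClassFunction W ω := isClassFunction_of_isCharacter (IsIrrCharacter.isCharacter hω)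
  have hN : (commutator W).Normal := inferInstance
  have hind : indFun (commutator W) (fun x : commutator W => ω x)
      = ∑ ψ : AddChar (Additive (Abelianization W)) ℂ, linChar π ψ * ω := by
    have h := smul_indFun_eq_sum_linChar (commutator W) hN π hπ hker
      (θ := fun x : commutator W => ω x) hcf 1 (by rw [one_smul])
    rwa [one_smul] at h
  rw [← frobenius_reciprocity (commutator W) (fun x : commutator W => ω x) hcf, hind,
    classInner_sum_left]
  have hterm : ∀ ψ : AddChar (Additive (Abelianization W)) ℂ,
      classInner (linChar π ψ * ω) ω = if linChar π ψ * ω = ω then 1 else 0 := by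
    intro ψ
    exact irr_orthonormal (isIrrCharacter_linChar_mul π ψ hω) hω
  simp_rw [hterm]
  rw [Finset.sum_boole]
  congr 1
  rw [← Fintype.card_subtype, ← Nat.card_eq_fintype_card]
  -- the bijection
  let f : {ψ : AddChar (Additive (Abelianization W)) ℂ // linChar π ψ * ω = ω} → Lam ω :=
    fun ψ => ⟨linChar π ψ.1, h22_isIrr_linChar π ψ.1, linChar_one π ψ.1,
      fun w => congrFun ψ.2 w⟩
  have hinj : Function.Injective f := by
    intro ψ ψ' h
    apply Subtype.ext
    apply DFunLike.ext
    intro a
    obtain ⟨g, hg⟩ := hπ (Additive.toMul a)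
    have h1 := congrFun (congrArg Subtype.val h) g
    simp only [f, linChar_apply, hg] at h1
    simpa using h1
  have hsurj : Function.Surjective f := by
    rintro ⟨ν, hν, h1, hmul⟩
    let φ : W →* ℂˣ := Cfsg.Agent.Helper74.Lin.toHom ⟨ν, hν⟩ h1
    let ψ : AddChar (Additive (Abelianization W)) ℂ :=
      { toFun := fun a => ((Abelianization.lift φ (Additive.toMul a) : ℂˣ) : ℂ)
        map_zero_eq_one' := by simp
        map_add_eq_mul' := by
          intro a b
          simp [toMul_add] }
    have hψ : linChar π ψ = ν := by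
      funext g
      show ((Abelianization.lift φ (Additive.toMul (Additive.ofMul (π g))) : ℂˣ) : ℂ) = ν g
      simp [π, φ]
    refine ⟨⟨ψ, ?_⟩, ?_⟩
    · funext w
      rw [Pi.mul_apply, hψ]
      exact hmul w
    · apply Subtype.ext
      exact hψ
  exact Nat.card_congr (Equiv.ofBijective f ⟨hinj, hsurj⟩)

end Cfsg.Agent.Helper22.CD3B
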