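import Mathlib
import Cfsg.Prelude.Def_Local
import Cfsg.Agent.Lib.Helper22.Components
import Cfsg.Agent.Lib.Helper22.Fitting

set_option autoImplicit false
open scoped commutatorElement

namespace Cfsg.Agent.Helper22

open Subgroup

variable {G : Type*} [Group G]

/-- A nontrivial perfect group all of whose proper normal subgroups are central is quasisimple. -/
theorem isQuasisimple_of_forall_normal {X : Type*} [Group X] [Nontrivial X]
    (hperf : commutator X = ⊤)
    (h : ∀ N : Subgroup X, N.Normal → N = ⊤ ∨ N ≤ center X) : Cfsg.IsQuasisimple X := by
  refine ⟨⟨hperf⟩, ?_⟩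
  have hne : center X ≠ ⊤ := by
    intro hc
    have : commutator X = ⊥ := (_root_.commutator_eq_bot_iff_center_eq_top X).mpr hc
    rw [hperf] at this
    exact (bot_ne_top (α := Subgroup X)) this.symm
  have : Nontrivial (X ⧸ center X) := QuotientGroup.nontrivial_iff.mpr hne
  refine ⟨fun N' hN' => ?_⟩
  have hsurj := QuotientGroup.mk'_surjective (center X)
  have hN : (N'.comap (QuotientGroup.mk' (center X))).Normal := hN'.comap _
  rcases h _ hN with h1 | h1
  · right
    have := congrArg (Subgroup.map (QuotientGroup.mk' (center X))) h1
    rwa [map_comap_eq_self_of_surjective hsurj, map_top_of_surjective _ hsurj] at this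
  · left
    have := Subgroup.map_mono (f := QuotientGroup.mk' (center X)) h1
    rw [map_comap_eq_self_of_surjective hsurj] at this
    rw [eq_bot_iff]
    refine this.trans ?_
    rw [le_bot_iff, Subgroup.map_eq_bot_iff, QuotientGroup.ker_mk']

theorem generalizedFittingSubgroup_eq :
    Cfsg.generalizedFittingSubgroup G = Cfsg.layer G ⊔ Cfsg.fittingSubgroup G := rfl

instance generalizedFittingSubgroup_normal : (Cfsg.generalizedFittingSubgroup G).Normal := by
  rw [generalizedFittingSubgroup_eq]; infer_instance

theorem layer_le_generalizedFittingSubgroup : Cfsg.layer G ≤ Cfsg.generalizedFittingSubgroup G :=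
  le_sup_left

theorem fittingSubgroup_le_generalizedFittingSubgroup :
    Cfsg.fittingSubgroup G ≤ Cfsg.generalizedFittingSubgroup G :=
  le_sup_right

/-- Core of Bender's theorem: every subnormal subgroup centralizing `F*(G)` lies in `F*(G)`. -/
theorem subnormal_le_generalizedFittingSubgroup_of_le_centralizer [Finite G] :
    ∀ n : ℕ, ∀ K : Subgroup G, Nat.card K = n → K.IsSubnormal →
      K ≤ centralizer (Cfsg.generalizedFittingSubgroup G : Set G) →
      K ≤ Cfsg.generalizedFittingSubgroup G := by
  intro n
  induction n using Nat.strong_induction_on with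
  | _ n ih =>
    intro K hcard hKsn hKC
    set Fs := Cfsg.generalizedFittingSubgroup G with hFs
    -- every subgroup `N ≤ K` normalized by `K` is `K` or lies in `Fs`
    have hsub : ∀ N : Subgroup G, N ≤ K → K ≤ normalizer (N : Set G) → N = K ∨ N ≤ Fs := by
      intro N hNK hn
      by_cases hc : Nat.card N < Nat.card K
      · right
        have hNsn : N.IsSubnormal :=
          IsSubnormal.step N K hNK hKsn ((normal_subgroupOf_iff_le_normalizer hNK).mpr hn)
        exact ih (Nat.card N) (hcard ▸ hc) N rfl hNsn (hNK.trans hKC)
      · left
        exact eq_of_le_of_card_ge hNK (not_lt.mp hc)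
    have hcomm : ∀ k ∈ K, ∀ z ∈ Fs, z * k = k * z := by
      intro k hk z hz
      exact (mem_centralizer_iff.mp (hKC hk)) z hz
    by_cases hperf : ⁅K, K⁆ = K
    · -- perfect case
      by_cases hbot : K = ⊥
      · rw [hbot]; exact bot_le
      · have : Nontrivial K := (Subgroup.nontrivial_iff_ne_bot K).mpr hbot
        have hperf' : commutator K = ⊤ := by
          have : Group.IsPerfect K := Subgroup.isPerfect_iff.mpr hperf
          exact this.commutator_eq_top
        have hq : Cfsg.IsQuasisimple K := by
          apply isQuasisimple_of_forall_normal hperf'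
          intro N hN
          have h1 : N.map K.subtype ≤ K := map_subtype_le N
          have h2 : K ≤ normalizer ((N.map K.subtype : Subgroup G) : Set G) := by
            apply (normal_subgroupOf_iff_le_normalizer h1).mp
            have e : (N.map K.subtype).subgroupOf K = N :=
              comap_map_eq_self_of_injective K.subtype_injective _
            rw [e]; exact hN
          rcases hsub _ h1 h2 with h3 | h3
          · left
            rw [eq_top_iff]
            intro x _
            have : (x : G) ∈ N.map K.subtype := by rw [h3]; exact x.2
            obtain ⟨y, hy, hyx⟩ := this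
            have : y = x := Subtype.ext hyx
            rwa [← this]
          · right
            intro x hx
            rw [mem_center_iff]
            intro g
            apply Subtype.ext
            have hxFs : (x : G) ∈ Fs := h3 (mem_map_of_mem K.subtype hx)
            have := hcomm g g.2 x hxFs
            simpa using this.symm
        exact (IsComponent.le_layer ⟨hKsn, hq⟩).trans layer_le_generalizedFittingSubgroup
    · -- non-perfect case: `K` is nilpotent of class at most 2
      have hD : ⁅K, K⁆ ≤ K := commutator_le_self K
      have hDn : K ≤ normalizer ((⁅K, K⁆ : Subgroup G) : Set G) :=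
        normalizer_commutator_ge_left (H₁ := K) (H₂ := K)
      rcases hsub _ hD hDn with h | h
      · exact absurd h hperf
      · have h1 : ⁅⁅K, K⁆, K⁆ = ⊥ := by
          rw [commutator_eq_bot_iff_le_centralizer]
          intro d hd
          rw [mem_centralizer_iff]
          intro k hk
          exact (hcomm k hk d (h hd)).symm
        have hnil : Group.IsNilpotent K := by
          apply isNilpotent_of_lowerCentralSeries_eq_bot (n := 2)
          show ⁅⁅K, K⁆, K⁆ = ⊥
          exact h1
        exact (subnormal_nilpotent_le_fittingSubgroup hKsn hnil).trans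
          fittingSubgroup_le_generalizedFittingSubgroup

/-- **Bender's theorem**: `C_G(F*(G)) ≤ F*(G)` for a finite group `G`. -/
theorem centralizer_generalizedFittingSubgroup_le [Finite G] :
    centralizer (Cfsg.generalizedFittingSubgroup G : Set G) ≤ Cfsg.generalizedFittingSubgroup G :=
  subnormal_le_generalizedFittingSubgroup_of_le_centralizer _ _ rfl
    (Subgroup.Normal.isSubnormal inferInstance) le_rfl

/-- Components centralize the Fitting subgroup. -/
theorem component_le_centralizer_fittingSubgroup {K : Subgroup G} (hK : Cfsg.IsComponent K) :
    K ≤ centralizer (Cfsg.fittingSubgroup G : Set G) := by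
  rw [← commutator_eq_bot_iff_le_centralizer, commutator_comm,
    commutator_eq_bot_iff_le_centralizer]
  refine sSup_le ?_
  rintro N ⟨hN, hnil⟩
  rw [← commutator_eq_bot_iff_le_centralizer, commutator_comm]
  have : Group.IsSolvable N := inferInstance
  exact component_commutator_solvable_subnormal hK (Subgroup.Normal.isSubnormal hN) this

theorem layer_le_centralizer_fittingSubgroup :
    Cfsg.layer G ≤ centralizer (Cfsg.fittingSubgroup G : Set G) :=
  sSup_le fun _ hK => component_le_centralizer_fittingSubgroup hK

theorem commutator_layer_fittingSubgroup : ⁅Cfsg.layer G, Cfsg.fittingSubgroup G⁆ = ⊥ :=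
  commutator_eq_bot_iff_le_centralizer.mpr layer_le_centralizer_fittingSubgroup

theorem layer_eq_bot_iff : Cfsg.layer G = ⊥ ↔ ∀ K : Subgroup G, ¬ Cfsg.IsComponent K := by
  constructor
  · intro h K hK
    have := IsComponent.le_layer hK
    rw [h, le_bot_iff] at this
    exact IsQuasisimple.ne_bot hK.2 this
  · intro h
    rw [eq_bot_iff]
    exact sSup_le fun K hK => absurd hK (h K)

end Cfsg.Agent.Helper22
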