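import Mathlib
import Cfsg.Prelude.Def_Transfer
import Cfsg.Prelude.Def_CaseTheorems
import Cfsg.Agent.Lib.Helper32.PGroupCenter
import Cfsg.Agent.Lib.Helper10.ElemAb
import Cfsg.Agent.Lib.Helper22.Radical
import Cfsg.Agent.S0126

set_option autoImplicit false

/-! Normal elementary abelian subgroups of order `p²` in `p`-groups and the rank-2 commuting
graph (towards S1337). -/

namespace Cfsg.Agent.Helper22

open Cfsg

variable {P : Type*} [Group P]

/-- The conjugacy class of a non-identity element of a normal subgroup `U` has at most `|U| - 1`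
elements; stated through the index of the centralizer. -/
theorem index_centralizer_singleton_lt [Finite P] (U : Subgroup P) [U.Normal] {u : P}
    (hu : u ∈ U) (hu1 : u ≠ 1) :
    (Subgroup.centralizer ({u} : Set P)).index < Nat.card U := by
  classical
  have h1 : (Subgroup.centralizer ({u} : Set P)).index
      = (MulAction.stabilizer (ConjAct P) u).index := by
    rw [Subgroup.centralizer_eq_comap_stabilizer]
    exact Subgroup.index_comap_of_surjective _ (ConjAct.toConjAct (G := P)).surjective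
  have h2 : Nat.card U = (U : Set P).ncard := Nat.card_coe_set_eq (U : Set P)
  rw [h1, MulAction.index_stabilizer, h2]
  apply Set.ncard_lt_ncard _ (Set.toFinite _)
  refine ⟨?_, ?_⟩
  · rintro x ⟨g, rfl⟩
    show g • u ∈ U
    rw [ConjAct.smul_def]
    exact ‹U.Normal›.conj_mem u hu _
  · intro h
    have h1' : (1 : P) ∈ MulAction.orbit (ConjAct P) u := h U.one_mem
    obtain ⟨g, hg⟩ := h1'
    replace hg : g • u = 1 := hg
    rw [ConjAct.smul_def] at hg
    apply hu1
    have : u = (ConjAct.ofConjAct g)⁻¹ * 1 * (ConjAct.ofConjAct g) := by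
      rw [← hg]; group
    rw [this]; group

/-- In a finite `p`-group the centralizer of a normal subgroup of order `p²` has index dividing
`p`. -/
theorem index_centralizer_dvd_of_card_sq [Finite P] {p : ℕ} [Fact p.Prime] (hP : IsPGroup p P)
    (U : Subgroup P) [U.Normal] (hU : Nat.card U = p ^ 2) :
    (Subgroup.centralizer (U : Set P)).index ∣ p := by
  have hp : p.Prime := Fact.out
  by_cases hUZ : U ≤ Subgroup.center P
  · have : Subgroup.centralizer (U : Set P) = ⊤ := by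
      rw [Subgroup.centralizer_eq_top_iff_subset]
      exact hUZ
    rw [this, Subgroup.index_top]
    exact one_dvd _
  · obtain ⟨u₀, hu₀U, hu₀Z⟩ := SetLike.not_le_iff_exists.mp hUZ
    have hUne : U ≠ ⊥ := by
      intro h
      rw [h, Subgroup.card_bot] at hU
      have := hp.one_lt
      nlinarith
    obtain ⟨z, hzU, hz1, hzZ⟩ := Helper32.exists_ne_one_mem_center_of_normal hP U hUne
    set Z₀ : Subgroup P := U ⊓ Subgroup.center P with hZ₀
    set W : Subgroup P := Z₀ ⊔ Subgroup.zpowers u₀ with hW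
    have hZ₀W : Z₀ ≤ W := le_sup_left
    have hWU : W ≤ U := sup_le inf_le_left (by rw [Subgroup.zpowers_le]; exact hu₀U)
    have hu₀W : u₀ ∈ W := (le_sup_right : Subgroup.zpowers u₀ ≤ W) (Subgroup.mem_zpowers u₀)
    have hcardZ₀ : Nat.card Z₀ ∣ p ^ 2 := hU ▸ Subgroup.card_dvd_of_le inf_le_left
    have hcardW : Nat.card W ∣ p ^ 2 := hU ▸ Subgroup.card_dvd_of_le hWU
    obtain ⟨i, hi2, hi⟩ := (Nat.dvd_prime_pow hp).mp hcardZ₀
    obtain ⟨j, hj2, hj⟩ := (Nat.dvd_prime_pow hp).mp hcardW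
    have hi1 : 1 ≤ i := by
      rcases Nat.eq_zero_or_pos i with h | h
      · exfalso
        rw [h, pow_zero] at hi
        have : Z₀ = ⊥ := Subgroup.card_eq_one.mp hi
        have hz : z ∈ Z₀ := ⟨hzU, hzZ⟩
        rw [this, Subgroup.mem_bot] at hz
        exact hz1 hz
      · exact h
    have hij : i < j := by
      by_contra hcon
      have hle : Nat.card W ≤ Nat.card Z₀ := by
        rw [hi, hj]
        exact Nat.pow_le_pow_right hp.pos (not_lt.mp hcon)
      have : Z₀ = W := Subgroup.eq_of_le_of_card_ge hZ₀W hle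
      rw [← this] at hu₀W
      exact hu₀Z hu₀W.2
    have hj' : j = 2 := by omega
    have hWeq : W = U := Subgroup.eq_of_le_of_card_ge hWU (by rw [hU, hj, hj'])
    have hle : Subgroup.centralizer ({u₀} : Set P) ≤ Subgroup.centralizer (U : Set P) := by
      intro g hg
      have hg' : g * u₀ = u₀ * g := by
        rw [Subgroup.mem_centralizer_iff] at hg
        exact (hg u₀ rfl).symm
      have hUle : U ≤ Subgroup.centralizer ({g} : Set P) := by
        rw [← hWeq]
        refine sup_le ?_ ?_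
        · intro x hx
          rw [Subgroup.mem_centralizer_iff]
          intro y hy
          rw [Set.mem_singleton_iff] at hy
          subst hy
          exact (Subgroup.mem_center_iff.mp hx.2 y)
        · rw [Subgroup.zpowers_le, Subgroup.mem_centralizer_iff]
          intro y hy
          rw [Set.mem_singleton_iff] at hy
          subst hy
          exact hg'
      rw [Subgroup.mem_centralizer_iff]
      intro x hx
      have := hUle hx
      rw [Subgroup.mem_centralizer_iff] at this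
      exact (this g rfl).symm
    have hdvd : (Subgroup.centralizer (U : Set P)).index ∣
        (Subgroup.centralizer ({u₀} : Set P)).index := Subgroup.index_dvd_of_le hle
    have hu₀1 : u₀ ≠ 1 := by
      intro h
      apply hu₀Z
      rw [h]
      exact Subgroup.one_mem _
    have hlt := index_centralizer_singleton_lt U hu₀U hu₀1
    obtain ⟨k, hk⟩ := hP.index (Subgroup.centralizer ({u₀} : Set P))
    rw [hk, hU] at hlt
    have hk1 : k ≤ 1 := by
      have := (Nat.pow_lt_pow_iff_right hp.one_lt).mp hlt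
      omega
    rw [hk] at hdvd
    calc (Subgroup.centralizer (U : Set P)).index ∣ p ^ k := hdvd
      _ ∣ p ^ 1 := pow_dvd_pow p hk1
      _ = p := pow_one p

/-- A subgroup of order greater than `p²` meets the centralizer of a normal subgroup of order
`p²` in a subgroup of order at least `p²`. -/
theorem sq_le_card_inf_centralizer [Finite P] {p : ℕ} [Fact p.Prime] (hP : IsPGroup p P)
    (U : Subgroup P) [U.Normal] (hU : Nat.card U = p ^ 2) (E : Subgroup P)
    (hE : p ^ 2 < Nat.card E) :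
    p ^ 2 ≤ Nat.card (E ⊓ Subgroup.centralizer (U : Set P) : Subgroup P) := by
  have hp : p.Prime := Fact.out
  set C := Subgroup.centralizer (U : Set P) with hC
  have h1 : Nat.card (C.subgroupOf E) * C.relIndex E = Nat.card E :=
    Subgroup.card_mul_index (C.subgroupOf E)
  have h2 : Nat.card (C.subgroupOf E) = Nat.card (E ⊓ C : Subgroup P) := by
    rw [← Subgroup.inf_subgroupOf_right, inf_comm]
    exact card_subgroupOf_of_le inf_le_left
  have h3 : C.relIndex E ∣ p :=
    (Subgroup.relIndex_dvd_index_of_normal C E).trans (index_centralizer_dvd_of_card_sq hP U hU)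
  have h4 : C.relIndex E ≤ p := Nat.le_of_dvd hp.pos h3
  -- |E| is a power of p
  obtain ⟨e, he⟩ := (hP.to_subgroup E).exists_card_eq
  obtain ⟨d, hd⟩ := (hP.to_subgroup (E ⊓ C)).exists_card_eq
  rw [h2] at h1
  rw [he] at hE h1
  rw [hd] at h1 ⊢
  have he3 : 3 ≤ e := by
    have := (Nat.pow_lt_pow_iff_right hp.one_lt).mp hE
    omega
  apply Nat.pow_le_pow_right hp.pos
  by_contra hcon
  have hd1 : d ≤ 1 := by omega
  have : p ^ e ≤ p ^ 1 * p := by
    rw [← h1]
    exact Nat.mul_le_mul (Nat.pow_le_pow_right hp.pos hd1) h4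
  have h5 : p ^ 3 ≤ p ^ e := Nat.pow_le_pow_right hp.pos he3
  have h6 : p ^ 1 * p = p ^ 2 := by ring
  have h7 : p ^ 2 < p ^ 3 := Nat.pow_lt_pow_right hp.one_lt (by norm_num)
  omega

/-- An elementary abelian subgroup of order greater than `p²` inside `C_P(X)` shows that `C_P(X)`
has rank greater than 2. -/
theorem not_pRankLE_centralizer {p : ℕ} {X F : Subgroup P} (hF : IsElementaryAbelian p F)
    (hFX : F ≤ Subgroup.centralizer (X : Set P)) (hFc : p ^ 2 < Nat.card F) :
    ¬ PRankLE p 2 ↥(Subgroup.centralizer (X : Set P)) := by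
  intro h
  have h1 := Helper10.elemAb_subgroupOf hF (Subgroup.centralizer (X : Set P))
  have h2 := h _ h1.1 h1.2
  rw [card_subgroupOf_of_le hFX] at h2
  omega

/-- Conversely, rank greater than 2 in a subgroup `C` gives an elementary abelian subgroup of order
greater than `p²` inside `C`. -/
theorem exists_elemAb_of_not_pRankLE {p : ℕ} {C : Subgroup P} (h : ¬ PRankLE p 2 ↥C) :
    ∃ F : Subgroup P, IsElementaryAbelian p F ∧ F ≤ C ∧ p ^ 2 < Nat.card F := by
  unfold PRankLE at h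
  push Not at h
  obtain ⟨A, hA1, hA2, hA3⟩ := h
  refine ⟨A.map C.subtype, Helper10.elemAb_map ⟨hA1, hA2⟩ _, Subgroup.map_subtype_le A, ?_⟩
  rw [Subgroup.card_map_of_injective C.subtype_injective]
  exact hA3

theorem exists_elemAb_of_not_pRankLE_top {p : ℕ} (h : ¬ PRankLE p 2 P) :
    ∃ F : Subgroup P, IsElementaryAbelian p F ∧ p ^ 2 < Nat.card F := by
  unfold PRankLE at h
  push Not at h
  obtain ⟨A, hA1, hA2, hA3⟩ := h
  exact ⟨A, ⟨hA1, hA2⟩, hA3⟩

theorem elemAb_le_centralizer_self {p : ℕ} {X : Subgroup P} (hX : IsElementaryAbelian p X) :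
    X ≤ Subgroup.centralizer (X : Set P) := by
  intro x hx
  rw [Subgroup.mem_centralizer_iff]
  intro y hy
  exact (Helper10.isElementaryAbelian_iff.mp hX).1 y hy x hx

/-- The component of a normal elementary abelian subgroup `U` of order `p²` in the rank-2
commuting graph of a `p`-group of rank greater than 2. -/
theorem commGraph_iff [Finite P] {p : ℕ} [Fact p.Prime] (hP : IsPGroup p P)
    (hrk : ¬ PRankLE p 2 P) (U : Subgroup P) [U.Normal] (hUe : IsElementaryAbelian p U)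
    (hU : Nat.card U = p ^ 2) (X : Subgroup P) (hX : IsElementaryAbelian p X)
    (hXc : p ^ 2 ≤ Nat.card X) :
    Relation.ReflTransGen (fun A B : Subgroup P => IsElementaryAbelian p A ∧ p ^ 2 ≤ Nat.card ↥A ∧
      IsElementaryAbelian p B ∧ p ^ 2 ≤ Nat.card ↥B ∧ ∀ a ∈ A, ∀ b ∈ B, a * b = b * a) X U ↔
      ¬ PRankLE p 2 ↥(Subgroup.centralizer (X : Set P)) := by
  have hp : p.Prime := Fact.out
  constructor
  · intro hchain
    induction hchain using Relation.ReflTransGen.head_induction_on with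
    | refl =>
      obtain ⟨E, hEe, hEc⟩ := exists_elemAb_of_not_pRankLE_top hrk
      set E₀ : Subgroup P := E ⊓ Subgroup.centralizer (U : Set P) with hE₀
      have hE₀c : p ^ 2 ≤ Nat.card E₀ := sq_le_card_inf_centralizer hP U hU E hEc
      have hE₀e : IsElementaryAbelian p E₀ := Helper10.elemAb_mono hEe inf_le_left
      have hcomm : ∀ a ∈ E₀, ∀ b ∈ U, a * b = b * a := by
        intro a ha b hb
        have := (Subgroup.mem_inf.mp ha).2
        rw [Subgroup.mem_centralizer_iff] at this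
        exact (this b hb).symm
      have hFe : IsElementaryAbelian p (E₀ ⊔ U) := Helper10.elemAb_sup_of_commute hE₀e hUe hcomm
      have hFle : E₀ ⊔ U ≤ Subgroup.centralizer (U : Set P) :=
        sup_le inf_le_right (elemAb_le_centralizer_self hUe)
      by_cases hF : p ^ 2 < Nat.card (E₀ ⊔ U : Subgroup P)
      · exact not_pRankLE_centralizer hFe hFle hF
      · have h1 : U = E₀ ⊔ U := Subgroup.eq_of_le_of_card_ge le_sup_right (by rw [hU]; omega)
        have h2 : E₀ = E₀ ⊔ U := Subgroup.eq_of_le_of_card_ge le_sup_left (by omega)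
        have hUE : U ≤ E := by
          rw [h1, ← h2]
          exact inf_le_left
        have hEle : E ≤ Subgroup.centralizer (U : Set P) := by
          intro x hx
          rw [Subgroup.mem_centralizer_iff]
          intro y hy
          exact (Helper10.isElementaryAbelian_iff.mp hEe).1 y (hUE hy) x hx
        exact not_pRankLE_centralizer hEe hEle hEc
    | @head A B hr _ ih =>
      obtain ⟨hAe, hAc, hBe, hBc, hcomm⟩ := hr
      by_cases hAB : A = B
      · rw [hAB]; exact ih hBe hBc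
      · have hFe : IsElementaryAbelian p (A ⊔ B) := Helper10.elemAb_sup_of_commute hAe hBe hcomm
        have hFle : A ⊔ B ≤ Subgroup.centralizer (A : Set P) := by
          refine sup_le (elemAb_le_centralizer_self hAe) ?_
          intro b hb
          rw [Subgroup.mem_centralizer_iff]
          intro a ha
          exact hcomm a ha b hb
        have hF : p ^ 2 < Nat.card (A ⊔ B : Subgroup P) := by
          by_contra hcon
          have h1 : A = A ⊔ B := Subgroup.eq_of_le_of_card_ge le_sup_left (by omega)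
          have h2 : B = A ⊔ B := Subgroup.eq_of_le_of_card_ge le_sup_right (by omega)
          exact hAB (h1.trans h2.symm)
        exact not_pRankLE_centralizer hFe hFle hF
  · intro h
    obtain ⟨E, hEe, hEle, hEc⟩ := exists_elemAb_of_not_pRankLE h
    set E₀ : Subgroup P := E ⊓ Subgroup.centralizer (U : Set P) with hE₀
    have hE₀c : p ^ 2 ≤ Nat.card E₀ := sq_le_card_inf_centralizer hP U hU E hEc
    have hE₀e : IsElementaryAbelian p E₀ := Helper10.elemAb_mono hEe inf_le_left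
    have r1 : (fun A B : Subgroup P => IsElementaryAbelian p A ∧ p ^ 2 ≤ Nat.card ↥A ∧
      IsElementaryAbelian p B ∧ p ^ 2 ≤ Nat.card ↥B ∧ ∀ a ∈ A, ∀ b ∈ B, a * b = b * a) X E := by
      refine ⟨hX, hXc, hEe, hEc.le, ?_⟩
      intro a ha b hb
      have := hEle hb
      rw [Subgroup.mem_centralizer_iff] at this
      exact this a ha
    have r2 : (fun A B : Subgroup P => IsElementaryAbelian p A ∧ p ^ 2 ≤ Nat.card ↥A ∧
      IsElementaryAbelian p B ∧ p ^ 2 ≤ Nat.card ↥B ∧ ∀ a ∈ A, ∀ b ∈ B, a * b = b * a) E E₀ := by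
      refine ⟨hEe, hEc.le, hE₀e, hE₀c, ?_⟩
      intro a ha b hb
      exact (Helper10.isElementaryAbelian_iff.mp hEe).1 a ha b (Subgroup.mem_inf.mp hb).1
    have r3 : (fun A B : Subgroup P => IsElementaryAbelian p A ∧ p ^ 2 ≤ Nat.card ↥A ∧
      IsElementaryAbelian p B ∧ p ^ 2 ≤ Nat.card ↥B ∧ ∀ a ∈ A, ∀ b ∈ B, a * b = b * a) E₀ U := by
      refine ⟨hE₀e, hE₀c, hUe, hU.ge, ?_⟩
      intro a ha b hb
      have := (Subgroup.mem_inf.mp ha).2
      rw [Subgroup.mem_centralizer_iff] at this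
      exact (this b hb).symm
    exact Relation.ReflTransGen.head r1 (Relation.ReflTransGen.head r2
      (Relation.ReflTransGen.single r3))

theorem odd_of_two_dvd_sq_sub_one (k : ℤ) (h : (2 : ℤ) ∣ k * k - 1) : ∃ j, k = 2 * j + 1 := by
  obtain ⟨j, rfl | rfl⟩ := Int.even_or_odd' k
  · exfalso
    obtain ⟨t, ht⟩ := h
    have : 2 * j * (2 * j) - 1 = 2 * (2 * (j * j)) - 1 := by ring
    rw [this] at ht
    omega
  · exact ⟨j, rfl⟩

theorem isCoprime_two_pow_odd (m : ℕ) (i : ℤ) : IsCoprime ((2 : ℤ) ^ m) (2 * i + 1) :=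
  IsCoprime.pow_left ⟨-i, 1, by ring⟩

/-- square roots of `1` modulo `2 ^ m` are `±1` modulo `2 ^ (m - 1)` -/
theorem two_pow_dvd_of_sq (m : ℕ) (k : ℤ) (h : (2 : ℤ) ^ m ∣ k * k - 1) :
    (2 : ℤ) ^ m ∣ 2 * (k - 1) ∨ (2 : ℤ) ^ m ∣ 2 * (k + 1) := by
  rcases Nat.eq_zero_or_pos m with hm | hm
  · subst hm
    left
    rw [pow_zero]
    exact one_dvd _
  · have h2 : (2 : ℤ) ∣ k * k - 1 := dvd_trans (dvd_pow_self 2 (by omega)) h
    obtain ⟨j, rfl⟩ := odd_of_two_dvd_sq_sub_one k h2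
    have e1 : (2 * j + 1) * (2 * j + 1) - 1 = 4 * j * (j + 1) := by ring
    rw [e1] at h
    obtain ⟨l, rfl | rfl⟩ := Int.even_or_odd' j
    · -- j even, j + 1 odd
      left
      have hc := isCoprime_two_pow_odd m l
      have := hc.dvd_of_dvd_mul_right h
      have e2 : 2 * (2 * (2 * l) + 1 - 1) = 4 * (2 * l) := by ring
      rw [e2]
      exact this
    · right
      have hc := isCoprime_two_pow_odd m l
      have e3 : 4 * (2 * l + 1) * (2 * l + 1 + 1) = 4 * (2 * l + 1 + 1) * (2 * l + 1) := by ring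
      rw [e3] at h
      have := hc.dvd_of_dvd_mul_right h
      have e2 : 2 * (2 * (2 * l + 1) + 1 + 1) = 4 * (2 * l + 1 + 1) := by ring
      rw [e2]
      exact this

theorem two_pow_dvd_two_mul (m : ℕ) (hm : 3 ≤ m) (k i : ℤ) (h1 : (2 : ℤ) ^ m ∣ 2 * (k - 1))
    (h2 : (2 : ℤ) ^ m ∣ i * (k + 1)) : (2 : ℤ) ^ m ∣ 2 * i := by
  obtain ⟨m', rfl⟩ : ∃ m', m = m' + 3 := ⟨m - 3, by omega⟩
  obtain ⟨t, ht⟩ := h1
  have e1 : k = 2 * (2 * (2 ^ m' * t)) + 1 := by
    have : (2 : ℤ) ^ (m' + 3) = 8 * 2 ^ m' := by ring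
    rw [this] at ht
    have : k - 1 = 4 * (2 ^ m' * t) := by linarith
    linarith
  have e2 : i * (k + 1) = 2 * i * (2 * (2 ^ m' * t) + 1) := by
    rw [e1]; ring
  rw [e2] at h2
  exact (isCoprime_two_pow_odd (m' + 3) _).dvd_of_dvd_mul_right h2

theorem two_pow_small (m : ℕ) (hm : m ≤ 2) (k₁ k₂ : ℤ) (h1 : (2 : ℤ) ^ m ∣ k₁ * k₁ - 1)
    (h2 : (2 : ℤ) ^ m ∣ k₂ * k₂ - 1) (h1' : ¬ (2 : ℤ) ^ m ∣ k₁ - 1) (h2' : ¬ (2 : ℤ) ^ m ∣ k₂ - 1) :
    (2 : ℤ) ^ m ∣ k₁ * k₂ - 1 := by
  interval_cases m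
  · exact absurd (by rw [pow_zero]; exact one_dvd _) h1'
  · exfalso
    rw [pow_one] at h1 h1'
    obtain ⟨j, rfl⟩ := odd_of_two_dvd_sq_sub_one k₁ h1
    exact h1' ⟨j, by ring⟩
  · have h1b : (2 : ℤ) ∣ k₁ * k₁ - 1 := dvd_trans ⟨2, by norm_num⟩ h1
    have h2b : (2 : ℤ) ∣ k₂ * k₂ - 1 := dvd_trans ⟨2, by norm_num⟩ h2
    obtain ⟨j₁, rfl⟩ := odd_of_two_dvd_sq_sub_one k₁ h1b
    obtain ⟨j₂, rfl⟩ := odd_of_two_dvd_sq_sub_one k₂ h2b
    obtain ⟨l₁, rfl | rfl⟩ := Int.even_or_odd' j₁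
    · exact absurd ⟨l₁, by ring⟩ h1'
    obtain ⟨l₂, rfl | rfl⟩ := Int.even_or_odd' j₂
    · exact absurd ⟨l₂, by ring⟩ h2'
    exact ⟨4 * l₁ * l₂ + 3 * l₁ + 3 * l₂ + 2, by ring⟩

/-- A cyclic group has at most one involution. -/
theorem eq_of_sq_eq_one_of_mem_zpowers {R : Type*} [Group R] (a x y : R)
    (hx : x ∈ Subgroup.zpowers a) (hy : y ∈ Subgroup.zpowers a) (hx2 : x ^ 2 = 1) (hy2 : y ^ 2 = 1)
    (hx1 : x ≠ 1) (hy1 : y ≠ 1) : x = y := by
  have hcomm : ∀ v ∈ Subgroup.zpowers a, ∀ w ∈ Subgroup.zpowers a, Commute v w := by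
    rintro v ⟨i, rfl⟩ w ⟨j, rfl⟩
    exact (Commute.refl a).zpow_zpow i j
  let Ω : Subgroup R :=
    { carrier := {w | w ∈ Subgroup.zpowers a ∧ w ^ 2 = 1}
      mul_mem' := by
        rintro v w ⟨hv, hv2⟩ ⟨hw, hw2⟩
        exact ⟨Subgroup.mul_mem _ hv hw, by rw [(hcomm v hv w hw).mul_pow, hv2, hw2, one_mul]⟩
      one_mem' := ⟨Subgroup.one_mem _, one_pow _⟩
      inv_mem' := by
        rintro v ⟨hv, hv2⟩
        exact ⟨Subgroup.inv_mem _ hv, by rw [inv_pow, hv2, inv_one]⟩ }
  have hΩle : Ω ≤ Subgroup.zpowers a := fun w hw => hw.1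
  have : IsCyclic Ω := Subgroup.isCyclic_of_le hΩle
  obtain ⟨g, hg⟩ := IsCyclic.exists_generator (α := Ω)
  have hg2 : g ^ 2 = 1 := Subtype.ext (by simpa using g.2.2)
  have key : ∀ w : Ω, w ≠ 1 → w = g := by
    intro w hw
    obtain ⟨i, rfl⟩ := hg w
    obtain ⟨j, rfl | rfl⟩ := Int.even_or_odd' i
    · exfalso
      apply hw
      show g ^ (2 * j) = 1
      rw [zpow_mul, zpow_ofNat, hg2, one_zpow]
    · show g ^ (2 * j + 1) = g
      rw [zpow_add, zpow_mul, zpow_ofNat, hg2, one_zpow, one_mul, zpow_one]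
  have h1 := key ⟨x, hx, hx2⟩ (fun h => hx1 (congrArg Subtype.val h))
  have h2 := key ⟨y, hy, hy2⟩ (fun h => hy1 (congrArg Subtype.val h))
  exact congrArg Subtype.val (h1.trans h2.symm)

theorem exists_normal_four_of_cyclic {R : Type*} [Group R] [Finite R] (hR : IsPGroup 2 R)
    (A : Subgroup R) [hAn : A.Normal] (a : R) (hA : A = Subgroup.zpowers a)
    (hC : ∀ r : R, r * a = a * r → r ∈ A)
    (E : Subgroup R) (hE : IsElementaryAbelian 2 E) (hEc : 2 ^ 2 < Nat.card E) :
    ∃ U : Subgroup R, U.Normal ∧ IsElementaryAbelian 2 U ∧ Nat.card U = 2 ^ 2 := by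
  classical
  obtain ⟨hEcomm, hE2⟩ := Helper10.isElementaryAbelian_iff.mp hE
  obtain ⟨m, hm⟩ := (IsPGroup.iff_orderOf.mp hR) a
  have haA : a ∈ A := by rw [hA]; exact Subgroup.mem_zpowers a
  have hpow : ∀ s t : ℤ, a ^ s = a ^ t ↔ (2 : ℤ) ^ m ∣ s - t := by
    intro s t
    rw [zpow_eq_zpow_iff_modEq, Int.modEq_iff_dvd, hm, dvd_sub_comm]
    push_cast
    rfl
  have hact : ∀ r : R, ∃ k : ℤ, ∀ i : ℤ, r * a ^ i * r⁻¹ = a ^ (k * i) := by
    intro r
    have h1 : r * a * r⁻¹ ∈ Subgroup.zpowers a := by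
      rw [← hA]; exact hAn.conj_mem a haA r
    obtain ⟨k, hk⟩ := Subgroup.mem_zpowers_iff.mp h1
    refine ⟨k, fun i => ?_⟩
    rw [← conj_zpow, ← hk, ← zpow_mul]
  have hinvexp : ∀ (r : R) (c c' : ℤ), (∀ i : ℤ, r * a ^ i * r⁻¹ = a ^ (c * i)) →
      (∀ i : ℤ, r⁻¹ * a ^ i * r⁻¹⁻¹ = a ^ (c' * i)) → (2 : ℤ) ^ m ∣ c * c' - 1 := by
    intro r c c' hc hc'
    have h1 : a ^ (1 : ℤ) = r * (r⁻¹ * a ^ (1 : ℤ) * r⁻¹⁻¹) * r⁻¹ := by group
    rw [hc', hc] at h1
    have := (hpow _ _).mp h1.symm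
    rwa [mul_one] at this
  have hEinv : ∀ e ∈ E, e⁻¹ = e := fun e he =>
    inv_eq_of_mul_eq_one_right (by rw [← pow_two]; exact hE2 e he)
  have hsq : ∀ e ∈ E, ∀ k : ℤ, (∀ i : ℤ, e * a ^ i * e⁻¹ = a ^ (k * i)) →
      (2 : ℤ) ^ m ∣ k * k - 1 := by
    intro e he k hk
    apply hinvexp e k k hk
    rw [hEinv e he]
    exact hk
  have hnotA : ∀ e : R, e ∉ A → ∀ k : ℤ, (∀ i : ℤ, e * a ^ i * e⁻¹ = a ^ (k * i)) →
      ¬ (2 : ℤ) ^ m ∣ k - 1 := by
    intro e he k hk hdvd
    apply he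
    apply hC
    have h1 := hk 1
    have h2 : a ^ (k * 1) = a ^ (1 : ℤ) := (hpow _ _).mpr (by rwa [mul_one])
    rw [h2, zpow_one] at h1
    calc e * a = e * a * e⁻¹ * e := by group
      _ = a * e := by rw [h1]
  -- involutions of A
  obtain ⟨z₀, hz₀⟩ : ∃ z₀ : R, ∀ x ∈ A, x ^ 2 = 1 → x = 1 ∨ x = z₀ := by
    by_cases h : ∃ z₀ ∈ A, z₀ ^ 2 = 1 ∧ z₀ ≠ 1
    · obtain ⟨z₀, hz₀A, hz₀2, hz₀1⟩ := h
      refine ⟨z₀, fun x hx hx2 => ?_⟩
      by_cases hx1 : x = 1
      · exact Or.inl hx1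
      · right
        rw [hA] at hx hz₀A
        exact eq_of_sq_eq_one_of_mem_zpowers a x z₀ hx hz₀A hx2 hz₀2 hx1 hz₀1
    · push Not at h
      exact ⟨1, fun x hx hx2 => Or.inl (h x hx hx2)⟩
  have hpick : ∃ e₁ ∈ E, ∃ e₂ ∈ E, e₁ ∉ A ∧ e₂ ∉ A ∧ e₁ * e₂ ∉ A := by
    by_contra hno
    push Not at hno
    have hcard4 : ∀ F : Finset R, (E : Set R) ⊆ ↑F → F.card ≤ 4 → False := by
      intro F hF hF4
      have h1 : Nat.card E = (E : Set R).ncard := Nat.card_coe_set_eq (E : Set R)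
      have h2 : (E : Set R).ncard ≤ (↑F : Set R).ncard :=
        Set.ncard_le_ncard hF (Finset.finite_toSet F)
      rw [Set.ncard_coe_finset] at h2
      omega
    by_cases hEA : E ≤ A
    · apply hcard4 {1, z₀}
      · intro x hx
        rcases hz₀ x (hEA hx) (hE2 x hx) with h | h <;> simp [h]
      · exact (Finset.card_le_two).trans (by norm_num)
    · obtain ⟨e₁, he₁E, he₁A⟩ := SetLike.not_le_iff_exists.mp hEA
      apply hcard4 {1, z₀, e₁, e₁ * z₀}
      · intro x hx
        by_cases hxA : x ∈ A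
        · rcases hz₀ x hxA (hE2 x hx) with h | h <;> simp [h]
        · have h1 := hno e₁ he₁E x hx he₁A hxA
          have h2 : (e₁ * x) ^ 2 = 1 := hE2 _ (E.mul_mem he₁E hx)
          have h3 : x = e₁ * (e₁ * x) := by
            rw [← mul_assoc, ← pow_two, hE2 e₁ he₁E, one_mul]
          rcases hz₀ _ h1 h2 with h | h
          · rw [h, mul_one] at h3; simp [h3]
          · rw [h] at h3; simp [h3]
      · exact Finset.card_le_four
  obtain ⟨e₁, he₁E, e₂, he₂E, he₁A, he₂A, he₁₂A⟩ := hpick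
  obtain ⟨k₁, hk₁⟩ := hact e₁
  obtain ⟨k₂, hk₂⟩ := hact e₂
  have hk₁₂ : ∀ i : ℤ, (e₁ * e₂) * a ^ i * (e₁ * e₂)⁻¹ = a ^ ((k₁ * k₂) * i) := by
    intro i
    have : (e₁ * e₂) * a ^ i * (e₁ * e₂)⁻¹ = e₁ * (e₂ * a ^ i * e₂⁻¹) * e₁⁻¹ := by group
    rw [this, hk₂, hk₁, mul_assoc]
  have hm3 : 3 ≤ m := by
    by_contra hcon
    have := two_pow_small m (by omega) k₁ k₂ (hsq e₁ he₁E k₁ hk₁) (hsq e₂ he₂E k₂ hk₂)
      (hnotA e₁ he₁A k₁ hk₁) (hnotA e₂ he₂A k₂ hk₂)
    exact hnotA (e₁ * e₂) he₁₂A (k₁ * k₂) hk₁₂ this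
  obtain ⟨e, heE, heA, k, hk, hkC⟩ : ∃ e ∈ E, e ∉ A ∧ ∃ k : ℤ,
      (∀ i : ℤ, e * a ^ i * e⁻¹ = a ^ (k * i)) ∧ (2 : ℤ) ^ m ∣ 2 * (k - 1) := by
    rcases two_pow_dvd_of_sq m k₁ (hsq e₁ he₁E k₁ hk₁) with h1 | h1
    · exact ⟨e₁, he₁E, he₁A, k₁, hk₁, h1⟩
    rcases two_pow_dvd_of_sq m k₂ (hsq e₂ he₂E k₂ hk₂) with h2 | h2
    · exact ⟨e₂, he₂E, he₂A, k₂, hk₂, h2⟩
    refine ⟨e₁ * e₂, E.mul_mem he₁E he₂E, he₁₂A, k₁ * k₂, hk₁₂, ?_⟩
    have : 2 * (k₁ * k₂ - 1) = 2 * (k₁ + 1) * k₂ - 2 * (k₂ + 1) := by ring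
    rw [this]
    exact dvd_sub (Dvd.dvd.mul_right h1 k₂) h2
  -- the involution z
  obtain ⟨z, hz⟩ : ∃ z : R, z = e * a * e⁻¹ * a⁻¹ := ⟨_, rfl⟩
  have hzA : z ∈ A := by
    rw [hz]; exact A.mul_mem (hAn.conj_mem a haA e) (A.inv_mem haA)
  have hzpow : z = a ^ (k - 1) := by
    have h1 := hk 1
    rw [zpow_one] at h1
    rw [hz, h1, mul_one, zpow_sub, zpow_one]
  have hz2 : z ^ 2 = 1 := by
    rw [hzpow, ← zpow_ofNat, ← zpow_mul]
    have : a ^ ((k - 1) * 2) = a ^ (0 : ℤ) :=
      (hpow _ _).mpr (by rw [sub_zero, mul_comm]; exact hkC)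
    rw [this, zpow_zero]
  have hz1 : z ≠ 1 := by
    intro h
    apply heA; apply hC
    rw [hz] at h
    calc e * a = (e * a * e⁻¹ * a⁻¹) * a * e := by group
      _ = a * e := by rw [h, one_mul]
  have huniq : ∀ x ∈ A, x ^ 2 = 1 → x ≠ 1 → x = z := by
    intro x hx hx2 hx1
    rw [hA] at hx hzA
    exact eq_of_sq_eq_one_of_mem_zpowers a x z hx hzA hx2 hz2 hx1 hz1
  have hzcen : ∀ r : R, r * z * r⁻¹ = z := by
    intro r
    apply huniq _ (hAn.conj_mem z hzA r)
    · rw [conj_pow, hz2, mul_one, mul_inv_cancel]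
    · intro h
      apply hz1
      have : z = r⁻¹ * (r * z * r⁻¹) * r := by group
      rw [this, h]; group
  have hzcenter : Subgroup.zpowers z ≤ Subgroup.center R := by
    rw [Subgroup.zpowers_le, Subgroup.mem_center_iff]
    intro g
    have := hzcen g
    calc g * z = g * z * g⁻¹ * g := by group
      _ = z * g := by rw [this]
  have hze : ∀ x ∈ Subgroup.zpowers z, ∀ y ∈ Subgroup.zpowers e, x * y = y * x := by
    intro x hx y hy
    exact (Subgroup.mem_center_iff.mp (hzcenter hx) y).symm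
  have hUe : IsElementaryAbelian 2 (Subgroup.zpowers z ⊔ Subgroup.zpowers e) :=
    Helper10.elemAb_sup_of_commute (Helper10.isElementaryAbelian_zpowers hz2)
      (Helper10.isElementaryAbelian_zpowers (hE2 e heE)) hze
  have hcardz : Nat.card (Subgroup.zpowers z) = 2 := by
    rw [Nat.card_zpowers]; exact orderOf_eq_prime hz2 hz1
  have hcarde : Nat.card (Subgroup.zpowers e) = 2 := by
    rw [Nat.card_zpowers]
    exact orderOf_eq_prime (hE2 e heE) (fun h => heA (h ▸ A.one_mem))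
  have hUcard : Nat.card (Subgroup.zpowers z ⊔ Subgroup.zpowers e : Subgroup R) = 2 ^ 2 := by
    have hdvd : Nat.card (Subgroup.zpowers z ⊔ Subgroup.zpowers e : Subgroup R) ∣ 2 ^ 2 := by
      have := card_sup_dvd_of_le_normalizer (A := Subgroup.zpowers z) (B := Subgroup.zpowers e)
        (hzcenter.trans (Subgroup.center_le_normalizer _))
      rwa [hcardz, hcarde] at this
    obtain ⟨j, hj2, hj⟩ := (Nat.dvd_prime_pow Nat.prime_two).mp hdvd
    have hj' : 1 < j := by
      by_contra hcon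
      have hle : Nat.card (Subgroup.zpowers z ⊔ Subgroup.zpowers e : Subgroup R)
          ≤ Nat.card (Subgroup.zpowers z) := by
        rw [hj, hcardz]
        calc 2 ^ j ≤ 2 ^ 1 := Nat.pow_le_pow_right (by norm_num) (by omega)
          _ = 2 := by norm_num
      have heq : Subgroup.zpowers z = Subgroup.zpowers z ⊔ Subgroup.zpowers e :=
        Subgroup.eq_of_le_of_card_ge le_sup_left hle
      have : e ∈ Subgroup.zpowers z := by
        rw [heq]
        exact (le_sup_right : Subgroup.zpowers e ≤ _) (Subgroup.mem_zpowers e)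
      have hzle : Subgroup.zpowers z ≤ A := by rw [Subgroup.zpowers_le]; exact hzA
      exact heA (hzle this)
    have : j = 2 := by omega
    rw [hj, this]
  have hconj : ∀ r : R, r * e * r⁻¹ ∈ Subgroup.zpowers z ⊔ Subgroup.zpowers e := by
    intro r
    obtain ⟨c, hc⟩ := hact r
    obtain ⟨c', hc'⟩ := hact r⁻¹
    obtain ⟨k', hk'⟩ := hact e⁻¹
    obtain ⟨x, hx⟩ : ∃ x : R, x = r * e * r⁻¹ * e⁻¹ := ⟨_, rfl⟩
    have hxa : x * a * x⁻¹ = a := by
      have h1 : x * a * x⁻¹
          = r * (e * (r⁻¹ * (e⁻¹ * a ^ (1 : ℤ) * e⁻¹⁻¹) * r⁻¹⁻¹) * e⁻¹) * r⁻¹ := by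
        rw [hx]; group
      rw [h1, hk', hc', hk, hc]
      have : a ^ (c * (k * (c' * (k' * 1)))) = a ^ (1 : ℤ) := by
        apply (hpow _ _).mpr
        have e1 := hinvexp r c c' hc hc'
        have e2 := hinvexp e k k' hk hk'
        have : c * (k * (c' * (k' * 1))) - 1 = (c * c' - 1) * (k * k') + (k * k' - 1) := by ring
        rw [this]
        exact dvd_add (Dvd.dvd.mul_right e1 _) e2
      rw [this, zpow_one]
    have hxA : x ∈ A := by
      apply hC
      calc x * a = x * a * x⁻¹ * x := by group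
        _ = a * x := by rw [hxa]
    have hxe : r * e * r⁻¹ = x * e := by rw [hx]; group
    have hxe2 : (x * e) * (x * e) = 1 := by
      rw [← hxe, ← pow_two, conj_pow, hE2 e heE, mul_one, mul_inv_cancel]
    obtain ⟨i, hi⟩ : ∃ i : ℤ, a ^ i = x := by
      rw [hA] at hxA; exact Subgroup.mem_zpowers_iff.mp hxA
    have h3 : x * (e * x * e⁻¹) = 1 := by
      have : x * (e * x * e⁻¹) = (x * e) * (x * e) * (e * e)⁻¹ := by group
      rw [this, hxe2, ← pow_two, hE2 e heE, inv_one, mul_one]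
    rw [← hi, hk, ← zpow_add] at h3
    have h4 : (2 : ℤ) ^ m ∣ i * (k + 1) := by
      have := (hpow (i + k * i) 0).mp (by rw [h3, zpow_zero])
      have e : i + k * i - 0 = i * (k + 1) := by ring
      rwa [e] at this
    have h5 := two_pow_dvd_two_mul m hm3 k i hkC h4
    have hx2 : x ^ 2 = 1 := by
      rw [← hi, ← zpow_ofNat, ← zpow_mul]
      have : a ^ (i * 2) = a ^ (0 : ℤ) :=
        (hpow _ _).mpr (by rw [sub_zero, mul_comm]; exact h5)
      rw [this, zpow_zero]
    rw [hxe]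
    by_cases hx1 : x = 1
    · rw [hx1, one_mul]
      exact (le_sup_right : Subgroup.zpowers e ≤ _) (Subgroup.mem_zpowers e)
    · rw [huniq x hxA hx2 hx1]
      exact Subgroup.mul_mem _
        ((le_sup_left : Subgroup.zpowers z ≤ _) (Subgroup.mem_zpowers z))
        ((le_sup_right : Subgroup.zpowers e ≤ _) (Subgroup.mem_zpowers e))
  have hUn : (Subgroup.zpowers z ⊔ Subgroup.zpowers e).Normal := by
    refine ⟨fun u hu r => ?_⟩
    have hle : Subgroup.zpowers z ⊔ Subgroup.zpowers e ≤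
        (Subgroup.zpowers z ⊔ Subgroup.zpowers e).comap (MulAut.conj r).toMonoidHom := by
      refine sup_le ?_ ?_
      · rw [Subgroup.zpowers_le, Subgroup.mem_comap]
        show r * z * r⁻¹ ∈ _
        rw [hzcen r]
        exact (le_sup_left : Subgroup.zpowers z ≤ _) (Subgroup.mem_zpowers z)
      · rw [Subgroup.zpowers_le, Subgroup.mem_comap]
        show r * e * r⁻¹ ∈ _
        exact hconj r
    exact hle hu
  exact ⟨_, hUn, hUe, hUcard⟩


/-- A finite 2-group of rank greater than 2 has a normal four-group. -/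
theorem exists_normal_elemAb_sq_two {R : Type*} [Group R] [Finite R] (hR : IsPGroup 2 R)
    (hrk : ¬ PRankLE 2 2 R) :
    ∃ U : Subgroup R, U.Normal ∧ IsElementaryAbelian 2 U ∧ Nat.card U = 2 ^ 2 := by
  obtain ⟨E, hEe, hEc⟩ := exists_elemAb_of_not_pRankLE_top hrk
  let 𝒜 : Set (Subgroup R) := {A | A.Normal ∧ ∀ x ∈ A, ∀ y ∈ A, x * y = y * x}
  have hne : 𝒜.Nonempty := ⟨⊥, inferInstance, by
    intro x hx y hy
    rw [Subgroup.mem_bot] at hx hy
    rw [hx, hy]⟩
  obtain ⟨A, hAmax⟩ := (Set.toFinite 𝒜).exists_maximal hne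
  obtain ⟨hAn, hAcomm⟩ := hAmax.prop
  by_cases hAc : IsCyclic A
  · have := hAn
    obtain ⟨g, hg⟩ := IsCyclic.exists_generator (α := A)
    have hA : A = Subgroup.zpowers (g : R) := by
      ext x
      constructor
      · intro hx
        obtain ⟨i, hi⟩ := Subgroup.mem_zpowers_iff.mp (hg ⟨x, hx⟩)
        exact ⟨i, by simpa using congrArg Subtype.val hi⟩
      · rintro ⟨i, rfl⟩
        exact A.zpow_mem g.2 i
    have hC : ∀ r : R, r * (g : R) = g * r → r ∈ A := by
      intro r hr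
      by_contra hrA
      have hAC : A ≤ Subgroup.centralizer (A : Set R) := by
        intro x hx
        rw [Subgroup.mem_centralizer_iff]
        intro y hy
        exact hAcomm y hy x hx
      have hrC : r ∈ Subgroup.centralizer (A : Set R) := by
        rw [Subgroup.mem_centralizer_iff]
        intro y hy
        rw [hA] at hy
        obtain ⟨i, rfl⟩ := hy
        have hcomm : Commute r (g : R) := hr
        exact (hcomm.zpow_right i).eq.symm
      have hne' : A ≠ Subgroup.centralizer (A : Set R) := fun h => hrA (h ▸ hrC)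
      obtain ⟨B, hBn, hAB, hBC, hBcard⟩ :=
        Helper35.exists_normal_step hR A (Subgroup.centralizer (A : Set R)) hAC hne'
      have hidx : A.relIndex B = 2 := by
        have h1 := Subgroup.card_mul_index (A.subgroupOf B)
        rw [card_subgroupOf_of_le hAB, hBcard] at h1
        exact Nat.eq_of_mul_eq_mul_left Nat.card_pos h1
      have hBcomm := Helper35.comm_of_central_of_relIndex_prime Nat.prime_two A B hAB hBC hidx
      have hBA : B ≤ A := hAmax.le_of_ge ⟨hBn, hBcomm⟩ hAB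
      have h1 := Subgroup.card_le_of_le hBA
      rw [hBcard] at h1
      have h2 : 0 < Nat.card A := Nat.card_pos
      omega
    exact exists_normal_four_of_cyclic hR A (g : R) hA hC E hEe hEc
  · obtain ⟨M, hMA, hMn, h1, h2, h3⟩ := Cfsg.Agent.S0636.noncyclic_case hR A hAn hAcomm hAc
    exact ⟨M, hMn, Helper10.isElementaryAbelian_iff.mpr ⟨h1, h2⟩, h3⟩

/-- A finite `p`-group of rank greater than 2 has a normal elementary abelian subgroup of order
`p²`. -/
theorem exists_normal_elemAb_sq {P : Type*} [Group P] [Finite P] (p : ℕ) [Fact p.Prime]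
    (hP : IsPGroup p P) (hrk : ¬ PRankLE p 2 P) :
    ∃ U : Subgroup P, U.Normal ∧ IsElementaryAbelian p U ∧ Nat.card U = p ^ 2 := by
  have hp : p.Prime := Fact.out
  by_cases hp2 : p = 2
  · subst hp2
    exact exists_normal_elemAb_sq_two hP hrk
  · obtain ⟨E, hEe, hEc⟩ := exists_elemAb_of_not_pRankLE_top hrk
    have hnc : ¬ IsCyclic P := by
      intro hcyc
      have : IsCyclic E := inferInstance
      obtain ⟨g, hg⟩ := IsCyclic.exists_generator (α := E)
      have h1 : orderOf g = Nat.card E := orderOf_eq_card_of_forall_mem_zpowers hg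
      have h2 : g ^ p = 1 :=
        Subtype.ext (by simpa using (Helper10.isElementaryAbelian_iff.mp hEe).2 g g.2)
      have h3 : orderOf g ≤ p := Nat.le_of_dvd hp.pos (orderOf_dvd_of_pow_eq_one h2)
      have : p < p ^ 2 := by nlinarith [hp.one_lt]
      omega
    exact Cfsg.Agent.S0126.result hp2 hP hnc

end Cfsg.Agent.Helper22
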