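import Mathlib
import Cfsg.Prelude.Def_Local
import Cfsg.Agent.Lib.Helper54.PConstrained
import Cfsg.Agent.Lib.Helper52.Hyperplane
import Cfsg.Agent.Lib.Helper52.CoprimeSylow
import Cfsg.Agent.Lib.Helper22.Radical

set_option autoImplicit false

namespace Cfsg.Agent.Helper22

open Subgroup Cfsg
open Cfsg.Agent.Helper52 (sylCard)

/-! ### Characteristic subgroups of a subgroup are normalized by its normalizer -/

theorem normalizer_le_normalizer_map_of_characteristic {H : Type*} [Group H] (K : Subgroup H)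
    (C : Subgroup ↥K) [hC : C.Characteristic] :
    normalizer (K : Set H) ≤ normalizer ((C.map K.subtype : Subgroup H) : Set H) := by
  intro a ha
  have hK : K.map (MulAut.conj a).toMonoidHom = K := mem_normalizer_iff_conjS.mp ha
  let e₁ : ↥K ≃* ↥(K.map (MulAut.conj a).toMonoidHom) :=
    K.equivMapOfInjective _ (MulAut.conj a).injective
  let e₂ : ↥(K.map (MulAut.conj a).toMonoidHom) ≃* ↥K := MulEquiv.subgroupCongr hK
  let φ : ↥K ≃* ↥K := e₁.trans e₂
  have hφ : ∀ k : ↥K, ((φ k : ↥K) : H) = a * k * a⁻¹ := by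
    intro k
    rfl
  have hCφ : C.map φ.toMonoidHom = C := Subgroup.characteristic_iff_map_eq.mp hC φ
  rw [mem_normalizer_iff_conjS]
  show (C.map K.subtype).map (MulAut.conj a).toMonoidHom = C.map K.subtype
  conv_rhs => rw [← hCφ]
  rw [Subgroup.map_map, Subgroup.map_map]
  congr 1

instance pPrimeCore_characteristic' {G : Type*} [Group G] (p : ℕ) :
    (pPrimeCore p G).Characteristic := by
  rw [Subgroup.characteristic_iff_map_eq]
  intro φ
  exact Helper54.pPrimeCore_map_mulEquiv p φ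

instance pPrimePCore_characteristic {G : Type*} [Group G] (p : ℕ) :
    (pPrimePCore p G).Characteristic := by
  rw [Subgroup.characteristic_iff_map_le]
  intro φ
  rintro _ ⟨x, hx, rfl⟩
  have hN : (pPrimeCore p G).map φ.toMonoidHom = pPrimeCore p G :=
    Helper54.pPrimeCore_map_mulEquiv p φ
  let ψ : G ⧸ pPrimeCore p G ≃* G ⧸ pPrimeCore p G :=
    QuotientGroup.congr (pPrimeCore p G) (pPrimeCore p G) φ hN
  have hψ : (pCore p (G ⧸ pPrimeCore p G)).map ψ.toMonoidHom = pCore p (G ⧸ pPrimeCore p G) :=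
    Helper54.pCore_map_mulEquiv p ψ
  have hx' : (QuotientGroup.mk' (pPrimeCore p G)) x ∈ pCore p (G ⧸ pPrimeCore p G) := hx
  show (QuotientGroup.mk' (pPrimeCore p G)) (φ x) ∈ pCore p (G ⧸ pPrimeCore p G)
  rw [← hψ]
  exact ⟨_, hx', rfl⟩

/-! ### Inside a finite group -/

section InGroup

variable {G : Type*} [Group G] [Finite G] {q : ℕ} [hq : Fact q.Prime]

omit [Finite G] hq in
theorem pPrimeCore_le_pPrimePCore' : pPrimeCore q G ≤ pPrimePCore q G := by
  intro x hx
  show (QuotientGroup.mk' (pPrimeCore q G)) x ∈ pCore q (G ⧸ pPrimeCore q G)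
  have : (QuotientGroup.mk' (pPrimeCore q G)) x = 1 := (QuotientGroup.eq_one_iff x).mpr hx
  rw [this]
  exact one_mem _

omit [Finite G] in
/-- A `q'`-subgroup of `O_{q',q}(G)` lies in `O_{q'}(G)`. -/
theorem le_pPrimeCore_of_le_pPrimePCore {V : Subgroup G} (hV : V ≤ pPrimePCore q G)
    (hqV : ¬ q ∣ Nat.card V) : V ≤ pPrimeCore q G := by
  intro x hx
  have h1 : (QuotientGroup.mk' (pPrimeCore q G)) x ∈ pCore q (G ⧸ pPrimeCore q G) := hV hx
  have hqg : IsPGroup q (pCore q (G ⧸ pPrimeCore q G)) := Helper54.isPGroup_pCore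
  obtain ⟨k, hk⟩ := hqg ⟨_, h1⟩
  have hk' : ((QuotientGroup.mk' (pPrimeCore q G)) x) ^ (q ^ k) = 1 := by
    have := congrArg Subtype.val hk
    simpa using this
  have hxV : x ^ Nat.card V = 1 := by
    have h0 : (⟨x, hx⟩ : V) ^ Nat.card V = 1 := pow_card_eq_one'
    have h00 := congrArg Subtype.val h0
    rwa [Subgroup.coe_pow, Subgroup.coe_one] at h00
  have hcop : (q ^ k).Coprime (Nat.card V) :=
    Nat.Coprime.pow_left k ((Nat.Prime.coprime_iff_not_dvd hq.out).2 hqV)
  have h2 : ((QuotientGroup.mk' (pPrimeCore q G)) x) ^ Nat.card V = 1 := by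
    rw [← map_pow, hxV, map_one]
  have h3 : (QuotientGroup.mk' (pPrimeCore q G)) x = 1 := by
    have := pow_gcd_eq_one.mpr ⟨hk', h2⟩
    rwa [Nat.Coprime.gcd_eq_one hcop, pow_one] at this
  exact (QuotientGroup.eq_one_iff x).mp h3

/-- Hall--Higman (p-constraint form) for solvable groups: an element centralizing a Sylow
`q`-subgroup of `O_{q',q}(G)` modulo `O_{q'}(G)` lies in `O_{q',q}(G)`. -/
theorem mem_pPrimePCore_of_comm_mem [Group.IsSolvable G] {P : Subgroup G}
    (hP : P ≤ pPrimePCore q G) (hPc : Nat.card P = sylCard q (pPrimePCore q G)) {u : G}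
    (hu : ∀ t ∈ P, u * t * u⁻¹ * t⁻¹ ∈ pPrimeCore q G) : u ∈ pPrimePCore q G := by
  have hcon : IsPConstrained q G := Helper54.isPConstrained_iff_isCharP_quotient.mpr
    (Helper54.centralizer_pCore_le q (Helper54.pPrimeCore_quotient_eq_bot q))
  obtain ⟨S, hS⟩ := Helper52.exists_sylow_of_card q (pPrimePCore q G) P hP hPc
  have hPq : IsPGroup q P :=
    IsPGroup.of_card (hPc : Nat.card P = q ^ (Nat.card (pPrimePCore q G)).factorization q)
  obtain ⟨k, hk, hck⟩ := Helper54.exists_mul_mem_centralizer (pPrimeCore q G)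
    (Helper54.pPrimeCore_coprime q) P hPq u hu
  have h1 : u * k ∈ pPrimePCore q G := by
    have := hcon S
    rw [hS] at this
    exact this hck
  have hk' : k ∈ pPrimePCore q G := pPrimeCore_le_pPrimePCore' hk
  have : u = (u * k) * k⁻¹ := by group
  rw [this]
  exact mul_mem h1 (inv_mem hk')

end InGroup

/-! ### Internal versions for a subgroup `K` of an ambient group -/

section Internal

variable {H : Type*} [Group H] [Finite H] {q : ℕ} [hq : Fact q.Prime]

omit [Finite H] hq in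
theorem subgroupOf_le_of_le_map {K : Subgroup H} {C : Subgroup ↥K} {V : Subgroup H}
    (hV : V ≤ C.map K.subtype) : V.subgroupOf K ≤ C := by
  intro x hx
  rw [mem_subgroupOf] at hx
  exact (Subgroup.mem_map_iff_mem K.subtype_injective).mp (hV hx)

omit [Finite H] in
theorem le_map_pPrimeCore_of_le_map_pPrimePCore {K V : Subgroup H}
    (hV : V ≤ (pPrimePCore q ↥K).map K.subtype) (hqV : ¬ q ∣ Nat.card V) :
    V ≤ (pPrimeCore q ↥K).map K.subtype := by
  have hVK : V ≤ K := hV.trans (Subgroup.map_subtype_le _)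
  have h1 : V.subgroupOf K ≤ pPrimePCore q ↥K := subgroupOf_le_of_le_map hV
  have h2 : ¬ q ∣ Nat.card (V.subgroupOf K) := by rwa [card_subgroupOf_of_le hVK]
  have h3 := le_pPrimeCore_of_le_pPrimePCore h1 h2
  intro x hx
  exact ⟨⟨x, hVK hx⟩, h3 (mem_subgroupOf.mpr hx), rfl⟩

theorem mem_map_pPrimePCore_of_comm_mem {K : Subgroup H} (hKs : Group.IsSolvable ↥K)
    {P : Subgroup H} (hP : P ≤ (pPrimePCore q ↥K).map K.subtype)
    (hPc : Nat.card P = sylCard q ((pPrimePCore q ↥K).map K.subtype)) {u : H} (huK : u ∈ K)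
    (hu : ∀ t ∈ P, u * t * u⁻¹ * t⁻¹ ∈ (pPrimeCore q ↥K).map K.subtype) :
    u ∈ (pPrimePCore q ↥K).map K.subtype := by
  have hPK : P ≤ K := hP.trans (Subgroup.map_subtype_le _)
  have h1 : P.subgroupOf K ≤ pPrimePCore q ↥K := subgroupOf_le_of_le_map hP
  have hcard : Nat.card ((pPrimePCore q ↥K).map K.subtype) = Nat.card (pPrimePCore q ↥K) :=
    Subgroup.card_map_of_injective K.subtype_injective
  have h2 : Nat.card (P.subgroupOf K) = sylCard q (pPrimePCore q ↥K) := by
    rw [card_subgroupOf_of_le hPK, hPc]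
    unfold sylCard
    rw [hcard]
  have h3 : ∀ t ∈ P.subgroupOf K, (⟨u, huK⟩ : ↥K) * t * (⟨u, huK⟩ : ↥K)⁻¹ * t⁻¹ ∈
      pPrimeCore q ↥K := by
    intro t ht
    rw [mem_subgroupOf] at ht
    have := hu t ht
    exact (Subgroup.mem_map_iff_mem K.subtype_injective).mp this
  have h4 := mem_pPrimePCore_of_comm_mem h1 h2 h3
  exact ⟨⟨u, huK⟩, h4, rfl⟩

/-- The elements of `K` commuting with `U` modulo the subgroup `N` (normalized by `K`). -/
def commModSubgroup (K N U : Subgroup H) (hKN : K ≤ normalizer (N : Set H)) : Subgroup H where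
  carrier := {x | x ∈ K ∧ ∀ u ∈ U, u * x * u⁻¹ * x⁻¹ ∈ N}
  one_mem' := ⟨K.one_mem, fun u _ => by simp⟩
  mul_mem' := by
    rintro x y ⟨hx, hx'⟩ ⟨hy, hy'⟩
    refine ⟨K.mul_mem hx hy, fun u hu => ?_⟩
    have e : u * (x * y) * u⁻¹ * (x * y)⁻¹ =
        (u * x * u⁻¹ * x⁻¹) * (x * (u * y * u⁻¹ * y⁻¹) * x⁻¹) := by group
    rw [e]
    exact N.mul_mem (hx' u hu) ((mem_normalizer_iff.mp (hKN hx) _).mp (hy' u hu))
  inv_mem' := by
    rintro x ⟨hx, hx'⟩
    refine ⟨K.inv_mem hx, fun u hu => ?_⟩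
    have e : u * x⁻¹ * u⁻¹ * x⁻¹⁻¹ = x⁻¹ * (u * x * u⁻¹ * x⁻¹)⁻¹ * x⁻¹⁻¹ := by group
    rw [e]
    exact (mem_normalizer_iff.mp (hKN (K.inv_mem hx)) _).mp (N.inv_mem (hx' u hu))

omit [Finite H] in
theorem mem_commModSubgroup {K N U : Subgroup H} {hKN : K ≤ normalizer (N : Set H)} {x : H} :
    x ∈ commModSubgroup K N U hKN ↔ x ∈ K ∧ ∀ u ∈ U, u * x * u⁻¹ * x⁻¹ ∈ N := Iff.rfl

/-- A hyperplane of an elementary abelian group of order at least `p ^ 2`. -/
theorem exists_hyperplane {p : ℕ} [hp : Fact p.Prime] {A : Subgroup H} {m : ℕ}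
    (hm : Nat.card A = p ^ m) (hA2 : p ^ 2 ≤ Nat.card A) :
    ∃ B : Subgroup H, B ≤ A ∧ B.relIndex A = p := by
  have hm2 : 2 ≤ m := by
    rw [hm] at hA2
    exact (Nat.pow_le_pow_iff_right hp.out.one_lt).mp hA2
  have hdvd : p ^ (m - 1) ∣ Nat.card ↥A := by
    rw [hm]
    exact pow_dvd_pow p (Nat.sub_le m 1)
  obtain ⟨B', hB'⟩ := Sylow.exists_subgroup_card_pow_prime p hdvd
  refine ⟨B'.map A.subtype, Subgroup.map_subtype_le _, ?_⟩
  have h1 : Nat.card (B'.map A.subtype) = p ^ (m - 1) := by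
    rw [Subgroup.card_map_of_injective A.subtype_injective, hB']
  have h2 := Helper52.card_mul_relIndex_eq (Subgroup.map_subtype_le B')
  rw [h1, hm] at h2
  have h3 : p ^ m = p ^ (m - 1) * p := by
    rw [← pow_succ]
    congr 1
    omega
  rw [h3] at h2
  exact Nat.eq_of_mul_eq_mul_left (pow_pos hp.out.pos _) h2

/-- If `A` (noncyclic elementary abelian `p`-group) normalizes the solvable `p'`-group `K`,
`U ≤ K` is a `q'`-subgroup and `⁅U, C_K(B)⁆` is a `q'`-group for every hyperplane `B` of `A`,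
then `U ≤ O_{q'}(K)`. -/
theorem le_qPrimeCore_of_hyperplane_commutators {p : ℕ} [hp : Fact p.Prime] (A K : Subgroup H)
    (hA : IsElementaryAbelian p A) (hA2 : p ^ 2 ≤ Nat.card A) (hK : ¬ p ∣ Nat.card K)
    (hKs : Group.IsSolvable ↥K) (hAK : A ≤ normalizer (K : Set H)) (U : Subgroup H) (hU : U ≤ K)
    (hUq : ¬ q ∣ Nat.card U)
    (hcomm : ∀ B : Subgroup H, B ≤ A → B.relIndex A = p →
      ¬ q ∣ Nat.card ↥⁅U, K ⊓ centralizer (B : Set H)⁆) :
    U ≤ (pPrimeCore q ↥K).map K.subtype := by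
  set N := (pPrimeCore q ↥K).map K.subtype with hN
  set Qc := (pPrimePCore q ↥K).map K.subtype with hQc
  have hQK : Qc ≤ K := Subgroup.map_subtype_le _
  have hKN : K ≤ normalizer (N : Set H) :=
    le_normalizer.trans (normalizer_le_normalizer_map_of_characteristic K _)
  have hKQ : K ≤ normalizer (Qc : Set H) :=
    le_normalizer.trans (normalizer_le_normalizer_map_of_characteristic K _)
  have hAQ : A ≤ normalizer (Qc : Set H) :=
    hAK.trans (normalizer_le_normalizer_map_of_characteristic K _)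
  have hAc : ∀ x ∈ A, ∀ y ∈ A, x * y = y * x := fun x hx y hy => by
    have := hA.1.is_comm.comm ⟨x, hx⟩ ⟨y, hy⟩
    exact congrArg Subtype.val this
  have hAp : ∀ x ∈ A, x ^ p = 1 := hA.2
  have hApg : IsPGroup p A := fun g =>
    ⟨1, by rw [pow_one]; exact Subtype.ext (by simpa using hA.2 g g.2)⟩
  obtain ⟨m, hm⟩ := IsPGroup.iff_card.mp hApg
  have hcopK : (Nat.card A).Coprime (Nat.card K) := by
    rw [hm]
    exact Nat.Coprime.pow_left m ((Nat.Prime.coprime_iff_not_dvd hp.out).2 hK)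
  have hcopQ : (Nat.card A).Coprime (Nat.card Qc) :=
    Nat.Coprime.coprime_dvd_right (Subgroup.card_dvd_of_le hQK) hcopK
  have hQs : Group.IsSolvable ↥Qc := by
    have := hKs
    exact Group.isSolvable_of_isSolvable_injective (f := Subgroup.inclusion hQK)
      (Subgroup.inclusion_injective hQK)
  obtain ⟨P, hPQ, hPc, hAP⟩ := Helper52.exists_invariant_sylow A Qc hAQ hcopQ (Or.inr hQs) q
  have hPK : P ≤ K := hPQ.trans hQK
  have hPT : P ≤ commModSubgroup K N U hKN := by
    by_contra hnot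
    have hPcop : (Nat.card P).Coprime p :=
      ((Nat.Prime.coprime_iff_not_dvd hp.out).2
        (fun h => hK (dvd_trans h (Subgroup.card_dvd_of_le hPK)))).symm
    obtain ⟨B, hBA, hBi, hBn⟩ := Helper52.exists_hyperplane_centralizer_not_le A P
      (commModSubgroup K N U hKN) hAc hAp hAP hPcop hnot
    apply hBn
    have hqB : ¬ q ∣ Nat.card ↥⁅U, K ⊓ centralizer (B : Set H)⁆ := by
      have hdvd : B.relIndex A ∣ Nat.card A := Subgroup.relIndex_dvd_card B A
      rw [hm] at hdvd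
      obtain ⟨j, hj, hjeq⟩ := (Nat.dvd_prime_pow hp.out).mp hdvd
      rcases Nat.eq_zero_or_pos j with rfl | hjpos
      · rw [pow_zero] at hjeq
        have hAB : A ≤ B := Subgroup.relIndex_eq_one.mp hjeq
        obtain ⟨B₀, hB₀A, hB₀i⟩ := exists_hyperplane hm hA2
        have h0 := hcomm B₀ hB₀A hB₀i
        intro hd
        apply h0
        refine dvd_trans hd (Subgroup.card_dvd_of_le (Subgroup.commutator_mono le_rfl
          (inf_le_inf_left _ (Subgroup.centralizer_le ?_))))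
        exact fun x hx => hAB (hB₀A hx)
      · have hj1 : j = 1 := by
          have h1 : p ^ j ≤ p ^ 1 := by
            rw [← hjeq, pow_one]
            exact hBi
          exact le_antisymm ((Nat.pow_le_pow_iff_right hp.out.one_lt).mp h1) hjpos
        rw [hj1, pow_one] at hjeq
        exact hcomm B hBA hjeq
    intro x hx
    obtain ⟨hxP, hxB⟩ := mem_inf.mp hx
    refine mem_commModSubgroup.mpr ⟨hPK hxP, fun u hu => ?_⟩
    have hV₁Q : ⁅U, P ⊓ centralizer (B : Set H)⁆ ≤ Qc := by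
      rw [Subgroup.commutator_le]
      intro u hu y hy
      rw [commutatorElement_def]
      have hyQ : y ∈ Qc := hPQ (mem_inf.mp hy).1
      have h1 : u * y * u⁻¹ ∈ Qc := (mem_normalizer_iff.mp (hKQ (hU hu)) y).mp hyQ
      exact Qc.mul_mem h1 (Qc.inv_mem hyQ)
    have hV₁le : ⁅U, P ⊓ centralizer (B : Set H)⁆ ≤ ⁅U, K ⊓ centralizer (B : Set H)⁆ :=
      Subgroup.commutator_mono le_rfl (inf_le_inf_right _ hPK)
    have hV₁q : ¬ q ∣ Nat.card ↥⁅U, P ⊓ centralizer (B : Set H)⁆ :=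
      fun h => hqB (dvd_trans h (Subgroup.card_dvd_of_le hV₁le))
    have hV₁N := le_map_pPrimeCore_of_le_map_pPrimePCore hV₁Q hV₁q
    have h2 := hV₁N (Subgroup.commutator_mem_commutator hu hx)
    rwa [commutatorElement_def] at h2
  have hUQ : U ≤ Qc := fun u hu =>
    mem_map_pPrimePCore_of_comm_mem hKs hPQ hPc (hU hu)
      (fun t ht => (mem_commModSubgroup.mp (hPT ht)).2 u hu)
  exact le_map_pPrimeCore_of_le_map_pPrimePCore hUQ hUq

end Internal

end Cfsg.Agent.Helper22
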