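import Mathlib
import Cfsg.Prelude.Def_Local
import Cfsg.Agent.Lib.Helper22.Bender

set_option autoImplicit false
open scoped commutatorElement

namespace Cfsg.Agent.Helper22

open Subgroup

variable {G : Type*} [Group G]

/-- If `A` normalizes `B`, every element of `A ⊔ B` is a product `a * b`. -/
theorem mem_sup_of_le_normalizer {A B : Subgroup G} (h : A ≤ normalizer (B : Set G)) {x : G} :
    x ∈ A ⊔ B ↔ ∃ a ∈ A, ∃ b ∈ B, a * b = x := by
  constructor
  · intro hx
    have hx' : x ∈ (A ⊔ B) := hx
    have hle : A ⊔ B ≤ normalizer (B : Set G) := sup_le h le_normalizer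
    have hxN : x ∈ normalizer (B : Set G) := hle hx
    have hBn : (B.subgroupOf (normalizer (B : Set G))).Normal := normal_in_normalizer
    have h1 : (⟨x, hxN⟩ : normalizer (B : Set G)) ∈
        A.subgroupOf (normalizer (B : Set G)) ⊔ B.subgroupOf (normalizer (B : Set G)) := by
      rw [← subgroupOf_sup h le_normalizer, mem_subgroupOf]
      exact hx
    rw [mem_sup_of_normal_right] at h1
    obtain ⟨a, ha, b, hb, hab⟩ := h1
    refine ⟨a, ha, b, hb, ?_⟩
    have := congrArg Subtype.val hab
    simpa using this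
  · rintro ⟨a, ha, b, hb, rfl⟩
    exact mul_mem (mem_sup_left ha) (mem_sup_right hb)

theorem mem_sup_of_commutator_eq_bot {A B : Subgroup G} (h : ⁅A, B⁆ = ⊥) {x : G} :
    x ∈ A ⊔ B ↔ ∃ a ∈ A, ∃ b ∈ B, a * b = x :=
  mem_sup_of_le_normalizer
    ((commutator_eq_bot_iff_le_centralizer.mp h).trans (centralizer_le_normalizer _))

/-- `Z(E(G)) ≤ F(G)`, in ambient form. -/
theorem layer_inf_centralizer_layer_le_fittingSubgroup :
    Cfsg.layer G ⊓ centralizer (Cfsg.layer G : Set G) ≤ Cfsg.fittingSubgroup G := by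
  have hn : (Cfsg.layer G ⊓ centralizer (Cfsg.layer G : Set G)).Normal := inferInstance
  refine le_fittingSubgroup hn ?_
  have hc : IsMulCommutative ↥(Cfsg.layer G ⊓ centralizer (Cfsg.layer G : Set G)) := by
    rw [← le_centralizer_iff_isMulCommutative]
    exact inf_le_right.trans (centralizer_le (by exact_mod_cast (inf_le_left : Cfsg.layer G ⊓ centralizer (Cfsg.layer G : Set G) ≤ Cfsg.layer G)))
  exact ⟨⟨1, Subgroup.upperCentralSeries_one_eq_top_iff.mpr hc⟩⟩

/-- Structure of subnormal subgroups of `F*(G)`: `S = E_S (F(G) ∩ S)`, where `E_S` is generated by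
the components of `G` contained in `S`. -/
theorem subnormal_le_generalizedFitting_decomp {S : Subgroup G}
    (hS : S ≤ Cfsg.generalizedFittingSubgroup G) (hsn : S.IsSubnormal) :
    S ≤ sSup {L : Subgroup G | Cfsg.IsComponent L ∧ L ≤ S} ⊔ (Cfsg.fittingSubgroup G ⊓ S) := by
  set ES := sSup {L : Subgroup G | Cfsg.IsComponent L ∧ L ≤ S} with hES
  set C' := sSup {L : Subgroup G | Cfsg.IsComponent L ∧ ¬ L ≤ S} with hC'
  set E := Cfsg.layer G with hE
  set F := Cfsg.fittingSubgroup G with hF
  have hESS : ES ≤ S := sSup_le fun L hL => hL.2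
  have hESE : ES ≤ E := sSup_le fun L hL => IsComponent.le_layer hL.1
  have hC'E : C' ≤ E := sSup_le fun L hL => IsComponent.le_layer hL.1
  have hEsup : E ≤ ES ⊔ C' := by
    refine sSup_le ?_
    intro L hL
    by_cases h : L ≤ S
    · exact (le_sSup (show L ∈ {L : Subgroup G | Cfsg.IsComponent L ∧ L ≤ S} from ⟨hL, h⟩)).trans le_sup_left
    · exact (le_sSup (show L ∈ {L : Subgroup G | Cfsg.IsComponent L ∧ ¬ L ≤ S} from ⟨hL, h⟩)).trans le_sup_right
  have hC'S : C' ≤ centralizer (S : Set G) := by
    refine sSup_le ?_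
    rintro L ⟨hL, hLS⟩
    rcases component_le_or_commutator_eq_bot hL hsn with h | h
    · exact absurd h hLS
    · exact commutator_eq_bot_iff_le_centralizer.mp h
  have hC'ES : C' ≤ centralizer (ES : Set G) := by
    refine sSup_le ?_
    rintro L ⟨hL, hLS⟩
    rw [le_centralizer_iff]
    refine sSup_le ?_
    rintro L' ⟨hL', hL'S⟩
    have hne : L' ≠ L := fun h => hLS (h ▸ hL'S)
    exact commutator_eq_bot_iff_le_centralizer.mp (component_commute hL' hL hne)
  have hEF : E ≤ centralizer (F : Set G) := layer_le_centralizer_fittingSubgroup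
  intro x hxS
  have hx : x ∈ E ⊔ F := hS hxS
  rw [mem_sup_of_normal_right] at hx
  obtain ⟨e, he, f, hf, rfl⟩ := hx
  have he' : e ∈ ES ⊔ C' := hEsup he
  have hcomm : ⁅ES, C'⁆ = ⊥ := by
    rw [commutator_comm]; exact commutator_eq_bot_iff_le_centralizer.mpr hC'ES
  rw [mem_sup_of_commutator_eq_bot hcomm] at he'
  obtain ⟨e₁, he₁, c, hc, rfl⟩ := he'
  -- `c` centralizes `E`
  have hcE : E ≤ centralizer ({c} : Set G) := by
    refine hEsup.trans (sup_le ?_ ?_)
    · intro y hy
      rw [mem_centralizer_iff]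
      intro z hz
      rw [Set.mem_singleton_iff] at hz
      subst hz
      exact ((mem_centralizer_iff.mp (hC'ES hc)) y hy).symm
    · intro y hy
      rw [mem_centralizer_iff]
      intro z hz
      rw [Set.mem_singleton_iff] at hz
      subst hz
      have h1 : (e₁ * z * f) * y = y * (e₁ * z * f) := (mem_centralizer_iff.mp (hC'S hy)) _ hxS
      have h2 : e₁ * y = y * e₁ := (mem_centralizer_iff.mp (hC'ES hy)) e₁ he₁
      have h3 : f * y = y * f := (mem_centralizer_iff.mp (hEF (hC'E hy))) f hf
      have h4 : e₁ * z * f * y = e₁ * (z * y) * f := by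
        rw [mul_assoc (e₁ * z), h3]; group
      have h5 : y * (e₁ * z * f) = e₁ * (y * z) * f := by
        rw [← mul_assoc, ← mul_assoc, ← h2]; group
      rw [h4, h5] at h1
      exact mul_left_cancel (mul_right_cancel h1)
  have hcF : c ∈ F := by
    apply layer_inf_centralizer_layer_le_fittingSubgroup
    refine ⟨hC'E hc, ?_⟩
    show c ∈ centralizer (Cfsg.layer G : Set G)
    rw [mem_centralizer_iff]
    intro y hy
    have := (mem_centralizer_iff.mp (hcE hy)) c rfl
    exact this.symm
  have hcfF : c * f ∈ F := mul_mem hcF hf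
  have hcfS : c * f ∈ S := by
    have : c * f = e₁⁻¹ * (e₁ * c * f) := by group
    rw [this]
    exact mul_mem (inv_mem (hESS he₁)) hxS
  have : e₁ * c * f = e₁ * (c * f) := by group
  rw [this]
  exact mul_mem (mem_sup_left he₁) (mem_sup_right ⟨hcfF, hcfS⟩)

/-- Components of `G` inside `S` generate a subgroup of the image of `E(S)`. -/
theorem sSup_components_le_map_layer (S : Subgroup G) :
    sSup {L : Subgroup G | Cfsg.IsComponent L ∧ L ≤ S} ≤ (Cfsg.layer S).map S.subtype := by
  refine sSup_le ?_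
  rintro L ⟨hL, hLS⟩
  have h1 : Cfsg.IsComponent (L.subgroupOf S) := IsComponent.subgroupOf hL hLS
  have h2 : L.subgroupOf S ≤ Cfsg.layer S := IsComponent.le_layer h1
  have h3 := Subgroup.map_mono (f := S.subtype) h2
  rwa [map_subgroupOf_eq_of_le hLS] at h3

/-- `F(G) ∩ S ≤ F(S)` (finite `G`), in ambient form. -/
theorem fittingSubgroup_inf_le_map_fittingSubgroup [Finite G] (S : Subgroup G) :
    Cfsg.fittingSubgroup G ⊓ S ≤ (Cfsg.fittingSubgroup S).map S.subtype := by
  set F := Cfsg.fittingSubgroup G with hF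
  have hn : ((F ⊓ S).subgroupOf S).Normal := by
    rw [inf_subgroupOf_right]; infer_instance
  have hnil : Group.IsNilpotent ((F ⊓ S).subgroupOf S) := by
    have e1 : (F ⊓ S).subgroupOf S ≃* ↥(F ⊓ S) := subgroupOfEquivOfLe inf_le_right
    have e2 : (F ⊓ S).subgroupOf F ≃* ↥(F ⊓ S) := subgroupOfEquivOfLe inf_le_left
    haveI := isNilpotent_fittingSubgroup (G := G)
    have h0 : Group.IsNilpotent ((F ⊓ S).subgroupOf F) := inferInstance
    exact (Group.isNilpotent_congr (e1.trans e2.symm)).mpr h0
  have h1 : (F ⊓ S).subgroupOf S ≤ Cfsg.fittingSubgroup S := le_fittingSubgroup hn hnil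
  have h2 := Subgroup.map_mono (f := S.subtype) h1
  rwa [map_subgroupOf_eq_of_le inf_le_right] at h2

/-- `F(S) ≤ F(G)` for subnormal `S` (finite `G`), in ambient form. -/
theorem map_fittingSubgroup_le [Finite G] {S : Subgroup G} (hS : S.IsSubnormal) :
    (Cfsg.fittingSubgroup S).map S.subtype ≤ Cfsg.fittingSubgroup G := by
  apply subnormal_nilpotent_le_fittingSubgroup
  · exact (Subgroup.Normal.isSubnormal (fittingSubgroup_normal (G := S))).trans' hS
  · have e : Cfsg.fittingSubgroup S ≃* (Cfsg.fittingSubgroup S).map S.subtype :=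
      (Cfsg.fittingSubgroup S).equivMapOfInjective _ S.subtype_injective
    exact (Group.isNilpotent_congr e).mp isNilpotent_fittingSubgroup

theorem map_generalizedFittingSubgroup_le [Finite G] {S : Subgroup G} (hS : S.IsSubnormal) :
    (Cfsg.generalizedFittingSubgroup S).map S.subtype ≤ Cfsg.generalizedFittingSubgroup G := by
  rw [generalizedFittingSubgroup_eq, Subgroup.map_sup, generalizedFittingSubgroup_eq]
  exact sup_le_sup (layer_map_subtype_le hS) (map_fittingSubgroup_le hS)

/-- A subnormal subgroup of `G` inside `F*(G)` lies in the image of its own `F*`. -/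
theorem subnormal_le_map_generalizedFittingSubgroup [Finite G] {S : Subgroup G}
    (hS : S ≤ Cfsg.generalizedFittingSubgroup G) (hsn : S.IsSubnormal) :
    S ≤ (Cfsg.generalizedFittingSubgroup S).map S.subtype := by
  refine (subnormal_le_generalizedFitting_decomp hS hsn).trans ?_
  rw [generalizedFittingSubgroup_eq, Subgroup.map_sup]
  exact sup_le_sup (sSup_components_le_map_layer S) (fittingSubgroup_inf_le_map_fittingSubgroup S)

end Cfsg.Agent.Helper22
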