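import Cfsg.Agent.S1394
import Cfsg.Agent.S1395
import Cfsg.Agent.S1396
import Cfsg.Agent.Lib.Helper11.ElemAb
import Cfsg.Agent.Lib.Helper30.BGFusB
import Cfsg.Agent.Lib.Helper34.BG10a
import Cfsg.Agent.Lib.Helper45.CNSimple

/-!
# Bender–Glauberman Lemma 10.10 (a), (b): the Sylow `p`-subgroup normalizing a maximal
`A`-invariant `q`-subgroup, and the finish of Step 4 of Proposition 12.4.

The `p`-length-one hypothesis (`S1410`) is taken as an explicit hypothesis `hpl`, so this file does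
not import `S1410`.
-/

set_option autoImplicit false
set_option linter.style.haveILetI false
set_option linter.unusedVariables false

namespace Cfsg.Agent.Helper22.BG1010

open Cfsg Subgroup
open scoped commutatorElement

variable {G : Type*} [Group G] [Finite G]

/-- in a finite `p`-group every subgroup is subnormal -/
theorem isSubnormal_of_isPGroup_h22 {H : Type*} [Group H] [Finite H] {p : ℕ} [Fact p.Prime]
    (hH : IsPGroup p H) (S : Subgroup H) : S.IsSubnormal := by
  haveI : Group.IsNilpotent H := hH.isNilpotent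
  induction S using WellFoundedGT.induction with
  | ind S ih =>
    by_cases hS : S = ⊤
    · rw [hS]; exact IsSubnormal.top
    · have hlt : S < normalizer (S : Set H) :=
        Group.normalizerCondition_of_isNilpotent S (lt_top_iff_ne_top.2 hS)
      exact IsSubnormal.step S _ le_normalizer (ih _ hlt) normal_in_normalizer

omit [Finite G] in
theorem isPGroup_of_elemAb {p : ℕ} {A : Subgroup G} (hAe : IsElementaryAbelian p A) :
    IsPGroup p A := by
  intro a
  refine ⟨1, ?_⟩
  apply Subtype.ext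
  simpa using hAe.2 a a.2

omit [Finite G] in
theorem comm_of_elemAb {p : ℕ} {A : Subgroup G} (hAe : IsElementaryAbelian p A) {a b : G}
    (ha : a ∈ A) (hb : b ∈ A) : a * b = b * a := by
  have := hAe.1.is_comm.comm (⟨a, ha⟩ : ↥A) ⟨b, hb⟩
  exact congrArg Subtype.val this

/-- A maximal elementary abelian `p`-subgroup satisfies the transitivity hypothesis, given
`p`-length one of all proper subgroups. -/
theorem th_of_maxElem_of (hG : IsMinSimpleOddOrder G) (p : ℕ) [hp : Fact p.Prime] (A : Subgroup G)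
    (hAe : IsElementaryAbelian p A) (hA1 : A ≠ ⊥)
    (hAmax : ∀ B : Subgroup G, IsElementaryAbelian p B → A ≤ B → B = A)
    (hpl : ∀ H : Subgroup G, H ≠ ⊤ → PLengthLE p 1 H) : TransitivityHypothesis A := by
  have hAp : IsPGroup p A := isPGroup_of_elemAb hAe
  have hpG : p ∣ Nat.card G := by
    obtain ⟨n, hn⟩ := IsPGroup.iff_card.mp hAp
    have hn0 : n ≠ 0 := by
      rintro rfl
      rw [pow_zero] at hn
      exact hA1 (Subgroup.card_eq_one.mp hn)
    have h1 : p ∣ Nat.card A := hn ▸ dvd_pow_self p hn0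
    exact h1.trans (Subgroup.card_subgroup_dvd_card A)
  refine Cfsg.Agent.S1396.result hG p hpG A hAp hAe.1 (Or.inl ⟨?_, hpl⟩)
  intro x hx
  constructor
  · intro hxp
    have hB := Cfsg.Agent.Helper11.isElementaryAbelian_sup_zpowers hAe (x := x)
      (fun a ha => (mem_centralizer_iff.mp hx) a ha) hxp
    have h2 := hAmax _ hB le_sup_left
    rw [← h2]
    exact Subgroup.mem_sup_right (Subgroup.mem_zpowers x)
  · exact hAe.2 x

/-- BG Lemma 10.10 (a),(b), with `p`-length one as a hypothesis. -/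
theorem r1_of (hG : IsMinSimpleOddOrder G) (p : ℕ) [hp : Fact p.Prime] (A : Subgroup G)
    (hAe : IsElementaryAbelian p A) (hA2 : Nat.card A = p ^ 2)
    (hAmax : ∀ B : Subgroup G, IsElementaryAbelian p B → A ≤ B → B = A)
    (hpl : ∀ H : Subgroup G, H ≠ ⊤ → PLengthLE p 1 H)
    (q : ℕ) (hq : q.Prime) (hqp : q ≠ p) (hqC : q ∣ Nat.card (centralizer (A : Set G)))
    (Q : Subgroup G) (hQ : Q ∈ maxInvSubgroups ⊤ A {q}) :
    ∃ P : Sylow p G, A ≤ (P : Subgroup G) ∧ (P : Subgroup G) ≤ normalizer (Q : Set G) ∧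
      (P : Subgroup G) ≤ ⁅normalizer (Q : Set G), normalizer (Q : Set G)⁆ := by
  classical
  haveI : Fact q.Prime := ⟨hq⟩
  have hAp : IsPGroup p A := isPGroup_of_elemAb hAe
  have hp1 : 1 < p := hp.out.one_lt
  have hA1 : A ≠ ⊥ := by
    intro h
    rw [h, Subgroup.card_bot] at hA2
    have : 1 < p ^ 2 := Nat.one_lt_pow (by norm_num) hp1
    omega
  have hTH : TransitivityHypothesis A := th_of_maxElem_of hG p A hAe hA1 hAmax hpl
  have hqA : ¬ q ∣ Nat.card A := by
    rw [hA2]
    intro h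
    exact hqp ((Nat.prime_dvd_prime_iff_eq hq hp.out).mp (hq.dvd_of_dvd_pow h))
  have hpA : p ∣ Nat.card A := by
    rw [hA2]; exact dvd_pow_self p (by norm_num)
  have hAcent : A ≤ centralizer (A : Set G) := by
    intro a ha
    rw [mem_centralizer_iff]
    intro b hb
    exact comm_of_elemAb hAe hb ha
  have hZ : ¬ RankLE 1 ↥(A ⊓ centralizer (A : Set G)) := by
    apply Cfsg.Agent.Helper34.BG.not_rankLE_of_elemAb hp.out (le_inf le_rfl hAcent) hAe
    rw [hA2]
    exact Nat.pow_lt_pow_right hp1 (by norm_num)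
  have htr := Cfsg.Agent.S1394.result hG A hTH hZ q hq hqA hqC
  -- the normalizer of `Q`
  have hQinv : A ≤ normalizer (Q : Set G) := hQ.1.2.2
  obtain ⟨P0', hP0'⟩ := (hAp.comap_subtype (K := normalizer (Q : Set G))).exists_le_sylow
  have hP0eq : ∃ P0 : Subgroup G, P0 = (P0' : Subgroup (normalizer (Q : Set G))).map
      (normalizer (Q : Set G)).subtype := ⟨_, rfl⟩
  obtain ⟨P0, hP0⟩ := hP0eq
  have hP0N : P0 ≤ normalizer (Q : Set G) := by
    rw [hP0]; exact map_subtype_le _
  have hAP0 : A ≤ P0 := by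
    intro a ha
    rw [hP0]
    exact ⟨⟨a, hQinv ha⟩, hP0' (Subgroup.mem_subgroupOf.mpr ha), rfl⟩
  have hP0p : IsPGroup p P0 := by
    rw [hP0]; exact P0'.2.map _
  have hP0card : Nat.card P0 = p ^ (Nat.card (normalizer (Q : Set G))).factorization p := by
    rw [hP0, Subgroup.card_map_of_injective (Subgroup.subtype_injective _)]
    exact P0'.card_eq_multiplicity
  have hP0top : P0 ≠ ⊤ := by
    intro h
    apply Cfsg.Agent.Helper45.CNSimple.not_isPGroup hG p
    intro g
    rw [h] at hP0p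
    obtain ⟨k, hk⟩ := hP0p ⟨g, Subgroup.mem_top g⟩
    exact ⟨k, by simpa using congrArg Subtype.val hk⟩
  have hP0π : ∀ r : ℕ, r.Prime → r ∣ Nat.card P0 → r ∣ Nat.card A := by
    intro r hr hrd
    obtain ⟨k, hk⟩ := IsPGroup.iff_card.mp hP0p
    rw [hk] at hrd
    have : r = p := (Nat.prime_dvd_prime_iff_eq hr hp.out).mp (hr.dvd_of_dvd_pow hrd)
    rw [this]; exact hpA
  have hsn : (A.subgroupOf P0).IsSubnormal :=
    isSubnormal_of_isPGroup_h22 (H := ↥P0) (p := p) hP0p _
  have h95 := Cfsg.Agent.S1395.result hG A hTH q hq hqA P0 hP0top hP0π hAP0 hsn htr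
  obtain ⟨-, -, -, hd⟩ := h95
  have hQP0 : Q ∈ maxInvSubgroups ⊤ P0 {q} := by
    refine ⟨⟨hQ.1.1, hQ.1.2.1, hP0N⟩, fun R hR hQR => ?_⟩
    exact hQ.2 R ⟨hR.1, hR.2.1, hAP0.trans hR.2.2⟩ hQR
  obtain ⟨hd1, hd2⟩ := hd Q hQP0
  -- `P0` is a Sylow `p`-subgroup of `G`
  obtain ⟨S, hS⟩ := hP0p.exists_le_sylow
  have hYp : ¬ p ∣ Nat.card (piCoreOf (primesNotDvd (Nat.card A)) (centralizer (P0 : Set G))) := by
    intro h
    have := Cfsg.Agent.Helper54.isPi_piCoreOf (primesNotDvd (Nat.card A)) (centralizer (P0 : Set G))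
      p hp.out h
    exact this.2 hpA
  have hNne : Nat.card (normalizer (Q : Set G)) ≠ 0 := Nat.card_pos.ne'
  have hTeq : P0 = normalizer (P0 : Set G) ⊓ (S : Subgroup G) := by
    have hTp : IsPGroup p ↥(normalizer (P0 : Set G) ⊓ (S : Subgroup G)) := S.2.to_le inf_le_right
    have hP0T : P0 ≤ normalizer (P0 : Set G) ⊓ (S : Subgroup G) := le_inf le_normalizer hS
    apply Subgroup.eq_of_le_of_card_ge hP0T
    obtain ⟨k, hk⟩ := IsPGroup.iff_card.mp hTp
    have h1 : Nat.card ↥(normalizer (P0 : Set G) ⊓ (S : Subgroup G)) ∣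
        Nat.card (normalizer (P0 : Set G)) := Subgroup.card_dvd_of_le inf_le_left
    have h2 : Nat.card (normalizer (P0 : Set G)) ∣
        Nat.card (piCoreOf (primesNotDvd (Nat.card A)) (centralizer (P0 : Set G))) *
          Nat.card ↥(normalizer (P0 : Set G) ⊓ normalizer (Q : Set G)) := by
      have h3 := Cfsg.Agent.Helper54.card_sup_dvd_of_le_normalizer
        (piCoreOf (primesNotDvd (Nat.card A)) (centralizer (P0 : Set G)))
        (normalizer (P0 : Set G) ⊓ normalizer (Q : Set G))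
        (inf_le_left.trans (Cfsg.Agent.Helper54.normalizer_le_normalizer_piCoreOf_centralizer _ P0))
      rw [← hd2] at h3
      exact h3
    have h4 : Nat.card ↥(normalizer (P0 : Set G) ⊓ (S : Subgroup G)) ∣
        Nat.card ↥(normalizer (P0 : Set G) ⊓ normalizer (Q : Set G)) := by
      have hcop : Nat.Coprime (Nat.card ↥(normalizer (P0 : Set G) ⊓ (S : Subgroup G)))
          (Nat.card (piCoreOf (primesNotDvd (Nat.card A)) (centralizer (P0 : Set G)))) := by
        rw [hk]
        exact Nat.Coprime.pow_left _ ((Nat.Prime.coprime_iff_not_dvd hp.out).mpr hYp)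
      exact hcop.dvd_of_dvd_mul_left (h1.trans h2)
    have h5 : Nat.card ↥(normalizer (P0 : Set G) ⊓ (S : Subgroup G)) ∣
        Nat.card (normalizer (Q : Set G)) := h4.trans (Subgroup.card_dvd_of_le inf_le_right)
    rw [hk] at h5 ⊢
    rw [hP0card]
    exact Nat.pow_le_pow_right hp.out.pos
      ((Nat.Prime.pow_dvd_iff_le_factorization hp.out hNne).mp h5)
  have hP0S : P0 = (S : Subgroup G) := by
    by_contra hne
    have := Cfsg.Agent.Helper54.card_lt_card_normalizer_inf P0 (S : Subgroup G) S.2 hS hne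
    rw [← hTeq] at this
    exact lt_irrefl _ this
  -- `S ≤ N_G(S)'`
  have hloc : ∀ R : Subgroup G, R ≤ (S : Subgroup G) → R ≠ ⊥ →
      PLengthLE p 1 ↥(normalizer (R : Set G)) := fun R hR hne =>
    hpl _ (Cfsg.Agent.Helper45.CNSimple.normalizer_ne_top hG (S.2.to_le hR) hne)
  have hperf : commutator G = ⊤ := Cfsg.Agent.Helper45.CNSimple.commutator_eq_top hG
  have hSc := Cfsg.Agent.Helper30.BGFus.sylow_le_commutator_normalizer S hloc hperf
  have hSc' : (S : Subgroup G) ≤ ⁅normalizer ((S : Subgroup G) : Set G),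
      normalizer ((S : Subgroup G) : Set G)⁆ :=
    hSc.trans (Subgroup.commutator_mono le_normalizer le_rfl)
  refine ⟨S, hP0S ▸ hAP0, hP0S ▸ hP0N, ?_⟩
  rw [hP0S] at hd1
  exact (le_inf le_rfl hSc').trans hd1

/-- Finish of Step 4 of BG Proposition 12.4: a Sylow `p`-subgroup of `G` inside the nilpotent
derived subgroup of a maximal subgroup `M` forces `p ∈ σ(M)`. -/
theorem mem_sigma_of_sylow_le_commutator (hG : IsMinSimpleOddOrder G) (M : Subgroup G)
    (hM : IsCoatom M) (hnil : Group.IsNilpotent ↥⁅M, M⁆) (p : ℕ) [hp : Fact p.Prime]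
    (P : Sylow p G) (hP1 : (P : Subgroup G) ≠ ⊥) (hP : (P : Subgroup G) ≤ ⁅M, M⁆) :
    p ∈ sigma M := by
  classical
  have hDM : ⁅M, M⁆ ≤ M := by
    rw [Subgroup.commutator_le]
    intro a ha b hb
    exact M.mul_mem (M.mul_mem (M.mul_mem ha hb) (M.inv_mem ha)) (M.inv_mem hb)
  have hPM : (P : Subgroup G) ≤ M := hP.trans hDM
  -- `M` normalizes `⁅M, M⁆`
  have hMD : M ≤ normalizer ((⁅M, M⁆ : Subgroup G) : Set G) := by
    have h1 := Cfsg.Agent.Helper54.normalizer_le_normalizer_map_of_characteristic M (commutator ↥M)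
    have h2 : (commutator ↥M).map M.subtype = ⁅M, M⁆ := by
      rw [commutator_def, Subgroup.map_commutator, ← MonoidHom.range_eq_map, Subgroup.range_subtype]
    rw [h2] at h1
    exact le_normalizer.trans h1
  -- the Sylow `p`-subgroup of the nilpotent group `⁅M, M⁆` is characteristic
  have hPD : ((P.subtype hP : Sylow p ↥⁅M, M⁆) : Subgroup ↥⁅M, M⁆).Characteristic := by
    have hn : ((P.subtype hP : Sylow p ↥⁅M, M⁆) : Subgroup ↥⁅M, M⁆).Normal :=
      Sylow.normal_of_normalizerCondition Group.normalizerCondition_of_isNilpotent _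
    exact Sylow.characteristic_of_normal _ hn
  have hmap : ((P.subtype hP : Sylow p ↥⁅M, M⁆) : Subgroup ↥⁅M, M⁆).map (⁅M, M⁆ : Subgroup G).subtype
      = (P : Subgroup G) := by
    rw [Sylow.coe_subtype, Subgroup.map_subgroupOf_eq_of_le hP]
  have hDP : normalizer ((⁅M, M⁆ : Subgroup G) : Set G) ≤ normalizer ((P : Subgroup G) : Set G) := by
    have h1 := @Cfsg.Agent.Helper54.normalizer_le_normalizer_map_of_characteristic G _ ⁅M, M⁆
      ((P.subtype hP : Sylow p ↥⁅M, M⁆) : Subgroup ↥⁅M, M⁆) hPD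
    rw [hmap] at h1
    exact h1
  have hMN : M ≤ normalizer ((P : Subgroup G) : Set G) := hMD.trans hDP
  have hNtop : normalizer ((P : Subgroup G) : Set G) ≠ ⊤ :=
    Cfsg.Agent.Helper45.CNSimple.normalizer_ne_top hG P.2 hP1
  have hNM : normalizer ((P : Subgroup G) : Set G) = M := by
    by_contra hne
    exact hNtop (hM.2 _ (lt_of_le_of_ne hMN (Ne.symm hne)))
  refine ⟨hp.out, ?_, P.subtype hPM, ?_⟩
  · obtain ⟨n, hn⟩ := IsPGroup.iff_card.mp P.2
    have hn0 : n ≠ 0 := by
      rintro rfl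
      rw [pow_zero] at hn
      exact hP1 (Subgroup.card_eq_one.mp hn)
    have h1 : p ∣ Nat.card (P : Subgroup G) := hn ▸ dvd_pow_self p hn0
    exact h1.trans (Subgroup.card_dvd_of_le hPM)
  · rw [Sylow.coe_subtype, Subgroup.map_subgroupOf_eq_of_le hPM, hNM]

end Cfsg.Agent.Helper22.BG1010
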