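import Cfsg.Agent.Lib.Helper64.S4017Defs

set_option autoImplicit false
set_option linter.unusedSectionVars false
set_option linter.style.haveILetI false

namespace Cfsg.Agent.Helper22.S4017M

open Cfsg.Agent.Helper64.S4017

variable {G : Type*} [Group G] [Finite G] {a p : ℕ} {Q : Subgroup G} {x : G}

/-- `Q` has at least `4` elements. -/
theorem h22_four_le_card (h : Setting a p Q x) : 4 ≤ Nat.card Q := by
  rw [h.card_Q]
  calc 4 = 2 ^ 2 := by norm_num
    _ ≤ 2 ^ a := Nat.pow_le_pow_right (by norm_num) h.two_le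

/-- two distinct non-identity elements of `Q`. -/
theorem h22_exists_two (h : Setting a p Q x) :
    ∃ t ∈ Q, t ≠ 1 ∧ ∃ s ∈ Q, s ≠ 1 ∧ s ≠ t := by
  have h4 := h22_four_le_card h
  haveI : Fintype Q := Fintype.ofFinite Q
  have h2 : 2 < Fintype.card Q := by
    rw [← Nat.card_eq_fintype_card]; omega
  obtain ⟨u, v, w, huv, huw, hvw⟩ := Fintype.two_lt_card_iff.1 h2
  have key : ∀ u v : Q, u ≠ v → u ≠ 1 → v ≠ 1 →
      ∃ t ∈ Q, t ≠ 1 ∧ ∃ s ∈ Q, s ≠ 1 ∧ s ≠ t := by
    intro u v huv hu hv
    refine ⟨u.1, u.2, fun e => hu (Subtype.ext e), v.1, v.2, fun e => hv (Subtype.ext e), ?_⟩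
    intro e
    exact huv (Subtype.ext e.symm)
  by_cases hu : u = 1
  · have hv : v ≠ 1 := fun e => huv (hu.trans e.symm)
    have hw : w ≠ 1 := fun e => huw (hu.trans e.symm)
    exact key v w hvw hv hw
  · by_cases hv : v = 1
    · have hw : w ≠ 1 := fun e => hvw (hv.trans e.symm)
      exact key u w huw hu hw
    · exact key u v huv hu hv

/-- `G` is not commutative. -/
theorem h22_exists_not_comm (h : Setting a p Q x) : ∃ g k : G, g * k ≠ k * g := by
  by_contra hcon
  push Not at hcon
  obtain ⟨t, ht, ht1, s, hs, hs1, hst⟩ := h22_exists_two h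
  obtain ⟨i, hi⟩ := h.x_trans t ht ht1 s hs hs1
  apply hst
  rw [← hi, hcon (x ^ i) t]
  group

theorem centralizer_ne_top (h : Setting a p Q x) {c : G} (hc : c ≠ 1) :
    Subgroup.centralizer {c} ≠ ⊤ := by
  intro htop
  haveI := h.simple
  have hcen : c ∈ Subgroup.center G := by
    rw [Subgroup.mem_center_iff]
    intro g
    have hg : g ∈ Subgroup.centralizer {c} := by rw [htop]; trivial
    rw [Subgroup.mem_centralizer_singleton_iff] at hg
    exact hg
  have hZ : Subgroup.center G = ⊤ := by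
    rcases h.simple.eq_bot_or_eq_top_of_normal (Subgroup.center G) inferInstance with hb | ht
    · exfalso
      rw [hb, Subgroup.mem_bot] at hcen
      exact hc hcen
    · exact ht
  obtain ⟨g, k, hgk⟩ := h22_exists_not_comm h
  apply hgk
  have hk : k ∈ Subgroup.center G := by rw [hZ]; trivial
  rw [Subgroup.mem_center_iff] at hk
  exact hk g

theorem normalizer_ne_top (h : Setting a p Q x) (E : Subgroup G) (hE : E ≠ ⊥)
    (hE' : E ≠ ⊤) : Subgroup.normalizer (E : Set G) ≠ ⊤ := by
  intro htop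
  haveI := h.simple
  haveI : E.Normal := Subgroup.normalizer_eq_top_iff.1 htop
  rcases h.simple.eq_bot_or_eq_top_of_normal E inferInstance with hb | ht
  · exact hE hb
  · exact hE' ht

end Cfsg.Agent.Helper22.S4017M
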