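import Cfsg.Agent.Lib.Helper64.S4017Defs

set_option autoImplicit false
set_option linter.unusedSectionVars false
set_option linter.style.haveILetI false

namespace Cfsg.Agent.Helper22.S4017M

open Cfsg.Agent.Helper64.S4017

variable {G : Type*} [Group G] [Finite G] {a p : ℕ} {Q : Subgroup G} {x : G}

theorem h22_mem_map_conj (Q : Subgroup G) (g y : G) :
    y ∈ Q.map (MulAut.conj g).toMonoidHom ↔ ∃ s ∈ Q, g * s * g⁻¹ = y := by
  rw [Subgroup.mem_map]
  constructor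
  · rintro ⟨s, hs, e⟩
    exact ⟨s, hs, by simpa using e⟩
  · rintro ⟨s, hs, e⟩
    exact ⟨s, hs, by simpa using e⟩

theorem conj (h : Setting a p Q x) (g : G) :
    Setting a p (Q.map (MulAut.conj g).toMonoidHom) (g * x * g⁻¹) := by
  refine ⟨h.simple, h.two_le, h.prime, h.p_eq, ?_, h.sylow, ?_, h.star, h.abel, ?_, ?_, ?_⟩
  · rw [Subgroup.card_map_of_injective (MulAut.conj g).injective]
    exact h.card_Q
  · intro y hy
    obtain ⟨s, hs, rfl⟩ := (h22_mem_map_conj Q g y).1 hy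
    have := h.elem s hs
    calc g * s * g⁻¹ * (g * s * g⁻¹) = g * (s * s) * g⁻¹ := by group
      _ = 1 := by rw [this]; group
  · intro y hy
    obtain ⟨s, hs, rfl⟩ := (h22_mem_map_conj Q g y).1 hy
    refine (h22_mem_map_conj Q g _).2 ⟨x * s * x⁻¹, h.x_norm s hs, ?_⟩
    group
  · obtain ⟨j, hj⟩ := h.x_pel
    refine ⟨j, ?_⟩
    have e : g * x * g⁻¹ = (MulAut.conj g) x := by simp
    rw [e, MulEquiv.orderOf_eq]
    exact hj
  · intro t ht ht1 s hs hs1
    obtain ⟨t0, ht0, rfl⟩ := (h22_mem_map_conj Q g t).1 ht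
    obtain ⟨s0, hs0, rfl⟩ := (h22_mem_map_conj Q g s).1 hs
    have ht01 : t0 ≠ 1 := by
      rintro rfl
      apply ht1; group
    have hs01 : s0 ≠ 1 := by
      rintro rfl
      apply hs1; group
    obtain ⟨i, hi⟩ := h.x_trans t0 ht0 ht01 s0 hs0 hs01
    refine ⟨i, ?_⟩
    rw [conj_pow, ← hi]
    group

/-- `Q` as a Sylow `2`-subgroup. -/
theorem h22_sylowQ (h : Setting a p Q x) : ∃ S : Sylow 2 G, (S : Subgroup G) = Q := by
  haveI : Fact (Nat.Prime 2) := ⟨Nat.prime_two⟩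
  have hQ2 : IsPGroup 2 Q := IsPGroup.of_card h.card_Q
  obtain ⟨S, hS⟩ := hQ2.exists_le_sylow
  refine ⟨S, ?_⟩
  symm
  apply Subgroup.eq_of_le_of_card_ge hS
  obtain ⟨n, hn⟩ := IsPGroup.iff_card.1 S.isPGroup'
  have hdvd : Nat.card (S : Subgroup G) ∣ Nat.card G := Subgroup.card_subgroup_dvd_card _
  rw [hn, h.card_Q]
  apply Nat.pow_le_pow_right (by norm_num)
  by_contra hlt
  push Not at hlt
  apply h.sylow
  rw [hn] at hdvd
  exact (pow_dvd_pow 2 hlt).trans hdvd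

open scoped Pointwise in
theorem h22_smul_eq_map (S : Sylow 2 G) (g : G) :
    ((g • S : Sylow 2 G) : Subgroup G) = (S : Subgroup G).map (MulAut.conj g).toMonoidHom := by
  ext y
  rw [Sylow.coe_subgroup_smul, h22_mem_map_conj]
  rw [Subgroup.mem_pointwise_smul_iff_inv_smul_mem]
  constructor
  · intro hy
    refine ⟨_, hy, ?_⟩
    simp [MulAut.smul_def]
    group
  · rintro ⟨s, hs, rfl⟩
    have e : (MulAut.conj g)⁻¹ • (g * s * g⁻¹) = s := by
      simp [MulAut.smul_def]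
      group
    rw [e]; exact hs

theorem exists_conj_eq {Q' : Subgroup G} {x' : G} (h : Setting a p Q x)
    (h' : Setting a p Q' x') : ∃ g : G, Q' = Q.map (MulAut.conj g).toMonoidHom := by
  haveI : Fact (Nat.Prime 2) := ⟨Nat.prime_two⟩
  obtain ⟨S, hS⟩ := h22_sylowQ h
  obtain ⟨S', hS'⟩ := h22_sylowQ h'
  obtain ⟨g, hg⟩ := MulAction.exists_smul_eq G S S'
  refine ⟨g, ?_⟩
  rw [← hS', ← hg, h22_smul_eq_map, hS]

theorem exists_setting (h : Setting a p Q x) {u : G} (hu : IsInv u) :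
    ∃ (Q' : Subgroup G) (x' : G), Setting a p Q' x' ∧ u ∈ Q' := by
  haveI : Fact (Nat.Prime 2) := ⟨Nat.prime_two⟩
  obtain ⟨S, hS⟩ := h22_sylowQ h
  have hu2 : IsPGroup 2 (Subgroup.zpowers u) := by
    apply IsPGroup.of_card (n := 1)
    rw [Nat.card_zpowers, pow_one]
    exact orderOf_eq_prime (by rw [pow_two]; exact hu.2) hu.1
  obtain ⟨S', hS'⟩ := hu2.exists_le_sylow
  obtain ⟨g, hg⟩ := MulAction.exists_smul_eq G S S'
  refine ⟨Q.map (MulAut.conj g).toMonoidHom, g * x * g⁻¹, conj h g, ?_⟩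
  rw [← hS, ← h22_smul_eq_map, hg]
  exact hS' (Subgroup.mem_zpowers u)

end Cfsg.Agent.Helper22.S4017M
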