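import Mathlib
import Cfsg.Agent.S1350
import Cfsg.Agent.Lib.Helper24.BG11.Def
import Cfsg.Agent.Lib.Helper24.Coprime
import Cfsg.Agent.Lib.Helper55.BGHall
import Cfsg.Agent.Lib.Helper52.Coprime
import Cfsg.Agent.Lib.Helper52.CoprimeSylow
import Cfsg.Agent.Lib.Helper94.Solvable
import Cfsg.Agent.Lib.Helper22.Fitting
import Cfsg.Agent.Lib.Helper22.Radical
import Cfsg.Agent.Lib.Helper58.BG11W1

/-!
# B-G 11.7, reduction (W2): if `A` centralizes every `O_r(M)` (`r ≠ p`, `r ∉ σ(M)`), then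
`M` normalizes `M_σ A`.

`c_of_cent_of` takes the coprime-action lemma (W1) as an explicit hypothesis `hW1`.
-/

set_option autoImplicit false
set_option linter.style.haveILetI false

namespace Cfsg.Agent.Helper22.BG11

open Subgroup Cfsg Cfsg.Agent.Helper24.BG11

universe u

section General

variable {G : Type*} [Group G]

/-- `|U H| = |U| |H|` when `H` normalizes `U` and `U ∩ H = 1`. -/
theorem card_sup_eq_mul [Finite G] (U H : Subgroup G) (hH : H ≤ normalizer (U : Set G))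
    (hUH : U ⊓ H = ⊥) : Nat.card ↥(U ⊔ H) = Nat.card U * Nat.card H := by
  have h1 : U.relIndex H = U.relIndex (U ⊔ H) := by
    apply Cfsg.Agent.Helper52.relIndex_eq_of_forall_mul U H (U ⊔ H) le_sup_right
    intro m hm
    have hm' : m ∈ ((U ⊔ H : Subgroup G) : Set G) := hm
    rw [sup_comm, coe_mul_of_left_le_normalizer_right H U hH] at hm'
    obtain ⟨t, ht, d, hd, rfl⟩ := Set.mem_mul.mp hm'
    exact ⟨t, ht, d, hd, rfl⟩
  have h2 : Nat.card U * U.relIndex (U ⊔ H) = Nat.card ↥(U ⊔ H) :=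
    Cfsg.Agent.Helper52.card_mul_relIndex_eq le_sup_left
  have h3 : U.relIndex H = Nat.card H := by
    rw [Subgroup.relIndex, (Subgroup.subgroupOf_eq_bot).mpr (disjoint_iff.mpr hUH),
      Subgroup.index_bot]
  rw [← h2, ← h1, h3]

/-- A complement `E` of the normal subgroup `K` of `M` can be moved (by an element of `K`) so as to
contain a given subgroup `A ≤ M` of order coprime to `|K|`. -/
theorem exists_compl_ge [Finite G] {M K A : Subgroup G} (E : Subgroup G)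
    (hE : Cfsg.IsComplIn E K M) (hKn : M ≤ normalizer (K : Set G)) (hAM : A ≤ M)
    (hsolv : Group.IsSolvable K ∨ Group.IsSolvable A)
    (hcop : (Nat.card K).Coprime (Nat.card A)) :
    ∃ E' : Subgroup G, Cfsg.IsComplIn E' K M ∧ A ≤ E' := by
  obtain ⟨hEM, hKM, hEK, hfac⟩ := hE
  have hAK : A ≤ normalizer (K : Set G) := hAM.trans hKn
  have hBK : (K ⊔ A) ⊓ E ≤ normalizer (K : Set G) := (inf_le_right.trans hEM).trans hKn
  have hKA : K ⊓ A = ⊥ := (Subgroup.disjoint_of_coprime_natCard hcop).eq_bot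
  have hKB : K ⊓ ((K ⊔ A) ⊓ E) = ⊥ := by
    rw [eq_bot_iff, ← hEK]
    exact le_inf (inf_le_right.trans inf_le_right) inf_le_left
  have hsup : K ⊔ ((K ⊔ A) ⊓ E) = K ⊔ A := by
    apply le_antisymm
    · exact sup_le le_sup_left inf_le_left
    · apply sup_le le_sup_left
      intro a ha
      obtain ⟨e, he, k, hk, hak⟩ := hfac a (hAM ha)
      have he' : e = a * k⁻¹ := by rw [hak]; group
      have heB : e ∈ (K ⊔ A) ⊓ E := by
        refine ⟨?_, he⟩
        rw [he']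
        exact mul_mem (mem_sup_right ha) (mem_sup_left (inv_mem hk))
      rw [hak]
      exact mul_mem (mem_sup_right heB) (mem_sup_left hk)
  have hcard : Nat.card ↥((K ⊔ A) ⊓ E) = Nat.card A := by
    have h1 := card_sup_eq_mul K A hAK hKA
    have h2 := card_sup_eq_mul K ((K ⊔ A) ⊓ E) hBK hKB
    rw [hsup, h1] at h2
    exact (Nat.eq_of_mul_eq_mul_left Nat.card_pos h2).symm
  obtain ⟨n, hn, hBn⟩ := Cfsg.Agent.Helper52.sz_conj_internal K A ((K ⊔ A) ⊓ E) hAK hsolv hcop hcard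
    inf_le_left
  refine ⟨E.map (MulAut.conj n⁻¹).toMonoidHom, ⟨?_, hKM, ?_, ?_⟩, ?_⟩
  · rintro _ ⟨e, he, rfl⟩
    simp only [MulEquiv.coe_toMonoidHom, MulAut.conj_apply, inv_inv]
    exact mul_mem (mul_mem (inv_mem (hKM hn)) (hEM he)) (hKM hn)
  · rw [eq_bot_iff]
    rintro x ⟨⟨e, he, rfl⟩, hxK⟩
    simp only [MulEquiv.coe_toMonoidHom, MulAut.conj_apply, inv_inv, SetLike.mem_coe] at hxK ⊢
    have heK : e ∈ K := by
      have : e = n * (n⁻¹ * e * n) * n⁻¹ := by group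
      rw [this]
      exact mul_mem (mul_mem hn hxK) (inv_mem hn)
    have : e ∈ E ⊓ K := ⟨he, heK⟩
    rw [hEK, mem_bot] at this
    rw [this, mem_bot]; group
  · intro m hm
    obtain ⟨e, he, k, hk, hmk⟩ := hfac (n * m * n⁻¹)
      (mul_mem (mul_mem (hKM hn) hm) (inv_mem (hKM hn)))
    refine ⟨n⁻¹ * e * n, ⟨e, he, by simp⟩, n⁻¹ * k * n, mul_mem (mul_mem (inv_mem hn) hk) hn, ?_⟩
    have : m = n⁻¹ * (n * m * n⁻¹) * n := by group
    rw [this, hmk]; group
  · intro a ha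
    have : n * a * n⁻¹ ∈ (K ⊔ A) ⊓ E := by
      rw [hBn]; exact ⟨a, ha, by simp⟩
    refine ⟨n * a * n⁻¹, this.2, ?_⟩
    simp only [MulEquiv.coe_toMonoidHom, MulAut.conj_apply, inv_inv]
    group

/-- A `p`-subgroup of the Fitting subgroup lies in `O_p`. -/
theorem isPGroup_le_pCore_of_le_fitting {H : Type*} [Group H] [Finite H] {p : ℕ} [Fact p.Prime]
    {Q : Subgroup H} (hQ : IsPGroup p Q) (hQF : Q ≤ Cfsg.fittingSubgroup H) :
    Q ≤ Cfsg.pCore p H := by
  haveI hnil : Group.IsNilpotent (Cfsg.fittingSubgroup H) := Helper22.isNilpotent_fittingSubgroup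
  have hQ' : IsPGroup p (Q.subgroupOf (Cfsg.fittingSubgroup H)) := hQ.comap_subtype
  obtain ⟨S, hS⟩ := hQ'.exists_le_sylow
  have hSn : (S : Subgroup (Cfsg.fittingSubgroup H)).Normal := inferInstance
  haveI := Sylow.characteristic_of_normal S hSn
  have hn : ((S : Subgroup (Cfsg.fittingSubgroup H)).map (Cfsg.fittingSubgroup H).subtype).Normal :=
    inferInstance
  have hle : (S : Subgroup (Cfsg.fittingSubgroup H)).map (Cfsg.fittingSubgroup H).subtype ≤
      Cfsg.pCore p H := Helper22.le_pCore hn (S.2.map _)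
  intro x hx
  apply hle
  refine ⟨⟨x, hQF hx⟩, hS ?_, rfl⟩
  rw [mem_subgroupOf]
  exact hx

/-- If `K ∩ C(A1) = 1` with `|A1| = p` then `K ∩ C(x) = 1` for every `x ∈ A1` with `x ≠ 1`. -/
theorem inf_centralizer_singleton_eq_bot {K A1 : Subgroup G} {p : ℕ} [Fact p.Prime]
    (hc : Nat.card A1 = p) (h : K ⊓ centralizer (A1 : Set G) = ⊥) {x : G} (hx : x ∈ A1)
    (hx1 : x ≠ 1) : K ⊓ centralizer ({x} : Set G) = ⊥ := by
  rw [eq_bot_iff, ← h]
  refine le_inf inf_le_left ?_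
  intro g hg
  have hgx : x * g = g * x := (mem_centralizer_iff.mp hg.2) x (Set.mem_singleton x)
  rw [mem_centralizer_iff]
  intro h hh
  have htop : zpowers (⟨x, hx⟩ : A1) = ⊤ :=
    zpowers_eq_top_of_prime_card hc (by intro h0; exact hx1 (congrArg Subtype.val h0))
  have hmem : (⟨h, hh⟩ : A1) ∈ zpowers (⟨x, hx⟩ : A1) := by rw [htop]; trivial
  obtain ⟨n, hn⟩ := mem_zpowers_iff.mp hmem
  have hn' : x ^ n = h := by
    have := congrArg Subtype.val hn
    simpa using this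
  rw [← hn']
  exact (Commute.zpow_left (show Commute x g from hgx) n).eq

/-- A subgroup of `A` (of order `p ^ 2`) containing two distinct subgroups of order `p` is `A`. -/
theorem eq_of_two_lines [Finite G] {A A1 A2 D : Subgroup G} {p : ℕ} [hp : Fact p.Prime]
    (hA : Nat.card A = p ^ 2) (h1 : Nat.card A1 = p) (h2 : Nat.card A2 = p) (hne : A1 ≠ A2)
    (h1D : A1 ≤ D) (h2D : A2 ≤ D) (hDA : D ≤ A) : D = A := by
  have hdvd : Nat.card D ∣ p ^ 2 := hA ▸ Subgroup.card_dvd_of_le hDA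
  obtain ⟨k, hk, hkc⟩ := (Nat.dvd_prime_pow hp.out).mp hdvd
  have hp1 : p ∣ Nat.card D := h1 ▸ Subgroup.card_dvd_of_le h1D
  interval_cases k
  · rw [hkc, pow_zero] at hp1
    exact absurd (Nat.le_of_dvd one_pos hp1) (by have := hp.out.two_le; omega)
  · have e1 : A1 = D := Subgroup.eq_of_le_of_card_ge h1D (by rw [hkc, h1, pow_one])
    have e2 : A2 = D := Subgroup.eq_of_le_of_card_ge h2D (by rw [hkc, h2, pow_one])
    exact absurd (e1.trans e2.symm) hne
  · exact Subgroup.eq_of_le_of_card_ge hDA (by rw [hkc, hA])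

/-- `A` centralizes `O_p(E)` when the Sylow `p`-subgroups of `M` are abelian. -/
theorem comm_of_pCoreOf_p [Finite G] {M E A : Subgroup G} {p : ℕ} [Fact p.Prime]
    (hEM : E ≤ M) (hAE : A ≤ E) (hAp : IsPGroup p A)
    (hsyl : ∀ P : Sylow p M, IsMulCommutative (P : Subgroup M)) :
    ∀ u ∈ Cfsg.pCoreOf p E, ∀ a ∈ A, a * u = u * a := by
  intro u hu a ha
  have hRE : Cfsg.pCoreOf p E ≤ E := by rintro _ ⟨v, -, rfl⟩; exact v.2
  have hRp : IsPGroup p (Cfsg.pCoreOf p E) := (Helper22.isPGroup_pCore p).map _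
  have hAR : A ≤ normalizer (Cfsg.pCoreOf p E : Set G) :=
    hAE.trans (Cfsg.Agent.Helper55.BGB.le_normalizer_map_subtype E (Cfsg.pCore p E))
  have hRA : IsPGroup p ↥(A ⊔ Cfsg.pCoreOf p E) := IsPGroup.to_sup_of_normal_right' hAp hRp hAR
  have hle : A ⊔ Cfsg.pCoreOf p E ≤ M := sup_le (hAE.trans hEM) (hRE.trans hEM)
  have hQ : IsPGroup p ((A ⊔ Cfsg.pCoreOf p E).subgroupOf M) := hRA.comap_subtype
  obtain ⟨P, hP⟩ := hQ.exists_le_sylow
  have hc := hsyl P
  have hu' : (⟨u, hle (mem_sup_right hu)⟩ : M) ∈ (P : Subgroup M) :=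
    hP (by rw [mem_subgroupOf]; exact mem_sup_right hu)
  have ha' : (⟨a, hle (mem_sup_left ha)⟩ : M) ∈ (P : Subgroup M) :=
    hP (by rw [mem_subgroupOf]; exact mem_sup_left ha)
  have := hc.is_comm.comm ⟨_, ha'⟩ ⟨_, hu'⟩
  have h2 := congrArg (fun z : (P : Subgroup M) => ((z : M) : G)) this
  simpa using h2

/-- The form of (W1) used below. -/
def W1Stmt (G : Type*) [Group G] (p : ℕ) : Prop :=
  ∀ {r : ℕ}, p.Prime → r.Prime → p ≠ r → r ≠ 2 → ∀ (K R : Subgroup G) (x : G),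
    Group.IsNilpotent K → R ≤ normalizer (K : Set G) → x ∈ normalizer (K : Set G) →
    IsPGroup r R → x ^ p = 1 → (∀ u ∈ R, x * u * x⁻¹ ∈ R) → ¬ r ∣ Nat.card K →
    ¬ p ∣ Nat.card K → K ⊓ centralizer ({x} : Set G) = ⊥ →
    ∀ u ∈ R, x * u * x⁻¹ * u⁻¹ ∈ centralizer (K : Set G)

/-- An element `x ∈ A` acting fixed-point-freely on `K` centralizes `O_r(E)`. -/
theorem comm_of_w1 [Finite G] {M K E A : Subgroup G} {p r : ℕ} (hp : p.Prime) (hr : r.Prime)
    (hpr : p ≠ r) (hr2 : r ≠ 2) (hMK : M ≤ normalizer (K : Set G)) (hEM : E ≤ M)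
    (hfac : ∀ m ∈ M, ∃ e ∈ E, ∃ k ∈ K, m = e * k) (hAE : A ≤ E)
    (hKnil : Group.IsNilpotent K) (hcr : ¬ r ∣ Nat.card K) (hcp : ¬ p ∣ Nat.card K)
    (hcent : A ≤ centralizer (Cfsg.pCoreOf r M : Set G)) (hW1 : W1Stmt G p)
    (x : G) (hxA : x ∈ A) (hxp : x ^ p = 1) (hfix : K ⊓ centralizer ({x} : Set G) = ⊥) :
    ∀ u ∈ Cfsg.pCoreOf r E, u * x = x * u := by
  intro u hu
  haveI := Fact.mk hr
  have hRE : Cfsg.pCoreOf r E ≤ E := by rintro _ ⟨v, -, rfl⟩; exact v.2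
  have hRp : IsPGroup r (Cfsg.pCoreOf r E) := (Helper22.isPGroup_pCore r).map _
  have hER : E ≤ normalizer (Cfsg.pCoreOf r E : Set G) :=
    Cfsg.Agent.Helper55.BGB.le_normalizer_map_subtype E (Cfsg.pCore r E)
  have hxR : ∀ v ∈ Cfsg.pCoreOf r E, x * v * x⁻¹ ∈ Cfsg.pCoreOf r E :=
    fun v hv => (mem_normalizer_iff.mp (hER (hAE hxA)) v).mp hv
  have hw := hW1 hp hr hpr hr2 K (Cfsg.pCoreOf r E) x hKnil ((hRE.trans hEM).trans hMK)
    (hMK (hEM (hAE hxA))) hRp hxp hxR hcr hcp hfix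
  -- `C := R ⊓ C(K)` is a normal `r`-subgroup of `M`
  have hCM : Cfsg.pCoreOf r E ⊓ centralizer (K : Set G) ≤ M := inf_le_left.trans (hRE.trans hEM)
  have hMcK : M ≤ normalizer (centralizer (K : Set G) : Set G) := by
    intro m hm
    rw [mem_normalizer_iff]
    intro c
    have hmK := mem_normalizer_iff.mp (hMK hm)
    have hmK' := mem_normalizer_iff.mp (hMK (inv_mem hm))
    constructor
    · intro hc
      rw [mem_centralizer_iff] at hc ⊢
      intro k hk
      have hk' : m⁻¹ * k * m⁻¹⁻¹ ∈ K := (hmK' k).mp hk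
      have := hc _ hk'
      calc k * (m * c * m⁻¹) = m * ((m⁻¹ * k * m⁻¹⁻¹) * c) * m⁻¹ := by group
        _ = m * (c * (m⁻¹ * k * m⁻¹⁻¹)) * m⁻¹ := by rw [this]
        _ = m * c * m⁻¹ * k := by group
    · intro hc
      rw [mem_centralizer_iff] at hc ⊢
      intro k hk
      have hk' : m * k * m⁻¹ ∈ K := (hmK k).mp hk
      have := hc _ hk'
      calc k * c = m⁻¹ * ((m * k * m⁻¹) * (m * c * m⁻¹)) * m := by group
        _ = m⁻¹ * ((m * c * m⁻¹) * (m * k * m⁻¹)) * m := by rw [this]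
        _ = c * k := by group
  have hMC : M ≤ normalizer ((Cfsg.pCoreOf r E ⊓ centralizer (K : Set G) : Subgroup G) : Set G) := by
    intro m hm
    obtain ⟨e, he, k, hk, rfl⟩ := hfac m hm
    apply mul_mem
    · rw [mem_normalizer_iff]
      intro c
      have h1 := mem_normalizer_iff.mp (hER he) c
      have h2 := mem_normalizer_iff.mp (hMcK (hEM he)) c
      rw [mem_inf, mem_inf, h1, h2]
    · apply Subgroup.centralizer_le_normalizer
      exact (Subgroup.le_centralizer_iff.mp (inf_le_right :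
        Cfsg.pCoreOf r E ⊓ centralizer (K : Set G) ≤ centralizer (K : Set G))) hk
  have hCn : ((Cfsg.pCoreOf r E ⊓ centralizer (K : Set G)).subgroupOf M).Normal :=
    normal_subgroupOf_of_le_normalizer hMC
  have hCp : IsPGroup r ((Cfsg.pCoreOf r E ⊓ centralizer (K : Set G)).subgroupOf M) :=
    (hRp.to_le inf_le_left).comap_subtype
  have hCle := Helper22.le_pCore hCn hCp
  have hCO : Cfsg.pCoreOf r E ⊓ centralizer (K : Set G) ≤ Cfsg.pCoreOf r M := by
    intro c hc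
    exact ⟨⟨c, hCM hc⟩, hCle (by rw [mem_subgroupOf]; exact hc), rfl⟩
  -- the commutator
  have hzR : u * x * u⁻¹ * x⁻¹ ∈ Cfsg.pCoreOf r E := by
    have : u * x * u⁻¹ * x⁻¹ = u * (x * u⁻¹ * x⁻¹) := by group
    rw [this]
    exact mul_mem hu (hxR _ (inv_mem hu))
  have hzK : u * x * u⁻¹ * x⁻¹ ∈ centralizer (K : Set G) := by
    have : u * x * u⁻¹ * x⁻¹ = (x * u * x⁻¹ * u⁻¹)⁻¹ := by group
    rw [this]
    exact inv_mem (hw u hu)
  have hzO : u * x * u⁻¹ * x⁻¹ ∈ Cfsg.pCoreOf r M := hCO ⟨hzR, hzK⟩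
  have hzx : (u * x * u⁻¹ * x⁻¹) * x = x * (u * x * u⁻¹ * x⁻¹) :=
    (mem_centralizer_iff.mp (hcent hxA)) _ hzO
  obtain ⟨n, hn⟩ := IsPGroup.iff_card.mp hRp
  have hcop : p.Coprime (Nat.card (Cfsg.pCoreOf r E)) := by
    rw [hn]
    exact Nat.Coprime.pow_right n ((Nat.coprime_primes hp hr).mpr hpr)
  exact Cfsg.Agent.Helper24.commute_of_comm_commute_of_coprime (Cfsg.pCoreOf r E) u x hzR hzx p hxp
    hcop

end General

section Main

variable {G : Type u} [Group G] [Finite G] {M A A0 : Subgroup G} {p : ℕ}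

/-- **B-G 11.7, reduction (W2)**, with (W1) as a hypothesis. -/
theorem c_of_cent_of (hG : Cfsg.IsMinSimpleOddOrder G) (hE : Exc M p A A0)
    (hnil : Group.IsNilpotent (Cfsg.sigmaCore M))
    (hsyl : ∀ P : Sylow p M, IsMulCommutative (P : Subgroup M) ∧
      (A ≤ (P : Subgroup M).map M.subtype →
        ∀ x ∈ (P : Subgroup M).map M.subtype, x ^ p = 1 → x ∈ A))
    (hfpf : ∃ A1 A2 : Subgroup G, A1 ≤ A ∧ A2 ≤ A ∧ Nat.card A1 = p ∧ Nat.card A2 = p ∧ A1 ≠ A2 ∧
      Cfsg.sigmaCore M ⊓ centralizer (A1 : Set G) = ⊥ ∧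
      Cfsg.sigmaCore M ⊓ centralizer (A2 : Set G) = ⊥)
    (hcent : ∀ r : ℕ, r.Prime → r ≠ p → r ∉ Cfsg.sigma M →
      A ≤ centralizer (Cfsg.pCoreOf r M : Set G))
    (hW1 : W1Stmt G p) :
    M ≤ normalizer ((Cfsg.sigmaCore M ⊔ A : Subgroup G) : Set G) := by
  classical
  haveI := hE.fact
  have hp := hE.prime
  obtain ⟨hHall, -, -⟩ := Cfsg.Agent.S1350.result hG M hE.coatom
  have hKM : Cfsg.sigmaCore M ≤ M := Cfsg.Agent.Helper55.BGB.sigmaCore_le M
  have hMK : M ≤ normalizer (Cfsg.sigmaCore M : Set G) :=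
    Cfsg.Agent.Helper55.BGB.le_normalizer_sigmaCore M
  have hMsolv : Group.IsSolvable M := hG.2.2.2 M hE.coatom.1
  have hKsolv : Group.IsSolvable (Cfsg.sigmaCore M) :=
    Group.isSolvable_of_isSolvable_injective (Subgroup.inclusion_injective hKM)
  have hpK : ¬ p ∣ Nat.card (Cfsg.sigmaCore M) := fun h => hE.not_sigma (hHall.2.1 p hp h)
  have hAp : IsPGroup p A := by
    intro a
    refine ⟨1, ?_⟩
    apply Subtype.ext
    simpa using hE.elem.2 a a.2
  have hcop : (Nat.card (Cfsg.sigmaCore M)).Coprime (Nat.card A) := by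
    rw [hE.card]
    exact Nat.Coprime.pow_right 2 ((Nat.Prime.coprime_iff_not_dvd hp).mpr hpK).symm
  obtain ⟨E0, hE0⟩ := Cfsg.Agent.Helper55.BGB.exists_compl_sigmaCore hHall
  obtain ⟨E, hEc, hAE⟩ := exists_compl_ge E0 hE0 hMK hE.le (Or.inl hKsolv) hcop
  obtain ⟨hEM, -, hEK, hfac⟩ := hEc
  -- `A` centralizes every `O_r(E)`
  have hC : ∀ r : ℕ, r.Prime → ∀ u ∈ Cfsg.pCoreOf r E, ∀ a ∈ A, a * u = u * a := by
    intro r hr u hu a ha
    haveI := Fact.mk hr
    have hRE : Cfsg.pCoreOf r E ≤ E := by rintro _ ⟨v, -, rfl⟩; exact v.2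
    have hRp : IsPGroup r (Cfsg.pCoreOf r E) := (Helper22.isPGroup_pCore r).map _
    by_cases hrp : r = p
    · subst hrp
      exact comm_of_pCoreOf_p hEM hAE hAp (fun P => (hsyl P).1) u hu a ha
    by_cases hrσ : r ∈ Cfsg.sigma M
    · have hRK : Cfsg.pCoreOf r E ≤ Cfsg.sigmaCore M :=
        Cfsg.Agent.Helper55.BGB.le_sigmaCore_of_isPGroup hr hHall hrσ (hRE.trans hEM) hRp
      have : u ∈ E ⊓ Cfsg.sigmaCore M := ⟨hRE hu, hRK hu⟩
      rw [hEK, mem_bot] at this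
      rw [this]; simp
    by_cases hr2 : r = 2
    · subst hr2
      obtain ⟨k, hk⟩ := hRp ⟨u, hu⟩
      have huk : u ^ 2 ^ k = 1 := by
        have := congrArg Subtype.val hk
        simpa using this
      have ho1 : orderOf u ∣ 2 ^ k := orderOf_dvd_of_pow_eq_one huk
      have ho2 : orderOf u ∣ Nat.card G := orderOf_dvd_natCard u
      have hodd : (2 ^ k).Coprime (Nat.card G) := by
        apply Nat.Coprime.pow_left
        exact (Nat.coprime_two_left).mpr hG.1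
      have ho : orderOf u = 1 := Nat.eq_one_of_dvd_coprimes hodd ho1 ho2
      rw [orderOf_eq_one_iff.mp ho]; simp
    have hcr : ¬ r ∣ Nat.card (Cfsg.sigmaCore M) := fun h => hrσ (hHall.2.1 r hr h)
    have hcA := hcent r hr hrp hrσ
    obtain ⟨A1, A2, h1A, h2A, hc1, hc2, hne, hf1, hf2⟩ := hfpf
    have key : ∀ (B : Subgroup G), B ≤ A → Nat.card B = p →
        Cfsg.sigmaCore M ⊓ centralizer (B : Set G) = ⊥ →
        B ≤ A ⊓ centralizer ({u} : Set G) := by
      intro B hBA hcB hfB x hx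
      refine ⟨hBA hx, ?_⟩
      show x ∈ centralizer ({u} : Set G)
      rw [mem_centralizer_iff]
      intro h hh
      rw [Set.mem_singleton_iff] at hh
      rw [hh]
      by_cases hx1 : x = 1
      · rw [hx1]; simp
      · have hfix := inf_centralizer_singleton_eq_bot hcB hfB hx hx1
        exact comm_of_w1 hp hr (Ne.symm hrp) hr2 hMK hEM hfac hAE hnil hcr hpK hcA hW1 x (hBA hx)
          (hE.elem.2 x (hBA hx)) hfix u hu
    have hD := eq_of_two_lines hE.card hc1 hc2 hne (key A1 h1A hc1 hf1) (key A2 h2A hc2 hf2)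
      inf_le_left
    have haD : a ∈ A ⊓ centralizer ({u} : Set G) := by rw [hD]; exact ha
    exact ((mem_centralizer_iff.mp haD.2) u (Set.mem_singleton u)).symm
  -- `A ≤ O_p(E)`
  haveI hEsolv : Group.IsSolvable E :=
    Group.isSolvable_of_isSolvable_injective (Subgroup.inclusion_injective hEM)
  have hAF : A.subgroupOf E ≤ centralizer (Cfsg.fittingSubgroup E : Set E) := by
    rw [Subgroup.le_centralizer_iff, Helper22.fittingSubgroup_eq_iSup_pCore]
    apply iSup_le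
    rintro ⟨r, hr⟩
    intro v hv
    rw [mem_centralizer_iff]
    intro a' ha'
    apply Subtype.ext
    have := hC r hr (v : G) ⟨v, hv, rfl⟩ (a' : G) (by rw [SetLike.mem_coe, mem_subgroupOf] at ha'; exact ha')
    simpa using this
  have hAF' : A.subgroupOf E ≤ Cfsg.fittingSubgroup E :=
    hAF.trans Cfsg.Agent.Helper94.centralizer_fitting_le
  have hAO' : A.subgroupOf E ≤ Cfsg.pCore p E :=
    isPGroup_le_pCore_of_le_fitting hAp.comap_subtype hAF'
  have hAO : A ≤ Cfsg.pCoreOf p E := by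
    intro a ha
    exact ⟨⟨a, hAE ha⟩, hAO' (by rw [mem_subgroupOf]; exact ha), rfl⟩
  have hOE : Cfsg.pCoreOf p E ≤ E := by rintro _ ⟨v, -, rfl⟩; exact v.2
  have hOp : IsPGroup p (Cfsg.pCoreOf p E) := (Helper22.isPGroup_pCore p).map _
  obtain ⟨P, hP⟩ := (hOp.comap_subtype (K := M)).exists_le_sylow
  have hOP : Cfsg.pCoreOf p E ≤ (P : Subgroup M).map M.subtype := by
    intro x hx
    exact ⟨⟨x, hEM (hOE hx)⟩, hP (Subgroup.mem_comap.mpr hx), rfl⟩
  have hEO : E ≤ normalizer (Cfsg.pCoreOf p E : Set G) :=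
    Cfsg.Agent.Helper55.BGB.le_normalizer_map_subtype E (Cfsg.pCore p E)
  have hconj : ∀ e ∈ E, ∀ a ∈ A, e * a * e⁻¹ ∈ A := by
    intro e he a ha
    apply (hsyl P).2 (hAO.trans hOP) _ (hOP ((mem_normalizer_iff.mp (hEO he) a).mp (hAO ha)))
    rw [conj_pow, hE.elem.2 a ha]; simp
  have hEA : E ≤ normalizer (A : Set G) := by
    intro e he
    rw [mem_normalizer_iff]
    intro h
    constructor
    · exact hconj e he h
    · intro hh
      have := hconj e⁻¹ (inv_mem he) _ hh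
      simpa [mul_assoc] using this
  intro m hm
  obtain ⟨e, he, k, hk, rfl⟩ := hfac m hm
  apply mul_mem
  · exact Helper22.normalizer_inf_le_normalizer_sup _ _ ⟨hMK (hEM he), hEA he⟩
  · exact le_normalizer (mem_sup_left hk)

/-- **B-G 11.7, reduction (W2)**: if `A` centralizes every `O_r(M)` (`r ≠ p`, `r ∉ σ(M)`), then
`M` normalizes `M_σ A`. -/
theorem c_of_cent (hG : Cfsg.IsMinSimpleOddOrder G) (hE : Exc M p A A0)
    (hnil : Group.IsNilpotent (Cfsg.sigmaCore M))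
    (hsyl : ∀ P : Sylow p M, IsMulCommutative (P : Subgroup M) ∧
      (A ≤ (P : Subgroup M).map M.subtype →
        ∀ x ∈ (P : Subgroup M).map M.subtype, x ^ p = 1 → x ∈ A))
    (hfpf : ∃ A1 A2 : Subgroup G, A1 ≤ A ∧ A2 ≤ A ∧ Nat.card A1 = p ∧ Nat.card A2 = p ∧ A1 ≠ A2 ∧
      Cfsg.sigmaCore M ⊓ centralizer (A1 : Set G) = ⊥ ∧
      Cfsg.sigmaCore M ⊓ centralizer (A2 : Set G) = ⊥)
    (hcent : ∀ r : ℕ, r.Prime → r ≠ p → r ∉ Cfsg.sigma M →
      A ≤ centralizer (Cfsg.pCoreOf r M : Set G)) :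
    M ≤ normalizer ((Cfsg.sigmaCore M ⊔ A : Subgroup G) : Set G) :=
  c_of_cent_of hG hE hnil hsyl hfpf hcent
    (fun hp hr hpr hr2 K R x =>
      Cfsg.Agent.Helper58.BG11.fpf_comm_centralizes hp hr hpr hr2 K R x)

end Main

end Cfsg.Agent.Helper22.BG11
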