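import Mathlib
import Cfsg.Prelude.Def_Local
import Cfsg.Agent.Lib.Helper52.CoprimeSylow
import Cfsg.Agent.Lib.Helper48.CoprimeGen
import Cfsg.Agent.Lib.Helper1.Coprime
import Cfsg.Agent.Lib.Helper10.ProdCard
import Cfsg.Agent.Lib.Helper22.Radical

set_option autoImplicit false

namespace Cfsg.Agent.Helper22

open Subgroup Cfsg
open scoped Pointwise
open Cfsg.Agent.Helper52 (sylCard mem_map_conj card_map_conj)

section Factorization

variable {H : Type*} [Group H]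

/-- If `Y` normalizes `X`, every element of `X ⊔ Y` is a product `x * y`. -/
theorem exists_mul_of_mem_sup_normalizer {X Y : Subgroup H} (h : Y ≤ normalizer (X : Set H))
    {g : H} (hg : g ∈ X ⊔ Y) : ∃ x ∈ X, ∃ y ∈ Y, g = x * y := by
  rw [sup_eq_closure] at hg
  induction hg using closure_induction with
  | mem g hg =>
    rcases hg with hg | hg
    · exact ⟨g, hg, 1, Y.one_mem, by simp⟩
    · exact ⟨1, X.one_mem, g, hg, by simp⟩
  | one => exact ⟨1, X.one_mem, 1, Y.one_mem, by simp⟩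
  | mul a b _ _ iha ihb =>
    obtain ⟨x1, hx1, y1, hy1, rfl⟩ := iha
    obtain ⟨x2, hx2, y2, hy2, rfl⟩ := ihb
    refine ⟨x1 * (y1 * x2 * y1⁻¹), X.mul_mem hx1 ((mem_normalizer_iff.1 (h hy1) x2).1 hx2),
      y1 * y2, Y.mul_mem hy1 hy2, by group⟩
  | inv a _ iha =>
    obtain ⟨x, hx, y, hy, rfl⟩ := iha
    refine ⟨y⁻¹ * x⁻¹ * y⁻¹⁻¹, (mem_normalizer_iff.1 (h (Y.inv_mem hy)) x⁻¹).1 (X.inv_mem hx),
      y⁻¹, Y.inv_mem hy, by group⟩

/-- In a finite `q`-group `Q`, a proper subgroup is properly contained in its normalizer in `Q`. -/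
theorem exists_mem_normalizer_not_mem [Finite H] {q : ℕ} [Fact q.Prime] {Q R : Subgroup H}
    (hQ : IsPGroup q Q) (hRQ : R ≤ Q) (hne : R ≠ Q) :
    ∃ g ∈ Q, g ∈ normalizer (R : Set H) ∧ g ∉ R := by
  have : Group.IsNilpotent ↥Q := hQ.isNilpotent
  have hlt : R.subgroupOf Q < ⊤ := by
    rw [lt_top_iff_ne_top]
    intro h
    rw [subgroupOf_eq_top] at h
    exact hne (le_antisymm hRQ h)
  have h1 := Group.normalizerCondition_of_isNilpotent (G := ↥Q) (R.subgroupOf Q) hlt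
  obtain ⟨g, hgN, hgR⟩ := SetLike.exists_of_lt h1
  refine ⟨g.1, g.2, ?_, fun h => hgR (mem_subgroupOf.mpr h)⟩
  rw [mem_normalizer_iff] at hgN ⊢
  intro h
  constructor
  · intro hh
    have := (hgN ⟨h, hRQ hh⟩).mp (mem_subgroupOf.mpr hh)
    exact mem_subgroupOf.mp this
  · intro hh
    have hhQ : h ∈ Q := by
      have h2 : g.1 * h * g.1⁻¹ ∈ Q := hRQ hh
      have h3 : h = g.1⁻¹ * (g.1 * h * g.1⁻¹) * g.1 := by group
      rw [h3]
      exact Q.mul_mem (Q.mul_mem (Q.inv_mem g.2) h2) g.2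
    have := (hgN ⟨h, hhQ⟩).mpr (mem_subgroupOf.mpr hh)
    exact mem_subgroupOf.mp this

/-- The factorization lemma for `q`-groups. -/
theorem qgroup_factorization [Finite H] {p : ℕ} [Fact p.Prime] {q : ℕ} [Fact q.Prime]
    (A : Subgroup H) (hAc : ∀ x ∈ A, ∀ y ∈ A, x * y = y * x) (hAp : ∀ x ∈ A, x ^ p = 1)
    (hA2 : p ^ 2 ≤ Nat.card A) :
    ∀ n : ℕ, ∀ Q X Y : Subgroup H, Nat.card Q = n → IsPGroup q Q → (Nat.card Q).Coprime p →
      A ≤ normalizer (Q : Set H) → X ≤ Q → Y ≤ Q → A ≤ normalizer (X : Set H) →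
      A ≤ normalizer (Y : Set H) →
      (∀ a ∈ A, a ≠ 1 → ∀ g ∈ Q ⊓ centralizer {a},
        ∃ x ∈ X ⊓ centralizer {a}, ∃ y ∈ Y ⊓ centralizer {a}, g = x * y) →
      ∀ g ∈ Q, ∃ x ∈ X, ∃ y ∈ Y, g = x * y := by
  intro n
  induction n using Nat.strong_induction_on with
  | _ n ih =>
  intro Q X Y hn hQ hcop hAQ hXQ hYQ hAX hAY hfac
  by_cases hXeq : X = Q
  · intro g hg
    exact ⟨g, hXeq ▸ hg, 1, Y.one_mem, by simp⟩
  let S : Set (Subgroup H) := {R | X ≤ R ∧ R ≤ Q ∧ R ≠ Q ∧ A ≤ normalizer (R : Set H)}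
  obtain ⟨Q₁, hQ₁⟩ := (Set.toFinite S).exists_maximal ⟨X, le_rfl, hXQ, hXeq, hAX⟩
  obtain ⟨⟨hXQ₁, hQ₁Q, hQ₁ne, hAQ₁⟩, hmax⟩ := hQ₁
  have hnorm : Q ≤ normalizer (Q₁ : Set H) := by
    obtain ⟨g, hgQ, hgN, hgR⟩ := exists_mem_normalizer_not_mem hQ hQ₁Q hQ₁ne
    have hQ₁N : Q₁ ≤ Q ⊓ normalizer (Q₁ : Set H) := le_inf hQ₁Q le_normalizer
    have hAN : A ≤ normalizer ((Q ⊓ normalizer (Q₁ : Set H) : Subgroup H) : Set H) :=
      fun a ha => Helper48.mem_normalizer_inf' (hAQ ha)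
        (Helper48.mem_normalizer_normalizer (hAQ₁ ha))
    by_contra hcon
    have hNne : Q ⊓ normalizer (Q₁ : Set H) ≠ Q := fun h => hcon (inf_eq_left.mp h)
    have := hmax (show Q ⊓ normalizer (Q₁ : Set H) ∈ S from
      ⟨hXQ₁.trans hQ₁N, inf_le_left, hNne, hAN⟩) hQ₁N
    exact hgR (this ⟨hgQ, hgN⟩)
  obtain ⟨c, hcA, hc1, hcn⟩ : ∃ c ∈ A, c ≠ 1 ∧ ¬ (Q ⊓ centralizer {c} ≤ Q₁) := by
    by_contra hcon
    push Not at hcon
    have := Helper48.le_of_forall_inf_centralizer_le A Q Q₁ hAc hAp hA2 hAQ hcop hcon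
    exact hQ₁ne (le_antisymm hQ₁Q this)
  have hZn : Q ⊓ centralizer ({c} : Set H) ≤ normalizer (Q₁ : Set H) := inf_le_left.trans hnorm
  have hAZ : A ≤ normalizer ((Q ⊓ centralizer ({c} : Set H) : Subgroup H) : Set H) :=
    fun a ha => Helper48.mem_normalizer_inf' (hAQ ha)
      (Helper48.mem_normalizer_centralizer_singleton (hAc a ha c hcA))
  have hsup : Q₁ ⊔ (Q ⊓ centralizer ({c} : Set H)) = Q := by
    by_contra hne
    have hA' : A ≤ normalizer ((Q₁ ⊔ (Q ⊓ centralizer ({c} : Set H)) : Subgroup H) : Set H) :=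
      fun a ha => normalizer_inf_le_normalizer_sup _ _ ⟨hAQ₁ ha, hAZ ha⟩
    have := hmax (show Q₁ ⊔ (Q ⊓ centralizer ({c} : Set H)) ∈ S from
      ⟨hXQ₁.trans le_sup_left, sup_le hQ₁Q inf_le_left, hne, hA'⟩) le_sup_left
    exact hcn (le_sup_right.trans this)
  have hlt : Nat.card Q₁ < n := by
    rw [← hn]
    exact Helper48.card_lt_of_le_of_ne hQ₁Q hQ₁ne
  have hAYQ₁ : A ≤ normalizer ((Y ⊓ Q₁ : Subgroup H) : Set H) :=
    fun a ha => Helper48.mem_normalizer_inf' (hAY ha) (hAQ₁ ha)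
  have IH := ih (Nat.card Q₁) hlt Q₁ X (Y ⊓ Q₁) rfl (hQ.to_le hQ₁Q)
    (Nat.Coprime.coprime_dvd_left (card_dvd_of_le hQ₁Q) hcop) hAQ₁ hXQ₁ inf_le_right hAX hAYQ₁ ?_
  · intro g hg
    rw [← hsup] at hg
    obtain ⟨q₁, hq₁, z, hz, rfl⟩ := exists_mul_of_mem_sup_normalizer hZn hg
    obtain ⟨xz, hxz, yz, hyz, rfl⟩ := hfac c hcA hc1 z hz
    obtain ⟨x', hx', y', hy', e⟩ := IH (q₁ * xz) (Q₁.mul_mem hq₁ (hXQ₁ (mem_inf.mp hxz).1))
    refine ⟨x', hx', y' * yz, Y.mul_mem (mem_inf.mp hy').1 (mem_inf.mp hyz).1, ?_⟩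
    rw [← mul_assoc, e, mul_assoc]
  · intro a ha ha1 g hg
    obtain ⟨hgQ₁, hga⟩ := mem_inf.mp hg
    obtain ⟨x, hx, y, hy, e⟩ := hfac a ha ha1 g (mem_inf.mpr ⟨hQ₁Q hgQ₁, hga⟩)
    refine ⟨x, hx, y, mem_inf.mpr ⟨mem_inf.mpr ⟨(mem_inf.mp hy).1, ?_⟩, (mem_inf.mp hy).2⟩, e⟩
    have : y = x⁻¹ * g := by rw [e]; group
    rw [this]
    exact Q₁.mul_mem (Q₁.inv_mem (hXQ₁ (mem_inf.mp hx).1)) hgQ₁

/-! ### Fixed points of products (Glauberman) -/

theorem centralizer_factorization [Finite H] {A X Y : Subgroup H} (hAs : Group.IsSolvable ↥A)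
    (hAX : A ≤ normalizer (X : Set H)) (hAY : A ≤ normalizer (Y : Set H))
    (hcop : (Nat.card A).Coprime (Nat.card (X ⊓ Y : Subgroup H)))
    {c x₀ y₀ : H} (hc : c ∈ centralizer (A : Set H)) (hx₀ : x₀ ∈ X) (hy₀ : y₀ ∈ Y)
    (e : c = x₀ * y₀) :
    ∃ x ∈ X ⊓ centralizer (A : Set H), ∃ y ∈ Y ⊓ centralizer (A : Set H), c = x * y := by
  have hAN : A ≤ normalizer ((X ⊓ Y : Subgroup H) : Set H) :=
    fun a ha => Helper48.mem_normalizer_inf' (hAX ha) (hAY ha)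
  have hfix : ∀ a ∈ A, x₀⁻¹ * a * x₀ * a⁻¹ ∈ X ⊓ Y := by
    intro a ha
    have hca : a * c = c * a := mem_centralizer_iff.mp hc a ha
    refine mem_inf.mpr ⟨?_, ?_⟩
    · have h1 : a * x₀ * a⁻¹ ∈ X := (mem_normalizer_iff.mp (hAX ha) x₀).mp hx₀
      have h2 : x₀⁻¹ * a * x₀ * a⁻¹ = x₀⁻¹ * (a * x₀ * a⁻¹) := by group
      rw [h2]
      exact X.mul_mem (X.inv_mem hx₀) h1
    · have h1 : a * y₀⁻¹ * a⁻¹ ∈ Y := (mem_normalizer_iff.mp (hAY ha) y₀⁻¹).mp (Y.inv_mem hy₀)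
      have hx : x₀ = c * y₀⁻¹ := by rw [e]; group
      have h2 : x₀⁻¹ * a * x₀ * a⁻¹ = y₀ * (a * y₀⁻¹ * a⁻¹) := by
        calc x₀⁻¹ * a * x₀ * a⁻¹ = y₀ * c⁻¹ * (a * c) * y₀⁻¹ * a⁻¹ := by rw [hx]; group
          _ = y₀ * c⁻¹ * (c * a) * y₀⁻¹ * a⁻¹ := by rw [hca]
          _ = y₀ * (a * y₀⁻¹ * a⁻¹) := by group
      rw [h2]
      exact Y.mul_mem hy₀ h1
  obtain ⟨c', hc', hc'N⟩ := Helper1.exists_mem_centralizer_of_coset_fixed A (X ⊓ Y) hAN hcop
    (Or.inl hAs) x₀ hfix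
  have hc'X : c' ∈ X := by
    have : c' = x₀ * (x₀⁻¹ * c') := by group
    rw [this]
    exact X.mul_mem hx₀ (mem_inf.mp hc'N).1
  have hyY : c'⁻¹ * c ∈ Y := by
    have : c'⁻¹ * c = (x₀⁻¹ * c')⁻¹ * y₀ := by rw [e]; group
    rw [this]
    exact Y.mul_mem (Y.inv_mem (mem_inf.mp hc'N).2) hy₀
  refine ⟨c', mem_inf.mpr ⟨hc'X, hc'⟩, c'⁻¹ * c,
    mem_inf.mpr ⟨hyY, mul_mem (inv_mem hc') hc⟩, by group⟩

/-! ### Sylow subgroups of centralizers -/

theorem card_le_sylCard' [Finite H] {q : ℕ} [Fact q.Prime] {U L : Subgroup H} (hUL : U ≤ L)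
    (hU : IsPGroup q U) : Nat.card U ≤ sylCard q L := by
  obtain ⟨n, hn⟩ := IsPGroup.iff_card.mp hU
  have hd : q ^ n ∣ Nat.card L := hn ▸ Subgroup.card_dvd_of_le hUL
  rw [hn]
  unfold sylCard
  exact Nat.pow_le_pow_right (Fact.out : q.Prime).pos
    ((Nat.Prime.pow_dvd_iff_le_factorization Fact.out Nat.card_pos.ne').mp hd)

theorem isPGroup_of_card_sylCard {q : ℕ} {S L : Subgroup H} (h : Nat.card S = sylCard q L) :
    IsPGroup q S :=
  IsPGroup.of_card (h : Nat.card S = q ^ (Nat.card L).factorization q)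

theorem card_inf_centralizer_of_invariant_sylow [Finite H] {q : ℕ} [Fact q.Prime]
    {A L S : Subgroup H} (hAc : ∀ x ∈ A, ∀ y ∈ A, x * y = y * x) (hAs : Group.IsSolvable ↥A)
    (hAL : A ≤ normalizer (L : Set H)) (hcop : (Nat.card A).Coprime (Nat.card L)) (hSL : S ≤ L)
    (hSc : Nat.card S = sylCard q L) (hAS : A ≤ normalizer (S : Set H)) {a : H} (ha : a ∈ A) :
    Nat.card (S ⊓ centralizer {a} : Subgroup H) = sylCard q (L ⊓ centralizer {a}) := by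
  have hACa : A ≤ normalizer ((centralizer ({a} : Set H) : Subgroup H) : Set H) :=
    fun b hb => Helper48.mem_normalizer_centralizer_singleton (hAc b hb a ha)
  have hALa : A ≤ normalizer ((L ⊓ centralizer {a} : Subgroup H) : Set H) :=
    fun b hb => Helper48.mem_normalizer_inf' (hAL hb) (hACa hb)
  have hcopa : (Nat.card A).Coprime (Nat.card (L ⊓ centralizer {a} : Subgroup H)) :=
    Nat.Coprime.coprime_dvd_right (card_dvd_of_le inf_le_left) hcop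
  obtain ⟨R, hRLa, hRc, hAR⟩ := Helper52.exists_invariant_sylow A (L ⊓ centralizer {a}) hALa
    hcopa (Or.inl hAs) q
  have hRq : IsPGroup q R := isPGroup_of_card_sylCard hRc
  obtain ⟨S', hS'L, hS'c, hRS', hAS'⟩ := Helper52.exists_invariant_sylow_ge A L hAL hcop
    (Or.inl hAs) q R (hRLa.trans inf_le_left) hRq hAR
  obtain ⟨c, hc, hcS⟩ := Helper52.exists_centralizer_conj_of_invariant A L hAL hcop
    (Or.inl hAs) q S S' hSL hS'L hSc hS'c hAS hAS'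
  have hca : c ∈ centralizer ({a} : Set H) := by
    rw [mem_centralizer_singleton_iff]
    exact (mem_centralizer_iff.mp (mem_inf.mp hc).2 a ha).symm
  have hle : R ≤ conjS c (S ⊓ centralizer {a}) := by
    intro x hx
    have hx1 : x ∈ S' := hRS' hx
    rw [hcS, mem_map_conj] at hx1
    have hx2 : x ∈ centralizer ({a} : Set H) := (mem_inf.mp (hRLa hx)).2
    rw [mem_map_conj]
    exact mem_inf.mpr ⟨hx1, mul_mem (mul_mem (inv_mem hca) hx2) hca⟩
  apply le_antisymm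
  · exact card_le_sylCard' (inf_le_inf_right _ hSL)
      ((isPGroup_of_card_sylCard hSc).to_le inf_le_left)
  · rw [← hRc, ← card_conjS c (S ⊓ centralizer {a})]
    exact Subgroup.card_le_of_le hle

/-! ### The local step of the Sylow reduction -/

theorem sylCard_pos {q : ℕ} [hq : Fact q.Prime] (L : Subgroup H) : 0 < sylCard q L :=
  pow_pos hq.out.pos _

theorem local_factorization [Finite H] {q : ℕ} [Fact q.Prime] {K X Y K' X' Y' C : Subgroup H}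
    (hXK' : X' ≤ K') (hYK' : Y' ≤ K') (hX'X : X' ≤ X) (hY'Y : Y' ≤ Y) (hX'q : IsPGroup q X')
    (hk : Nat.card (K' ⊓ C : Subgroup H) = sylCard q (K ⊓ C))
    (hx : Nat.card (X' ⊓ C : Subgroup H) = sylCard q (X ⊓ C))
    (hy : Nat.card (Y' ⊓ C : Subgroup H) = sylCard q (Y ⊓ C))
    (hfac : ((K ⊓ C : Subgroup H) : Set H) =
      ((X ⊓ C : Subgroup H) : Set H) * ((Y ⊓ C : Subgroup H) : Set H)) :
    ((K' ⊓ C : Subgroup H) : Set H) =
        ((X' ⊓ C : Subgroup H) : Set H) * ((Y' ⊓ C : Subgroup H) : Set H) ∧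
      Nat.card (X' ⊓ Y' ⊓ C : Subgroup H) = sylCard q (X ⊓ Y ⊓ C) := by
  have e1 : Nat.card (K ⊓ C : Subgroup H) * Nat.card (X ⊓ Y ⊓ C : Subgroup H) =
      Nat.card (X ⊓ C : Subgroup H) * Nat.card (Y ⊓ C : Subgroup H) := by
    have h := Helper10.card_set_mul_mul_card_inf (X ⊓ C) (Y ⊓ C)
    rw [← hfac, ← inf_inf_distrib_right] at h
    exact h
  have e1' : sylCard q (K ⊓ C) * sylCard q (X ⊓ Y ⊓ C) =
      sylCard q (X ⊓ C) * sylCard q (Y ⊓ C) := by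
    unfold sylCard
    rw [← Nat.ordProj_mul q Nat.card_pos.ne' Nat.card_pos.ne',
      ← Nat.ordProj_mul q Nat.card_pos.ne' Nat.card_pos.ne', e1]
  have e2 : Nat.card (((X' ⊓ C : Subgroup H) : Set H) * ((Y' ⊓ C : Subgroup H) : Set H) : Set H) *
      Nat.card (X' ⊓ Y' ⊓ C : Subgroup H) =
      Nat.card (X' ⊓ C : Subgroup H) * Nat.card (Y' ⊓ C : Subgroup H) := by
    have h := Helper10.card_set_mul_mul_card_inf (X' ⊓ C) (Y' ⊓ C)
    rw [← inf_inf_distrib_right] at h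
    exact h
  have hsub : ((X' ⊓ C : Subgroup H) : Set H) * ((Y' ⊓ C : Subgroup H) : Set H) ⊆
      ((K' ⊓ C : Subgroup H) : Set H) := by
    rintro _ ⟨x, hx, y, hy, rfl⟩
    exact mul_mem (inf_le_inf_right _ hXK' hx) (inf_le_inf_right _ hYK' hy)
  have hle1 : Nat.card (((X' ⊓ C : Subgroup H) : Set H) * ((Y' ⊓ C : Subgroup H) : Set H) : Set H)
      ≤ sylCard q (K ⊓ C) := by
    rw [← hk]
    exact Nat.card_mono (Set.toFinite _) hsub
  have hle2 : Nat.card (X' ⊓ Y' ⊓ C : Subgroup H) ≤ sylCard q (X ⊓ Y ⊓ C) :=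
    card_le_sylCard' (inf_le_inf_right _ (inf_le_inf hX'X hY'Y))
      (hX'q.to_le (inf_le_left.trans inf_le_left))
  rw [hx, hy, ← e1'] at e2
  have hdpos : 0 < sylCard q (X ⊓ Y ⊓ C) := sylCard_pos _
  have hcpos : 0 < sylCard q (K ⊓ C) := sylCard_pos _
  have ha : Nat.card (((X' ⊓ C : Subgroup H) : Set H) * ((Y' ⊓ C : Subgroup H) : Set H) : Set H)
      = sylCard q (K ⊓ C) := by
    by_contra hne
    have hlt := lt_of_le_of_ne hle1 hne
    have := Nat.mul_lt_mul_of_lt_of_le hlt hle2 hdpos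
    omega
  rw [ha] at e2
  have hb : Nat.card (X' ⊓ Y' ⊓ C : Subgroup H) = sylCard q (X ⊓ Y ⊓ C) :=
    Nat.eq_of_mul_eq_mul_left hcpos e2
  refine ⟨?_, hb⟩
  symm
  apply Set.eq_of_subset_of_ncard_le hsub _ (Set.toFinite _)
  rw [← Nat.card_coe_set_eq, ← Nat.card_coe_set_eq, ha, ← hk]
  exact le_rfl

/-! ### The Sylow reduction -/

theorem sylCard_factorization [Finite H] {p : ℕ} [hp : Fact p.Prime] (A K X Y : Subgroup H)
    (hAc : ∀ x ∈ A, ∀ y ∈ A, x * y = y * x) (hAp : ∀ x ∈ A, x ^ p = 1)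
    (hA2 : p ^ 2 ≤ Nat.card A) (hcopK : (Nat.card A).Coprime (Nat.card K))
    (hKp : (Nat.card K).Coprime p)
    (hAK : A ≤ normalizer (K : Set H)) (hX : X ≤ K) (hY : Y ≤ K)
    (hAX : A ≤ normalizer (X : Set H)) (hAY : A ≤ normalizer (Y : Set H))
    (hfac : ∀ a ∈ A, a ≠ 1 → ((K ⊓ centralizer {a} : Subgroup H) : Set H) =
      ((X ⊓ centralizer {a} : Subgroup H) : Set H) * ((Y ⊓ centralizer {a} : Subgroup H) : Set H))
    (q : ℕ) [Fact q.Prime] :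
    sylCard q K * sylCard q (X ⊓ Y) = sylCard q X * sylCard q Y := by
  have hAs : Group.IsSolvable ↥A :=
    Group.isSolvable_of_comm (fun a b => Subtype.ext (hAc a a.2 b b.2))
  have hcopX : (Nat.card A).Coprime (Nat.card X) :=
    Nat.Coprime.coprime_dvd_right (card_dvd_of_le hX) hcopK
  have hcopY : (Nat.card A).Coprime (Nat.card Y) :=
    Nat.Coprime.coprime_dvd_right (card_dvd_of_le hY) hcopK
  have hcopD : (Nat.card A).Coprime (Nat.card (X ⊓ Y : Subgroup H)) :=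
    Nat.Coprime.coprime_dvd_right (card_dvd_of_le inf_le_left) hcopX
  have hAD : A ≤ normalizer ((X ⊓ Y : Subgroup H) : Set H) :=
    fun a ha => Helper48.mem_normalizer_inf' (hAX ha) (hAY ha)
  obtain ⟨X₀, hX₀X, hX₀c, hAX₀⟩ := Helper52.exists_invariant_sylow A X hAX hcopX (Or.inl hAs) q
  obtain ⟨K₀, hK₀K, hK₀c, hX₀K₀, hAK₀⟩ := Helper52.exists_invariant_sylow_ge A K hAK hcopK
    (Or.inl hAs) q X₀ (hX₀X.trans hX) (isPGroup_of_card_sylCard hX₀c) hAX₀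
  obtain ⟨Y₀, hY₀Y, hY₀c, hAY₀⟩ := Helper52.exists_invariant_sylow A Y hAY hcopY (Or.inl hAs) q
  obtain ⟨K₁, hK₁K, hK₁c, hY₀K₁, hAK₁⟩ := Helper52.exists_invariant_sylow_ge A K hAK hcopK
    (Or.inl hAs) q Y₀ (hY₀Y.trans hY) (isPGroup_of_card_sylCard hY₀c) hAY₀
  obtain ⟨c, hc, hcK⟩ := Helper52.exists_centralizer_conj_of_invariant A K hAK hcopK
    (Or.inl hAs) q K₀ K₁ hK₀K hK₁K hK₀c hK₁c hAK₀ hAK₁
  obtain ⟨_, _, a₀, ha₀A, ha₀1, _⟩ := Helper48.exists_not_mem_zpowers A hAp hA2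
  -- decompose `c⁻¹`
  have hcinv : c⁻¹ ∈ K ⊓ centralizer ({a₀} : Set H) := by
    refine mem_inf.mpr ⟨inv_mem (mem_inf.mp hc).1, inv_mem ?_⟩
    rw [mem_centralizer_singleton_iff]
    exact (mem_centralizer_iff.mp (mem_inf.mp hc).2 a₀ ha₀A).symm
  have hcmul : c⁻¹ ∈ ((X ⊓ centralizer {a₀} : Subgroup H) : Set H) *
      ((Y ⊓ centralizer {a₀} : Subgroup H) : Set H) := by
    rw [← hfac a₀ ha₀A ha₀1]
    exact hcinv
  obtain ⟨x₀, hx₀, y₀, hy₀, e₀⟩ := Set.mem_mul.mp hcmul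
  obtain ⟨x', hx', y', hy', e'⟩ := centralizer_factorization hAs hAX hAY hcopD
    (inv_mem (mem_inf.mp hc).2) (mem_inf.mp hx₀).1 (mem_inf.mp hy₀).1 e₀.symm
  have hce : c = y'⁻¹ * x'⁻¹ := by
    have : c = (c⁻¹)⁻¹ := by group
    rw [this, e']
    group
  -- the conjugated Sylow subgroups
  have hx'X : x' ∈ X := (mem_inf.mp hx').1
  have hx'A : x'⁻¹ ∈ normalizer (A : Set H) :=
    centralizer_le_normalizer _ (inv_mem (mem_inf.mp hx').2)
  have hy'Y : y' ∈ Y := (mem_inf.mp hy').1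
  have hy'A : y' ∈ normalizer (A : Set H) := centralizer_le_normalizer _ (mem_inf.mp hy').2
  have hKK' : conjS y' K₁ = conjS x'⁻¹ K₀ := by
    rw [hcK, hce]
    show conjS y' (conjS (y'⁻¹ * x'⁻¹) K₀) = conjS x'⁻¹ K₀
    rw [conjS_mul, conjS_conjS_inv]
  have hK'K : conjS x'⁻¹ K₀ ≤ K :=
    Helper52.map_conj_le_of_le_normalizer hK₀K (le_normalizer (inv_mem (hX hx'X)))
  have hK'c : Nat.card (conjS x'⁻¹ K₀) = sylCard q K := by rw [card_conjS, hK₀c]
  have hAK' : A ≤ normalizer ((conjS x'⁻¹ K₀ : Subgroup H) : Set H) :=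
    le_normalizer_conjS hx'A hAK₀
  have hX'X : conjS x'⁻¹ X₀ ≤ X :=
    Helper52.map_conj_le_of_le_normalizer hX₀X (le_normalizer (inv_mem hx'X))
  have hX'c : Nat.card (conjS x'⁻¹ X₀) = sylCard q X := by rw [card_conjS, hX₀c]
  have hAX' : A ≤ normalizer ((conjS x'⁻¹ X₀ : Subgroup H) : Set H) :=
    le_normalizer_conjS hx'A hAX₀
  have hX'K' : conjS x'⁻¹ X₀ ≤ conjS x'⁻¹ K₀ := conjS_mono _ hX₀K₀
  have hY'Y : conjS y' Y₀ ≤ Y :=
    Helper52.map_conj_le_of_le_normalizer hY₀Y (le_normalizer hy'Y)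
  have hY'c : Nat.card (conjS y' Y₀) = sylCard q Y := by rw [card_conjS, hY₀c]
  have hAY' : A ≤ normalizer ((conjS y' Y₀ : Subgroup H) : Set H) :=
    le_normalizer_conjS hy'A hAY₀
  have hY'K' : conjS y' Y₀ ≤ conjS x'⁻¹ K₀ := by
    rw [← hKK']
    exact conjS_mono _ hY₀K₁
  set K' := conjS x'⁻¹ K₀ with hK'
  set X' := conjS x'⁻¹ X₀ with hX'
  set Y' := conjS y' Y₀ with hY'
  have hX'q : IsPGroup q X' := isPGroup_of_card_sylCard hX'c
  have hK'q : IsPGroup q K' := isPGroup_of_card_sylCard hK'c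
  -- local analysis
  have hloc : ∀ a ∈ A, a ≠ 1 →
      ((K' ⊓ centralizer {a} : Subgroup H) : Set H) =
        ((X' ⊓ centralizer {a} : Subgroup H) : Set H) * ((Y' ⊓ centralizer {a} : Subgroup H) : Set H) ∧
      Nat.card (X' ⊓ Y' ⊓ centralizer {a} : Subgroup H) = sylCard q (X ⊓ Y ⊓ centralizer {a}) := by
    intro a ha ha1
    exact local_factorization hX'K' hY'K' hX'X hY'Y hX'q
      (card_inf_centralizer_of_invariant_sylow hAc hAs hAK hcopK hK'K hK'c hAK' ha)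
      (card_inf_centralizer_of_invariant_sylow hAc hAs hAX hcopX hX'X hX'c hAX' ha)
      (card_inf_centralizer_of_invariant_sylow hAc hAs hAY hcopY hY'Y hY'c hAY' ha)
      (hfac a ha ha1)
  -- the q-group case
  have hK'cop : (Nat.card K').Coprime p :=
    Nat.Coprime.coprime_dvd_left (card_dvd_of_le hK'K) hKp
  have hprod : ∀ g ∈ K', ∃ x ∈ X', ∃ y ∈ Y', g = x * y := by
    refine qgroup_factorization A hAc hAp hA2 (Nat.card K') K' X' Y' rfl hK'q hK'cop hAK'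
      hX'K' hY'K' hAX' hAY' ?_
    intro a ha ha1 g hg
    have hg' : g ∈ ((K' ⊓ centralizer {a} : Subgroup H) : Set H) := hg
    rw [(hloc a ha ha1).1] at hg'
    obtain ⟨x, hx, y, hy, e⟩ := Set.mem_mul.mp hg'
    exact ⟨x, hx, y, hy, e.symm⟩
  have hset : (K' : Set H) = (X' : Set H) * (Y' : Set H) := by
    ext g
    constructor
    · intro hg
      obtain ⟨x, hx, y, hy, e⟩ := hprod g hg
      exact Set.mem_mul.mpr ⟨x, hx, y, hy, e.symm⟩
    · rintro ⟨x, hx, y, hy, rfl⟩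
      exact mul_mem (hX'K' hx) (hY'K' hy)
  have hcard : Nat.card K' * Nat.card (X' ⊓ Y' : Subgroup H) = Nat.card X' * Nat.card Y' := by
    have h := Helper10.card_set_mul_mul_card_inf X' Y'
    rw [← hset] at h
    exact h
  -- `X' ⊓ Y'` is a Sylow subgroup of `X ⊓ Y`
  have hD'le : X' ⊓ Y' ≤ X ⊓ Y := inf_le_inf hX'X hY'Y
  have hAD' : A ≤ normalizer ((X' ⊓ Y' : Subgroup H) : Set H) :=
    fun a ha => Helper48.mem_normalizer_inf' (hAX' ha) (hAY' ha)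
  obtain ⟨D'', hD''le, hD''c, hD'D'', hAD''⟩ := Helper52.exists_invariant_sylow_ge A (X ⊓ Y) hAD
    hcopD (Or.inl hAs) q (X' ⊓ Y') hD'le (hX'q.to_le inf_le_left) hAD'
  have hD''cop : (Nat.card D'').Coprime p :=
    Nat.Coprime.coprime_dvd_left (card_dvd_of_le (hD''le.trans (inf_le_left.trans hX))) hKp
  have hD''D' : D'' ≤ X' ⊓ Y' := by
    refine Helper48.le_of_forall_inf_centralizer_le A D'' (X' ⊓ Y') hAc hAp hA2 hAD'' hD''cop ?_
    intro a ha ha1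
    have h1 := card_inf_centralizer_of_invariant_sylow hAc hAs hAD hcopD hD''le hD''c hAD'' ha
    have h2 := (hloc a ha ha1).2
    have h3 : X' ⊓ Y' ⊓ centralizer {a} = D'' ⊓ centralizer {a} :=
      Subgroup.eq_of_le_of_card_ge (inf_le_inf_right _ hD'D'') (by rw [h1, h2])
    rw [← h3]
    exact inf_le_left
  have hD'c : Nat.card (X' ⊓ Y' : Subgroup H) = sylCard q (X ⊓ Y) := by
    rw [← hD''c, le_antisymm hD'D'' hD''D']
  rw [← hK'c, ← hD'c, ← hX'c, ← hY'c]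
  exact hcard

/-- **Factorization lemma.** If a noncyclic elementary abelian `p`-group `A` normalizes the
`p'`-group `K` and its subgroups `X`, `Y`, and `C_K(a) = C_X(a) C_Y(a)` for every nonidentity
`a ∈ A`, then `K = X Y`. -/
theorem coprime_factorization [Finite H] {p : ℕ} [hp : Fact p.Prime] (A K X Y : Subgroup H)
    (hA : IsElementaryAbelian p A) (hA2 : p ^ 2 ≤ Nat.card A) (hK : ¬ p ∣ Nat.card K)
    (hAK : A ≤ normalizer (K : Set H)) (hX : X ≤ K) (hY : Y ≤ K)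
    (hAX : A ≤ normalizer (X : Set H)) (hAY : A ≤ normalizer (Y : Set H))
    (hfac : ∀ a ∈ A, a ≠ 1 → ((K ⊓ centralizer {a} : Subgroup H) : Set H) =
      ((X ⊓ centralizer {a} : Subgroup H) : Set H) * ((Y ⊓ centralizer {a} : Subgroup H) : Set H)) :
    (K : Set H) = (X : Set H) * (Y : Set H) := by
  have hAc : ∀ x ∈ A, ∀ y ∈ A, x * y = y * x := fun x hx y hy => by
    have := hA.1.is_comm.comm ⟨x, hx⟩ ⟨y, hy⟩
    exact congrArg Subtype.val this
  have hAp : ∀ x ∈ A, x ^ p = 1 := hA.2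
  have hApg : IsPGroup p A := fun g =>
    ⟨1, by rw [pow_one]; exact Subtype.ext (by simpa using hA.2 g g.2)⟩
  obtain ⟨m, hm⟩ := IsPGroup.iff_card.mp hApg
  have hKp : (Nat.card K).Coprime p := ((Nat.Prime.coprime_iff_not_dvd hp.out).2 hK).symm
  have hcopK : (Nat.card A).Coprime (Nat.card K) := by
    rw [hm]
    exact Nat.Coprime.pow_left m hKp.symm
  have hnum : Nat.card K * Nat.card (X ⊓ Y : Subgroup H) = Nat.card X * Nat.card Y := by
    apply Nat.eq_of_factorization_eq (mul_ne_zero Nat.card_pos.ne' Nat.card_pos.ne')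
      (mul_ne_zero Nat.card_pos.ne' Nat.card_pos.ne')
    intro q
    by_cases hq : q.Prime
    · have : Fact q.Prime := ⟨hq⟩
      have h := sylCard_factorization A K X Y hAc hAp hA2 hcopK hKp hAK hX hY hAX hAY hfac q
      unfold sylCard at h
      rw [← pow_add, ← pow_add] at h
      have h' := Nat.pow_right_injective hq.two_le h
      rw [Nat.factorization_mul Nat.card_pos.ne' Nat.card_pos.ne',
        Nat.factorization_mul Nat.card_pos.ne' Nat.card_pos.ne', Finsupp.add_apply,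
        Finsupp.add_apply]
      exact h'
    · rw [Nat.factorization_eq_zero_of_not_prime _ hq, Nat.factorization_eq_zero_of_not_prime _ hq]
  have hsub : (X : Set H) * (Y : Set H) ⊆ (K : Set H) := by
    rintro _ ⟨x, hx, y, hy, rfl⟩
    exact mul_mem (hX hx) (hY hy)
  have h1 := Helper10.card_set_mul_mul_card_inf X Y
  rw [← hnum] at h1
  have h2 : Nat.card ((X : Set H) * (Y : Set H) : Set H) = Nat.card K :=
    Nat.eq_of_mul_eq_mul_right Nat.card_pos h1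
  symm
  apply Set.eq_of_subset_of_ncard_le hsub _ (Set.toFinite _)
  rw [← Nat.card_coe_set_eq, ← Nat.card_coe_set_eq, h2]
  exact le_rfl

end Factorization

end Cfsg.Agent.Helper22
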