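import Mathlib
import Cfsg.Prelude.Def_OddOrder
import Cfsg.Prelude.Def_OddOrderLocal
import Cfsg.Agent.Lib.Helper52.CoprimeSylow
import Cfsg.Agent.Lib.Helper54.BGTransitivity
import Cfsg.Agent.Lib.Helper67.PiElements
import Cfsg.Agent.Lib.Helper22.Radical

/-!
# B-G 13.8 (tau1 asymmetry), helper96's server: package (AS3a) `exists_moved_sylow`
-/

set_option autoImplicit false
set_option linter.unusedSectionVars false
set_option linter.unusedVariables false
set_option linter.style.haveILetI false

namespace Cfsg.Agent.Helper22.BGAsym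

open Subgroup Cfsg
open Cfsg.Agent.Helper52 (sylCard)

variable {G : Type*} [Group G] [Finite G]

theorem isPi_alphaCore (M : Subgroup G) :
    ∀ r : ℕ, r.Prime → r ∣ Nat.card (alphaCore M) → r ∈ alpha M :=
  Cfsg.Agent.Helper54.isPi_piCoreOf (alpha M) M

theorem le_normalizer_alphaCore' (M : Subgroup G) :
    M ≤ normalizer ((alphaCore M : Subgroup G) : Set G) :=
  Cfsg.Agent.Helper54.le_normalizer_piCoreOf (alpha M) M

/-- a `{w, q}`-group with `w, q ∉ α(M)` has order prime to `|M_α|`. -/
theorem coprime_card_sup_alphaCore {M Q W : Subgroup G} {q w : ℕ} [hq : Fact q.Prime]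
    [hw : Fact w.Prime] (hqα : q ∉ alpha M) (hwα : w ∉ alpha M) (hQ : Nat.card Q = q)
    (hW : IsPGroup w W) (hQW : Q ≤ normalizer (W : Set G)) :
    (Nat.card (W ⊔ Q : Subgroup G)).Coprime (Nat.card (alphaCore M)) := by
  have hd : Nat.card (W ⊔ Q : Subgroup G) ∣ Nat.card Q * Nat.card W := by
    rw [sup_comm]
    exact Cfsg.Agent.Helper22.card_sup_dvd_of_le_normalizer hQW
  refine Nat.Coprime.coprime_dvd_left hd (Nat.Coprime.mul_left ?_ ?_)
  · rw [hQ]
    exact (Nat.Prime.coprime_iff_not_dvd hq.out).mpr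
      (fun hd => hqα (isPi_alphaCore M q hq.out hd))
  · obtain ⟨n, hn⟩ := IsPGroup.iff_card.mp hW
    rw [hn]
    apply Nat.Coprime.pow_left
    exact (Nat.Prime.coprime_iff_not_dvd hw.out).mpr
      (fun hd => hwα (isPi_alphaCore M w hw.out hd))

/-- (3a) some `WQ`-invariant Sylow `t`-subgroup `St` of `M_α` is not centralized by `W`. -/
theorem exists_moved_sylow (hG : IsMinSimpleOddOrder G) {M H Q W : Subgroup G} {q w : ℕ}
    [Fact q.Prime] [Fact w.Prime] (hM : IsCoatom M) (hH : IsCoatom H) (hne : M ≠ H)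
    (hqα : q ∉ alpha M) (hwα : w ∉ alpha M)
    (hQ : Nat.card Q = q) (hQI : Q ≤ M ⊓ H) (hW : IsPGroup w W) (hWI : W ≤ M ⊓ H)
    (hQW : Q ≤ normalizer (W : Set G)) (hN : normalizer (W : Set G) ≤ H)
    (hfac : M ≤ alphaCore M ⊔ (M ⊓ H)) :
    ∃ (t : ℕ) (St : Subgroup G), t ∈ alpha M ∧ St ≤ alphaCore M ∧
      Nat.card St = sylCard t (alphaCore M) ∧ W ≤ normalizer (St : Set G) ∧
      Q ≤ normalizer (St : Set G) ∧ ¬ St ≤ centralizer (W : Set G) := by
  classical
  by_contra hcon
  push Not at hcon
  have hWM : W ≤ M := hWI.trans inf_le_left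
  have hQM : Q ≤ M := hQI.trans inf_le_left
  have hMK : M ≤ normalizer ((alphaCore M : Subgroup G) : Set G) := le_normalizer_alphaCore' M
  have hAK : W ⊔ Q ≤ normalizer ((alphaCore M : Subgroup G) : Set G) :=
    (sup_le hWM hQM).trans hMK
  have hcop := coprime_card_sup_alphaCore hqα hwα hQ hW hQW
  have hMsolv : Group.IsSolvable M := hG.2.2.2 M hM.1
  have hKM : alphaCore M ≤ M := by
    unfold alphaCore
    exact Subgroup.map_subtype_le _
  have hKsolv : Group.IsSolvable (alphaCore M) := by
    haveI := hMsolv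
    exact Group.isSolvable_of_isSolvable_injective (Subgroup.inclusion_injective hKM)
  have hKW : alphaCore M ≤ centralizer (W : Set G) := by
    have hC : alphaCore M ⊓ centralizer (W : Set G) = alphaCore M := by
      apply Cfsg.Agent.Helper67.eq_of_sylCard_dvd _ (alphaCore M) inf_le_left
      intro t ht
      haveI : Fact t.Prime := ⟨ht⟩
      obtain ⟨St, hStK, hStc, hStA⟩ := Cfsg.Agent.Helper52.exists_invariant_sylow (W ⊔ Q)
        (alphaCore M) hAK hcop (Or.inr hKsolv) t
      by_cases htα : t ∈ alpha M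
      · have hStW := hcon t St htα hStK hStc (le_sup_left.trans hStA) (le_sup_right.trans hStA)
        rw [← hStc]
        exact Subgroup.card_dvd_of_le (le_inf hStK hStW)
      · have hnd : ¬ t ∣ Nat.card (alphaCore M) := fun hd => htα (isPi_alphaCore M t ht hd)
        have h1 : sylCard t (alphaCore M) = 1 := by
          unfold Cfsg.Agent.Helper52.sylCard
          rw [Nat.factorization_eq_zero_of_not_dvd hnd, pow_zero]
        rw [h1]
        exact one_dvd _
    rw [← hC]
    exact inf_le_right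
  have hMH : M ≤ H := by
    intro m hm
    exact (sup_le ((hKW.trans (centralizer_le_normalizer _)).trans hN) inf_le_right) (hfac hm)
  rcases eq_or_lt_of_le hMH with h | h
  · exact hne h
  · exact hH.1 (hM.2 H h)

end Cfsg.Agent.Helper22.BGAsym
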