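import Mathlib
import Cfsg.Agent.Lib.Helper83.Ord7920Defs
import Cfsg.Agent.Lib.Helper22.Radical

/-!
# Pieces (Dsign), (Df), (Du) of helper83's ORD7920 lemma server (S2490)
-/

set_option autoImplicit false
set_option linter.style.haveILetI false
set_option linter.unusedSectionVars false

open Cfsg.Agent.Helper83.Ord7920

namespace Cfsg.Agent.Helper22.Ord7920

/-- (Du) a subgroup of order 11 is the only subgroup of order 11 of its normalizer. -/
theorem eq_of_le_normalizer {G : Type*} [Group G] [Finite G] (P Q : Subgroup G)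
    (hP : Nat.card P = 11) (hQ : Nat.card Q = 11) (hQN : Q ≤ Subgroup.normalizer (P : Set G))
    (h121 : ¬ 121 ∣ Nat.card G) : Q = P := by
  classical
  have hdvd : Nat.card ↥(Q ⊔ P) ∣ 121 := by
    have h1 := Cfsg.Agent.Helper22.card_sup_dvd_of_le_normalizer hQN
    rw [hP, hQ] at h1
    exact h1
  have hdvdG : Nat.card ↥(Q ⊔ P) ∣ Nat.card G := Subgroup.card_subgroup_dvd_card _
  have h11 : 11 ∣ Nat.card ↥(Q ⊔ P) := by
    rw [← hP]
    exact Subgroup.card_dvd_of_le le_sup_right
  have hc : Nat.card ↥(Q ⊔ P) = 11 := by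
    have h2 : Nat.card ↥(Q ⊔ P) ∈ Nat.divisors 121 := Nat.mem_divisors.mpr ⟨hdvd, by norm_num⟩
    have h3 : Nat.divisors 121 = {1, 11, 121} := by decide
    rw [h3] at h2
    simp only [Finset.mem_insert, Finset.mem_singleton] at h2
    rcases h2 with h2 | h2 | h2
    · rw [h2] at h11
      omega
    · exact h2
    · rw [h2] at hdvdG
      exact absurd hdvdG h121
  have e1 : P = Q ⊔ P := Subgroup.eq_of_le_of_card_ge le_sup_right (by rw [hc, hP])
  have e2 : Q = Q ⊔ P := Subgroup.eq_of_le_of_card_ge le_sup_left (by rw [hc, hQ])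
  exact e2.trans e1.symm

/-- (Dsign) an involution acting as an odd permutation gives a subgroup of index two. -/
theorem exists_index_two_of_odd_swaps {G : Type*} [Group G] {X : Type*} [Finite X] [MulAction G X]
    (z : G) (hz : z * z = 1)
    (hodd : Odd ((Nat.card X - Nat.card (MulAction.fixedBy X z)) / 2)) :
    ∃ H : Subgroup G, H.index = 2 := by
  classical
  haveI : Fintype X := Fintype.ofFinite X
  set s : Equiv.Perm X := MulAction.toPermHom G X z with hs
  have hs2 : s ^ 2 = 1 := by
    rw [hs, ← map_pow, pow_two, hz, map_one]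
  -- the fixed points of `s`
  have hfix : Nat.card (MulAction.fixedBy X z) = Fintype.card (Function.fixedPoints s) := by
    rw [Nat.card_eq_fintype_card]
    apply Fintype.card_congr
    exact Equiv.subtypeEquivRight (fun x => Iff.rfl)
  have hcard : Nat.card X - Nat.card (MulAction.fixedBy X z) = s.cycleType.sum := by
    rw [hfix, Equiv.Perm.card_fixedPoints, Nat.card_eq_fintype_card]
    have := Equiv.Perm.sum_cycleType_le s
    omega
  have hs1 : s ≠ 1 := by
    intro h1
    rw [h1, Equiv.Perm.cycleType_one] at hcard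
    rw [hcard] at hodd
    simp at hodd
  have hord : orderOf s = 2 := orderOf_eq_prime hs2 hs1
  obtain ⟨n, hn⟩ := Equiv.Perm.cycleType_prime_order (σ := s) (by rw [hord]; exact Nat.prime_two)
  rw [hord] at hn
  have hsum : s.cycleType.sum = 2 * (n + 1) := by
    rw [hn, Multiset.sum_replicate, smul_eq_mul, mul_comm]
  have hsign : Equiv.Perm.sign s = -1 := by
    rw [Equiv.Perm.sign_of_cycleType, hsum, hn, Multiset.card_replicate]
    rw [hcard, hsum, Nat.mul_div_cancel_left _ (by norm_num : 0 < 2)] at hodd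
    have h3 : Odd (2 * (n + 1) + (n + 1)) := by
      obtain ⟨k, hk⟩ := hodd
      exact ⟨3 * k + 1, by omega⟩
    exact h3.neg_one_pow
  set φ : G →* ℤˣ := Equiv.Perm.sign.comp (MulAction.toPermHom G X) with hφ
  have hφz : φ z = -1 := by
    rw [hφ, MonoidHom.comp_apply]
    exact hsign
  refine ⟨φ.ker, ?_⟩
  rw [Subgroup.index_ker]
  have hrange : φ.range = ⊤ := by
    rw [eq_top_iff]
    intro u _
    rcases Int.units_eq_one_or u with rfl | rfl
    · exact one_mem _
    · exact ⟨z, hφz⟩
  rw [hrange, Subgroup.card_top, Nat.card_eq_fintype_card, Fintype.card_units_int]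

/-- (Df) the number of cosets of the normalizer fixed by a central involution. -/
theorem card_fixedBy_mem {G : Type*} [Group G] [Finite G] (P : Subgroup G) (hP : Nat.card P = 11)
    (hidx : (Subgroup.normalizer (P : Set G)).index = 45) (h121 : ¬ 121 ∣ Nat.card G) (z : G) (hz : orderOf z = 2)
    (hzC : z ∈ Subgroup.centralizer (P : Set G)) :
    Nat.card (MulAction.fixedBy (G ⧸ (Subgroup.normalizer (P : Set G))) z) = 1 ∨
    Nat.card (MulAction.fixedBy (G ⧸ (Subgroup.normalizer (P : Set G))) z) = 23 ∨
    Nat.card (MulAction.fixedBy (G ⧸ (Subgroup.normalizer (P : Set G))) z) = 45 := by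
  classical
  haveI : Fact (Nat.Prime 11) := ⟨by norm_num⟩
  haveI : Fact (Nat.Prime 2) := ⟨Nat.prime_two⟩
  have hXcard : Nat.card (G ⧸ (Subgroup.normalizer (P : Set G))) = 45 := hidx
  have hPN : P ≤ Subgroup.normalizer (P : Set G) := Subgroup.le_normalizer
  have hzN : z ∈ Subgroup.normalizer (P : Set G) := Subgroup.centralizer_le_normalizer _ hzC
  -- bound
  have hle : Nat.card (MulAction.fixedBy (G ⧸ (Subgroup.normalizer (P : Set G))) z) ≤ 45 := by
    rw [← hXcard]
    exact Finite.card_subtype_le _
  -- parity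
  have hZ2 : IsPGroup 2 (Subgroup.zpowers z) :=
    IsPGroup.of_card (n := 1) (by rw [Nat.card_zpowers, hz, pow_one])
  have hmod2 := hZ2.card_modEq_card_fixedPoints (G ⧸ (Subgroup.normalizer (P : Set G)))
  have hfp : (MulAction.fixedPoints (Subgroup.zpowers z) (G ⧸ (Subgroup.normalizer (P : Set G))) :
      Set (G ⧸ (Subgroup.normalizer (P : Set G)))) =
      MulAction.fixedBy (G ⧸ (Subgroup.normalizer (P : Set G))) z := by
    ext x
    constructor
    · intro hx
      exact hx ⟨z, Subgroup.mem_zpowers z⟩
    · intro hx g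
      have h1 : z ∈ MulAction.stabilizer G x := hx
      have h2 : Subgroup.zpowers z ≤ MulAction.stabilizer G x := (Subgroup.zpowers_le).mpr h1
      exact h2 g.2
  rw [hfp, hXcard] at hmod2
  -- mod 11
  let Fz : SubMulAction P (G ⧸ (Subgroup.normalizer (P : Set G))) :=
    { carrier := MulAction.fixedBy (G ⧸ (Subgroup.normalizer (P : Set G))) z
      smul_mem' := by
        intro g x hx
        have hx' : z • x = x := hx
        show z • ((g : G) • x) = (g : G) • x
        have hg : (g : G) * z = z * (g : G) := (Subgroup.mem_centralizer_iff.mp hzC) g g.2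
        rw [← mul_smul, ← hg, mul_smul, hx'] }
  have hP11 : IsPGroup 11 P := IsPGroup.of_card (n := 1) (by rw [hP, pow_one])
  have hmod11 := hP11.card_modEq_card_fixedPoints ↥Fz
  have hFzcard : Nat.card ↥Fz =
      Nat.card (MulAction.fixedBy (G ⧸ (Subgroup.normalizer (P : Set G))) z) :=
    Nat.card_congr (Equiv.subtypeEquivRight (fun x => Iff.rfl))
  have hx0 : ((1 : G) : G ⧸ (Subgroup.normalizer (P : Set G))) ∈ Fz := by
    show z • ((1 : G) : G ⧸ (Subgroup.normalizer (P : Set G))) = _
    rw [MulAction.Quotient.smul_coe, QuotientGroup.eq]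
    simpa using hzN
  have hone : Nat.card (MulAction.fixedPoints P ↥Fz) = 1 := by
    rw [Nat.card_eq_one_iff_exists]
    refine ⟨⟨⟨_, hx0⟩, ?_⟩, ?_⟩
    · intro g
      apply Subtype.ext
      show (g : G) • ((1 : G) : G ⧸ (Subgroup.normalizer (P : Set G))) = _
      rw [MulAction.Quotient.smul_coe, QuotientGroup.eq]
      simpa using hPN g.2
    · rintro ⟨⟨x, hxF⟩, hxfix⟩
      apply Subtype.ext
      apply Subtype.ext
      show x = ((1 : G) : G ⧸ (Subgroup.normalizer (P : Set G)))
      obtain ⟨g, rfl⟩ := QuotientGroup.mk_surjective x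
      -- `g⁻¹ P g ≤ N`
      have hconj : ∀ a ∈ P, g⁻¹ * a * g ∈ Subgroup.normalizer (P : Set G) := by
        intro a ha
        have h1 := hxfix ⟨a⁻¹, P.inv_mem ha⟩
        have h2 := congrArg (fun w : ↥Fz => (w : G ⧸ (Subgroup.normalizer (P : Set G)))) h1
        have h3 : (a⁻¹ : G) • ((g : G) : G ⧸ (Subgroup.normalizer (P : Set G))) = (g : G ⧸ _) := h2
        rw [MulAction.Quotient.smul_coe, QuotientGroup.eq] at h3
        have h4 : (a⁻¹ • g)⁻¹ * g = g⁻¹ * a * g := by
          rw [smul_eq_mul]
          group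
        rw [h4] at h3
        exact h3
      set Q : Subgroup G := P.map (MulAut.conj g⁻¹).toMonoidHom with hQ
      have hQN : Q ≤ Subgroup.normalizer (P : Set G) := by
        rintro _ ⟨a, ha, rfl⟩
        have := hconj a ha
        simpa [MulAut.conj_apply] using this
      have hQc : Nat.card Q = 11 := by
        rw [hQ, Subgroup.card_map_of_injective (MulAut.conj g⁻¹).injective, hP]
      have hQP : Q = P := eq_of_le_normalizer P Q hP hQc hQN h121
      have hgN : g⁻¹ ∈ Subgroup.normalizer (P : Set G) := by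
        rw [Subgroup.mem_normalizer_iff]
        intro n
        constructor
        · intro hn
          rw [← hQP]
          exact ⟨n, hn, by simp⟩
        · intro hn
          rw [← hQP] at hn
          obtain ⟨a, ha, hae⟩ := hn
          have h5 : g⁻¹ * a * g⁻¹⁻¹ = g⁻¹ * n * g⁻¹⁻¹ := by
            simpa [MulAut.conj_apply] using hae
          have h6 : a = n := by
            have := mul_right_cancel (mul_left_cancel (by simpa [mul_assoc] using h5 :
              g⁻¹ * (a * g⁻¹⁻¹) = g⁻¹ * (n * g⁻¹⁻¹)))
            exact this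
          rw [← h6]
          exact ha
      rw [QuotientGroup.eq]
      simpa using hgN
  rw [hone, hFzcard] at hmod11
  have h11 : Nat.card (MulAction.fixedBy (G ⧸ (Subgroup.normalizer (P : Set G))) z) % 11 = 1 := hmod11
  have h2 : 45 % 2 = Nat.card (MulAction.fixedBy (G ⧸ (Subgroup.normalizer (P : Set G))) z) % 2 :=
    hmod2
  omega

end Cfsg.Agent.Helper22.Ord7920
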