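import Cfsg.Agent.Lib.Helper64.S4017Defs

set_option autoImplicit false
set_option linter.unusedSectionVars false
set_option linter.style.haveILetI false

namespace Cfsg.Agent.Helper22.S4017M

open Cfsg.Agent.Helper64.S4017

variable {G : Type*} [Group G] [Finite G] {a p : ℕ} {Q : Subgroup G} {x : G}

/-- in a finite group, `g Q g⁻¹ ⊆ Q` puts `g` in the normaliser. -/
theorem h22_mem_normalizer (Q : Subgroup G) (g : G) (hg : ∀ s ∈ Q, g * s * g⁻¹ ∈ Q) :
    g ∈ Subgroup.normalizer (Q : Set G) := by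
  have hpow : ∀ k : ℕ, ∀ s ∈ Q, g ^ k * s * (g ^ k)⁻¹ ∈ Q := by
    intro k
    induction k with
    | zero => intro s hs; simpa using hs
    | succ k ih =>
      intro s hs
      have h1 := hg _ (ih s hs)
      have e : g ^ (k + 1) * s * (g ^ (k + 1))⁻¹ = g * (g ^ k * s * (g ^ k)⁻¹) * g⁻¹ := by
        rw [pow_succ']; group
      rw [e]; exact h1
  have hinv : ∀ s ∈ Q, g⁻¹ * s * g ∈ Q := by
    intro s hs
    have hpos : 0 < orderOf g := orderOf_pos g
    have e : g⁻¹ = g ^ (orderOf g - 1) := by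
      have h1 : g ^ (orderOf g - 1) * g = 1 := by
        rw [← pow_succ, Nat.sub_add_cancel hpos, pow_orderOf_eq_one]
      exact (eq_inv_of_mul_eq_one_left h1).symm
    have h2 := hpow (orderOf g - 1) s hs
    rw [← e, inv_inv] at h2
    exact h2
  rw [Subgroup.mem_normalizer_iff]
  intro s
  constructor
  · exact hg s
  · intro hs
    have h1 := hinv _ hs
    have e : g⁻¹ * (g * s * g⁻¹) * g = s := by group
    rw [e] at h1
    exact h1

theorem n2 (h : Setting a p Q x) (g : G) (hg : ∀ s ∈ Q, g * s * g⁻¹ ∈ Q)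
    (hg2 : ∃ j : ℕ, orderOf g = 2 ^ j) : g ∈ Q := by
  haveI : Fact (Nat.Prime 2) := ⟨Nat.prime_two⟩
  have hgN := h22_mem_normalizer Q g hg
  have hQ2 : IsPGroup 2 Q := IsPGroup.of_card h.card_Q
  obtain ⟨j, hj⟩ := hg2
  have hz2 : IsPGroup 2 (Subgroup.zpowers g) := by
    apply IsPGroup.of_card (n := j)
    rw [Nat.card_zpowers, hj]
  have hle : Subgroup.zpowers g ≤ Subgroup.normalizer (Q : Set G) := by
    rw [Subgroup.zpowers_le]; exact hgN
  have hsup : IsPGroup 2 (Subgroup.zpowers g ⊔ Q : Subgroup G) :=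
    IsPGroup.to_sup_of_normal_right' hz2 hQ2 hle
  obtain ⟨n, hn⟩ := IsPGroup.iff_card.1 hsup
  have hQle : Q ≤ Subgroup.zpowers g ⊔ Q := le_sup_right
  have hdvd1 : Nat.card Q ∣ Nat.card (Subgroup.zpowers g ⊔ Q : Subgroup G) :=
    Subgroup.card_dvd_of_le hQle
  have hdvd2 : Nat.card (Subgroup.zpowers g ⊔ Q : Subgroup G) ∣ Nat.card G :=
    Subgroup.card_subgroup_dvd_card _
  rw [hn] at hdvd2 hdvd1
  rw [h.card_Q] at hdvd1
  have han : a ≤ n := (Nat.pow_dvd_pow_iff_le_right (by norm_num)).1 hdvd1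
  have hna : n ≤ a := by
    by_contra hlt
    push Not at hlt
    apply h.sylow
    exact (pow_dvd_pow 2 hlt).trans hdvd2
  have hna' : n = a := le_antisymm hna han
  have heq : Q = Subgroup.zpowers g ⊔ Q := by
    apply Subgroup.eq_of_le_of_card_ge hQle
    rw [hn, h.card_Q, hna']
  rw [heq]
  exact (le_sup_left : Subgroup.zpowers g ≤ _) (Subgroup.mem_zpowers g)

end Cfsg.Agent.Helper22.S4017M
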