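import Mathlib
import Cfsg.Prelude.Def_Local
import Cfsg.Agent.Lib.Helper22.Structure
import Cfsg.Agent.Lib.Helper54.PConstrained

set_option autoImplicit false
open scoped commutatorElement

namespace Cfsg.Agent.Helper22

open Subgroup Cfsg.Agent.Helper54

variable {G : Type*} [Group G]

/-- `F*(X) = O_p(X)` implies characteristic `p`. -/
theorem isCharP_of_generalizedFitting_eq [Finite G] {p : ℕ}
    (h : Cfsg.generalizedFittingSubgroup G = Cfsg.pCore p G) : IsCharP p G := by
  unfold IsCharP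
  rw [← h]
  exact centralizer_generalizedFittingSubgroup_le

/-- Characteristic `p` implies `F*(X) = O_p(X)`. -/
theorem generalizedFitting_eq_of_isCharP [Finite G] {p : ℕ} [hp : Fact p.Prime] (h : IsCharP p G) :
    Cfsg.generalizedFittingSubgroup G = Cfsg.pCore p G := by
  have hQF : Cfsg.pCore p G ≤ Cfsg.fittingSubgroup G := pCore_le_fittingSubgroup p
  have hE : Cfsg.layer G = ⊥ := by
    rw [layer_eq_bot_iff]
    intro K hK
    have h1 : K ≤ centralizer (Cfsg.pCore p G : Set G) :=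
      (component_le_centralizer_fittingSubgroup hK).trans (centralizer_le (by exact_mod_cast hQF))
    have h2 : K ≤ Cfsg.pCore p G := h1.trans h
    have hsolv : Group.IsSolvable (Cfsg.pCore p G) := by
      haveI := (Cfsg.Agent.Helper22.isPGroup_pCore (G := G) p).isNilpotent
      infer_instance
    exact IsComponent.not_le_of_isSolvable hK hsolv h2
  have hF : Cfsg.fittingSubgroup G = Cfsg.pCore p G := by
    apply le_antisymm _ hQF
    rw [fittingSubgroup_eq_iSup_pCore]
    refine iSup_le ?_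
    rintro ⟨q, hq⟩
    haveI := Fact.mk hq
    by_cases hqp : q = p
    · subst hqp; exact le_rfl
    · have := pCore_le_pPrimeCore_of_ne (G := G) hqp
      rw [h.pPrimeCore_eq_bot] at this
      exact this.trans bot_le
  rw [generalizedFittingSubgroup_eq, hE, hF, bot_sup_eq]

theorem isCharP_iff_generalizedFitting_eq [Finite G] {p : ℕ} [hp : Fact p.Prime] :
    IsCharP p G ↔ Cfsg.generalizedFittingSubgroup G = Cfsg.pCore p G :=
  ⟨generalizedFitting_eq_of_isCharP, isCharP_of_generalizedFitting_eq⟩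

/-- If `t ∈ O_p(N)` and `C_N(t)` has characteristic `p`, then `N` has characteristic `p`. -/
theorem isCharP_of_centralizer_isCharP [Finite G] {p : ℕ} [hp : Fact p.Prime] (t : G)
    (ht : t ∈ Cfsg.pCore p G) (hM : IsCharP p ↥(centralizer ({t} : Set G))) : IsCharP p G := by
  set Q := Cfsg.pCore p G with hQ
  set M := centralizer ({t} : Set G) with hMdef
  set D := centralizer (Q : Set G) with hD
  have hQn : Q.Normal := Cfsg.pCore_normal p G
  have hDn : D.Normal := by rw [hD]; infer_instance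
  have hDM : D ≤ M := by
    intro d hd
    rw [hMdef, mem_centralizer_iff]
    intro z hz
    rw [Set.mem_singleton_iff] at hz
    subst hz
    exact (mem_centralizer_iff.mp hd) _ ht
  set R := Cfsg.pCore p M with hR
  have hRn : R.Normal := Cfsg.pCore_normal p M
  have hRp : IsPGroup p R := Cfsg.Agent.Helper22.isPGroup_pCore p
  -- `R ∩ D` (in `G`) lies in `Q`
  set R₀ : Subgroup G := (R ⊓ D.subgroupOf M).map M.subtype with hR₀
  have hR₀D : R₀ ≤ D := by
    rintro _ ⟨x, hx, rfl⟩
    exact mem_subgroupOf.mp hx.2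
  have hR₀p : IsPGroup p R₀ := (hRp.to_le inf_le_left).map _
  have hR₀n : D ≤ normalizer (R₀ : Set G) := by
    intro d hd
    rw [mem_normalizer_iff]
    have hDMn : (D.subgroupOf M).Normal := inferInstance
    have key : ∀ d ∈ D, ∀ x ∈ R₀, d * x * d⁻¹ ∈ R₀ := by
      rintro d hd _ ⟨x, hx, rfl⟩
      refine ⟨(⟨d, hDM hd⟩ : M) * x * (⟨d, hDM hd⟩ : M)⁻¹, ⟨?_, ?_⟩, rfl⟩
      · exact hRn.conj_mem x hx.1 _
      · exact hDMn.conj_mem x hx.2 _
    intro x
    constructor
    · exact key d hd x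
    · intro hx
      have := key d⁻¹ (inv_mem hd) _ hx
      simpa [mul_assoc] using this
  have hR₀Q : R₀ ≤ Q :=
    le_pCore_of_subnormal (Subgroup.Normal.isSubnormal hDn) hR₀D hR₀n hR₀p
  have hDp : IsPGroup p D := by
    apply isPGroup_of_pprime_elements_trivial
    intro y hy hyo
    have hyM : y ∈ M := hDM hy
    have hcent : (⟨y, hyM⟩ : M) ∈ centralizer (R : Set M) := by
      rw [mem_centralizer_iff]
      intro r hr
      apply Subtype.ext
      show (r : G) * y = y * (r : G)
      -- commutator `[r, y]`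
      have hc_mem : (r : G) * y * (r : G)⁻¹ * y⁻¹ ∈ R₀ := by
        refine ⟨r * ⟨y, hyM⟩ * r⁻¹ * (⟨y, hyM⟩ : M)⁻¹, ⟨?_, ?_⟩, rfl⟩
        · have h1 : (⟨y, hyM⟩ : M) * r⁻¹ * (⟨y, hyM⟩ : M)⁻¹ ∈ R := hRn.conj_mem _ (inv_mem hr) _
          have h2 : r * ⟨y, hyM⟩ * r⁻¹ * (⟨y, hyM⟩ : M)⁻¹ =
              r * ((⟨y, hyM⟩ : M) * r⁻¹ * (⟨y, hyM⟩ : M)⁻¹) := by group
          rw [h2]; exact mul_mem hr h1
        · show (r : G) * y * (r : G)⁻¹ * y⁻¹ ∈ D
          exact mul_mem (hDn.conj_mem y hy _) (inv_mem hy)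
      have hcQ := hR₀Q hc_mem
      have hcomm : ((r : G) * y * (r : G)⁻¹ * y⁻¹) * y = y * ((r : G) * y * (r : G)⁻¹ * y⁻¹) :=
        (mem_centralizer_iff.mp hy) _ hcQ
      obtain ⟨k, hk⟩ := IsPGroup.iff_card.mp hR₀p
      exact commute_of_comm_commute_of_coprime R₀ (r : G) y hc_mem hcomm (orderOf y)
        (pow_orderOf_eq_one y) (by rw [hk]; exact Nat.Coprime.pow_right k hyo)
    have hyR : (⟨y, hyM⟩ : M) ∈ R := hM hcent
    have hyo' : (orderOf (⟨y, hyM⟩ : M)).Coprime p := by
      rw [Subgroup.orderOf_mk]; exact hyo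
    have := eq_one_of_mem_pgroup_of_coprime R hRp _ hyR hyo'
    exact congrArg Subtype.val this
  exact Cfsg.Agent.Helper22.le_pCore hDn hDp

end Cfsg.Agent.Helper22
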