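import Mathlib
import Cfsg.Agent.Lib.Helper98.SPE0

set_option autoImplicit false
set_option linter.unusedSectionVars false

namespace Cfsg.Agent.Helper22.SPE

open Matrix Cfsg.Agent.Helper93.U2 Cfsg.Agent.Helper98.SPE

variable {F : Type*} [Field F] {n : ℕ}

/-- upper triangular part of a matrix -/
def h22Upper (S : Matrix (Fin n) (Fin n) F) : Matrix (Fin n) (Fin n) F :=
  Matrix.of fun i j => if i ≤ j then S i j else 0

theorem h22_qv_eq_dot (S : Matrix (Fin n) (Fin n) F) (v : Fin n → F) :
    qv S v = v ⬝ᵥ (h22Upper S *ᵥ v) := by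
  unfold qv
  simp only [dotProduct, Matrix.mulVec, h22Upper, Matrix.of_apply]
  apply Finset.sum_congr rfl
  intro i _
  rw [Finset.mul_sum]
  apply Finset.sum_congr rfl
  intro j _
  split_ifs <;> ring

theorem h22_bv_eq_dot (S : Matrix (Fin n) (Fin n) F) (x y : Fin n → F) :
    bv S x y = x ⬝ᵥ (h22Upper S *ᵥ y) + y ⬝ᵥ (h22Upper S *ᵥ x) := by
  unfold bv
  rw [h22_qv_eq_dot, h22_qv_eq_dot, h22_qv_eq_dot, Matrix.mulVec_add, add_dotProduct,
    dotProduct_add, dotProduct_add]
  ring

/-- the matrix `gᵀ U g` -/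
def h22T (g S : Matrix (Fin n) (Fin n) F) : Matrix (Fin n) (Fin n) F :=
  gᵀ * h22Upper S * g

theorem h22_col_dot (g S : Matrix (Fin n) (Fin n) F) (k l : Fin n) :
    (fun i => g i k) ⬝ᵥ (h22Upper S *ᵥ fun i => g i l) = h22T g S k l := by
  unfold h22T
  simp only [dotProduct, Matrix.mulVec, Matrix.mul_apply, Matrix.transpose_apply,
    Finset.mul_sum, Finset.sum_mul]
  rw [Finset.sum_comm]
  apply Finset.sum_congr rfl
  intro j _
  apply Finset.sum_congr rfl
  intro i _
  ring

theorem h22_congQ_diag (g S : Matrix (Fin n) (Fin n) F) (k : Fin n) :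
    congQ g S k k = h22T g S k k := by
  rw [congQ_apply, if_pos rfl, h22_qv_eq_dot, h22_col_dot]

theorem h22_congQ_off (g S : Matrix (Fin n) (Fin n) F) (k l : Fin n) (h : k ≠ l) :
    congQ g S k l = h22T g S k l + h22T g S l k := by
  rw [congQ_apply, if_neg h, h22_bv_eq_dot, h22_col_dot, h22_col_dot]

theorem h22_sum_sum_split (f : Fin n → Fin n → F) :
    ∑ k, ∑ l, f k l =
      ∑ k, ∑ l, if k ≤ l then (if k = l then f k k else f k l + f l k) else 0 := by
  have h1 : ∀ k l : Fin n, (if k ≤ l then (if k = l then f k k else f k l + f l k) else 0)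
      = (if k = l then f k l else 0) + (if k < l then f k l else 0)
        + (if k < l then f l k else 0) := by
    intro k l
    rcases lt_trichotomy k l with h | h | h
    · simp [h, h.le, h.ne]
    · subst h; simp
    · simp [not_le.2 h, not_lt.2 h.le, h.ne']
  have h2 : ∀ k l : Fin n, f k l = (if k = l then f k l else 0) + (if k < l then f k l else 0)
        + (if l < k then f k l else 0) := by
    intro k l
    rcases lt_trichotomy k l with h | h | h
    · simp [h, h.ne, not_lt.2 h.le]
    · subst h; simp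
    · simp [h, h.ne', not_lt.2 h.le]
  simp_rw [h1]
  have h3 : ∑ k, ∑ l, f k l = ∑ k, ∑ l, ((if k = l then f k l else 0)
        + (if k < l then f k l else 0) + (if l < k then f k l else 0)) := by
    apply Finset.sum_congr rfl
    intro k _
    apply Finset.sum_congr rfl
    intro l _
    exact h2 k l
  rw [h3]
  simp only [Finset.sum_add_distrib]
  congr 1
  rw [Finset.sum_comm]

theorem h22_dot_T (g S : Matrix (Fin n) (Fin n) F) (x : Fin n → F) :
    x ⬝ᵥ (h22T g S *ᵥ x) = (g *ᵥ x) ⬝ᵥ (h22Upper S *ᵥ (g *ᵥ x)) := by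
  unfold h22T
  rw [← Matrix.mulVec_mulVec, ← Matrix.mulVec_mulVec, Matrix.dotProduct_mulVec,
    Matrix.vecMul_transpose]

theorem h22_dot_eq_sum (M : Matrix (Fin n) (Fin n) F) (x : Fin n → F) :
    x ⬝ᵥ (M *ᵥ x) = ∑ k, ∑ l, M k l * x k * x l := by
  simp only [dotProduct, Matrix.mulVec, Finset.mul_sum]
  apply Finset.sum_congr rfl
  intro k _
  apply Finset.sum_congr rfl
  intro l _
  ring

theorem qv_congQ (g S : Matrix (Fin n) (Fin n) F) (x : Fin n → F) :
    qv (congQ g S) x = qv S (g *ᵥ x) := by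
  rw [h22_qv_eq_dot S, ← h22_dot_T, h22_dot_eq_sum, h22_sum_sum_split]
  unfold qv
  apply Finset.sum_congr rfl
  intro k _
  apply Finset.sum_congr rfl
  intro l _
  by_cases hkl : k ≤ l
  · rw [if_pos hkl, if_pos hkl]
    by_cases he : k = l
    · subst he
      rw [if_pos rfl, h22_congQ_diag]
    · rw [if_neg he, h22_congQ_off g S k l he]
      ring
  · rw [if_neg hkl, if_neg hkl]

end Cfsg.Agent.Helper22.SPE
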