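import Mathlib
import Cfsg.Prelude.Def_OddOrder
import Cfsg.Prelude.Def_OddOrderLocal
import Cfsg.Agent.S1403
import Cfsg.Agent.S1405
import Cfsg.Agent.Lib.Helper52.CoprimeSylow
import Cfsg.Agent.Lib.Helper52.Coprime
import Cfsg.Agent.Lib.Helper15.BGU.Syl
import Cfsg.Agent.Lib.Helper34.BG10b
import Cfsg.Agent.Lib.Helper64.BG139Q4a

/-!
# B-G 13.8 (tau1 asymmetry), helper96's server: package (AS2) `side_basic`
-/

set_option autoImplicit false
set_option linter.unusedSectionVars false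
set_option linter.unusedVariables false
set_option linter.style.haveILetI false

namespace Cfsg.Agent.Helper22.BGAsym

open Subgroup Cfsg
open Cfsg.Agent.Helper52 (sylCard)

variable {G : Type*} [Group G] [Finite G]

theorem le_normalizer_of_conj_mem' {K X : Subgroup G}
    (h : ∀ k ∈ K, ∀ x ∈ X, k * x * k⁻¹ ∈ X) : K ≤ normalizer (X : Set G) := by
  intro k hk
  rw [mem_normalizer_iff]
  intro n
  refine ⟨h k hk n, fun hn => ?_⟩
  have := h k⁻¹ (K.inv_mem hk) _ hn
  simpa [mul_assoc] using this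

/-- a subgroup of order `sylCard w M` of `M` is a Sylow `w`-subgroup of `M`. -/
theorem isSylIn_of_card_sylCard {M W : Subgroup G} {w : ℕ} [hw : Fact w.Prime] (hWM : W ≤ M)
    (hW : IsPGroup w W) (hWs : Nat.card W = sylCard w M) :
    Cfsg.Agent.Helper33.IsSylIn w W M := by
  refine ⟨hWM, hW, ?_⟩
  intro hd
  obtain ⟨k, hk⟩ : ∃ k, k = (Nat.card M).factorization w := ⟨_, rfl⟩
  have hmul : w ^ k * W.relIndex M = Nat.card M := by
    have h1 := Cfsg.Agent.Helper52.card_mul_relIndex_eq hWM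
    rw [hWs] at h1
    unfold Cfsg.Agent.Helper52.sylCard at h1
    rw [← hk] at h1
    exact h1
  have hnd := Nat.pow_succ_factorization_not_dvd (Nat.card_pos (α := M)).ne' hw.out
  rw [← hk] at hnd
  apply hnd
  obtain ⟨c, hc⟩ := hd
  exact ⟨c, by rw [← hmul, hc, pow_succ, mul_assoc]⟩

/-- (AS2) steps (1), (2) of the asymmetry lemma. -/
theorem side_basic (hG : IsMinSimpleOddOrder G) {M H Q W : Subgroup G} {q w : ℕ}
    [Fact q.Prime] [Fact w.Prime] (hM : IsCoatom M) (hH : IsCoatom H) (hne : M ≠ H)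
    (hQ : Nat.card Q = q) (hQI : Q ≤ M ⊓ H) (hwq : w ≠ q)
    (hW : IsPGroup w W) (hWI : W ≤ M ⊓ H) (hWs : Nat.card W = sylCard w (M ⊓ H))
    (hQW : Q ≤ normalizer (W : Set G))
    (hfpf : ∀ x ∈ W, (∀ y ∈ Q, y * x = x * y) → x = 1)
    (hN : normalizer (W : Set G) ≤ H) :
    W ≠ ⊥ ∧ Nat.card W = sylCard w M ∧ w ∉ alpha M ∧ W ≤ ⁅M, M⁆ ∧
      M ≤ alphaCore M ⊔ (M ⊓ H) := by
  classical
  have hw : w.Prime := Fact.out
  have hq : q.Prime := Fact.out
  have hWM : W ≤ M := hWI.trans inf_le_left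
  have hQM : Q ≤ M := hQI.trans inf_le_left
  -- (1a) `W ≠ ⊥`
  have hW1 : W ≠ ⊥ := by
    intro h
    apply hH.1
    rw [eq_top_iff]
    intro g _
    apply hN
    rw [h, mem_normalizer_iff]
    intro n
    simp
  -- (1b) `W = [W, Q] ≤ [M, M]`
  have hcopQW : (Nat.card Q).Coprime (Nat.card W) := by
    rw [hQ]
    obtain ⟨n, hn⟩ := IsPGroup.iff_card.mp hW
    rw [hn]
    apply Nat.Coprime.pow_right
    exact (Nat.coprime_primes hq hw).mpr (Ne.symm hwq)
  have hWsolv : Group.IsSolvable W := by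
    haveI := hW.isNilpotent
    infer_instance
  have hdec := Cfsg.Agent.Helper52.eq_commutator_sup_centralizer W Q hQW hcopQW (Or.inr hWsolv)
  have hCW : W ⊓ centralizer (Q : Set G) = ⊥ := by
    rw [eq_bot_iff]
    intro x hx
    rw [mem_bot]
    exact hfpf x hx.1 (fun y hy => (mem_centralizer_iff.mp hx.2) y hy)
  have hWcomm : W ≤ ⁅M, M⁆ := by
    have h1 : ⁅W, Q⁆ ⊔ (W ⊓ centralizer (Q : Set G)) ≤ ⁅M, M⁆ := by
      rw [hCW, sup_bot_eq]
      exact Subgroup.commutator_mono hWM hQM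
    exact hdec.le.trans h1
  -- (1c) `W` is a Sylow `w`-subgroup of `M`
  have hWsyl : Nat.card W = sylCard w M := by
    by_contra hne'
    obtain ⟨R', hR'p, hWR', hR'M, hR'N⟩ :=
      Cfsg.Agent.Helper15.BGU.exists_lt_of_not_syl w hW hWM hne'
    have hR'I : R' ≤ M ⊓ H := le_inf hR'M (hR'N.trans hN)
    have h1 := Cfsg.Agent.Helper15.BGU.card_le_sylCard w hR'p hR'I
    rw [← hWs] at h1
    exact (ne_of_lt hWR') (Subgroup.eq_of_le_of_card_ge hWR'.le h1)
  -- (1d) `w ∉ α(M)`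
  have hU : Cfsg.Agent.Helper34.BG.UniqHyp G :=
    fun K hK h1 h2 => Cfsg.Agent.S1403.result hG K hK h1 h2
  have hsylIn : Cfsg.Agent.Helper33.IsSylIn w W M := isSylIn_of_card_sylCard hWM hW hWsyl
  have hwα : w ∉ alpha M := by
    intro hα
    obtain ⟨L, ⟨hL, hWL⟩, huniq⟩ :=
      Cfsg.Agent.Helper34.BG.uniq_of_rank3_sylow hU hM hsylIn hα.2
    have h1 := huniq M ⟨hM, hWM⟩
    have h2 := huniq H ⟨hH, hWI.trans inf_le_right⟩
    exact hne (h1.trans h2.symm)
  refine ⟨hW1, hWsyl, hwα, hWcomm, ?_⟩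
  -- (2) Frattini
  obtain ⟨-, -, -, -, hnil⟩ := Cfsg.Agent.S1405.result hG M hM
  obtain ⟨P, hP⟩ := Cfsg.Agent.Helper52.exists_sylow_of_card w M W hWM hWsyl
  have hPcomm : (P : Subgroup M) ≤ commutator M := by
    intro x hx
    have hxW : (x : G) ∈ W := by
      rw [← hP]
      exact Subgroup.mem_map_of_mem M.subtype hx
    have h1 := hWcomm hxW
    rw [← Subgroup.map_subtype_commutator M] at h1
    obtain ⟨y, hy, hyx⟩ := Subgroup.mem_map.1 h1
    have : y = x := Subtype.ext hyx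
    rw [← this]
    exact hy
  have key := Cfsg.Agent.Helper64.BG139.normalizer_sup_eq_top_of_nilpotent_image
    (piCore (alpha M) ↥M) P hPcomm hnil
  have hNW : (normalizer ((P : Subgroup ↥M) : Set ↥M)).map M.subtype ≤
      normalizer (W : Set G) := by
    apply le_normalizer_of_conj_mem'
    rintro _ ⟨n, hn, rfl⟩ x hx
    rw [← hP] at hx ⊢
    obtain ⟨x', hx', rfl⟩ := hx
    exact ⟨n * x' * n⁻¹, (mem_normalizer_iff.mp hn x').mp hx', by simp⟩
  intro m hm
  have h1 : (⟨m, hm⟩ : ↥M) ∈ normalizer ((P : Subgroup ↥M) : Set ↥M) ⊔ piCore (alpha M) ↥M := by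
    rw [key]
    exact Subgroup.mem_top _
  rw [← SetLike.mem_coe, Subgroup.mul_normal] at h1
  obtain ⟨n, hn, k, hk, hnk⟩ := Set.mem_mul.1 h1
  have hm_eq : m = (n : G) * (k : G) := by
    have := congrArg Subtype.val hnk
    simpa using this.symm
  rw [hm_eq]
  apply Subgroup.mul_mem
  · apply Subgroup.mem_sup_right
    exact ⟨n.2, hN (hNW (Subgroup.mem_map_of_mem M.subtype hn))⟩
  · apply Subgroup.mem_sup_left
    exact Subgroup.mem_map_of_mem M.subtype hk

end Cfsg.Agent.Helper22.BGAsym
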