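import Mathlib
import Cfsg.Agent.Lib.Helper7.M11UDefs
import Cfsg.Agent.Lib.Helper4.M11UTools

/-!
# M11U (G1) `adj_iff` (helper7 server, S0420): the 18 neighbours of `R` in the graph on the
55 Sylow 3-subgroups.
-/

set_option autoImplicit false
set_option linter.unusedSectionVars false

namespace Cfsg.Agent.Helper22.M11U

open Subgroup Cfsg.Agent.Helper7.M11U Cfsg.Agent.Helper4.M11U
open scoped Pointwise

section Gr

variable {G : Type*} [Group G] [Finite G] {t : G} {R R2 R3 : Sylow 3 G}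

theorem g1_sq_eq_one {t : G} (ht : orderOf t = 2) : t * t = 1 := by
  have := pow_orderOf_eq_one t
  rw [ht, pow_two] at this
  exact this

theorem g1_inv_eq {t : G} (ht : orderOf t = 2) : t⁻¹ = t :=
  inv_eq_of_mul_eq_one_left (g1_sq_eq_one ht)

/-- `r t r⁻¹ = r² t` for `r` inverted by `t` -/
theorem g1_conj {t : G} {H : Subgroup G} (hi : Inverts t H) {r : G} (hr : r ∈ H) :
    r * t * r⁻¹ = r * r * t := by
  have h := hi r⁻¹ (H.inv_mem hr)
  rw [inv_inv] at h
  calc r * t * r⁻¹ = r * (t * r⁻¹ * t⁻¹) * t := by group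
    _ = r * r * t := by rw [h]

/-- `t (r r) = (r r)⁻¹ t` -/
theorem g1_comm {t : G} {H : Subgroup G} (hi : Inverts t H) {x : G} (hx : x ∈ H) :
    t * x = x⁻¹ * t := by
  have h := hi x hx
  calc t * x = (t * x * t⁻¹) * t := by group
    _ = x⁻¹ * t := by rw [h]

theorem g1_smul_self {r : G} {P : Sylow 3 G} (hr : r ∈ (P : Subgroup G)) : r • P = P :=
  Sylow.smul_eq_iff_mem_normalizer.mpr (Subgroup.le_normalizer hr)

theorem g1_smul_ne {r : G} {P Q : Sylow 3 G} (hr : r ∈ (P : Subgroup G)) (h : Q ≠ P) :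
    r • Q ≠ P := by
  intro he
  apply h
  have h1 : r • Q = r • P := by rw [he, g1_smul_self hr]
  have := congrArg (fun Z => r⁻¹ • Z) h1
  simpa using this

/-- the product of two involutions inverting `X` centralises `X` -/
theorem g1_mul_mem_centralizer {u u' : G} {X : Subgroup G} (h : Inverts u X) (h' : Inverts u' X) :
    u * u' ∈ centralizer (X : Set G) := by
  rw [mem_centralizer_iff]
  intro x hx
  have h1 := h' x hx
  have h2 := h x⁻¹ (X.inv_mem hx)
  rw [inv_inv] at h2
  have : u * u' * x * (u * u')⁻¹ = x := by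
    calc u * u' * x * (u * u')⁻¹ = u * (u' * x * u'⁻¹) * u⁻¹ := by group
      _ = u * x⁻¹ * u⁻¹ := by rw [h1]
      _ = x := h2
  calc x * (u * u') = (u * u' * x * (u * u')⁻¹) * (u * u') := by rw [this]
    _ = u * u' * x := by group

/-- distinctness of the translates -/
theorem g1_inj (L : Loc G) (ht : orderOf t = 2) (hi : Inverts t (R : Subgroup G))
    {P P' : Sylow 3 G} (hP : Inverts t (P : Subgroup G)) (hP' : Inverts t (P' : Subgroup G))
    (hne : P ≠ R) {r r' : G} (hr : r ∈ (R : Subgroup G)) (hr' : r' ∈ (R : Subgroup G))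
    (h : r • P = r' • P') : r = r' := by
  have hX : r • P ≠ R := g1_smul_ne hr hne
  have hu : Inverts (r * t * r⁻¹) ((r • P : Sylow 3 G) : Subgroup G) := h4_inverts_smul hP
  have hu' : Inverts (r' * t * r'⁻¹) ((r • P : Sylow 3 G) : Subgroup G) := by
    rw [h]; exact h4_inverts_smul hP'
  have hc := g1_mul_mem_centralizer hu hu'
  have hrr' : r' * r' ∈ (R : Subgroup G) := Subgroup.mul_mem _ hr' hr'
  have hw : r * t * r⁻¹ * (r' * t * r'⁻¹) = r * r * (r' * r')⁻¹ := by
    rw [g1_conj hi hr, g1_conj hi hr']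
    calc r * r * t * (r' * r' * t) = r * r * (t * (r' * r')) * t := by group
      _ = r * r * ((r' * r')⁻¹ * t) * t := by rw [g1_comm hi hrr']
      _ = r * r * (r' * r')⁻¹ * (t * t) := by group
      _ = r * r * (r' * r')⁻¹ := by rw [g1_sq_eq_one ht, mul_one]
  rw [hw] at hc
  have hwX := L.cent _ _ hc
  have hwR : r * r * (r' * r')⁻¹ ∈ (R : Subgroup G) :=
    Subgroup.mul_mem _ (Subgroup.mul_mem _ hr hr) (Subgroup.inv_mem _ hrr')
  have h1 := L.ti R (r • P) hX.symm _ hwR hwX
  have h2 : r * r = r' * r' := mul_inv_eq_one.1 h1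
  have e3 : r ^ 3 = 1 := L.exp3 R r hr
  have e3' : r' ^ 3 = 1 := L.exp3 R r' hr'
  calc r = r ^ 3 * r := by rw [e3, one_mul]
    _ = (r * r) * (r * r) := by rw [pow_succ, pow_two]; group
    _ = (r' * r') * (r' * r') := by rw [h2]
    _ = r' ^ 3 * r' := by rw [pow_succ, pow_two]; group
    _ = r' := by rw [e3', one_mul]

/-- a Sylow 3-subgroup inverted by `t` is one of the three -/
theorem g1_three (L : Loc G) (T : Tri t R R2 R3) {P : Sylow 3 G}
    (hP : Inverts t (P : Subgroup G)) : P = R ∨ P = R2 ∨ P = R3 := by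
  classical
  haveI : Fintype {P : Sylow 3 G // Inverts t (P : Subgroup G)} := Fintype.ofFinite _
  have h3 := L.three t T.ht
  rw [Nat.card_eq_fintype_card] at h3
  let s : Finset {P : Sylow 3 G // Inverts t (P : Subgroup G)} :=
    {⟨R, T.i1⟩, ⟨R2, T.i2⟩, ⟨R3, T.i3⟩}
  have hs : s.card = 3 := by
    apply Finset.card_eq_three.2
    refine ⟨⟨R, T.i1⟩, ⟨R2, T.i2⟩, ⟨R3, T.i3⟩, ?_, ?_, ?_, rfl⟩
    · intro h; exact T.ne12 (congrArg Subtype.val h)
    · intro h; exact T.ne13 (congrArg Subtype.val h)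
    · intro h; exact T.ne23 (congrArg Subtype.val h)
  have huniv : s = Finset.univ := Finset.eq_univ_of_card s (by rw [hs, h3])
  have hmem : (⟨P, hP⟩ : {P : Sylow 3 G // Inverts t (P : Subgroup G)}) ∈ s := by
    rw [huniv]; exact Finset.mem_univ _
  simp only [s, Finset.mem_insert, Finset.mem_singleton, Subtype.mk.injEq] at hmem
  exact hmem

/-- (G1) the 18 neighbours of `R`. -/
theorem adj_iff (B : Base G) (L : Loc G) (T : Tri t R R2 R3) :
    (∀ X : Sylow 3 G, Adj R X ↔ ∃ r ∈ (R : Subgroup G), X = r • R2 ∨ X = r • R3) ∧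
    (∀ r ∈ (R : Subgroup G), ∀ r' ∈ (R : Subgroup G), r • R2 ≠ r' • R3) ∧
    (∀ r ∈ (R : Subgroup G), ∀ r' ∈ (R : Subgroup G), r • R2 = r' • R2 → r = r') := by
  refine ⟨?_, ?_, ?_⟩
  · intro X
    constructor
    · rintro ⟨hne, u, hu, huR, huX⟩
      -- `x = t⁻¹ u ∈ C(R) = R`
      have hc : t⁻¹ * u ∈ centralizer ((R : Subgroup G) : Set G) := by
        rw [mem_centralizer_iff]
        intro x hx
        have h1 := huR x hx
        have h2 := T.i1 x hx
        have h3 : t⁻¹ * x⁻¹ * t = x := by rw [← h2]; group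
        have : t⁻¹ * u * x * (t⁻¹ * u)⁻¹ = x := by
          calc t⁻¹ * u * x * (t⁻¹ * u)⁻¹ = t⁻¹ * (u * x * u⁻¹) * t := by group
            _ = t⁻¹ * x⁻¹ * t := by rw [h1]
            _ = x := h3
        calc x * (t⁻¹ * u) = (t⁻¹ * u * x * (t⁻¹ * u)⁻¹) * (t⁻¹ * u) := by rw [this]
          _ = t⁻¹ * u * x := by group
      have hxR := L.cent R _ hc
      set x := t⁻¹ * u with hx
      have hux : u = t * x := by rw [hx]; group
      have e3 : x ^ 3 = 1 := L.exp3 R x hxR
      have hxx : x * x = x⁻¹ := by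
        have : x * x * x = 1 := by rw [← e3, pow_succ, pow_two]
        exact eq_inv_of_mul_eq_one_left this
      have hconj : x * t * x⁻¹ = u := by
        rw [g1_conj T.i1 hxR, hxx, hux, g1_comm T.i1 hxR]
      -- `x⁻¹ • X` is inverted by `t`
      have hinv : Inverts t ((x⁻¹ • X : Sylow 3 G) : Subgroup G) := by
        have := h4_inverts_smul (g := x⁻¹) huX
        have e : x⁻¹ * u * x⁻¹⁻¹ = t := by rw [← hconj]; group
        rwa [e] at this
      have hne' : x⁻¹ • X ≠ R := g1_smul_ne ((R : Subgroup G).inv_mem hxR) hne.symm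
      refine ⟨x, hxR, ?_⟩
      rcases g1_three L T hinv with h | h | h
      · exact absurd h hne'
      · left
        rw [← h, smul_inv_smul]
      · right
        rw [← h, smul_inv_smul]
    · rintro ⟨r, hr, h | h⟩
      · rw [h]
        refine ⟨(g1_smul_ne hr T.ne12.symm).symm, r * t * r⁻¹, ?_, ?_, h4_inverts_smul T.i2⟩
        · rw [h4_orderOf_conj]; exact T.ht
        · have := h4_inverts_smul (g := r) T.i1
          rwa [g1_smul_self hr] at this
      · rw [h]
        refine ⟨(g1_smul_ne hr T.ne13.symm).symm, r * t * r⁻¹, ?_, ?_, h4_inverts_smul T.i3⟩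
        · rw [h4_orderOf_conj]; exact T.ht
        · have := h4_inverts_smul (g := r) T.i1
          rwa [g1_smul_self hr] at this
  · intro r hr r' hr' h
    have e := g1_inj L T.ht T.i1 T.i2 T.i3 T.ne12.symm hr hr' h
    rw [e] at h
    have := congrArg (fun Z => r'⁻¹ • Z) h
    simp only [inv_smul_smul] at this
    exact T.ne23 this
  · intro r hr r' hr' h
    exact g1_inj L T.ht T.i1 T.i2 T.i2 T.ne12.symm hr hr' h

end Gr

end Cfsg.Agent.Helper22.M11U
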