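import Mathlib
import Cfsg.Prelude.Def_Local
import Cfsg.Prelude.Def_Solvable
import Cfsg.Agent.Lib.Helper52.Coprime
import Cfsg.Agent.Lib.Helper22.Radical

set_option autoImplicit false
open scoped commutatorElement

namespace Cfsg.Agent.Helper22.LBal

open Subgroup

variable {G : Type*} [Group G]

/-- A perfect solvable subgroup is trivial. -/
theorem perfect_solvable_eq_bot {I : Subgroup G} [hI : Group.IsPerfect ↥I]
    (hsol : Group.IsSolvable ↥I) : I = ⊥ := by
  by_contra hne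
  have : Nontrivial ↥I := (Subgroup.nontrivial_iff_ne_bot I).mpr hne
  exact Group.IsPerfect.not_isSolvable ↥I hsol

/-- A homomorphism from a perfect group to a solvable group is trivial. -/
theorem perfect_hom_solvable_trivial {A B : Type*} [Group A] [Group B] [Group.IsPerfect A]
    [hB : Group.IsSolvable B] (f : A →* B) (a : A) : f a = 1 := by
  haveI : Group.IsPerfect ↥f.range := Group.IsPerfect.range f
  have hsol : Group.IsSolvable ↥f.range := inferInstance
  have h := perfect_solvable_eq_bot (I := f.range) hsol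
  have : f a ∈ f.range := ⟨a, rfl⟩
  rw [h] at this
  exact Subgroup.mem_bot.mp this

/-- If `t` is a `p`-element, `n` is prime to `p` and `t ^ n ∈ H`, then `t ∈ H`. -/
theorem mem_of_pow_mem_of_coprime {p : ℕ} {t : G} {a n : ℕ} (ht : t ^ p ^ a = 1)
    (hn : n.Coprime p) {H : Subgroup G} (h : t ^ n ∈ H) : t ∈ H := by
  have hcop : Nat.Coprime n (p ^ a) := Nat.Coprime.pow_right a hn
  -- Bezout: ∃ u v, n * u = p^a * v + 1 (or similar)
  have hgcd : Nat.gcd n (p ^ a) = 1 := hcop
  have hz : (t : G) ^ (1 : ℤ) ∈ H := by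
    have hb := Int.gcd_eq_gcd_ab (n : ℤ) ((p ^ a : ℕ) : ℤ)
    have h1 : ((Int.gcd (n : ℤ) ((p ^ a : ℕ) : ℤ) : ℕ) : ℤ) = 1 := by
      rw [Int.gcd_natCast_natCast]; exact_mod_cast hgcd
    rw [h1] at hb
    rw [hb, zpow_add, zpow_mul, zpow_mul, zpow_natCast, zpow_natCast, ht, one_zpow, mul_one]
    exact H.zpow_mem h _
  simpa using hz

/-- A perfect finite subgroup `I` is contained in any subgroup `T` such that `I ⊓ T` is normalized by
`I` and `T` contains all `p'`-elements of `I`. -/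
theorem perfect_le_of_pprime_mem [Finite G] (p : ℕ) [hp : Fact p.Prime] {I T : Subgroup G}
    [hI : Group.IsPerfect ↥I]
    (hTn : ∀ g ∈ I, ∀ t ∈ I, t ∈ T → g * t * g⁻¹ ∈ T)
    (hT : ∀ g ∈ I, (orderOf g).Coprime p → g ∈ T) : I ≤ T := by
  set T' : Subgroup ↥I := T.subgroupOf I with hT'
  haveI hnorm : T'.Normal := by
    refine ⟨fun t ht g => ?_⟩
    rw [hT', Subgroup.mem_subgroupOf] at ht ⊢
    exact hTn g g.2 t t.2 ht
  -- the quotient is a p-group
  have hpg : IsPGroup p (↥I ⧸ T') := by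
    intro x
    obtain ⟨g, rfl⟩ := QuotientGroup.mk_surjective x
    have hpos : 0 < orderOf (g : ↥I) := orderOf_pos g
    obtain ⟨a, m, hm, hgm⟩ := Nat.exists_eq_pow_mul_and_not_dvd hpos.ne' p hp.out.ne_one
    refine ⟨a, ?_⟩
    rw [← QuotientGroup.mk_pow, QuotientGroup.eq_one_iff, hT', Subgroup.mem_subgroupOf]
    apply hT _ (I.pow_mem g.2 _)
    have ho : orderOf ((g : G) ^ p ^ a) = m := by
      have h1 : orderOf (g : G) = p ^ a * m := by
        rw [← hgm]; exact (Subgroup.orderOf_coe g)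
      rw [orderOf_pow' _ (pow_ne_zero _ hp.out.ne_zero), h1, Nat.gcd_mul_right_left]
      exact Nat.mul_div_cancel_left m (pow_pos hp.out.pos a)
    rw [ho]
    exact ((Nat.Prime.coprime_iff_not_dvd hp.out).mpr hm).symm
  haveI : Group.IsPerfect (↥I ⧸ T') := inferInstance
  have hsub : Subsingleton (↥I ⧸ T') := by
    by_contra hns
    rw [not_subsingleton_iff_nontrivial] at hns
    haveI := hns
    haveI : Group.IsNilpotent (↥I ⧸ T') := hpg.isNilpotent
    exact Group.IsPerfect.not_isNilpotent (↥I ⧸ T') inferInstance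
  intro g hg
  have h1 : (QuotientGroup.mk (⟨g, hg⟩ : ↥I) : ↥I ⧸ T') = 1 := Subsingleton.elim _ _
  rw [QuotientGroup.eq_one_iff, hT', Subgroup.mem_subgroupOf] at h1
  exact h1


/-- A perfect group has no subgroup of index two: for a subgroup `A` not containing `I` and `b ∈ I`
there is `h ∈ I` with `h ∉ A` and `h * b ∉ A`. -/
theorem exists_not_mem_mul_not_mem [Finite G] {I A : Subgroup G} [hI : Group.IsPerfect ↥I]
    (hA : ¬ I ≤ A) {b : G} (hb : b ∈ I) : ∃ h ∈ I, h ∉ A ∧ h * b ∉ A := by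
  by_contra hcon
  push Not at hcon
  have hbA : b ∉ A := by
    intro hbA
    apply hA
    intro h hh
    by_contra hhA
    exact hhA (by simpa using A.mul_mem (hcon h hh hhA) (A.inv_mem hbA))
  set A' : Subgroup ↥I := A.subgroupOf I with hA'
  have hidx : A'.index = 2 := by
    rw [Subgroup.index_eq_two_iff]
    refine ⟨⟨b, hb⟩, fun h => ?_⟩
    by_cases hh : h ∈ A'
    · right
      refine ⟨hh, fun hhb => ?_⟩
      rw [hA', Subgroup.mem_subgroupOf] at hh hhb
      apply hbA
      have := A.mul_mem (A.inv_mem hh) hhb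
      simpa using this
    · left
      refine ⟨?_, hh⟩
      rw [hA', Subgroup.mem_subgroupOf] at hh ⊢
      exact hcon h h.2 hh
  haveI hn : A'.Normal := Subgroup.normal_of_index_eq_two hidx
  have hcard : Nat.card (↥I ⧸ A') = 2 := by rw [← Subgroup.index_eq_card]; exact hidx
  have hpg : IsPGroup 2 (↥I ⧸ A') := IsPGroup.of_card (n := 1) (by simpa using hcard)
  haveI : Group.IsNilpotent (↥I ⧸ A') := by
    haveI : Fact (Nat.Prime 2) := ⟨Nat.prime_two⟩
    exact hpg.isNilpotent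
  haveI : Nontrivial (↥I ⧸ A') := by
    rw [← Finite.one_lt_card_iff_nontrivial, hcard]; norm_num
  exact Group.IsPerfect.not_isNilpotent (↥I ⧸ A') inferInstance

/-- An element normalizing a perfect subgroup `K` and acting trivially on `K / Z(K)` centralizes
`K`. -/
theorem mem_centralizer_of_perfect {K : Subgroup G} [hK : Group.IsPerfect ↥K] {a : G}
    (ha : ∀ y ∈ K, y⁻¹ * (a * y * a⁻¹) ∈ K ⊓ centralizer (K : Set G)) :
    a ∈ centralizer (K : Set G) := by
  set Z : Subgroup G := K ⊓ centralizer (K : Set G) with hZ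
  have hZcomm : ∀ x y : ↥Z, x * y = y * x := by
    intro x y
    apply Subtype.ext
    have hx := (Subgroup.mem_inf.mp x.2).1
    have hy := (Subgroup.mem_inf.mp y.2).2
    exact (Subgroup.mem_centralizer_iff.mp hy (x : G) hx)
  haveI : Group.IsSolvable ↥Z := isSolvable_of_comm hZcomm
  let φ : ↥K →* ↥Z := MonoidHom.mk' (fun y => ⟨(y : G)⁻¹ * (a * y * a⁻¹), ha y y.2⟩) (by
    intro y y'
    apply Subtype.ext
    show ((y * y' : ↥K) : G)⁻¹ * (a * ((y * y' : ↥K) : G) * a⁻¹)
      = ((y : G)⁻¹ * (a * y * a⁻¹)) * ((y' : G)⁻¹ * (a * y' * a⁻¹))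
    have hc : ((y : G)⁻¹ * (a * y * a⁻¹)) * (y' : G)⁻¹
        = (y' : G)⁻¹ * ((y : G)⁻¹ * (a * y * a⁻¹)) := by
      have h1 := (Subgroup.mem_inf.mp (ha y y.2)).2
      exact (Subgroup.mem_centralizer_iff.mp h1 _ (K.inv_mem y'.2)).symm
    calc ((y * y' : ↥K) : G)⁻¹ * (a * ((y * y' : ↥K) : G) * a⁻¹)
        = (y' : G)⁻¹ * ((y : G)⁻¹ * (a * y * a⁻¹)) * (a * y' * a⁻¹) := by
          simp only [Subgroup.coe_mul]; group
      _ = ((y : G)⁻¹ * (a * y * a⁻¹)) * (y' : G)⁻¹ * (a * y' * a⁻¹) := by rw [hc]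
      _ = _ := by group)
  rw [Subgroup.mem_centralizer_iff]
  intro y hy
  have h1 := perfect_hom_solvable_trivial φ ⟨y, hy⟩
  have h2 : (y : G)⁻¹ * (a * y * a⁻¹) = 1 := congrArg Subtype.val h1
  have h3 : a * y * a⁻¹ = y := by
    have := congrArg (fun z => y * z) h2
    simpa [mul_assoc] using this
  calc y * a = (a * y * a⁻¹) * a := by rw [h3]
    _ = a * y := by group

/-- Coprime Frattini argument: if `O` is a normal `p'`-subgroup, `R` a `p`-subgroup and
`x R x⁻¹ ≤ O R`, then `x ∈ O · N(R)`. -/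
theorem exists_mul_mem_normalizer [Finite G] {p : ℕ} [hp : Fact p.Prime] (O R : Subgroup G)
    [O.Normal] (hO : (Nat.card O).Coprime p) (hR : IsPGroup p R) (x : G)
    (hx : R.map (MulAut.conj x).toMonoidHom ≤ O ⊔ R) :
    ∃ n ∈ O, n⁻¹ * x ∈ normalizer (R : Set G) := by
  have hsol : Group.IsSolvable ↥R := by
    haveI := hR.isNilpotent
    infer_instance
  obtain ⟨k, hk⟩ := IsPGroup.iff_card.mp hR
  have hcop : (Nat.card O).Coprime (Nat.card R) := by
    rw [hk]; exact Nat.Coprime.pow_right k hO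
  have hAN : R ≤ normalizer (O : Set G) := by
    rw [Subgroup.normalizer_eq_top]; exact le_top
  obtain ⟨n, hn, hEq⟩ := Cfsg.Agent.Helper52.sz_conj_internal O R
    (R.map (MulAut.conj x).toMonoidHom) hAN (Or.inr hsol) hcop
    (Cfsg.Agent.Helper22.card_conjS x R) hx
  refine ⟨n, hn, ?_⟩
  rw [Cfsg.Agent.Helper22.mem_normalizer_iff_conjS, Cfsg.Agent.Helper22.conjS_mul]
  have : Cfsg.Agent.Helper22.conjS x R = Cfsg.Agent.Helper22.conjS n R := hEq
  rw [this, Cfsg.Agent.Helper22.conjS_inv_conjS]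

end Cfsg.Agent.Helper22.LBal
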