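import Mathlib
import Cfsg.Prelude.Def_Local
import Cfsg.Prelude.Def_Solvable
import Cfsg.Prelude.Def_CaseTheorems
import Cfsg.Agent.Lib.Helper21.PGen
import Cfsg.Agent.Lib.Helper34.Components
import Cfsg.Agent.Lib.Helper22.Components
import Cfsg.Agent.Lib.Helper22.Radical
import Cfsg.Agent.Lib.Helper22.Structure
import Cfsg.Agent.Lib.Helper22.Bender
import Cfsg.Agent.Lib.Helper22.Fitting
import Cfsg.Agent.Lib.Helper22.LBal1

/-!
# Facts on `p`-components used for `L_{p'}`-balance (helper22)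
-/

set_option autoImplicit false
open scoped commutatorElement

namespace Cfsg.Agent.Helper22.LBal

open Subgroup

variable {Y : Type*} [Group Y]

/-- A `p`-component is perfect. -/
theorem isPerfect_of_isPComponent {p : ℕ} {I : Subgroup Y} (hI : Cfsg.IsPComponent p I) :
    Group.IsPerfect ↥I :=
  Subgroup.isPerfect_iff.mpr (Cfsg.Agent.Helper34.IsPComponent.commutator_eq_self hI)

/-- A `p`-component is generated by its `p`-elements. -/
theorem pComponent_le_of_pelements [Finite Y] {p : ℕ} [Fact p.Prime] {I T : Subgroup Y}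
    (hI : Cfsg.IsPComponent p I) (hT : ∀ g ∈ I, (∃ k : ℕ, g ^ p ^ k = 1) → g ∈ T) : I ≤ T := by
  have h := Cfsg.Agent.Helper21.pComponent_eq_pGen p hI
  set H := (I.map (QuotientGroup.mk' (Cfsg.pPrimeCore p Y))).comap
    (QuotientGroup.mk' (Cfsg.pPrimeCore p Y)) with hH
  have h2 : Cfsg.Agent.Helper21.pGen p H ≤ T := by
    apply Cfsg.Agent.Helper21.pGen_le_of_forall
    intro g hg hk
    apply hT g _ hk
    rw [h]
    exact Cfsg.Agent.Helper21.mem_pGen hg hk
  calc I = Cfsg.Agent.Helper21.pGen p H := h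
    _ ≤ T := h2

/-- If `D` is normal, `O` is a normal `p'`-subgroup and `g ∈ D ⊔ O` is a `p`-element then `g ∈ D`. -/
theorem mem_of_mem_sup_of_pelement [Finite Y] {p : ℕ} (D O : Subgroup Y) [D.Normal] [O.Normal]
    (hO : (Nat.card O).Coprime p) {g : Y} (hg : g ∈ D ⊔ O) {k : ℕ} (hk : g ^ p ^ k = 1) :
    g ∈ D := by
  obtain ⟨d, hd, o, ho, rfl⟩ := Subgroup.mem_sup_of_normal_right.1 hg
  let q := QuotientGroup.mk' D
  have e1 : q (d * o) = q o := by
    rw [map_mul]
    have : q d = 1 := by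
      rw [QuotientGroup.mk'_apply, QuotientGroup.eq_one_iff]; exact hd
    rw [this, one_mul]
  have e2 : (q o) ^ p ^ k = 1 := by
    rw [← e1, ← map_pow, hk, map_one]
  have e3 : (q o) ^ Nat.card O = 1 := by
    rw [← map_pow]
    have h1 : (⟨o, ho⟩ : O) ^ Nat.card O = 1 := pow_card_eq_one'
    have h2 : o ^ Nat.card O = 1 := by
      have h3 : ((⟨o, ho⟩ : O) ^ Nat.card O : O).1 = (1 : O).1 := congrArg Subtype.val h1
      rw [Subgroup.coe_pow, Subgroup.coe_one] at h3
      exact h3
    rw [h2, map_one]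
  have e4 : q o = 1 := by
    have hcop : (p ^ k).Coprime (Nat.card O) := Nat.Coprime.pow_left k hO.symm
    have := pow_gcd_eq_one.2 ⟨e2, e3⟩
    rw [hcop, pow_one] at this
    exact this
  have e5 : q (d * o) = 1 := by rw [e1, e4]
  rw [QuotientGroup.mk'_apply, QuotientGroup.eq_one_iff] at e5
  exact e5

/-- Dichotomy for a `p`-component `I` and a normal subgroup `D`: `I ≤ D` or `[I, D] ≤ O_{p'}`. -/
theorem pComponent_le_or_commutator_le [Finite Y] {p : ℕ} [Fact p.Prime] {I : Subgroup Y}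
    (hI : Cfsg.IsPComponent p I) (D : Subgroup Y) [hD : D.Normal] :
    I ≤ D ∨ ⁅I, D⁆ ≤ Cfsg.pPrimeCore p Y := by
  set O := Cfsg.pPrimeCore p Y with hOdef
  set mk := QuotientGroup.mk' O with hmk
  have hcomp : Cfsg.IsComponent (I.map mk) := hI.2.1
  have hDn : (D.map mk).Normal := hD.map mk (QuotientGroup.mk'_surjective O)
  rcases component_le_or_commutator_eq_bot hcomp (Subgroup.Normal.isSubnormal hDn) with h | h
  · left
    have h1 : I ≤ D ⊔ O := by
      have := (Subgroup.map_le_map_iff).mp h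
      rwa [QuotientGroup.ker_mk'] at this
    apply pComponent_le_of_pelements hI
    rintro g hg ⟨k, hk⟩
    exact mem_of_mem_sup_of_pelement D O (card_pPrimeCore_coprime p) (h1 hg) hk
  · right
    rw [← Subgroup.map_commutator, Subgroup.map_eq_bot_iff, QuotientGroup.ker_mk'] at h
    exact h

/-- A `p`-component centralizes every normal `p`-subgroup. -/
theorem pComponent_commutator_pgroup [Finite Y] {p : ℕ} [hp : Fact p.Prime] {I : Subgroup Y}
    (hI : Cfsg.IsPComponent p I) (Q : Subgroup Y) [hQn : Q.Normal] (hQ : IsPGroup p Q) :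
    ⁅I, Q⁆ = ⊥ := by
  rcases pComponent_le_or_commutator_le hI Q with h | h
  · haveI := isPerfect_of_isPComponent hI
    have hIp : IsPGroup p I := hQ.to_le h
    have hsol : Group.IsSolvable ↥I := by
      haveI := hIp.isNilpotent
      infer_instance
    rw [perfect_solvable_eq_bot (I := I) hsol]
    rw [eq_bot_iff, Subgroup.commutator_le]
    intro a ha b _
    rw [Subgroup.mem_bot] at ha
    rw [ha]; simp
  · have h2 : ⁅I, Q⁆ ≤ Q := Subgroup.commutator_le_right I Q
    have h3 : ⁅I, Q⁆ ≤ Cfsg.pPrimeCore p Y ⊓ Q := le_inf h h2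
    have h4 : Cfsg.pPrimeCore p Y ⊓ Q = ⊥ := by
      obtain ⟨k, hk⟩ := IsPGroup.iff_card.mp hQ
      apply disjoint_iff.mp
      apply Subgroup.disjoint_of_coprime_natCard
      rw [hk]
      exact Nat.Coprime.pow_right k (card_pPrimeCore_coprime p)
    rw [h4] at h3
    exact le_bot_iff.mp h3

end Cfsg.Agent.Helper22.LBal
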