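import Mathlib
import Cfsg.Agent.Lib.Helper22.LBal2
import Cfsg.Agent.Lib.Helper21.PComponents
import Cfsg.Agent.Lib.Helper34.Cover
import Cfsg.Agent.Lib.Helper34.PPrimeCore

/-!
# Intrinsic characterization of `p`-components (helper22)
-/

set_option autoImplicit false
open scoped commutatorElement

namespace Cfsg.Agent.Helper22.BBal

open Subgroup Cfsg.Agent.Helper22.LBal

/-- The group `T` is generated by its `p`-elements. -/
def PGenerated (p : ℕ) (T : Type*) [Group T] : Prop :=
  ∀ M : Subgroup T, (∀ g : T, (∃ k : ℕ, g ^ p ^ k = 1) → g ∈ M) → M = ⊤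

/-- `T` is generated by `p`-elements and `T / O_{p'}(T)` is quasisimple. -/
def PCompLike (p : ℕ) (T : Type*) [Group T] : Prop :=
  PGenerated p T ∧ Cfsg.IsQuasisimple (T ⧸ Cfsg.pPrimeCore p T)

theorem PGenerated.of_surjective {p : ℕ} {T T' : Type*} [Group T] [Group T'] (f : T →* T')
    (hf : Function.Surjective f) (h : PGenerated p T) : PGenerated p T' := by
  intro M hM
  have h1 : M.comap f = ⊤ := by
    apply h
    intro g ⟨k, hk⟩
    rw [Subgroup.mem_comap]
    exact hM _ ⟨k, by rw [← map_pow, hk, map_one]⟩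
  rw [eq_top_iff]
  intro t _
  obtain ⟨s, rfl⟩ := hf t
  have : s ∈ M.comap f := h1 ▸ Subgroup.mem_top s
  exact this

/-- A `p`-generated finite `p'`-group is trivial. -/
theorem PGenerated.subsingleton_of_coprime {p : ℕ} {T : Type*} [Group T] [Finite T]
    (h : PGenerated p T) (hc : (Nat.card T).Coprime p) : Subsingleton T := by
  have h1 : (⊥ : Subgroup T) = ⊤ := by
    apply h
    intro g ⟨k, hk⟩
    rw [Subgroup.mem_bot]
    have h2 : g ^ Nat.card T = 1 := pow_card_eq_one'
    have h3 : g ^ Nat.gcd (p ^ k) (Nat.card T) = 1 := pow_gcd_eq_one.2 ⟨hk, h2⟩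
    have h4 : Nat.gcd (p ^ k) (Nat.card T) = 1 := (Nat.Coprime.pow_right k hc).symm
    rwa [h4, pow_one] at h3
  refine ⟨fun a b => ?_⟩
  have ha : a ∈ (⊥ : Subgroup T) := h1 ▸ Subgroup.mem_top a
  have hb : b ∈ (⊥ : Subgroup T) := h1 ▸ Subgroup.mem_top b
  rw [Subgroup.mem_bot] at ha hb
  rw [ha, hb]

theorem PCompLike.of_surjective {p : ℕ} [hp : Fact p.Prime] {T T' : Type*} [Group T] [Group T']
    [Finite T] (f : T →* T') (hf : Function.Surjective f) (h : PCompLike p T)
    [hnt : Nontrivial T'] : PCompLike p T' := by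
  haveI : Finite T' := Finite.of_surjective f hf
  have hg' : PGenerated p T' := h.1.of_surjective f hf
  refine ⟨hg', ?_⟩
  have hle : Cfsg.pPrimeCore p T ≤ (Cfsg.pPrimeCore p T').comap f := by
    rw [← Subgroup.map_le_iff_le_comap]
    haveI : ((Cfsg.pPrimeCore p T).map f).Normal := Subgroup.Normal.map inferInstance f hf
    apply le_pPrimeCore inferInstance
    exact Nat.Coprime.coprime_dvd_left (Subgroup.card_map_dvd _ _) (card_pPrimeCore_coprime p)
  let ψ : T ⧸ Cfsg.pPrimeCore p T →* T' ⧸ Cfsg.pPrimeCore p T' :=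
    QuotientGroup.map _ _ f hle
  have hψ : Function.Surjective ψ := by
    intro y
    obtain ⟨t', rfl⟩ := QuotientGroup.mk_surjective y
    obtain ⟨t, rfl⟩ := hf t'
    exact ⟨(t : T ⧸ Cfsg.pPrimeCore p T), rfl⟩
  haveI : Nontrivial (T' ⧸ Cfsg.pPrimeCore p T') := by
    by_contra hcon
    rw [not_nontrivial_iff_subsingleton] at hcon
    have htop : Cfsg.pPrimeCore p T' = ⊤ := by
      rw [eq_top_iff]
      intro t _
      have : (t : T' ⧸ Cfsg.pPrimeCore p T') = 1 := Subsingleton.elim _ _
      rwa [QuotientGroup.eq_one_iff] at this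
    have hc : (Nat.card T').Coprime p := by
      have := card_pPrimeCore_coprime (G := T') p
      rwa [htop, Subgroup.card_top] at this
    have := hg'.subsingleton_of_coprime hc
    exact not_subsingleton T' this
  exact Cfsg.Agent.Helper34.isQuasisimple_of_surjective h.2 ψ hψ

theorem PCompLike.of_mulEquiv {p : ℕ} [hp : Fact p.Prime] {T T' : Type*} [Group T] [Group T']
    [Finite T] (e : T ≃* T') (h : PCompLike p T) : PCompLike p T' := by
  haveI : Nontrivial T' := by
    by_contra hcon
    rw [not_nontrivial_iff_subsingleton] at hcon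
    have hs : Subsingleton T := e.toEquiv.subsingleton
    have hs2 : Subsingleton (T ⧸ Cfsg.pPrimeCore p T) := inferInstance
    have hn := Cfsg.Agent.Helper34.IsQuasisimple_nontrivial h.2
    exact not_subsingleton _ hs2
  exact h.of_surjective e.toMonoidHom e.surjective

variable {X : Type*} [Group X]

/-- A `p`-component satisfies the intrinsic conditions. -/
theorem PCompLike.of_isPComponent [Finite X] {p : ℕ} [Fact p.Prime] {K : Subgroup X}
    (hK : Cfsg.IsPComponent p K) : PCompLike p ↥K := by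
  refine ⟨?_, Cfsg.Agent.Helper21.pComponent_quotient_isQuasisimple p hK⟩
  intro M hM
  have h1 : K ≤ M.map K.subtype := by
    apply pComponent_le_of_pelements hK
    intro g hg ⟨k, hk⟩
    exact ⟨⟨g, hg⟩, hM _ ⟨k, Subtype.ext (by simpa using hk)⟩, rfl⟩
  rw [eq_top_iff]
  intro x _
  obtain ⟨y, hy, hyx⟩ := h1 x.2
  have : y = x := Subtype.ext hyx
  rwa [← this]

/-- A subnormal subgroup satisfying the intrinsic conditions is a `p`-component. -/
theorem PCompLike.isPComponent [Finite X] {p : ℕ} [Fact p.Prime] {K : Subgroup X}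
    (hsn : K.IsSubnormal) (h : PCompLike p ↥K) : Cfsg.IsPComponent p K := by
  refine ⟨hsn, ⟨hsn.map (QuotientGroup.mk'_surjective _), ?_⟩, ?_⟩
  · exact Cfsg.Agent.Helper34.isQuasisimple_of_mulEquiv
      (Cfsg.Agent.Helper21.quotientPPrimeCoreEquiv p hsn).symm h.2
  · intro H hH hHK hmap
    apply le_antisymm hHK
    have h1 : H ⊔ Cfsg.pPrimeCore p X = K ⊔ Cfsg.pPrimeCore p X := by
      rw [← Cfsg.Agent.Helper21.comap_map_mk_pPrimeCore, ← Cfsg.Agent.Helper21.comap_map_mk_pPrimeCore,
        hmap]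
    have h2 := Cfsg.Agent.Helper21.pGen_le_of_subnormal p hH h1
    -- K ≤ pGen p (K ⊔ O)
    have h3 : K ≤ Cfsg.Agent.Helper21.pGen p (K ⊔ Cfsg.pPrimeCore p X) := by
      set M : Subgroup ↥K := (Cfsg.Agent.Helper21.pGen p (K ⊔ Cfsg.pPrimeCore p X)).subgroupOf K
        with hM
      have hMtop : M = ⊤ := by
        apply h.1
        intro g ⟨k, hk⟩
        rw [hM, Subgroup.mem_subgroupOf]
        apply Cfsg.Agent.Helper21.mem_pGen (le_sup_left (a := K) g.2)
        exact ⟨k, by
          have := congrArg Subtype.val hk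
          simpa using this⟩
      intro x hx
      have : (⟨x, hx⟩ : ↥K) ∈ M := hMtop ▸ Subgroup.mem_top _
      rwa [hM, Subgroup.mem_subgroupOf] at this
    exact h3.trans h2

end Cfsg.Agent.Helper22.BBal
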