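import Mathlib
import Cfsg.Agent.Lib.Helper22.LBal2
import Cfsg.Agent.Lib.Helper30.AxB

/-!
# `L_{p'}`-balance, core argument in a group with trivial `p'`-core: centralizing `O_p` (helper22)
-/

set_option autoImplicit false
open scoped commutatorElement

namespace Cfsg.Agent.Helper22.LBal

open Subgroup

variable {G : Type*} [Group G]

/-- Conjugation by an element of the normalizer of `P` preserves the centralizer of `P`. -/
theorem conj_mem_centralizer_of_mem_normalizer {P : Subgroup G} {n d : G}
    (hn : n ∈ normalizer (P : Set G)) (hd : d ∈ centralizer (P : Set G)) :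
    n * d * n⁻¹ ∈ centralizer (P : Set G) := by
  rw [Subgroup.mem_centralizer_iff] at hd ⊢
  intro x hx
  have hx' : n⁻¹ * x * n ∈ P := by
    have := (Subgroup.mem_normalizer_iff'.mp hn (n⁻¹ * x)).mpr (by simpa using hx)
    simpa [mul_assoc] using this
  have h := hd _ hx'
  calc x * (n * d * n⁻¹) = n * ((n⁻¹ * x * n) * d) * n⁻¹ := by group
    _ = n * (d * (n⁻¹ * x * n)) * n⁻¹ := by rw [h]
    _ = n * d * n⁻¹ * x := by group

/-- When `O_{p'}(G) = 1`, the Fitting subgroup is a `p`-group. -/
theorem isPGroup_fittingSubgroup [Finite G] {p : ℕ} [Fact p.Prime]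
    (hO : Cfsg.pPrimeCore p G = ⊥) : IsPGroup p (Cfsg.fittingSubgroup G) := by
  have h := fittingSubgroup_le_pCore_sup_pPrimeCore (G := G) p
  rw [hO, sup_bot_eq] at h
  exact (isPGroup_pCore p).to_le h

/-- Hypotheses on the (image of a) `p`-component `I` of a `p`-local subgroup, in a group with
trivial `p'`-core. -/
structure Hyp (p : ℕ) (P I W : Subgroup G) : Prop where
  core : Cfsg.pPrimeCore p G = ⊥
  hP : IsPGroup p P
  cent : I ≤ centralizer (P : Set G)
  hW : (Nat.card W).Coprime p
  dich : ∀ D : Subgroup G, D ≤ centralizer (P : Set G) →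
    (∀ n ∈ normalizer (P : Set G), ∀ d ∈ D, n * d * n⁻¹ ∈ D) → I ≤ D ∨ ⁅I, D⁆ ≤ W

/-- Step 1: `I` centralizes the Fitting subgroup `F(G) = O_p(G)`. -/
theorem Hyp.le_centralizer_fitting [Finite G] {p : ℕ} [hp : Fact p.Prime] {P I W : Subgroup G}
    [hI : Group.IsPerfect ↥I] (h : Hyp p P I W) :
    I ≤ centralizer (Cfsg.fittingSubgroup G : Set G) := by
  set F := Cfsg.fittingSubgroup G with hF
  have hFp : IsPGroup p F := isPGroup_fittingSubgroup h.core
  set B : Subgroup G := F ⊓ centralizer (P : Set G) with hB
  have hIN : I ≤ normalizer (P : Set G) := h.cent.trans (centralizer_le_normalizer _)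
  have hBn : ∀ n ∈ normalizer (P : Set G), ∀ d ∈ B, n * d * n⁻¹ ∈ B := by
    intro n hn d hd
    rw [hB, Subgroup.mem_inf] at hd ⊢
    exact ⟨(fittingSubgroup_normal (G := G)).conj_mem d hd.1 n,
      conj_mem_centralizer_of_mem_normalizer hn hd.2⟩
  rcases h.dich B inf_le_right hBn with h1 | h1
  · -- I ≤ F is a perfect nilpotent group, so trivial
    have hIp : IsPGroup p I := hFp.to_le (h1.trans inf_le_left)
    have hsol : Group.IsSolvable ↥I := by
      haveI := hIp.isNilpotent
      infer_instance
    rw [perfect_solvable_eq_bot (I := I) hsol]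
    exact bot_le
  · have h2 : ⁅I, B⁆ ≤ B := by
      rw [Subgroup.commutator_le]
      intro i hi b hb
      rw [commutatorElement_def]
      exact B.mul_mem (hBn i (hIN hi) b hb) (B.inv_mem hb)
    have hBp : IsPGroup p B := hFp.to_le inf_le_left
    have h3 : W ⊓ B = ⊥ := by
      obtain ⟨k, hk⟩ := IsPGroup.iff_card.mp hBp
      apply disjoint_iff.mp
      apply Subgroup.disjoint_of_coprime_natCard
      rw [hk]
      exact Nat.Coprime.pow_right k h.hW
    have h4 : ⁅I, B⁆ = ⊥ := by
      have := le_inf h1 h2
      rw [h3] at this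
      exact le_bot_iff.mp this
    have hIB : I ≤ centralizer (B : Set G) := Subgroup.commutator_eq_bot_iff_le_centralizer.mp h4
    -- p'-elements of I centralize F by the A×B lemma
    have hT : ∀ g ∈ I, (orderOf g).Coprime p → g ∈ centralizer (F : Set G) := by
      intro g hg hcop
      have hA : ⁅P, zpowers g⁆ = ⊥ := by
        rw [Subgroup.commutator_comm, Subgroup.commutator_eq_bot_iff_le_centralizer,
          Subgroup.zpowers_le]
        exact h.cent hg
      have hC : F ⊓ centralizer (P : Set G) ≤ centralizer ((zpowers g : Subgroup G) : Set G) := by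
        rw [Subgroup.le_centralizer_iff, Subgroup.zpowers_le]
        exact hIB hg
      have hFn : normalizer (F : Set G) = ⊤ := Subgroup.normalizer_eq_top F
      have := Cfsg.Agent.Helper30.thompson_AxB P (zpowers g) h.hP
        (by rw [Nat.card_zpowers]; exact hcop) hA F hFp
        (by rw [hFn]; exact le_top) (by rw [hFn]; exact le_top) hC
      rw [Subgroup.commutator_comm, Subgroup.commutator_eq_bot_iff_le_centralizer,
        Subgroup.zpowers_le] at this
      exact this
    apply perfect_le_of_pprime_mem p _ hT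
    intro g _ t _ ht
    exact (Subgroup.normal_centralizer (H := F)).conj_mem t ht g

end Cfsg.Agent.Helper22.LBal
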