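import Mathlib
import Cfsg.Agent.Lib.Helper22.LBal3
import Cfsg.Agent.Lib.Helper34.PComponents
import Cfsg.Agent.Lib.Helper21.BalanceComp
import Cfsg.Agent.Lib.Helper2.Nilpotent

/-!
# `L_{p'}`-balance: a `p`-element of `M = ⟨K^P⟩` fixed by `P` modulo the centre (helper22)
-/

set_option autoImplicit false
open scoped commutatorElement Pointwise

namespace Cfsg.Agent.Helper22.LBal

open Subgroup

variable {G : Type*} [Group G]

theorem normalizer_le_normalizer_centralizer (M : Subgroup G) :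
    normalizer (M : Set G) ≤ normalizer ((centralizer (M : Set G) : Subgroup G) : Set G) := by
  intro s hs
  rw [Subgroup.mem_normalizer_iff]
  intro y
  constructor
  · intro hy
    exact conj_mem_centralizer_of_mem_normalizer hs hy
  · intro hy
    have := conj_mem_centralizer_of_mem_normalizer (Subgroup.inv_mem _ hs) hy
    simpa [mul_assoc] using this

/-- A component of a group with trivial `p'`-core contains a non-central `p`-element. -/
theorem exists_pelement_not_central [Finite G] {p : ℕ} [hp : Fact p.Prime]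
    (hO : Cfsg.pPrimeCore p G = ⊥) {K : Subgroup G} (hK : Cfsg.IsComponent K) :
    ∃ t ∈ K, (∃ a : ℕ, t ^ p ^ a = 1) ∧ t ∉ centralizer (K : Set G) := by
  have hdvd := Cfsg.Agent.Helper34.dvd_card_quotient_center_of_isComponent hO hK
  obtain ⟨kb, hkb⟩ := exists_prime_orderOf_dvd_card' p hdvd
  obtain ⟨k, rfl⟩ := QuotientGroup.mk_surjective kb
  have hkp : k ^ p ∈ center ↥K := by
    rw [← QuotientGroup.eq_one_iff, QuotientGroup.mk_pow, ← hkb, pow_orderOf_eq_one]
  have hkc : k ∉ center ↥K := by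
    intro h
    have h1 : (QuotientGroup.mk k : ↥K ⧸ center ↥K) = 1 := (QuotientGroup.eq_one_iff k).mpr h
    rw [h1, orderOf_one] at hkb
    exact hp.out.one_lt.ne hkb
  have hZp := Cfsg.Agent.Helper21.isPGroup_inf_centralizer_component p hO K hK
  have hmem : ((k : G) ^ p) ∈ K ⊓ centralizer (K : Set G) := by
    refine Subgroup.mem_inf.mpr ⟨K.pow_mem k.2 p, ?_⟩
    rw [Subgroup.mem_centralizer_iff]
    intro y hy
    have := Subgroup.mem_center_iff.mp hkp ⟨y, hy⟩
    have h2 := congrArg Subtype.val this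
    simpa using h2
  obtain ⟨j, hj⟩ := hZp ⟨(k : G) ^ p, hmem⟩
  refine ⟨(k : G), k.2, ⟨j + 1, ?_⟩, ?_⟩
  · have h2 := congrArg Subtype.val hj
    rw [Subgroup.coe_pow, Subgroup.coe_one] at h2
    rw [pow_succ', pow_mul]
    exact h2
  · intro hc
    apply hkc
    rw [Subgroup.mem_center_iff]
    intro y
    apply Subtype.ext
    have := Subgroup.mem_centralizer_iff.mp hc (y : G) y.2
    simpa using this


/-- Let `M` contain a component `K` of `G` (with `O_{p'}(G) = 1`) and be normalized by the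
`p`-subgroup `P`. Then there is a `p`-element `t ∈ M`, not centralizing `M`, which is fixed by `P`
modulo `Z(M)`. -/
theorem exists_pelement_mod_center [Finite G] {p : ℕ} [hp : Fact p.Prime]
    (hO : Cfsg.pPrimeCore p G = ⊥) {P : Subgroup G} (hP : IsPGroup p P)
    {K : Subgroup G} (hK : Cfsg.IsComponent K) (M : Subgroup G) (hKM : K ≤ M)
    (hPM : P ≤ normalizer (M : Set G)) :
    ∃ t ∈ M, (∃ a : ℕ, t ^ p ^ a = 1) ∧ t ∉ centralizer (M : Set G) ∧
      ∀ x ∈ P, t⁻¹ * (x * t * x⁻¹) ∈ M ⊓ centralizer (M : Set G) := by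
  set H : Subgroup G := M ⊔ P with hH
  have hMH : M ≤ H := le_sup_left
  have hPH : P ≤ H := le_sup_right
  have hHN : H ≤ normalizer (M : Set G) := sup_le le_normalizer hPM
  -- a Sylow p-subgroup of H containing P
  have hP' : IsPGroup p (P.subgroupOf H) := hP.comap_subtype
  obtain ⟨S', hS'⟩ := hP'.exists_le_sylow
  set S : Subgroup G := (S' : Subgroup ↥H).map H.subtype with hS
  have hSp : IsPGroup p S := S'.isPGroup'.map H.subtype
  have hPS : P ≤ S := by
    intro x hx
    exact ⟨⟨x, hPH hx⟩, hS' (by rw [Subgroup.mem_subgroupOf]; exact hx), rfl⟩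
  have hSH : S ≤ H := Subgroup.map_subtype_le _
  have hSNM : S ≤ normalizer (M : Set G) := hSH.trans hHN
  set Z : Subgroup G := M ⊓ centralizer (M : Set G) with hZ
  set T : Subgroup G := S ⊓ M with hT
  -- T is not contained in Z
  have hTZ : ¬ T ≤ Z := by
    intro hTZ
    obtain ⟨t₀, ht₀K, ⟨a, ha⟩, ht₀c⟩ := exists_pelement_not_central hO hK
    have ht₀H : t₀ ∈ H := hMH (hKM ht₀K)
    have hz : IsPGroup p (zpowers (⟨t₀, ht₀H⟩ : ↥H)) := by
      have hord : orderOf (⟨t₀, ht₀H⟩ : ↥H) ∣ p ^ a := by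
        apply orderOf_dvd_of_pow_eq_one
        apply Subtype.ext
        simpa using ha
      obtain ⟨m, _, hm⟩ := (Nat.dvd_prime_pow hp.out).mp hord
      exact IsPGroup.of_card (n := m) (by rw [Nat.card_zpowers, hm])
    obtain ⟨S'', hS''⟩ := hz.exists_le_sylow
    obtain ⟨h, hh⟩ := MulAction.exists_smul_eq ↥H S'' S'
    have h1 : h * ⟨t₀, ht₀H⟩ * h⁻¹ ∈ (S' : Subgroup ↥H) := by
      rw [← hh, Sylow.coe_subgroup_smul]
      have := Subgroup.smul_mem_pointwise_smul (⟨t₀, ht₀H⟩ : ↥H) (MulAut.conj h)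
        (S'' : Subgroup ↥H) (hS'' (Subgroup.mem_zpowers _))
      simpa [MulAut.smul_def] using this
    have h2 : (h : G) * t₀ * (h : G)⁻¹ ∈ S := ⟨_, h1, by simp⟩
    have hhN : (h : G) ∈ normalizer (M : Set G) := hHN h.2
    have h3 : (h : G) * t₀ * (h : G)⁻¹ ∈ M :=
      (Subgroup.mem_normalizer_iff.mp hhN t₀).mp (hKM ht₀K)
    have h4 : (h : G) * t₀ * (h : G)⁻¹ ∈ centralizer (M : Set G) :=
      (Subgroup.mem_inf.mp (hTZ (Subgroup.mem_inf.mpr ⟨h2, h3⟩))).2
    have h5 := conj_mem_centralizer_of_mem_normalizer (Subgroup.inv_mem _ hhN) h4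
    have h6 : (h : G)⁻¹ * ((h : G) * t₀ * (h : G)⁻¹) * ((h : G)⁻¹)⁻¹ = t₀ := by group
    rw [h6] at h5
    exact ht₀c (Subgroup.centralizer_le hKM h5)
  -- normality data in S
  have hSNZ : S ≤ normalizer (Z : Set G) := by
    refine le_trans ?_ (normalizer_inf_le M (centralizer (M : Set G)))
    exact le_inf hSNM (hSNM.trans (normalizer_le_normalizer_centralizer M))
  have hSNT : S ≤ normalizer (T : Set G) := by
    refine le_trans ?_ (normalizer_inf_le S M)
    exact le_inf le_normalizer hSNM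
  haveI hZn : (Z.subgroupOf S).Normal := Subgroup.normal_subgroupOf_of_le_normalizer hSNZ
  haveI hTn : (T.subgroupOf S).Normal := Subgroup.normal_subgroupOf_of_le_normalizer hSNT
  set mk := QuotientGroup.mk' (Z.subgroupOf S) with hmk
  set Tb : Subgroup (↥S ⧸ Z.subgroupOf S) := (T.subgroupOf S).map mk with hTb
  haveI hTbn : Tb.Normal := hTn.map mk (QuotientGroup.mk'_surjective _)
  have hTb1 : Tb ≠ ⊥ := by
    intro h
    rw [hTb, Subgroup.map_eq_bot_iff, QuotientGroup.ker_mk'] at h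
    apply hTZ
    intro t ht
    have htS : t ∈ S := (Subgroup.mem_inf.mp ht).1
    have := h (show (⟨t, htS⟩ : ↥S) ∈ T.subgroupOf S from by
      rw [Subgroup.mem_subgroupOf]; exact ht)
    rw [Subgroup.mem_subgroupOf] at this
    exact this
  have hSp' : IsPGroup p ↥S := hSp
  haveI : Group.IsNilpotent (↥S ⧸ Z.subgroupOf S) := (hSp'.to_quotient _).isNilpotent
  have hne := Cfsg.Agent.Helper2.normal_inf_center_ne_bot Tb hTb1
  obtain ⟨τ, hτ1⟩ := (Subgroup.ne_bot_iff_exists_ne_one).mp hne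
  have hτT : (τ : ↥S ⧸ Z.subgroupOf S) ∈ Tb := (Subgroup.mem_inf.mp τ.2).1
  have hτc : (τ : ↥S ⧸ Z.subgroupOf S) ∈ center (↥S ⧸ Z.subgroupOf S) := (Subgroup.mem_inf.mp τ.2).2
  obtain ⟨t', ht', hτeq⟩ := Subgroup.mem_map.mp hτT
  rw [Subgroup.mem_subgroupOf] at ht'
  have htM : (t' : G) ∈ M := (Subgroup.mem_inf.mp ht').2
  refine ⟨(t' : G), htM, ?_, ?_, ?_⟩
  · obtain ⟨a, ha⟩ := hSp' t'
    refine ⟨a, ?_⟩
    have := congrArg Subtype.val ha
    simpa using this
  · intro hc
    apply hτ1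
    apply Subtype.ext
    rw [Subgroup.coe_one, ← hτeq, hmk, QuotientGroup.mk'_apply, QuotientGroup.eq_one_iff,
      Subgroup.mem_subgroupOf]
    exact Subgroup.mem_inf.mpr ⟨htM, hc⟩
  · intro x hx
    have hxS : x ∈ S := hPS hx
    have hcomm := Subgroup.mem_center_iff.mp hτc (mk ⟨x, hxS⟩)
    rw [← hτeq, ← map_mul, ← map_mul] at hcomm
    -- mk (x * t') = mk (t' * x)
    have h1 : mk (t'⁻¹ * (⟨x, hxS⟩ * t' * ⟨x, hxS⟩⁻¹)) = 1 := by
      rw [map_mul, map_mul, hcomm, map_mul, map_inv, map_inv]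
      group
    rw [hmk, QuotientGroup.mk'_apply, QuotientGroup.eq_one_iff, Subgroup.mem_subgroupOf] at h1
    simpa using h1

end Cfsg.Agent.Helper22.LBal
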