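import Mathlib
import Cfsg.Agent.Lib.Helper22.LBal4

/-!
# `L_{p'}`-balance: the orbit argument (helper22)
-/

set_option autoImplicit false
open scoped commutatorElement

namespace Cfsg.Agent.Helper22.LBal

open Subgroup

variable {G : Type*} [Group G]

theorem conjS_comm {P : Subgroup G} {a x : G} (ha : a ∈ centralizer (P : Set G)) (hx : x ∈ P)
    (K : Subgroup G) : conjS a (conjS x K) = conjS x (conjS a K) := by
  rw [← conjS_mul, ← conjS_mul, Subgroup.mem_centralizer_iff.mp ha x hx]

/-- The subgroup generated by the `P`-conjugates of `K`. -/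
def orbSup (P K : Subgroup G) : Subgroup G := ⨆ x : ↥P, conjS (x : G) K

theorem conjS_le_orbSup {P : Subgroup G} {x : G} (hx : x ∈ P) (K : Subgroup G) :
    conjS x K ≤ orbSup P K :=
  le_iSup (fun x : ↥P => conjS (x : G) K) ⟨x, hx⟩

theorem le_orbSup (P K : Subgroup G) : K ≤ orbSup P K := by
  have := conjS_le_orbSup (P := P) P.one_mem K
  rwa [conjS_one] at this

theorem orbSup_le_layer (P : Subgroup G) {K : Subgroup G} (hK : Cfsg.IsComponent K) :
    orbSup P K ≤ Cfsg.layer G :=
  iSup_le fun x => IsComponent.le_layer (IsComponent.conj hK (x : G))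

theorem conjS_orbSup_le {P : Subgroup G} {y : G} (hy : y ∈ P) (K : Subgroup G) :
    conjS y (orbSup P K) ≤ orbSup P K := by
  unfold orbSup conjS
  rw [Subgroup.map_iSup]
  refine iSup_le fun x => ?_
  have : (conjS (x : G) K).map (MulAut.conj y).toMonoidHom = conjS (y * x) K := by
    show conjS y (conjS (x : G) K) = _
    rw [← conjS_mul]
  rw [this]
  exact conjS_le_orbSup (P.mul_mem hy x.2) K

theorem le_normalizer_orbSup (P K : Subgroup G) : P ≤ normalizer (orbSup P K : Set G) := by
  intro y hy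
  exact mem_normalizer_of_conjS_le (conjS_orbSup_le hy K) (conjS_orbSup_le (P.inv_mem hy) K)

theorem conjS_orbSup {P : Subgroup G} {a : G} (ha : a ∈ centralizer (P : Set G))
    (K : Subgroup G) : conjS a (orbSup P K) = orbSup P (conjS a K) := by
  unfold orbSup
  show (⨆ x : ↥P, conjS (x : G) K).map (MulAut.conj a).toMonoidHom = _
  rw [Subgroup.map_iSup]
  congr 1
  funext x
  exact conjS_comm ha x.2 K

/-- If `L` is a component outside the `P`-orbit of `K`, then `⟨L^P⟩` centralizes `⟨K^P⟩`. -/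
theorem orbSup_le_centralizer_orbSup {P K L : Subgroup G} (hK : Cfsg.IsComponent K)
    (hL : Cfsg.IsComponent L) (hne : ∀ x ∈ P, L ≠ conjS x K) :
    orbSup P L ≤ centralizer (orbSup P K : Set G) := by
  rw [Subgroup.le_centralizer_iff]
  refine iSup_le fun y => ?_
  rw [Subgroup.le_centralizer_iff]
  refine iSup_le fun x => ?_
  rw [← Subgroup.commutator_eq_bot_iff_le_centralizer]
  apply component_commute (IsComponent.conj hL _) (IsComponent.conj hK _)
  intro heq
  apply hne ((x : G)⁻¹ * y) (P.mul_mem (P.inv_mem x.2) y.2)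
  have : conjS (x : G)⁻¹ (conjS (x : G) L) = conjS (x : G)⁻¹ (conjS (y : G) K) := by
    show conjS (x : G)⁻¹ ((L.map (MulAut.conj (x : G)).toMonoidHom)) = conjS (x : G)⁻¹ ((K.map (MulAut.conj (y : G)).toMonoidHom))
    rw [heq]
  rw [conjS_inv_conjS, ← conjS_mul] at this
  exact this

/-- `Z(⟨K^P⟩)` centralizes the layer. -/
theorem orbSup_center_le {P K : Subgroup G} (hK : Cfsg.IsComponent K) :
    orbSup P K ⊓ centralizer (orbSup P K : Set G) ≤ centralizer (Cfsg.layer G : Set G) := by
  rw [Subgroup.le_centralizer_iff]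
  refine sSup_le fun L hL => ?_
  rw [Subgroup.le_centralizer_iff]
  by_cases h : ∃ x ∈ P, L = conjS x K
  · obtain ⟨x, hx, rfl⟩ := h
    exact inf_le_right.trans (Subgroup.centralizer_le (conjS_le_orbSup hx K))
  · push Not at h
    refine inf_le_left.trans ?_
    have := orbSup_le_centralizer_orbSup hK hL h
    rw [Subgroup.le_centralizer_iff] at this
    exact this.trans (Subgroup.centralizer_le (le_orbSup P L))

/-- The elements of `I` that keep `K` inside its `P`-orbit. -/
def orbStab (P I K : Subgroup G) (hc : I ≤ centralizer (P : Set G)) : Subgroup G where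
  carrier := {a | a ∈ I ∧ ∃ x ∈ P, conjS a K = conjS x K}
  one_mem' := ⟨I.one_mem, 1, P.one_mem, rfl⟩
  mul_mem' := by
    rintro a b ⟨ha, x, hx, hax⟩ ⟨hb, y, hy, hby⟩
    refine ⟨I.mul_mem ha hb, y * x, P.mul_mem hy hx, ?_⟩
    rw [conjS_mul, hby, conjS_comm (hc ha) hy, hax, ← conjS_mul]
  inv_mem' := by
    rintro a ⟨ha, x, hx, hax⟩
    refine ⟨I.inv_mem ha, x⁻¹, P.inv_mem hx, ?_⟩
    have h1 : conjS a (conjS x⁻¹ K) = K := by
      rw [conjS_comm (hc ha) (P.inv_mem hx), hax, conjS_inv_conjS]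
    calc conjS a⁻¹ K = conjS a⁻¹ (conjS a (conjS x⁻¹ K)) := by rw [h1]
      _ = conjS x⁻¹ K := conjS_inv_conjS _ _

theorem mem_orbStab {P I K : Subgroup G} {hc : I ≤ centralizer (P : Set G)} {a : G} :
    a ∈ orbStab P I K hc ↔ a ∈ I ∧ ∃ x ∈ P, conjS a K = conjS x K := Iff.rfl

end Cfsg.Agent.Helper22.LBal
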