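import Mathlib
import Cfsg.Agent.Lib.Helper22.LBal5

/-!
# `L_{p'}`-balance: `I` normalizes every component (helper22)
-/

set_option autoImplicit false
open scoped commutatorElement

namespace Cfsg.Agent.Helper22.LBal

open Subgroup

variable {G : Type*} [Group G]

/-- Step 2b: every element of `I` keeps a component `K` inside its `P`-orbit. -/
theorem Hyp.exists_conjS_eq [Finite G] {p : ℕ} [hp : Fact p.Prime] {P I W : Subgroup G}
    [hI : Group.IsPerfect ↥I] (h : Hyp p P I W)
    (hD : ⁅I, Cfsg.layer G ⊓ centralizer (P : Set G)⁆ ≤ W) {K : Subgroup G}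
    (hK : Cfsg.IsComponent K) : ∀ g ∈ I, ∃ x ∈ P, conjS g K = conjS x K := by
  by_contra hcon
  push Not at hcon
  obtain ⟨g, hg, hgne⟩ := hcon
  have hIF := h.le_centralizer_fitting
  set St := orbStab P I K h.cent with hSt
  have hgSt : g ∉ St := fun hgs => by
    obtain ⟨x, hx, hxe⟩ := (mem_orbStab.mp hgs).2
    exact hgne x hx hxe
  have hnle : ¬ I ≤ St := fun hle => hgSt (hle hg)
  obtain ⟨h', hh', hh'St, hh'gSt⟩ := exists_not_mem_mul_not_mem hnle hg
  have hoff : ∀ a ∈ I, a ∉ St → ∀ x ∈ P, conjS a K ≠ conjS x K := by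
    intro a ha haSt x hx hxe
    exact haSt (mem_orbStab.mpr ⟨ha, x, hx, hxe⟩)
  set M := orbSup P K with hM
  obtain ⟨t, htM, ⟨a, hta⟩, htc, htP⟩ :=
    exists_pelement_mod_center h.core h.hP hK M (le_orbSup P K) (le_normalizer_orbSup P K)
  -- conjugates of t by off-orbit elements centralize M
  have key : ∀ b ∈ I, b ∉ St → b * t * b⁻¹ ∈ centralizer (M : Set G) := by
    intro b hb hbSt
    have h1 : b * t * b⁻¹ ∈ conjS b M := ⟨t, htM, by simp [MulAut.conj_apply]⟩
    rw [hM, conjS_orbSup (h.cent hb)] at h1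
    exact orbSup_le_centralizer_orbSup hK (IsComponent.conj hK b) (hoff b hb hbSt) h1
  have hgt := key g hg hgSt
  have hht := key h' hh' hh'St
  have hhgt := key (h' * g) (I.mul_mem hh' hg) hh'gSt
  set u : G := t⁻¹ * (g * t * g⁻¹) with hu
  have hEn : (Cfsg.layer G).Normal := layer_normal
  have huE : u ∈ Cfsg.layer G := by
    have h1 : t ∈ Cfsg.layer G := orbSup_le_layer P hK htM
    exact (Cfsg.layer G).mul_mem ((Cfsg.layer G).inv_mem h1) (hEn.conj_mem t h1 g)
  have huP : u ∈ centralizer (P : Set G) := by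
    rw [Subgroup.mem_centralizer_iff]
    intro x hx
    set z : G := t⁻¹ * (x * t * x⁻¹) with hz
    have hzZ := htP x hx
    have hzE : z ∈ centralizer (Cfsg.layer G : Set G) := orbSup_center_le hK hzZ
    have hzF : z ∈ Cfsg.fittingSubgroup G := by
      apply layer_inf_centralizer_layer_le_fittingSubgroup
      exact Subgroup.mem_inf.mpr ⟨orbSup_le_layer P hK (Subgroup.mem_inf.mp hzZ).1, hzE⟩
    have e1 : x * t * x⁻¹ = t * z := by rw [hz]; group
    have e2 : x * g = g * x := Subgroup.mem_centralizer_iff.mp (h.cent hg) x hx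
    have e3 : z * g = g * z := Subgroup.mem_centralizer_iff.mp (hIF hg) z hzF
    have e4 : u * z = z * u := Subgroup.mem_centralizer_iff.mp hzE u huE
    have e5 : x * (g * t * g⁻¹) * x⁻¹ = g * (x * t * x⁻¹) * g⁻¹ := by
      calc x * (g * t * g⁻¹) * x⁻¹ = (x * g) * t * (x * g)⁻¹ := by group
        _ = (g * x) * t * (g * x)⁻¹ := by rw [e2]
        _ = g * (x * t * x⁻¹) * g⁻¹ := by group
    have e6 : g * z * g⁻¹ = z := by rw [← e3]; group
    have e7 : x * u * x⁻¹ = u := by
      calc x * u * x⁻¹ = (x * t * x⁻¹)⁻¹ * (x * (g * t * g⁻¹) * x⁻¹) := by rw [hu]; group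
        _ = (t * z)⁻¹ * (g * (t * z) * g⁻¹) := by rw [e5, e1]
        _ = z⁻¹ * (t⁻¹ * (g * t * g⁻¹)) * (g * z * g⁻¹) := by group
        _ = z⁻¹ * u * z := by rw [e6]
        _ = z⁻¹ * (u * z) := by group
        _ = z⁻¹ * (z * u) := by rw [e4]
        _ = u := by group
    calc x * u = (x * u * x⁻¹) * x := by group
      _ = u * x := by rw [e7]
  -- the commutator ⁅h', u⁆ lies in W
  have hw : ⁅h', u⁆ ∈ W :=
    hD (Subgroup.commutator_mem_commutator hh' (Subgroup.mem_inf.mpr ⟨huE, huP⟩))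
  set c : G := (h' * t * h'⁻¹)⁻¹ * ((h' * g) * t * (h' * g)⁻¹) * (g * t * g⁻¹)⁻¹ with hc
  have hcM : c ∈ centralizer (M : Set G) :=
    Subgroup.mul_mem _ (Subgroup.mul_mem _ (Subgroup.inv_mem _ hht) hhgt) (Subgroup.inv_mem _ hgt)
  have hwc : ⁅h', u⁆ = c * t := by
    rw [commutatorElement_def, hu, hc]; group
  have hct : Commute c t := (Subgroup.mem_centralizer_iff.mp hcM t htM).symm
  set n := Nat.card W with hn
  have hwn : ⁅h', u⁆ ^ n = 1 := by
    have h1 : (⟨⁅h', u⁆, hw⟩ : W) ^ Nat.card W = 1 := pow_card_eq_one'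
    have h2 : ((⟨⁅h', u⁆, hw⟩ : W) ^ Nat.card W : W).1 = (1 : W).1 := congrArg Subtype.val h1
    rw [Subgroup.coe_pow, Subgroup.coe_one] at h2
    exact h2
  rw [hwc, hct.mul_pow] at hwn
  have htn : t ^ n ∈ centralizer (M : Set G) := by
    have : t ^ n = (c ^ n)⁻¹ := by
      rw [eq_inv_iff_mul_eq_one, ← hct.pow_pow n n |>.eq]  
      exact hwn
    rw [this]
    exact Subgroup.inv_mem _ (Subgroup.pow_mem _ hcM n)
  exact htc (mem_of_pow_mem_of_coprime hta h.hW htn)


/-- Step 2: `I` normalizes every component. -/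
theorem Hyp.le_normalizer_component [Finite G] {p : ℕ} [hp : Fact p.Prime] {P I W : Subgroup G}
    [hI : Group.IsPerfect ↥I] (h : Hyp p P I W)
    (hD : ⁅I, Cfsg.layer G ⊓ centralizer (P : Set G)⁆ ≤ W) {K : Subgroup G}
    (hK : Cfsg.IsComponent K) : I ≤ normalizer (K : Set G) := by
  have horb := h.exists_conjS_eq hD hK
  apply perfect_le_of_pprime_mem p
  · -- normality of the stabilizer in I
    intro g hg n hn hnK
    rw [mem_normalizer_iff_conjS] at hnK ⊢
    obtain ⟨x, hx, hxe⟩ := horb g⁻¹ (I.inv_mem hg)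
    have h1 : conjS (g * n * g⁻¹) K = conjS g (conjS n (conjS g⁻¹ K)) := by
      rw [← conjS_mul, ← conjS_mul]
    rw [h1, hxe, conjS_comm (h.cent hn) hx, hnK, ← hxe, conjS_conjS_inv]
  · -- p'-elements normalize K
    intro g hg hcop
    obtain ⟨x, hx, hxe⟩ := horb g hg
    have hpow : ∀ j : ℕ, conjS (g ^ j) K = conjS (x ^ j) K := by
      intro j
      induction j with
      | zero => simp [conjS_one]
      | succ j ih =>
        rw [pow_succ', conjS_mul, ih, conjS_comm (h.cent hg) (P.pow_mem hx j), hxe, ← conjS_mul,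
          ← pow_succ, pow_succ']
    have h1 := hpow (orderOf g)
    rw [pow_orderOf_eq_one, conjS_one] at h1
    have h2 : x ^ orderOf g ∈ normalizer (K : Set G) := by
      rw [mem_normalizer_iff_conjS]; exact h1.symm
    obtain ⟨a, ha⟩ := h.hP ⟨x, hx⟩
    have ha' : x ^ p ^ a = 1 := by
      have := congrArg Subtype.val ha
      simpa using this
    have h3 : x ∈ normalizer (K : Set G) := mem_of_pow_mem_of_coprime ha' hcop h2
    rw [mem_normalizer_iff_conjS] at h3 ⊢
    rw [hxe, h3]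

end Cfsg.Agent.Helper22.LBal
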