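import Mathlib
import Cfsg.Prelude.Def_KGroupFacts
import Cfsg.Agent.Lib.Helper22.LBal6

/-!
# `L_{p'}`-balance: the Schreier property forces inner action (helper22)
-/

set_option autoImplicit false
open scoped commutatorElement

namespace Cfsg.Agent.Helper22.LBal

open Subgroup

variable {G : Type*} [Group G]

/-- The automorphism induced on the quotient by a characteristic subgroup. -/
noncomputable def quotAutC {H : Type*} [Group H] (N : Subgroup H) [hN : N.Characteristic] :
    MulAut H →* MulAut (H ⧸ N) where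
  toFun α := QuotientGroup.congr N N α (Subgroup.characteristic_iff_map_eq.mp hN α)
  map_one' := by
    ext x
    induction x using QuotientGroup.induction_on with | _ x => rfl
  map_mul' α β := by
    ext x
    induction x using QuotientGroup.induction_on with | _ x => rfl

theorem quotAutC_mk {H : Type*} [Group H] (N : Subgroup H) [hN : N.Characteristic]
    (α : MulAut H) (x : H) : quotAutC N α (x : H ⧸ N) = ((α x : H) : H ⧸ N) := rfl

/-- The conjugation action of the normalizer of `K` on `K`. -/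
noncomputable def normConj (K : Subgroup G) : ↥(normalizer (K : Set G)) →* MulAut ↥K :=
  (MulAut.congr (Subgroup.subgroupOfEquivOfLe (le_normalizer (H := K)))).toMonoidHom.comp
    (MulAut.conjNormal (H := K.subgroupOf (normalizer (K : Set G))))

theorem normConj_apply (K : Subgroup G) (n : ↥(normalizer (K : Set G))) (y : ↥K) :
    ((normConj K n y : ↥K) : G) = (n : G) * y * (n : G)⁻¹ := by
  rfl


/-- Step 3: a perfect group normalizing a perfect subgroup `K` with `Out(K/Z(K))` solvable acts on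
`K` by inner automorphisms: `I ≤ K · C(K)`. -/
theorem le_sup_centralizer_of_out_solvable {K : Subgroup G} [hK : Group.IsPerfect ↥K]
    (hS : Group.IsSolvable (Cfsg.Out (↥K ⧸ center ↥K))) {I : Subgroup G}
    [hI : Group.IsPerfect ↥I] (hIN : I ≤ normalizer (K : Set G)) :
    I ≤ K ⊔ centralizer (K : Set G) := by
  set ψ : ↥(normalizer (K : Set G)) →* MulAut (↥K ⧸ center ↥K) :=
    (quotAutC (center ↥K)).comp (normConj K) with hψ
  set ω : ↥(normalizer (K : Set G)) →* Cfsg.Out (↥K ⧸ center ↥K) :=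
    (QuotientGroup.mk' (Cfsg.Inn (↥K ⧸ center ↥K))).comp ψ with hω
  intro g hg
  have h1 : (ω.comp (Subgroup.inclusion hIN)) ⟨g, hg⟩ = 1 :=
    perfect_hom_solvable_trivial _ _
  have h2 : ψ ⟨g, hIN hg⟩ ∈ Cfsg.Inn (↥K ⧸ center ↥K) := by
    have : ω ⟨g, hIN hg⟩ = 1 := h1
    rw [hω, MonoidHom.comp_apply, QuotientGroup.mk'_apply, QuotientGroup.eq_one_iff] at this
    exact this
  obtain ⟨kb, hkb⟩ := h2
  obtain ⟨k, rfl⟩ := QuotientGroup.mk_surjective kb
  set a : G := (k : G)⁻¹ * g with ha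
  have hcent : a ∈ centralizer (K : Set G) := by
    apply mem_centralizer_of_perfect
    intro y hy
    have h3 : (MulAut.conj (QuotientGroup.mk k : ↥K ⧸ center ↥K)) (QuotientGroup.mk ⟨y, hy⟩)
        = ψ ⟨g, hIN hg⟩ (QuotientGroup.mk ⟨y, hy⟩) := by rw [hkb]
    have h4 : (MulAut.conj (QuotientGroup.mk k : ↥K ⧸ center ↥K)) (QuotientGroup.mk ⟨y, hy⟩)
        = QuotientGroup.mk (k * ⟨y, hy⟩ * k⁻¹) := by
      rw [MulAut.conj_apply]; rfl
    have h5 : ψ ⟨g, hIN hg⟩ (QuotientGroup.mk ⟨y, hy⟩)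
        = QuotientGroup.mk (normConj K ⟨g, hIN hg⟩ ⟨y, hy⟩) := rfl
    rw [h4, h5, QuotientGroup.eq] at h3
    -- c ∈ Z(K)
    set c : G := ((k : G) * y * (k : G)⁻¹)⁻¹ * (g * y * g⁻¹) with hc
    have hcK : c ∈ K := by
      have := ((k * ⟨y, hy⟩ * k⁻¹)⁻¹ * normConj K ⟨g, hIN hg⟩ ⟨y, hy⟩ : ↥K).2
      exact this
    have hcC : c ∈ centralizer (K : Set G) := by
      rw [Subgroup.mem_centralizer_iff]
      intro z hz
      have := Subgroup.mem_center_iff.mp h3 ⟨z, hz⟩
      exact congrArg Subtype.val this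
    have hkc : (k : G) * c = c * (k : G) := Subgroup.mem_centralizer_iff.mp hcC k k.2
    have e1 : g * y * g⁻¹ = (k : G) * y * (k : G)⁻¹ * c := by rw [hc]; group
    have e2 : y⁻¹ * (a * y * a⁻¹) = c := by
      calc y⁻¹ * (a * y * a⁻¹) = y⁻¹ * ((k : G)⁻¹ * (g * y * g⁻¹) * (k : G)) := by
            rw [ha]; group
        _ = y⁻¹ * ((k : G)⁻¹ * ((k : G) * y * (k : G)⁻¹ * c) * (k : G)) := by rw [e1]
        _ = (k : G)⁻¹ * (c * (k : G)) := by group
        _ = (k : G)⁻¹ * ((k : G) * c) := by rw [hkc]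
        _ = c := by group
    rw [e2]
    exact Subgroup.mem_inf.mpr ⟨hcK, hcC⟩
  have : g = (k : G) * a := by rw [ha]; group
  rw [this]
  exact Subgroup.mul_mem_sup k.2 hcent

end Cfsg.Agent.Helper22.LBal
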