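import Mathlib
import Cfsg.Agent.Lib.Helper22.LBal7

/-!
# `L_{p'}`-balance: conclusion of the core argument (helper22)
-/

set_option autoImplicit false
open scoped commutatorElement

namespace Cfsg.Agent.Helper22.LBal

open Subgroup

variable {G : Type*} [Group G]

theorem layer_le_sup_centralizer {K : Subgroup G} (hK : Cfsg.IsComponent K) :
    Cfsg.layer G ≤ K ⊔ centralizer (K : Set G) := by
  refine sSup_le fun L hL => ?_
  by_cases h : L = K
  · rw [h]; exact le_sup_left
  · have := component_commute hL hK h
    rw [Subgroup.commutator_eq_bot_iff_le_centralizer] at this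
    exact this.trans le_sup_right

theorem commutator_centralizer_self (K : Subgroup G) : ⁅K, centralizer (K : Set G)⁆ = ⊥ := by
  rw [Subgroup.commutator_eq_bot_iff_le_centralizer, Subgroup.le_centralizer_iff]

theorem mem_centralizer_layer_of_forall {x : G}
    (h : ∀ K : Subgroup G, Cfsg.IsComponent K → x ∈ centralizer (K : Set G)) :
    x ∈ centralizer (Cfsg.layer G : Set G) := by
  have h1 : Cfsg.layer G ≤ centralizer ({x} : Set G) := by
    refine sSup_le fun K hK k hk => ?_
    rw [Subgroup.mem_centralizer_singleton_iff]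
    exact Subgroup.mem_centralizer_iff.mp (h K hK) k hk
  rw [Subgroup.mem_centralizer_iff]
  intro e he
  have := h1 he
  rw [Subgroup.mem_centralizer_singleton_iff] at this
  exact this

/-- An element inducing an inner automorphism on every component lies in `E(G) C(E(G))`. -/
theorem mem_layer_sup_centralizer [Finite G] {g : G}
    (h : ∀ K : Subgroup G, Cfsg.IsComponent K → g ∈ K ⊔ centralizer (K : Set G)) :
    g ∈ Cfsg.layer G ⊔ centralizer (Cfsg.layer G : Set G) := by
  classical
  have key : ∀ s : Finset (Subgroup G), (∀ K ∈ s, Cfsg.IsComponent K) →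
      ∃ e ∈ Cfsg.layer G, ∀ K ∈ s, e⁻¹ * g ∈ centralizer (K : Set G) := by
    intro s
    induction s using Finset.induction_on with
    | empty => intro _; exact ⟨1, Subgroup.one_mem _, fun K hK => absurd hK (Finset.notMem_empty K)⟩
    | insert K s hKs ih =>
      intro hs
      have hK : Cfsg.IsComponent K := hs K (Finset.mem_insert_self K s)
      obtain ⟨e', he', hc'⟩ := ih (fun L hL => hs L (Finset.mem_insert_of_mem hL))
      have hg' : e'⁻¹ * g ∈ K ⊔ centralizer (K : Set G) :=
        Subgroup.mul_mem _ (Subgroup.inv_mem _ (layer_le_sup_centralizer hK he')) (h K hK)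
      obtain ⟨k, hk, c, hc, hkc⟩ :=
        (mem_sup_of_commutator_eq_bot (commutator_centralizer_self K)).mp hg'
      refine ⟨e' * k, Subgroup.mul_mem _ he' (IsComponent.le_layer hK hk), ?_⟩
      intro L hL
      rcases Finset.mem_insert.mp hL with rfl | hLs
      · have : (e' * k)⁻¹ * g = c := by
          calc (e' * k)⁻¹ * g = k⁻¹ * (e'⁻¹ * g) := by group
            _ = k⁻¹ * (k * c) := by rw [hkc]
            _ = c := by group
        rw [this]; exact hc
      · have hne : K ≠ L := fun heq => hKs (heq ▸ hLs)
        have hcomm := component_commute hK (hs L (Finset.mem_insert_of_mem hLs)) hne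
        rw [Subgroup.commutator_eq_bot_iff_le_centralizer] at hcomm
        have : (e' * k)⁻¹ * g = k⁻¹ * (e'⁻¹ * g) := by group
        rw [this]
        exact Subgroup.mul_mem _ (Subgroup.inv_mem _ (hcomm hk)) (hc' L hLs)
  have hfin : Set.Finite {K : Subgroup G | Cfsg.IsComponent K} := Set.toFinite _
  obtain ⟨e, he, hce⟩ := key hfin.toFinset (fun K hK => by simpa using hK)
  have h1 : e⁻¹ * g ∈ centralizer (Cfsg.layer G : Set G) :=
    mem_centralizer_layer_of_forall (fun K hK => hce K (by simpa using hK))
  have : g = e * (e⁻¹ * g) := by group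
  rw [this]
  exact Subgroup.mul_mem_sup he h1

/-- A perfect subgroup of `E(G) C(E(G))` centralizing `F(G)` lies in `E(G)`. -/
theorem le_layer_of_le_sup_centralizer [Finite G] {I : Subgroup G} [hI : Group.IsPerfect ↥I]
    (h1 : I ≤ Cfsg.layer G ⊔ centralizer (Cfsg.layer G : Set G))
    (h2 : I ≤ centralizer (Cfsg.fittingSubgroup G : Set G)) : I ≤ Cfsg.layer G := by
  set E := Cfsg.layer G with hE
  set F := Cfsg.fittingSubgroup G with hF
  haveI hEn : E.Normal := layer_normal
  -- every g ∈ I is e * c with c ∈ C(F*(G))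
  have hdec : ∀ g ∈ I, ∃ e ∈ E, ∃ c ∈ centralizer (Cfsg.generalizedFittingSubgroup G : Set G),
      g = e * c := by
    intro g hg
    obtain ⟨e, he, c, hc, hec⟩ :=
      (mem_sup_of_commutator_eq_bot (commutator_centralizer_self E)).mp (h1 hg)
    refine ⟨e, he, c, ?_, hec.symm⟩
    have hcF : c ∈ centralizer (F : Set G) := by
      have : c = e⁻¹ * g := by rw [← hec]; group
      rw [this]
      exact Subgroup.mul_mem _ (Subgroup.inv_mem _ (layer_le_centralizer_fittingSubgroup he)) (h2 hg)
    have h3 : Cfsg.generalizedFittingSubgroup G ≤ centralizer ({c} : Set G) := by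
      rw [generalizedFittingSubgroup_eq]
      refine sup_le ?_ ?_
      · intro x hx
        rw [Subgroup.mem_centralizer_singleton_iff]
        exact Subgroup.mem_centralizer_iff.mp hc x hx
      · intro x hx
        rw [Subgroup.mem_centralizer_singleton_iff]
        exact Subgroup.mem_centralizer_iff.mp hcF x hx
    rw [Subgroup.mem_centralizer_iff]
    intro x hx
    have := h3 hx
    rw [Subgroup.mem_centralizer_singleton_iff] at this
    exact this
  have hperf : ⁅I, I⁆ = I := Subgroup.isPerfect_iff.mp hI
  rw [← hperf, Subgroup.commutator_le]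
  intro a ha b hb
  obtain ⟨e₁, he₁, c₁, hc₁, rfl⟩ := hdec a ha
  obtain ⟨e₂, he₂, c₂, hc₂, rfl⟩ := hdec b hb
  have hcc : ⁅c₁, c₂⁆ = 1 := by
    rw [commutatorElement_eq_one_iff_commute]
    have hc₂F : c₂ ∈ Cfsg.generalizedFittingSubgroup G := centralizer_generalizedFittingSubgroup_le hc₂
    exact (Subgroup.mem_centralizer_iff.mp hc₁ c₂ hc₂F).symm
  have hq : (QuotientGroup.mk' E) ⁅e₁ * c₁, e₂ * c₂⁆ = 1 := by
    rw [map_commutatorElement, map_mul, map_mul]
    have q1 : (QuotientGroup.mk' E) e₁ = 1 := by
      rw [QuotientGroup.mk'_apply, QuotientGroup.eq_one_iff]; exact he₁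
    have q2 : (QuotientGroup.mk' E) e₂ = 1 := by
      rw [QuotientGroup.mk'_apply, QuotientGroup.eq_one_iff]; exact he₂
    rw [q1, q2, one_mul, one_mul, ← map_commutatorElement, hcc, map_one]
  rw [QuotientGroup.mk'_apply, QuotientGroup.eq_one_iff] at hq
  exact hq

/-- **Core theorem**: under the hypotheses `Hyp` and the Schreier property for the components
of `G`, the perfect subgroup `I` lies in `E(G)`. -/
theorem Hyp.le_layer [Finite G] {p : ℕ} [hp : Fact p.Prime] {P I W : Subgroup G}
    [hI : Group.IsPerfect ↥I] (h : Hyp p P I W)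
    (hS : ∀ K : Subgroup G, Cfsg.IsComponent K →
      Group.IsSolvable (Cfsg.Out (↥K ⧸ Subgroup.center ↥K))) : I ≤ Cfsg.layer G := by
  have hEn : (Cfsg.layer G).Normal := layer_normal
  have hDn : ∀ n ∈ normalizer (P : Set G), ∀ d ∈ Cfsg.layer G ⊓ centralizer (P : Set G),
      n * d * n⁻¹ ∈ Cfsg.layer G ⊓ centralizer (P : Set G) := by
    intro n hn d hd
    rw [Subgroup.mem_inf] at hd ⊢
    exact ⟨hEn.conj_mem d hd.1 n, conj_mem_centralizer_of_mem_normalizer hn hd.2⟩
  rcases h.dich _ inf_le_right hDn with h1 | hD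
  · exact h1.trans inf_le_left
  · have hIF := h.le_centralizer_fitting
    apply le_layer_of_le_sup_centralizer _ hIF
    intro g hg
    apply mem_layer_sup_centralizer
    intro K hK
    haveI : Group.IsPerfect ↥K := hK.2.1
    exact le_sup_centralizer_of_out_solvable (hS K hK) (h.le_normalizer_component hD hK) hg

end Cfsg.Agent.Helper22.LBal
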