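import Mathlib
import Cfsg.Agent.Lib.Helper22.LBal8
import Cfsg.Agent.Lib.Helper22.BBal1
import Cfsg.Agent.Lib.Helper23.ExtLayer
import Cfsg.Agent.Lib.Helper34.PPrimeCore
import Cfsg.Prelude.Def_EvenTechniques

/-!
# Plumbing for `B_{p'}`-balance: relative subnormality, normal joins, commutators (helper22)
-/

set_option autoImplicit false
open scoped commutatorElement

namespace Cfsg.Agent.Helper22.BBal

open Subgroup Cfsg.Agent.Helper22.LBal

section Rel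

variable {G : Type*} [Group G]

/-- `H` is a subnormal subgroup of the subgroup `A`. -/
def SubnormalIn (H A : Subgroup G) : Prop :=
  H ≤ A ∧ (H.subgroupOf A).IsSubnormal

theorem SubnormalIn.mono_right {H A A' : Subgroup G} (h : SubnormalIn H A) (h1 : H ≤ A')
    (h2 : A' ≤ A) : SubnormalIn H A' := by
  refine ⟨h1, ?_⟩
  have h3 := h.2.comap (Subgroup.inclusion h2)
  have h4 : (H.subgroupOf A).comap (Subgroup.inclusion h2) = H.subgroupOf A' := by
    ext x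
    simp [Subgroup.mem_subgroupOf]
  rwa [h4] at h3

theorem SubnormalIn.of_normal {H A : Subgroup G} (h1 : H ≤ A)
    (h2 : A ≤ normalizer (H : Set G)) : SubnormalIn H A :=
  ⟨h1, ((Subgroup.normal_subgroupOf_iff_le_normalizer h1).mpr h2).isSubnormal⟩

theorem SubnormalIn.trans {H A B : Subgroup G} (h1 : SubnormalIn H A) (h2 : SubnormalIn A B) :
    SubnormalIn H B := by
  refine ⟨h1.1.trans h2.1, ?_⟩
  have hle : H.subgroupOf B ≤ A.subgroupOf B := by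
    intro x hx
    rw [Subgroup.mem_subgroupOf] at hx ⊢
    exact h1.1 hx
  refine Subgroup.IsSubnormal.trans hle ?_ h2.2
  have h3 := h1.2.comap (Subgroup.subgroupOfEquivOfLe h2.1).toMonoidHom
  have h4 : (H.subgroupOf A).comap (Subgroup.subgroupOfEquivOfLe h2.1).toMonoidHom
      = (H.subgroupOf B).subgroupOf (A.subgroupOf B) := by
    ext x
    simp [Subgroup.mem_subgroupOf]
  rwa [h4] at h3

theorem SubnormalIn.map {G' : Type*} [Group G'] (f : G →* G') {H A : Subgroup G}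
    (h : SubnormalIn H A) : SubnormalIn (H.map f) (A.map f) := by
  refine ⟨Subgroup.map_mono h.1, ?_⟩
  have h1 := h.2.map (f.subgroupMap_surjective A)
  have h2 : (H.subgroupOf A).map (f.subgroupMap A) = (H.map f).subgroupOf (A.map f) := by
    ext y
    rw [Subgroup.mem_subgroupOf]
    constructor
    · rintro ⟨a, ha, rfl⟩
      exact ⟨a, Subgroup.mem_subgroupOf.mp ha, rfl⟩
    · rintro ⟨x, hx, hxy⟩
      exact ⟨⟨x, h.1 hx⟩, Subgroup.mem_subgroupOf.mpr hx, Subtype.ext hxy⟩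
  rwa [h2] at h1

theorem SubnormalIn.comap {G' : Type*} [Group G'] (f : G' →* G) {H A : Subgroup G}
    (h : SubnormalIn H A) : SubnormalIn (H.comap f) (A.comap f) := by
  refine ⟨Subgroup.comap_mono h.1, ?_⟩
  let φ : ↥(A.comap f) →* ↥A := (f.comp (A.comap f).subtype).codRestrict A (fun x => x.2)
  have h1 := h.2.comap φ
  have h2 : (H.subgroupOf A).comap φ = (H.comap f).subgroupOf (A.comap f) := by
    ext x
    rw [Subgroup.mem_comap, Subgroup.mem_subgroupOf, Subgroup.mem_subgroupOf, Subgroup.mem_comap]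
    rfl
  rwa [h2] at h1

theorem SubnormalIn.subgroupOf {H A : Subgroup G} (h : SubnormalIn H A) (M : Subgroup G) :
    SubnormalIn (H.subgroupOf M) (A.subgroupOf M) := h.comap M.subtype

/-- A subgroup containing the commutator subgroup of `A` is normalized by `A`. -/
theorem le_normalizer_of_commutator_le {A B : Subgroup G} (hBA : B ≤ A) (h : ⁅A, A⁆ ≤ B) :
    A ≤ normalizer (B : Set G) := by
  intro a ha
  rw [Subgroup.mem_normalizer_iff]
  intro b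
  constructor
  · intro hb
    have h1 : ⁅a, b⁆ ∈ B := h (Subgroup.commutator_mem_commutator ha (hBA hb))
    have h2 : a * b * a⁻¹ = ⁅a, b⁆ * b := by rw [commutatorElement_def]; group
    rw [h2]; exact B.mul_mem h1 hb
  · intro hb
    have hbA : a * b * a⁻¹ ∈ A := hBA hb
    have h1 : ⁅a⁻¹, a * b * a⁻¹⁆ ∈ B :=
      h (Subgroup.commutator_mem_commutator (A.inv_mem ha) hbA)
    have h2 : b = ⁅a⁻¹, a * b * a⁻¹⁆ * (a * b * a⁻¹) := by rw [commutatorElement_def]; group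
    rw [h2]; exact B.mul_mem h1 hb

theorem commutatorElement_mul_central_rel (m₁ m₂ c₁ c₂ : G) (E : Subgroup G) (hm₁ : m₁ ∈ E)
    (hm₂ : m₂ ∈ E) (hc₁ : c₁ ∈ E) (hc₂ : c₂ ∈ E) (h1 : ∀ g ∈ E, g * c₁ = c₁ * g)
    (h2 : ∀ g ∈ E, g * c₂ = c₂ * g) : ⁅m₁ * c₁, m₂ * c₂⁆ = ⁅m₁, m₂⁆ := by
  rw [commutatorElement_def, commutatorElement_def]
  rw [mul_inv_rev, mul_inv_rev]
  have e1 : m₁ * c₁ * (m₂ * c₂) * (c₁⁻¹ * m₁⁻¹) * (c₂⁻¹ * m₂⁻¹) =
      m₁ * (c₁ * (m₂ * (c₂ * c₁⁻¹))) * m₁⁻¹ * c₂⁻¹ * m₂⁻¹ := by group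
  have hmem : m₂ * (c₂ * c₁⁻¹) ∈ E := E.mul_mem hm₂ (E.mul_mem hc₂ (E.inv_mem hc₁))
  rw [e1, ← h1 (m₂ * (c₂ * c₁⁻¹)) hmem]
  have e2 : m₁ * (m₂ * (c₂ * c₁⁻¹) * c₁) * m₁⁻¹ * c₂⁻¹ * m₂⁻¹ =
      m₁ * m₂ * (c₂ * m₁⁻¹) * c₂⁻¹ * m₂⁻¹ := by group
  rw [e2, ← h2 m₁⁻¹ (E.inv_mem hm₁)]
  group

/-- Commutators of `P`-fixed elements of a product `A B` of two commuting normal subgroups lie in
`C_A(P) C_B(P)`. -/
theorem commutator_mem_sup_inf_centralizer (A B P : Subgroup G) [hA : A.Normal] [hB : B.Normal]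
    (hAB : ∀ a ∈ A, ∀ b ∈ B, a * b = b * a) {g g' : G} (hg : g ∈ A ⊔ B) (hg' : g' ∈ A ⊔ B)
    (hgP : g ∈ centralizer (P : Set G)) (hg'P : g' ∈ centralizer (P : Set G)) :
    ⁅g, g'⁆ ∈ (A ⊓ centralizer (P : Set G)) ⊔ (B ⊓ centralizer (P : Set G)) := by
  obtain ⟨a, ha, b, hb, rfl⟩ := Subgroup.mem_sup_of_normal_right.1 hg
  obtain ⟨a', ha', b', hb', rfl⟩ := Subgroup.mem_sup_of_normal_right.1 hg'
  -- elements of `A ⊓ B` are central in `A ⊔ B`
  have hcentral : ∀ z ∈ A ⊓ B, ∀ y ∈ A ⊔ B, y * z = z * y := by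
    intro z hz y hy
    have hle : A ⊔ B ≤ centralizer ({z} : Set G) := by
      apply sup_le
      · intro u hu
        rw [Subgroup.mem_centralizer_iff]
        intro w hw
        rw [Set.mem_singleton_iff] at hw; subst hw
        exact (hAB u hu w hz.2).symm
      · intro u hu
        rw [Subgroup.mem_centralizer_iff]
        intro w hw
        rw [Set.mem_singleton_iff] at hw; subst hw
        exact hAB w hz.1 u hu
    have := Subgroup.mem_centralizer_iff.mp (hle hy) z rfl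
    exact this.symm
  -- for x = u v ∈ C(P), conjugating u by r ∈ P multiplies it by an element of A ⊓ B
  have key : ∀ u ∈ A, ∀ v ∈ B, u * v ∈ centralizer (P : Set G) → ∀ r ∈ P,
      u⁻¹ * (r * u * r⁻¹) ∈ A ⊓ B := by
    intro u hu v hv huv r hr
    have h1 : r * (u * v) = (u * v) * r := Subgroup.mem_centralizer_iff.mp huv r hr
    have h2 : u⁻¹ * (r * u * r⁻¹) = v * (r * v * r⁻¹)⁻¹ := by
      have : r * u * r⁻¹ * (r * v * r⁻¹) = u * v := by
        calc r * u * r⁻¹ * (r * v * r⁻¹) = r * (u * v) * r⁻¹ := by group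
          _ = u * v * r * r⁻¹ := by rw [h1]
          _ = u * v := by group
      calc u⁻¹ * (r * u * r⁻¹) = u⁻¹ * (r * u * r⁻¹ * (r * v * r⁻¹)) * (r * v * r⁻¹)⁻¹ := by group
        _ = u⁻¹ * (u * v) * (r * v * r⁻¹)⁻¹ := by rw [this]
        _ = v * (r * v * r⁻¹)⁻¹ := by group
    refine ⟨A.mul_mem (A.inv_mem hu) (hA.conj_mem u hu r), ?_⟩
    rw [h2]
    exact B.mul_mem hv (B.inv_mem (hB.conj_mem v hv r))
  have hsplit : ⁅a * b, a' * b'⁆ = ⁅a, a'⁆ * ⁅b, b'⁆ := by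
    rw [commutatorElement_def, commutatorElement_def, commutatorElement_def]
    have e1 : b * a' = a' * b := (hAB a' ha' b hb).symm
    have e2 : b * a⁻¹ = a⁻¹ * b := (hAB a⁻¹ (A.inv_mem ha) b hb).symm
    have e3 : b' * a⁻¹ = a⁻¹ * b' := (hAB a⁻¹ (A.inv_mem ha) b' hb').symm
    have e4 : b⁻¹ * a'⁻¹ = a'⁻¹ * b⁻¹ := (hAB a'⁻¹ (A.inv_mem ha') b⁻¹ (B.inv_mem hb)).symm
    have e5 : b' * a'⁻¹ = a'⁻¹ * b' := (hAB a'⁻¹ (A.inv_mem ha') b' hb').symm
    have e6 : b * a'⁻¹ = a'⁻¹ * b := (hAB a'⁻¹ (A.inv_mem ha') b hb).symm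
    calc a * b * (a' * b') * (a * b)⁻¹ * (a' * b')⁻¹
        = a * (b * a') * b' * b⁻¹ * a⁻¹ * b'⁻¹ * a'⁻¹ := by group
      _ = a * (a' * b) * b' * b⁻¹ * a⁻¹ * b'⁻¹ * a'⁻¹ := by rw [e1]
      _ = a * a' * ((b * b' * b⁻¹) * a⁻¹) * b'⁻¹ * a'⁻¹ := by group
      _ = a * a' * (a⁻¹ * (b * b' * b⁻¹)) * b'⁻¹ * a'⁻¹ := by
          rw [(hAB a⁻¹ (A.inv_mem ha) (b * b' * b⁻¹)
            (B.mul_mem (B.mul_mem hb hb') (B.inv_mem hb))).symm]
      _ = a * a' * a⁻¹ * ((b * b' * b⁻¹ * b'⁻¹) * a'⁻¹) := by group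
      _ = a * a' * a⁻¹ * (a'⁻¹ * (b * b' * b⁻¹ * b'⁻¹)) := by
          rw [(hAB a'⁻¹ (A.inv_mem ha') (b * b' * b⁻¹ * b'⁻¹)
            (B.mul_mem (B.mul_mem (B.mul_mem hb hb') (B.inv_mem hb)) (B.inv_mem hb'))).symm]
      _ = a * a' * a⁻¹ * a'⁻¹ * (b * b' * b⁻¹ * b'⁻¹) := by group
  -- fixedness of the two commutators
  have hfix : ∀ (M : Subgroup G), M ≤ A ⊔ B → ∀ u ∈ M, ∀ u' ∈ M,
      (∀ r ∈ P, u⁻¹ * (r * u * r⁻¹) ∈ A ⊓ B) → (∀ r ∈ P, u'⁻¹ * (r * u' * r⁻¹) ∈ A ⊓ B) →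
      ⁅u, u'⁆ ∈ centralizer (P : Set G) := by
    intro M hM u hu u' hu' h1 h2
    rw [Subgroup.mem_centralizer_iff]
    intro r hr
    have hz := h1 r hr
    have hz' := h2 r hr
    have e1 : r * u * r⁻¹ = u * (u⁻¹ * (r * u * r⁻¹)) := by group
    have e2 : r * u' * r⁻¹ = u' * (u'⁻¹ * (r * u' * r⁻¹)) := by group
    have hconj : r * ⁅u, u'⁆ * r⁻¹ = ⁅r * u * r⁻¹, r * u' * r⁻¹⁆ := by
      rw [commutatorElement_def, commutatorElement_def]; group
    have hinfle : A ⊓ B ≤ A ⊔ B := inf_le_left.trans le_sup_left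
    have h3 : ⁅r * u * r⁻¹, r * u' * r⁻¹⁆ = ⁅u, u'⁆ := by
      rw [e1, e2]
      exact commutatorElement_mul_central_rel u u' _ _ (A ⊔ B) (hM hu) (hM hu') (hinfle hz)
        (hinfle hz') (fun y hy => hcentral _ hz y hy) (fun y hy => hcentral _ hz' y hy)
    have h4 : r * ⁅u, u'⁆ * r⁻¹ = ⁅u, u'⁆ := hconj.trans h3
    calc r * ⁅u, u'⁆ = r * ⁅u, u'⁆ * r⁻¹ * r := by group
      _ = ⁅u, u'⁆ * r := by rw [h4]
  rw [hsplit]
  apply Subgroup.mul_mem_sup
  · refine ⟨Subgroup.commutator_mem_commutator ha ha' |> fun h =>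
      (Subgroup.commutator_le_left A A) h |> fun h' => h', ?_⟩
    exact hfix A le_sup_left a ha a' ha' (key a ha b hb hgP) (key a' ha' b' hb' hg'P)
  · refine ⟨Subgroup.commutator_mem_commutator hb hb' |> fun h =>
      (Subgroup.commutator_le_left B B) h |> fun h' => h', ?_⟩
    -- symmetric: swap roles
    have key' : ∀ u ∈ A, ∀ v ∈ B, u * v ∈ centralizer (P : Set G) → ∀ r ∈ P,
        v⁻¹ * (r * v * r⁻¹) ∈ A ⊓ B := by
      intro u hu v hv huv r hr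
      have h0 := key u hu v hv huv r hr
      have h1 : r * (u * v) = (u * v) * r := Subgroup.mem_centralizer_iff.mp huv r hr
      have h2 : v⁻¹ * (r * v * r⁻¹) = (u⁻¹ * (r * u * r⁻¹))⁻¹ := by
        have e : r * u * r⁻¹ * (r * v * r⁻¹) = u * v := by
          calc r * u * r⁻¹ * (r * v * r⁻¹) = r * (u * v) * r⁻¹ := by group
            _ = u * v * r * r⁻¹ := by rw [h1]
            _ = u * v := by group
        -- u⁻¹ (r u r⁻¹) commutes with v, being in A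
        have hcomm := hAB _ (A.mul_mem (A.inv_mem hu) (hA.conj_mem u hu r)) v hv
        calc v⁻¹ * (r * v * r⁻¹)
            = v⁻¹ * (r * u * r⁻¹)⁻¹ * (r * u * r⁻¹ * (r * v * r⁻¹)) := by group
          _ = v⁻¹ * (r * u * r⁻¹)⁻¹ * (u * v) := by rw [e]
          _ = v⁻¹ * ((u⁻¹ * (r * u * r⁻¹))⁻¹ * v) := by group
          _ = v⁻¹ * (v * (u⁻¹ * (r * u * r⁻¹))⁻¹) := by
              congr 1
              have := hcomm
              calc (u⁻¹ * (r * u * r⁻¹))⁻¹ * v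
                  = (u⁻¹ * (r * u * r⁻¹))⁻¹ * (v * (u⁻¹ * (r * u * r⁻¹))) * (u⁻¹ * (r * u * r⁻¹))⁻¹ := by group
                _ = (u⁻¹ * (r * u * r⁻¹))⁻¹ * ((u⁻¹ * (r * u * r⁻¹)) * v) * (u⁻¹ * (r * u * r⁻¹))⁻¹ := by rw [this]
                _ = v * (u⁻¹ * (r * u * r⁻¹))⁻¹ := by group
          _ = (u⁻¹ * (r * u * r⁻¹))⁻¹ := by group
      rw [h2]
      exact (A ⊓ B).inv_mem h0
    exact hfix B le_sup_right b hb b' hb' (key' a ha b hb hgP) (key' a' ha' b' hb' hg'P)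

end Rel

section Joins

variable {X : Type*} [Group X]

/-- The join of a conjugation-invariant family of subgroups is normal. -/
theorem iSup_subtype_normal (Pr : Subgroup X → Prop)
    (hP : ∀ K : Subgroup X, Pr K → ∀ g : X, Pr (K.map (MulAut.conj g).toMonoidHom)) :
    (⨆ K : {K : Subgroup X // Pr K}, (K : Subgroup X)).Normal := by
  refine ⟨fun n hn g => ?_⟩
  have h1 : (⨆ K : {K : Subgroup X // Pr K}, (K : Subgroup X)).map (MulAut.conj g).toMonoidHom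
      ≤ ⨆ K : {K : Subgroup X // Pr K}, (K : Subgroup X) := by
    rw [Subgroup.map_iSup]
    apply iSup_le
    intro K
    exact le_iSup (fun K : {K : Subgroup X // Pr K} => (K : Subgroup X))
      ⟨_, hP K.1 K.2 g⟩
  exact h1 ⟨n, hn, rfl⟩

theorem nonQuasisimplePLayer_normal (p : ℕ) : (Cfsg.nonQuasisimplePLayer p X).Normal := by
  apply iSup_subtype_normal (fun K => Cfsg.IsPComponent p K ∧ ¬ Cfsg.IsQuasisimple ↥K)
  intro K hK g
  refine ⟨Cfsg.Agent.Helper23.isPComponent_cj hK.1 g, fun hq => hK.2 ?_⟩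
  exact Cfsg.Agent.Helper34.isQuasisimple_of_mulEquiv ((MulAut.conj g).subgroupMap K) hq

/-- The join of the quasisimple `p`-components. -/
def qsPLayer (p : ℕ) (X : Type*) [Group X] : Subgroup X :=
  ⨆ K : {K : Subgroup X // Cfsg.IsPComponent p K ∧ Cfsg.IsQuasisimple ↥K}, (K : Subgroup X)

theorem qsPLayer_normal (p : ℕ) : (qsPLayer p X).Normal := by
  apply iSup_subtype_normal (fun K => Cfsg.IsPComponent p K ∧ Cfsg.IsQuasisimple ↥K)
  intro K hK g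
  refine ⟨Cfsg.Agent.Helper23.isPComponent_cj hK.1 g, ?_⟩
  exact Cfsg.Agent.Helper34.isQuasisimple_of_mulEquiv ((MulAut.conj g).subgroupMap K).symm hK.2

theorem pLayer_le_sup (p : ℕ) :
    Cfsg.pLayer p X ≤ Cfsg.nonQuasisimplePLayer p X ⊔ qsPLayer p X := by
  apply sSup_le
  intro K hK
  by_cases hq : Cfsg.IsQuasisimple ↥K
  · exact le_sup_of_le_right
      (le_iSup (fun K : {K : Subgroup X // Cfsg.IsPComponent p K ∧ Cfsg.IsQuasisimple ↥K} =>
        (K : Subgroup X)) ⟨K, hK, hq⟩)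
  · exact le_sup_of_le_left
      (le_iSup (fun K : {K : Subgroup X // Cfsg.IsPComponent p K ∧ ¬ Cfsg.IsQuasisimple ↥K} =>
        (K : Subgroup X)) ⟨K, hK, hq⟩)

end Joins

end Cfsg.Agent.Helper22.BBal
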