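import Mathlib
import Cfsg.Agent.Lib.Helper30.BG144cDefs
import Cfsg.Agent.Lib.Helper24.RankTwoAut
import Cfsg.Agent.Lib.Helper9.KegelRed2
import Cfsg.Agent.Lib.Helper55.BGFit

/-!
# B-G 14.4(c) (row S1376, helper30's server BG144c), piece (D4) `nilpotent_false`
-/

set_option autoImplicit false
set_option linter.unusedVariables false
set_option linter.style.haveILetI false
set_option linter.unusedSectionVars false

namespace Cfsg.Agent.Helper22.BG144c

open Cfsg Subgroup Cfsg.Agent.Helper30.BG144c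
open scoped commutatorElement

universe u

variable {G : Type u} [Group G] [Finite G]

/-- an `s`-subgroup of index prime to `s` is a maximal `s`-subgroup. -/
theorem eq_of_le_of_isPGroup {s : ℕ} [hs : Fact s.Prime] {S S' : Subgroup G} (hS' : IsPGroup s S')
    (hSS' : S ≤ S') (hidx : ¬ s ∣ S.index) : S = S' := by
  have h1 := Subgroup.relIndex_mul_index hSS'
  have h2 : S.relIndex S' = 1 := by
    by_contra hne
    obtain ⟨j, hj⟩ := IsPGroup.iff_card.mp hS'
    have h3 : S.relIndex S' ∣ s ^ j := hj ▸ Subgroup.relIndex_dvd_card S S'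
    obtain ⟨i, -, hi⟩ := (Nat.dvd_prime_pow hs.out).mp h3
    have hi0 : i ≠ 0 := by
      rintro rfl
      exact hne (by simpa using hi)
    apply hidx
    rw [← h1, hi]
    exact Dvd.dvd.mul_right (dvd_pow_self s hi0) _
  exact le_antisymm hSS' (Subgroup.relIndex_eq_one.mp h2)

/-- conjugation action of `H ≤ N_G(P)` on `P`. -/
def conjActOn (H P : Subgroup G) (hHP : H ≤ normalizer (P : Set G)) : ↥H →* MulAut ↥P where
  toFun r :=
    { toFun := fun z => ⟨(r : G) * z * (r : G)⁻¹, (mem_normalizer_iff.mp (hHP r.2) z).mp z.2⟩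
      invFun := fun z => ⟨(r : G)⁻¹ * z * (r : G), by
        have := (mem_normalizer_iff.mp (hHP (H.inv_mem r.2)) z).mp z.2
        simpa using this⟩
      left_inv := fun z => by apply Subtype.ext; simp [mul_assoc]
      right_inv := fun z => by apply Subtype.ext; simp [mul_assoc]
      map_mul' := fun a b => by apply Subtype.ext; simp [mul_assoc] }
  map_one' := by ext z; simp
  map_mul' := fun a b => by ext z; simp [mul_assoc]

theorem conjActOn_apply (H P : Subgroup G) (hHP : H ≤ normalizer (P : Set G)) (r : ↥H) (z : ↥P) :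
    ((conjActOn H P hHP r z : ↥P) : G) = (r : G) * z * (r : G)⁻¹ := rfl

/-- (D4) nilpotent_false. -/
theorem nilpotent_false (hG : IsMinSimpleOddOrder G) (r1350 : R1350 G)
    {M N Nst : Subgroup G} (hM : IsCoatom M) {x0 : G} {q p : ℕ}
    {K U : Subgroup G}
    (A : SetupA M N x0 q K U) (B : SetupB M N Nst x0 K U p)
    (hcomm : ∀ a ∈ M ⊓ Nst, ∀ b ∈ M ⊓ Nst, a * b = b * a)
    {s : ℕ} {A' S : Subgroup G} {a : G} (D : SetupD M Nst s A' S a)
    (hsσ : s ∈ sigma Nst) (hSσ : S ≤ sigmaCore Nst) (T : SetupS N Nst K)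
    (hnil : Group.IsNilpotent (sigmaCore Nst)) : False := by
  classical
  haveI : Fact s.Prime := ⟨D.hs⟩
  have hs := D.hs
  -- `s ≠ 2`
  have hs2 : s ≠ 2 := by
    rintro rfl
    have h1 : 2 ∣ Nat.card A' := by rw [D.hAc]; exact dvd_pow_self 2 (by norm_num)
    have h2 : 2 ∣ Nat.card G := h1.trans (Subgroup.card_subgroup_dvd_card A')
    have h3 : Odd (Nat.card G) := hG.1
    rw [← Nat.not_even_iff_odd] at h3
    exact h3 (even_iff_two_dvd.mpr h2)
  have hSNst : S ≤ Nst := D.hSE.trans inf_le_right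
  have hScomm : ∀ x ∈ S, ∀ y ∈ S, x * y = y * x := fun x hx y hy =>
    hcomm x (D.hSE hx) y (D.hSE hy)
  have hNstSig : Nst ≤ normalizer ((sigmaCore Nst : Subgroup G) : Set G) :=
    Cfsg.Agent.Helper55.BGB.le_normalizer_sigmaCore Nst
  -- `S` is the set of `s`-elements of `(Nst)_σ`
  have hSmem : ∀ z, z ∈ S ↔ z ∈ sigmaCore Nst ∧ ∃ k : ℕ, z ^ s ^ k = 1 := by
    obtain ⟨P⟩ : Nonempty (Sylow s ↥(sigmaCore Nst)) := inferInstance
    have hmem := Cfsg.Agent.Helper9.KegelRed.mem_sylow_map_iff hnil P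
    set S' : Subgroup G := (P : Subgroup ↥(sigmaCore Nst)).map (sigmaCore Nst).subtype with hS'
    have hS'p : IsPGroup s S' := by
      intro g
      obtain ⟨_, k, hk⟩ := (hmem g).mp g.2
      exact ⟨k, Subtype.ext (by simpa using hk)⟩
    have hSS' : S ≤ S' := by
      intro z hz
      refine (hmem z).mpr ⟨hSσ hz, ?_⟩
      obtain ⟨k, hk⟩ := D.hSp ⟨z, hz⟩
      exact ⟨k, by simpa using congrArg Subtype.val hk⟩
    have hSeq : S = S' := eq_of_le_of_isPGroup hS'p hSS' D.hSsyl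
    intro z
    rw [hSeq]
    exact hmem z
  -- `Nst ≤ N(S)`
  have hNS : Nst ≤ normalizer (S : Set G) := by
    intro n hn
    rw [mem_normalizer_iff]
    intro z
    rw [hSmem, hSmem]
    constructor
    · rintro ⟨hz, k, hk⟩
      refine ⟨(mem_normalizer_iff.mp (hNstSig hn) z).mp hz, k, ?_⟩
      rw [conj_pow, hk, mul_one, mul_inv_cancel]
    · rintro ⟨hz, k, hk⟩
      refine ⟨(mem_normalizer_iff.mp (hNstSig hn) z).mpr hz, k, ?_⟩
      rw [conj_pow] at hk
      exact conj_eq_one_iff.mp hk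
  -- the quotient `X = Nst / C_Nst(S)`
  set φ := conjActOn Nst S hNS with hφ
  have hfinj : Function.Injective (QuotientGroup.kerLift φ) := QuotientGroup.kerLift_injective φ
  have hNstsolv : Group.IsSolvable ↥Nst := hG.2.2.2 Nst B.hNst.1
  have hXsolv : Group.IsSolvable (↥Nst ⧸ φ.ker) := inferInstance
  have hXodd : Odd (Nat.card (↥Nst ⧸ φ.ker)) := by
    have h1 : Nat.card (↥Nst ⧸ φ.ker) ∣ Nat.card ↥Nst := Subgroup.card_quotient_dvd_card _
    have h2 : Nat.card ↥Nst ∣ Nat.card G := Subgroup.card_subgroup_dvd_card Nst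
    exact Odd.of_dvd_nat hG.1 (h1.trans h2)
  have hrk : PRankLE s 2 ↥S := by
    intro B0 _ hB0
    have h1 : B0.map S.subtype ≤ A' := by
      rintro _ ⟨b, hb, rfl⟩
      apply D.hSΩ _ b.2
      have := hB0 b hb
      simpa using congrArg Subtype.val this
    have h2 : Nat.card ↥(B0.map S.subtype) = Nat.card B0 :=
      Subgroup.card_map_of_injective S.subtype_injective
    rw [← h2, ← D.hAc]
    exact Subgroup.card_le_of_le h1
  have hcomX := Cfsg.Agent.Helper24.RankTwoAut.isPGroup_commutator_of_rank_two hs2 D.hSp hrk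
    (QuotientGroup.kerLift φ) hfinj hXodd hXsolv
  -- `X` is an `s'`-group
  have hXs : ¬ s ∣ Nat.card (↥Nst ⧸ φ.ker) := by
    intro hd
    have hle : S.subgroupOf Nst ≤ φ.ker := by
      intro r hr
      rw [MonoidHom.mem_ker]
      ext z
      rw [conjActOn_apply, MulAut.one_apply]
      have h1 : (r : G) ∈ S := hr
      rw [hScomm _ h1 _ z.2, mul_inv_cancel_right]
    have h1 : φ.ker.index ∣ (S.subgroupOf Nst).index := Subgroup.index_dvd_of_le hle
    have h2 : (S.subgroupOf Nst).index = S.relIndex Nst := rfl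
    have h3 : S.relIndex Nst ∣ S.index := Subgroup.relIndex_dvd_index_of_le hSNst
    have h4 : Nat.card (↥Nst ⧸ φ.ker) = φ.ker.index := rfl
    rw [h4] at hd
    exact D.hSsyl (hd.trans (h1.trans (h2 ▸ h3)))
  have hcomXbot : commutator (↥Nst ⧸ φ.ker) = ⊥ := by
    obtain ⟨j, hj⟩ := IsPGroup.iff_card.mp hcomX
    have hj0 : j = 0 := by
      by_contra hj0
      apply hXs
      have h1 : s ∣ Nat.card ↥(commutator (↥Nst ⧸ φ.ker)) := by rw [hj]; exact dvd_pow_self s hj0
      exact h1.trans (Subgroup.card_subgroup_dvd_card _)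
    rw [hj0, pow_zero] at hj
    exact Subgroup.card_eq_one.mp hj
  -- `⁅Nst, Nst⁆ ≤ C(S)`
  have hder : ⁅Nst, Nst⁆ ≤ centralizer (S : Set G) := by
    rw [Subgroup.commutator_le]
    intro n hn m hm
    have h1 : ⁅(QuotientGroup.mk' φ.ker ⟨n, hn⟩), (QuotientGroup.mk' φ.ker ⟨m, hm⟩)⁆ ∈
        commutator (↥Nst ⧸ φ.ker) := by
      rw [_root_.commutator_def]
      exact Subgroup.commutator_mem_commutator (Subgroup.mem_top _) (Subgroup.mem_top _)
    rw [hcomXbot, Subgroup.mem_bot, ← map_commutatorElement] at h1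
    have h2 : ⁅(⟨n, hn⟩ : ↥Nst), ⟨m, hm⟩⁆ ∈ φ.ker := (QuotientGroup.eq_one_iff _).mp h1
    rw [MonoidHom.mem_ker] at h2
    rw [mem_centralizer_iff]
    intro z hz
    have h3 := congrArg (fun e : MulAut ↥S => ((e ⟨z, hz⟩ : ↥S) : G)) h2
    simp only [MulAut.one_apply] at h3
    rw [conjActOn_apply] at h3
    have h4 : ((⁅(⟨n, hn⟩ : ↥Nst), ⟨m, hm⟩⁆ : ↥Nst) : G) = ⁅n, m⁆ := rfl
    rw [h4] at h3
    -- `c z c⁻¹ = z`
    calc z * ⁅n, m⁆ = (⁅n, m⁆ * z * ⁅n, m⁆⁻¹) * ⁅n, m⁆ := by rw [h3]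
      _ = ⁅n, m⁆ * z := by group
  -- `(Nst)_σ ≤ E` is abelian
  have hSigE : sigmaCore Nst ≤ M ⊓ Nst := by
    rw [← T.hder]
    exact hder.trans ((Subgroup.centralizer_le (by exact_mod_cast D.hAS)).trans D.hCA)
  have hbot : ⁅sigmaCore Nst, sigmaCore Nst⁆ = ⊥ := by
    rw [eq_bot_iff, Subgroup.commutator_le]
    intro g1 h1 g2 h2
    rw [Subgroup.mem_bot, commutatorElement_eq_one_iff_mul_comm]
    exact hcomm g1 (hSigE h1) g2 (hSigE h2)
  have hK : K ≤ ⊥ := hbot ▸ T.hKder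
  exact A.hK1 (le_bot_iff.mp hK)

end Cfsg.Agent.Helper22.BG144c
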