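import Mathlib
import Cfsg.Agent.S1405
import Cfsg.Agent.Lib.Helper73.BG161Ctx
import Cfsg.Agent.Lib.Helper55.BGHall
import Cfsg.Agent.Lib.Helper34.BG10d

/-!
# B-G Lemma 16.1 (S1435, helper73's plan), piece (B8) `reg`
-/

set_option autoImplicit false
set_option linter.style.haveILetI false

namespace Cfsg.Agent.Helper22.BG161

open Subgroup Cfsg Cfsg.Agent.Helper73.BG161
open scoped Pointwise

variable {G : Type*} [Group G] [Finite G]

/-- a `q`-subgroup `A0` of `L` can be conjugated inside `L` into a given Sylow `q`-subgroup. -/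
theorem exists_conj_le_sylow {L : Type*} [Group L] [Finite L] {q : ℕ} [Fact q.Prime]
    (P : Sylow q L) {A0 : Subgroup L} (hA0 : IsPGroup q A0) :
    ∃ g : L, ∀ a ∈ A0, g * a * g⁻¹ ∈ (P : Subgroup L) := by
  obtain ⟨Q, hQ⟩ := hA0.exists_le_sylow
  obtain ⟨g, hg⟩ := MulAction.exists_smul_eq L Q P
  refine ⟨g, fun a ha => ?_⟩
  have h1 : MulAut.conj g • a ∈ MulAut.conj g • (Q : Subgroup L) :=
    Subgroup.smul_mem_pointwise_smul a (MulAut.conj g) (Q : Subgroup L) (hQ ha)
  rw [← Sylow.coe_subgroup_smul, hg] at h1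
  simpa [MulAut.smul_def] using h1

/-- if the Sylow `s`-subgroups of `L` are cyclic, `s ∉ σ(L)` and some element `x ≠ 1` of an
`s`-subgroup of `L` commutes with some `w ≠ 1` of `L_σ`, then `s ∈ κ(L)`. -/
theorem mem_kappa_of_comm {L : Subgroup G} {s : ℕ} [hs : Fact s.Prime] (hs2 : s ≠ 2)
    (hsd : s ∣ Nat.card L) (hsL : s ∉ Cfsg.sigma L) (hr1 : PRankLE s 1 L)
    {X : Subgroup G} (hXL : X ≤ L) (hXs : IsPGroup s X) {x w : G} (hxX : x ∈ X) (hx1 : x ≠ 1)
    (hw : w ∈ Cfsg.sigmaCore L) (hw1 : w ≠ 1) (hxw : x * w = w * x) : s ∈ Cfsg.kappa L := by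
  have hXs' : IsPGroup s (X.subgroupOf L) := hXs.comap_subtype
  refine ⟨hs.out, hsd, hsL, fun P => ⟨?_, ?_⟩⟩
  · exact Cfsg.Agent.Helper34.BG.isCyclic_of_pRankLE_one hs2 P.2
      (Cfsg.Agent.Helper34.BG.pRankLE_subgroup_type hr1 (P : Subgroup L))
  · obtain ⟨g, hg⟩ := exists_conj_le_sylow P hXs'
    refine ⟨g * ⟨x, hXL hxX⟩ * g⁻¹, hg ⟨x, hXL hxX⟩ (by rw [mem_subgroupOf]; exact hxX), ?_, ?_⟩
    · intro h
      apply hx1
      have h2 : (⟨x, hXL hxX⟩ : L) = 1 := by
        have := congrArg (fun z => g⁻¹ * z * g) h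
        simpa [mul_assoc] using this
      exact congrArg Subtype.val h2
    · refine ⟨(g : G) * w * (g : G)⁻¹, ?_, ?_, ?_⟩
      · have hn := Cfsg.Agent.Helper55.BGB.le_normalizer_sigmaCore L g.2
        exact (mem_normalizer_iff.mp hn w).mp hw
      · intro h
        apply hw1
        have := congrArg (fun z => (g : G)⁻¹ * z * (g : G)) h
        simpa [mul_assoc] using this
      · have : ((g * ⟨x, hXL hxX⟩ * g⁻¹ : L) : G) = (g : G) * x * (g : G)⁻¹ := by simp
        rw [this]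
        calc (g : G) * x * (g : G)⁻¹ * ((g : G) * w * (g : G)⁻¹)
            = (g : G) * (x * w) * (g : G)⁻¹ := by group
          _ = (g : G) * (w * x) * (g : G)⁻¹ := by rw [hxw]
          _ = (g : G) * w * (g : G)⁻¹ * ((g : G) * x * (g : G)⁻¹) := by group

/-- a prime outside `σ(L)` for which `L` has non-cyclic Sylow subgroups lies in `τ₂(L)`. -/
theorem mem_tau2_of_not_prankLE_one (hG : Cfsg.IsMinSimpleOddOrder G) {L : Subgroup G}
    (hL : IsCoatom L) {q : ℕ} (hq : q.Prime) (hqL : q ∉ Cfsg.sigma L) (hr1 : ¬ PRankLE q 1 L) :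
    q ∈ Cfsg.tau2 L := by
  obtain ⟨hα, -, hle, -, -⟩ := Cfsg.Agent.S1405.result hG L hL
  exact ⟨hq, hqL, Cfsg.Agent.Helper55.BGB.prankLE_two_of_not_mem_sigma hq hα hle hqL, hr1⟩

/-- (B8) `Y ≤ K` of prime order acts regularly on `L_σ` for every maximal subgroup `L ≥ Y` of type
`F` not conjugate to `M*`. -/
theorem reg (f : Facts G) {M K U Mstar : Subgroup G} (pp : PP M K U Mstar)
    (L : Subgroup G) (hL : IsCoatom L)
    (hLMs : ∀ g : G, L ≠ Mstar.map (MulAut.conj g).toMonoidHom) (hkL : Cfsg.kappa L = ∅)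
    (Y : Subgroup G) (hYK : Y ≤ K) (hYL : Y ≤ L) (hY : (Nat.card Y).Prime) :
    Cfsg.sigmaCore L ⊓ centralizer (Y : Set G) = ⊥ := by
  classical
  set q := Nat.card Y with hq
  haveI : Fact q.Prime := ⟨hY⟩
  have hKMs : K ≤ Cfsg.sigmaCore Mstar := pp.hKst.le.trans inf_le_left
  have hqMs : q ∈ Cfsg.sigma Mstar :=
    Cfsg.Agent.Helper55.BGB.isPi_sigmaCore Mstar q hY (Subgroup.card_dvd_of_le (hYK.trans hKMs))
  have hqL : q ∉ Cfsg.sigma L := by
    intro h
    obtain ⟨g, hg⟩ := f.t1378.2 Mstar L pp.hMstar hL ⟨q, hqMs, h⟩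
    exact hLMs g hg
  have hqdL : q ∣ Nat.card L := Subgroup.card_dvd_of_le hYL
  have hq2 : q ≠ 2 := by
    intro h2
    have h1 : 2 ∣ Nat.card G := by
      rw [← h2]; exact hqdL.trans (Subgroup.card_subgroup_dvd_card L)
    have hodd : Odd (Nat.card G) := pp.hG.1
    rcases hodd with ⟨k, hk⟩
    omega
  have hYq : IsPGroup q Y := IsPGroup.of_card (n := 1) (by rw [pow_one])
  have hYq' : IsPGroup q (Y.subgroupOf L) := hYq.comap_subtype
  have hMsL : Mstar ≠ L := by
    intro h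
    apply hLMs 1
    rw [← h]
    ext x
    simp
  have h1367 := (f.t1367 M pp.hM K U pp.hKU pp.hK1 Mstar pp.hMstar pp.hKst pp.hKstH).2 Y hYK hY
  by_cases hr1 : PRankLE q 1 L
  · -- Sylow `q`-subgroups of `L` are cyclic: `q ∈ κ(L)` unless `Y` acts regularly
    by_contra hne
    obtain ⟨w, hw, hw1⟩ : ∃ w : G, w ∈ Cfsg.sigmaCore L ⊓ centralizer (Y : Set G) ∧ w ≠ 1 := by
      obtain ⟨w, hw⟩ := (Subgroup.ne_bot_iff_exists_ne_one).mp hne
      exact ⟨(w : G), w.2, fun h => hw (Subtype.ext h)⟩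
    obtain ⟨y, hyY, hy1⟩ : ∃ y ∈ Y, y ≠ 1 := by
      by_contra hcon
      push Not at hcon
      have : Y = ⊥ := (Subgroup.eq_bot_iff_forall Y).mpr hcon
      rw [this] at hq
      simp at hq
      rw [hq] at hY
      exact Nat.not_prime_one hY
    have hqκ : q ∈ Cfsg.kappa L :=
      mem_kappa_of_comm hq2 hqdL hqL hr1 hYL hYq hyY hy1 hw.1 hw1
        ((mem_centralizer_iff.mp hw.2) y hyY)
    rw [hkL] at hqκ
    exact hqκ
  · -- `q ∈ τ₂(L)`
    have hτ2 : q ∈ Cfsg.tau2 L := mem_tau2_of_not_prankLE_one pp.hG hL hY hqL hr1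
    have hr2 : PRankLE q 2 L := hτ2.2.2.1
    -- an elementary abelian subgroup of order `q ^ 2` of `L`
    unfold PRankLE at hr1
    push Not at hr1
    obtain ⟨A0, hA0c, hA0e, hA0card⟩ := hr1
    have hA0q : IsPGroup q A0 := by
      intro a
      refine ⟨1, ?_⟩
      apply Subtype.ext
      simpa using hA0e a a.2
    have hA0card2 : Nat.card A0 = q ^ 2 := by
      obtain ⟨n, hn⟩ := IsPGroup.iff_card.mp hA0q
      have h2 := hr2 A0 hA0c hA0e
      rw [hn] at hA0card h2 ⊢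
      have hn1 : 1 < n := by
        by_contra hcon
        push Not at hcon
        have := Nat.pow_le_pow_right hY.pos hcon
        omega
      have hn2 : n ≤ 2 := by
        by_contra hcon
        push Not at hcon
        have := Nat.pow_lt_pow_right hY.one_lt hcon
        omega
      have : n = 2 := by omega
      rw [this]
    obtain ⟨P, hP⟩ := hYq'.exists_le_sylow
    obtain ⟨g, hg⟩ := exists_conj_le_sylow P hA0q
    -- the conjugate `A` of `A0` inside `P`
    set A : Subgroup G := (A0.map (MulAut.conj g).toMonoidHom).map L.subtype with hA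
    have hAL : A ≤ L := by
      rintro _ ⟨a, -, rfl⟩
      exact a.2
    have hAP : A ≤ (P : Subgroup L).map L.subtype := by
      rintro _ ⟨_, ⟨a, ha, rfl⟩, rfl⟩
      exact ⟨g * a * g⁻¹, hg a ha, by simp⟩
    have hAcard : Nat.card A = q ^ 2 := by
      rw [hA, Subgroup.card_map_of_injective L.subtype_injective,
        Subgroup.card_map_of_injective (MulAut.conj g).injective, hA0card2]
    have hAe : Cfsg.IsElementaryAbelian q A := by
      constructor
      · refine ⟨⟨?_⟩⟩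
        rintro ⟨_, ⟨_, ⟨a, ha, rfl⟩, rfl⟩⟩ ⟨_, ⟨_, ⟨b, hb, rfl⟩, rfl⟩⟩
        apply Subtype.ext
        have hab : a * b = b * a := congrArg Subtype.val (hA0c.is_comm.comm ⟨a, ha⟩ ⟨b, hb⟩)
        show L.subtype ((MulAut.conj g).toMonoidHom a) * L.subtype ((MulAut.conj g).toMonoidHom b) =
          L.subtype ((MulAut.conj g).toMonoidHom b) * L.subtype ((MulAut.conj g).toMonoidHom a)
        rw [← map_mul, ← map_mul, ← map_mul, ← map_mul, hab]
      · rintro _ ⟨_, ⟨a, ha, rfl⟩, rfl⟩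
        rw [← map_pow, ← map_pow, hA0e a ha, map_one, map_one]
    have h1417 := f.t1417 L hL q hτ2 A ⟨hAL, hAe, hAcard⟩
    have hPc := (h1417.2.1 P).1
    -- `A ≤ C(Y) ≤ M*`
    have hAY : A ≤ centralizer (Y : Set G) := by
      intro a ha
      rw [mem_centralizer_iff]
      intro y hy
      obtain ⟨a', ha', rfl⟩ := hAP ha
      have hy' : (⟨y, hYL hy⟩ : L) ∈ (P : Subgroup L) := hP (by rw [mem_subgroupOf]; exact hy)
      have := hPc.is_comm.comm ⟨_, hy'⟩ ⟨a', ha'⟩
      have h2 := congrArg (fun z : (P : Subgroup L) => ((z : L) : G)) this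
      simpa using h2
    have hAMs : A ≤ Mstar := hAY.trans h1367.1
    have hbot := h1417.2.2.2.2.1 Mstar pp.hMstar hMsL hAMs
    rw [eq_bot_iff, ← hbot]
    exact le_inf inf_le_left (inf_le_right.trans h1367.1)

end Cfsg.Agent.Helper22.BG161
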