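import Mathlib
import Cfsg.Agent.Lib.Helper22.BG161B8
import Cfsg.Agent.Lib.Helper22.BG11W2
import Cfsg.Agent.Lib.Helper22.Radical
import Cfsg.Agent.Lib.Helper16.BG161G1
import Cfsg.Agent.Lib.Helper45.BG143
import Cfsg.Agent.Lib.Helper82.BG1215a

/-!
# B-G Lemma 16.1 (S1435, helper73's plan), piece (B9) `U_le_sigmaCore`
-/

set_option autoImplicit false
set_option linter.style.haveILetI false
set_option linter.unusedSectionVars false

namespace Cfsg.Agent.Helper22.BG161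

open Subgroup Cfsg Cfsg.Agent.Helper73.BG161

variable {G : Type*} [Group G] [Finite G]

/-- the elements of order dividing `s` of an abelian subgroup form a subgroup. -/
theorem exists_omega (U : Subgroup G) (hUab : ∀ a ∈ U, ∀ b ∈ U, a * b = b * a) (s : ℕ) :
    ∃ X : Subgroup G, ∀ x, x ∈ X ↔ x ∈ U ∧ x ^ s = 1 :=
  ⟨{ carrier := {x | x ∈ U ∧ x ^ s = 1}
     mul_mem' := by
       rintro a b ⟨ha, ha1⟩ ⟨hb, hb1⟩
       refine ⟨U.mul_mem ha hb, ?_⟩
       have hc : Commute a b := hUab a ha b hb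
       rw [hc.mul_pow, ha1, hb1, one_mul]
     one_mem' := ⟨U.one_mem, one_pow s⟩
     inv_mem' := by
       rintro a ⟨ha, ha1⟩
       exact ⟨U.inv_mem ha, by rw [inv_pow, ha1, inv_one]⟩ }, fun _ => Iff.rfl⟩

theorem le_normalizer_of_conj_mem {K X : Subgroup G}
    (h : ∀ k ∈ K, ∀ x ∈ X, k * x * k⁻¹ ∈ X) : K ≤ normalizer (X : Set G) := by
  intro k hk
  rw [mem_normalizer_iff]
  intro n
  refine ⟨h k hk n, fun hn => ?_⟩
  have := h k⁻¹ (K.inv_mem hk) _ hn
  simpa [mul_assoc] using this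

/-- the centre of a nontrivial nilpotent subgroup is nontrivial. -/
theorem center_ne_bot_of_nilpotent {N : Subgroup G} (hnil : Group.IsNilpotent N) (hN1 : N ≠ ⊥) :
    N ⊓ centralizer (N : Set G) ≠ ⊥ := by
  haveI : Nontrivial N := (Subgroup.nontrivial_iff_ne_bot N).mpr hN1
  haveI := hnil
  have hc : center N ≠ ⊥ := Group.IsNilpotent.center_ne_bot ↥N
  obtain ⟨⟨z, hz⟩, hz1⟩ := (Subgroup.ne_bot_iff_exists_ne_one).mp hc
  intro hbot
  have hmem : (z : G) ∈ N ⊓ centralizer (N : Set G) := by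
    refine ⟨z.2, ?_⟩
    show (z : G) ∈ centralizer (N : Set G)
    rw [mem_centralizer_iff]
    intro h hh
    have := (Subgroup.mem_center_iff.mp hz) ⟨h, hh⟩
    exact congrArg Subtype.val this
  rw [hbot] at hmem
  exact hz1 (Subtype.ext (Subtype.ext (Subgroup.mem_bot.mp hmem)))

/-- whatever normalizes `N` normalizes `Z(N)`. -/
theorem le_normalizer_center {N L : Subgroup G} (h : L ≤ normalizer (N : Set G)) :
    L ≤ normalizer ((N ⊓ centralizer (N : Set G) : Subgroup G) : Set G) := by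
  intro g hg
  have hgN := h hg
  have key : ∀ k ∈ normalizer (N : Set G), ∀ n ∈ centralizer (N : Set G),
      k * n * k⁻¹ ∈ centralizer (N : Set G) := by
    intro k hk n hn
    rw [mem_centralizer_iff]
    intro x hx
    have hx' : k⁻¹ * x * k ∈ N := by
      have := (mem_normalizer_iff.mp (inv_mem hk) x).mp hx
      simpa using this
    have hc := (mem_centralizer_iff.mp hn) _ hx'
    calc x * (k * n * k⁻¹) = k * ((k⁻¹ * x * k) * n) * k⁻¹ := by group
      _ = k * (n * (k⁻¹ * x * k)) * k⁻¹ := by rw [hc]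
      _ = k * n * k⁻¹ * x := by group
  rw [mem_normalizer_iff]
  intro n
  constructor
  · rintro ⟨h1, h2⟩
    exact ⟨(mem_normalizer_iff.mp hgN n).mp h1, key g hgN n h2⟩
  · rintro ⟨h1, h2⟩
    refine ⟨(mem_normalizer_iff.mp hgN n).mpr h1, ?_⟩
    have := key g⁻¹ (inv_mem hgN) _ h2
    simpa [mul_assoc] using this

theorem centralizer_singleton_le {Y : Subgroup G} {q : ℕ} [Fact q.Prime] (hc : Nat.card Y = q)
    {y : G} (hy : y ∈ Y) (hy1 : y ≠ 1) :
    centralizer ({y} : Set G) ≤ centralizer (Y : Set G) := by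
  intro g hg
  have hgy : y * g = g * y := (mem_centralizer_iff.mp hg) y (Set.mem_singleton y)
  rw [mem_centralizer_iff]
  intro h hh
  have htop : zpowers (⟨y, hy⟩ : Y) = ⊤ :=
    zpowers_eq_top_of_prime_card hc (by intro h0; exact hy1 (congrArg Subtype.val h0))
  have hmem : (⟨h, hh⟩ : Y) ∈ zpowers (⟨y, hy⟩ : Y) := by rw [htop]; trivial
  obtain ⟨n, hn⟩ := mem_zpowers_iff.mp hmem
  have hn' : y ^ n = h := by
    have := congrArg Subtype.val hn
    simpa using this
  rw [← hn']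
  exact (Commute.zpow_left (show Commute y g from hgy) n).eq

/-- the heart of (B9): no prime divisor of `|U|` lies outside `σ(H)`. -/
theorem prime_false (f : Facts G) {M K U Mstar H : Subgroup G} (b : Base M K U Mstar H)
    {s : ℕ} (hs : s.Prime) (hsU : s ∣ Nat.card U) (hsH : s ∉ Cfsg.sigma H) : False := by
  classical
  haveI : Fact s.Prime := ⟨hs⟩
  have pp : PP M K U Mstar := b.toPP
  have hG := b.hG
  have hHall := (f.t1350 H b.hH).1
  -- `Y ≤ K` of prime order `q`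
  obtain ⟨q, hq, hqK⟩ : ∃ q, q.Prime ∧ q ∣ Nat.card K := by
    have h1 : Nat.card K ≠ 1 := fun h => b.hK1 (Subgroup.card_eq_one.mp h)
    exact ⟨_, Nat.minFac_prime h1, Nat.minFac_dvd _⟩
  haveI : Fact q.Prime := ⟨hq⟩
  obtain ⟨y0, hy0⟩ := exists_prime_orderOf_dvd_card' q hqK
  set Y : Subgroup G := zpowers (y0 : G) with hYdef
  have hYK : Y ≤ K := by rw [hYdef, zpowers_le]; exact y0.2
  have hYc : Nat.card Y = q := by rw [hYdef, Nat.card_zpowers, Subgroup.orderOf_coe, hy0]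
  have hYp : (Nat.card Y).Prime := by rw [hYc]; exact hq
  have hYH : Y ≤ H := hYK.trans b.hKH
  have hY1 : Y ≠ ⊥ := by
    intro h
    rw [h] at hYc
    simp at hYc
    exact hq.one_lt.ne hYc
  -- `X0 = Ω₁(U_s)`
  obtain ⟨X0, hX0⟩ := exists_omega U b.hUab s
  have hX0U : X0 ≤ U := fun x hx => ((hX0 x).mp hx).1
  obtain ⟨x0, hx0X, hx01⟩ : ∃ x0 ∈ X0, x0 ≠ 1 := by
    obtain ⟨u, hu⟩ := exists_prime_orderOf_dvd_card' s hsU
    refine ⟨(u : G), (hX0 _).mpr ⟨u.2, ?_⟩, ?_⟩
    · rw [← Subgroup.orderOf_coe] at hu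
      rw [← hu]
      exact pow_orderOf_eq_one _
    · intro h
      have h1 : orderOf (u : G) = 1 := by rw [h, orderOf_one]
      rw [Subgroup.orderOf_coe, hu] at h1
      exact hs.one_lt.ne' h1
  have hX0s : IsPGroup s X0 := by
    intro x
    refine ⟨1, ?_⟩
    apply Subtype.ext
    simpa using ((hX0 x).mp x.2).2
  have hKX0 : K ≤ normalizer (X0 : Set G) := by
    apply le_normalizer_of_conj_mem
    intro k hk x hx
    obtain ⟨hxU, hxs⟩ := (hX0 x).mp hx
    refine (hX0 _).mpr ⟨(mem_normalizer_iff.mp (b.hKU.normal hk) x).mp hxU, ?_⟩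
    rw [conj_pow, hxs, mul_one, mul_inv_cancel]
  have hYX0 : Y ≤ normalizer (X0 : Set G) := hYK.trans hKX0
  have hX0H : X0 ≤ H := hX0U.trans b.hUH
  -- `W = Z(H_σ)`
  have hHn : H ≤ normalizer ((Cfsg.sigmaCore H : Subgroup G) : Set G) :=
    Cfsg.Agent.Helper55.BGB.le_normalizer_sigmaCore H
  set W : Subgroup G := Cfsg.sigmaCore H ⊓ centralizer ((Cfsg.sigmaCore H : Subgroup G) : Set G)
    with hW
  have hW1 : W ≠ ⊥ := center_ne_bot_of_nilpotent b.hHnil b.hHσ1
  have hHW : H ≤ normalizer (W : Set G) := le_normalizer_center hHn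
  have hWc : ∀ a ∈ W, ∀ c ∈ W, a * c = c * a := fun a ha c hc =>
    (mem_centralizer_iff.mp hc.2) a ha.1
  obtain ⟨w, hwW, hw1⟩ : ∃ w ∈ W, w ≠ 1 := by
    by_contra hcon
    push Not at hcon
    exact hW1 ((Subgroup.eq_bot_iff_forall W).mpr hcon)
  have hsdH : s ∣ Nat.card H := hsU.trans (Subgroup.card_dvd_of_le b.hUH)
  have hs2 : s ≠ 2 := by
    intro h2
    have h1 : 2 ∣ Nat.card G := by
      rw [← h2]; exact hsdH.trans (Subgroup.card_subgroup_dvd_card H)
    rcases hG.1 with ⟨k, hk⟩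
    omega
  have hsHs : ¬ s ∣ Nat.card (Cfsg.sigmaCore H) := fun hd =>
    hsH (Cfsg.Agent.Helper55.BGB.isPi_sigmaCore H s hs hd)
  have hcopW : ∀ F : Subgroup G, IsPGroup s F → (Nat.card F).Coprime (Nat.card W) := by
    intro F hF
    obtain ⟨n, hn⟩ := IsPGroup.iff_card.mp hF
    rw [hn]
    apply Nat.Coprime.pow_left
    exact (Nat.Prime.coprime_iff_not_dvd hs).mpr
      (fun hd => hsHs (hd.trans (Subgroup.card_dvd_of_le inf_le_left)))
  -- `Y` acts regularly on `W` and on `X0`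
  have hreg : Cfsg.sigmaCore H ⊓ centralizer (Y : Set G) = ⊥ :=
    reg f pp H b.hH b.hHMs b.hkH Y hYK hYH hYp
  have hWfix : ∀ y ∈ Y, y ≠ 1 → W ⊓ centralizer ({y} : Set G) = ⊥ := by
    intro y hy hy1
    have h0 : W ⊓ centralizer (Y : Set G) = ⊥ := by
      rw [eq_bot_iff, ← hreg]
      exact inf_le_inf_right _ inf_le_left
    exact Cfsg.Agent.Helper22.BG11.inf_centralizer_singleton_eq_bot hYc h0 hy hy1
  have hX0fix : ∀ y ∈ Y, y ≠ 1 → X0 ⊓ centralizer ({y} : Set G) = ⊥ := by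
    intro y hy hy1
    have h0 := f.t1353 M b.hM K U b.hKU y (hYK hy) hy1
    rw [eq_bot_iff, ← h0]
    exact inf_le_inf_right _ hX0U
  have hX0W : X0 ≤ centralizer (W : Set G) :=
    Cfsg.Agent.Helper16.BG161.frob_fix X0 Y W hY1 hYX0 (hX0H.trans hHW) (hYH.trans hHW) hWc
      (hcopW X0 hX0s) hX0fix hWfix
  have hx0w : x0 * w = w * x0 := ((mem_centralizer_iff.mp (hX0W hx0X)) w hwW).symm
  by_cases hr1 : PRankLE s 1 H
  · -- Sylow `s`-subgroups of `H` cyclic: `s ∈ κ(H) = ∅`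
    have hκ := mem_kappa_of_comm hs2 hsdH hsH hr1 hX0H hX0s hx0X hx01 hwW.1 hw1 hx0w
    rw [b.hkH] at hκ
    exact hκ
  · -- `s ∈ τ₂(H)`
    have hτ2 : s ∈ Cfsg.tau2 H := mem_tau2_of_not_prankLE_one hG b.hH hs hsH hr1
    obtain ⟨E0, hE0⟩ := Cfsg.Agent.Helper55.BGB.exists_compl_sigmaCore hHall
    have hBH : X0 ⊔ Y ≤ H := sup_le hX0H hYH
    have hcopB : (Nat.card (Cfsg.sigmaCore H)).Coprime (Nat.card (X0 ⊔ Y : Subgroup G)) := by
      have hd : Nat.card (X0 ⊔ Y : Subgroup G) ∣ Nat.card Y * Nat.card X0 := by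
        rw [sup_comm]
        exact Cfsg.Agent.Helper22.card_sup_dvd_of_le_normalizer hYX0
      refine Nat.Coprime.coprime_dvd_right hd (Nat.Coprime.mul_right ?_ ?_)
      · rw [hYc, Nat.coprime_comm]
        exact (Nat.Prime.coprime_iff_not_dvd hq).mpr
          (fun hd => b.hKσH q hq hqK (Cfsg.Agent.Helper55.BGB.isPi_sigmaCore H q hq hd))
      · obtain ⟨n, hn⟩ := IsPGroup.iff_card.mp hX0s
        rw [hn]
        apply Nat.Coprime.pow_right
        rw [Nat.coprime_comm]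
        exact (Nat.Prime.coprime_iff_not_dvd hs).mpr hsHs
    have hsolv : Group.IsSolvable (Cfsg.sigmaCore H) := by
      haveI := b.hHnil
      infer_instance
    obtain ⟨E, hE, hBE⟩ :=
      Cfsg.Agent.Helper22.BG11.exists_compl_ge E0 hE0 hHn hBH (Or.inl hsolv) hcopB
    have hX0E : X0 ≤ E := le_sup_left.trans hBE
    have hYE : Y ≤ E := le_sup_right.trans hBE
    obtain ⟨A, hAE, hAe, hAc⟩ := Cfsg.Agent.Helper45.BG143.exists_elemAb_in_compl hτ2 hE
    have hEH : E ≤ H := hE.1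
    have hAH : A ≤ H := hAE.trans hEH
    have h1418 := f.t1418 H b.hH E hE s hτ2 A ⟨hAE, hAe, hAc⟩
    have h1417 := f.t1417 H b.hH s hτ2 A ⟨hAH, hAe, hAc⟩
    have hEA : E ≤ normalizer (A : Set G) := h1418.1.1
    have hXA : ∀ X : Subgroup G, X ≤ E → Nat.card X = s → X ≤ A := h1418.1.2
    have hCA : Cfsg.sigmaCore H ⊓ centralizer (A : Set G) = ⊥ := h1417.2.2.2.1
    have hX0A : X0 ≤ A := by
      intro x hx
      by_cases hx1 : x = 1
      · rw [hx1]; exact A.one_mem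
      · have hxs : x ^ s = 1 := ((hX0 x).mp hx).2
        have hord : orderOf x = s := orderOf_eq_prime hxs hx1
        have hc : Nat.card (zpowers x) = s := by rw [Nat.card_zpowers, hord]
        exact hXA (zpowers x) (by rw [zpowers_le]; exact hX0E hx) hc (mem_zpowers x)
    have hAW : ¬ A ≤ centralizer (W : Set G) := by
      intro h
      apply hw1
      have hmem : w ∈ Cfsg.sigmaCore H ⊓ centralizer (A : Set G) := by
        refine ⟨hwW.1, ?_⟩
        show w ∈ centralizer (A : Set G)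
        rw [mem_centralizer_iff]
        intro a ha
        exact ((mem_centralizer_iff.mp (h ha)) w hwW).symm
      rw [hCA] at hmem
      exact Subgroup.mem_bot.mp hmem
    have hAs : IsPGroup s A := IsPGroup.of_card (n := 2) hAc
    have hex : ∃ y ∈ Y, y ≠ 1 ∧ A ⊓ centralizer ({y} : Set G) ≠ ⊥ := by
      by_contra hcon
      push Not at hcon
      exact hAW (Cfsg.Agent.Helper16.BG161.frob_fix A Y W hY1 (hYE.trans hEA) (hAH.trans hHW)
        (hYH.trans hHW) hWc (hcopW A hAs) hcon hWfix)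
    obtain ⟨y, hyY, hy1, hne⟩ := hex
    obtain ⟨b0, hb0, hb01⟩ : ∃ b0 ∈ A ⊓ centralizer ({y} : Set G), b0 ≠ 1 := by
      by_contra hcon
      push Not at hcon
      exact hne ((Subgroup.eq_bot_iff_forall _).mpr hcon)
    have h1367 := (f.t1367 M b.hM K U b.hKU b.hK1 Mstar b.hMstar b.hKst b.hKstH).2 Y hYK hYp
    have hb0Y : b0 ∈ centralizer (Y : Set G) := centralizer_singleton_le hYc hyY hy1 hb0.2
    have hb0Ms : b0 ∈ Mstar := h1367.1 hb0Y
    have hyMs : y ∈ Cfsg.sigmaCore Mstar := b.hKMs (hYK hyY)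
    have hb0s : b0 ^ s = 1 := hAe.2 b0 hb0.1
    have hb0ord : orderOf b0 = s := orderOf_eq_prime hb0s hb01
    have h1432 := f.t1432 Mstar b.hMstar y hyMs hy1 b0 ⟨hb0Ms, hb0.2⟩ hb01 (by
      intro p hp hpd
      rw [hb0ord] at hpd
      have hps : p = s := (Nat.prime_dvd_prime_iff_eq hp hs).mp hpd
      rw [hps]
      exact b.hUσs s hs hsU)
    rcases h1432 with ⟨hκ, -⟩ | ⟨-, -, hCb, -⟩
    · -- `s ∈ κ(M*)`, so `s ∣ |K*|`, so `s ∈ σ(M)`
      have hsκ : s ∈ Cfsg.kappa Mstar := hκ s hs (by rw [hb0ord])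
      have hnd : ¬ s ∣ (Cfsg.sigmaCore M ⊓ centralizer (K : Set G)).relIndex Mstar :=
        b.hKstH.2.2 s hs hsκ
      have hsMs : s ∣ Nat.card Mstar := hsκ.2.1
      have hmul : Nat.card ↥(Cfsg.sigmaCore M ⊓ centralizer (K : Set G)) *
          (Cfsg.sigmaCore M ⊓ centralizer (K : Set G)).relIndex Mstar = Nat.card Mstar := by
        have := Subgroup.relIndex_mul_relIndex ⊥ (Cfsg.sigmaCore M ⊓ centralizer (K : Set G))
          Mstar bot_le b.hKstH.1
        simpa [Subgroup.relIndex_bot_left] using this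
      have hsKs : s ∣ Nat.card ↥(Cfsg.sigmaCore M ⊓ centralizer (K : Set G)) := by
        rw [← hmul] at hsMs
        exact ((Nat.Prime.dvd_mul hs).mp hsMs).resolve_right hnd
      have hsσ : s ∈ Cfsg.sigma M := Cfsg.Agent.Helper55.BGB.isPi_sigmaCore M s hs
        (hsKs.trans (Subgroup.card_dvd_of_le inf_le_left))
      exact (b.hUσ s hs hsU).1 hsσ
    · -- `C(b0) ≤ M*`, so `X0 ≤ M ∩ M* = K K*`
      have hX0Ms : X0 ≤ Mstar := by
        intro x hx
        apply hCb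
        rw [mem_centralizer_iff]
        intro z hz
        rw [Set.mem_singleton_iff] at hz
        rw [hz]
        have := hAe.1.is_comm.comm ⟨b0, hb0.1⟩ ⟨x, hX0A hx⟩
        exact congrArg Subtype.val this
      have h1368 := (f.t1368 M b.hM K U b.hKU b.hK1 Mstar b.hMstar b.hKst b.hKstH).1
      have hx0 : x0 ∈ U ⊓ (K ⊔ Cfsg.sigmaCore M) := by
        refine ⟨hX0U hx0X, ?_⟩
        have hmem : x0 ∈ M ⊓ Mstar := ⟨(hX0U.trans b.hKU.compl.1) hx0X, hX0Ms hx0X⟩
        rw [h1368] at hmem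
        exact (sup_le_sup_left inf_le_left K) hmem
      rw [b.hKU.compl.2.2.1] at hx0
      exact hx01 (Subgroup.mem_bot.mp hx0)

/-- (B9) `U ≤ H_σ`. -/
theorem U_le_sigmaCore (f : Facts G) {M K U Mstar H : Subgroup G} (b : Base M K U Mstar H) :
    U ≤ Cfsg.sigmaCore H := by
  have hHall := (f.t1350 H b.hH).1
  refine Cfsg.Agent.Helper82.BG1215.le_sigmaCore_of_pi hHall b.hUH ?_
  intro s hs hsU
  by_contra hsH
  exact prime_false f b hs hsU hsH

end Cfsg.Agent.Helper22.BG161
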