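import Mathlib
import Cfsg.Agent.Lib.Helper22.LBal8
import Cfsg.Agent.Lib.Helper22.BBal5
import Cfsg.Agent.Lib.Helper21.PGen
import Cfsg.Agent.Lib.Helper34.Components
import Cfsg.Agent.Lib.Helper34.PPrimeCore

/-!
# Maximal components of involution centralizers, part 1 (helper22)

A component of order divisible by `p` lies in the `p`-layer; if the `p`-layer centralizes
`O_{p'}`, it lies in the layer.
-/

set_option autoImplicit false
set_option linter.style.haveILetI false
open scoped commutatorElement

namespace Cfsg.Agent.Helper22.MaxComp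

open Subgroup Cfsg.Agent.Helper22 Cfsg.Agent.Helper22.LBal

/-- A perfect finite group of order divisible by `p` has no central Sylow `p`-subgroup. -/
theorem sylow_not_le_center {L : Type*} [Group L] [Finite L] [hperf : Group.IsPerfect L] {p : ℕ}
    [hp : Fact p.Prime] (hdvd : p ∣ Nat.card L) (S : Sylow p L) :
    ¬ (S : Subgroup L) ≤ center L := by
  intro hS
  have hNC : normalizer ((S : Subgroup L) : Set L) ≤ centralizer ((S : Subgroup L) : Set L) := by
    intro x _
    rw [Subgroup.mem_centralizer_iff]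
    intro y hy
    exact (Subgroup.mem_center_iff.mp (hS hy) x).symm
  have hcompl := MonoidHom.ker_transferSylow_isComplement' S hNC
  have hker : (MonoidHom.transferSylow S hNC).ker = ⊤ := by
    rw [eq_top_iff]
    intro a _
    rw [MonoidHom.mem_ker]
    haveI : Group.IsSolvable (S : Subgroup L) := by
      haveI := S.2.isNilpotent
      infer_instance
    exact perfect_hom_solvable_trivial _ a
  rw [hker] at hcompl
  have hcard := hcompl.card_mul_card
  rw [Subgroup.card_top] at hcard
  have hS1 : Nat.card (S : Subgroup L) = 1 := by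
    have hpos : 0 < Nat.card L := Nat.card_pos
    exact Nat.eq_of_mul_eq_mul_left hpos (by rw [hcard, mul_one])
  have h1 := S.card_eq_multiplicity
  rw [hS1] at h1
  have hpos : 0 < (Nat.card L).factorization p :=
    Nat.Prime.factorization_pos_of_dvd hp.out Nat.card_pos.ne' hdvd
  have h2 : 1 < p ^ (Nat.card L).factorization p := Nat.one_lt_pow hpos.ne' hp.out.one_lt
  omega

/-- A quasisimple subgroup of order divisible by `p` is generated by its `p`-elements. -/
theorem quasisimple_le_pGen {Y : Type*} [Group Y] [Finite Y] {p : ℕ} [hp : Fact p.Prime]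
    {K : Subgroup Y} (hK : Cfsg.IsQuasisimple ↥K) (hdvd : p ∣ Nat.card ↥K) :
    K ≤ Cfsg.Agent.Helper21.pGen p K := by
  set N : Subgroup ↥K := (Cfsg.Agent.Helper21.pGen p K).subgroupOf K with hN
  haveI hNn : N.Normal := Cfsg.Agent.Helper21.pGen_subgroupOf_normal p K
  haveI : Group.IsPerfect ↥K := hK.1
  rcases quasisimple_normal_top_or_le_center hK N with h | h
  · intro k hk
    have : (⟨k, hk⟩ : ↥K) ∈ N := by rw [h]; exact Subgroup.mem_top _
    exact Subgroup.mem_subgroupOf.mp this
  · exfalso
    obtain ⟨S⟩ : Nonempty (Sylow p ↥K) := inferInstance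
    refine sylow_not_le_center hdvd S (le_trans ?_ h)
    intro s hs
    rw [hN, Subgroup.mem_subgroupOf]
    obtain ⟨k, hk⟩ := S.2 ⟨s, hs⟩
    refine Cfsg.Agent.Helper21.mem_pGen s.2 ⟨k, ?_⟩
    have h1 : s ^ p ^ k = 1 := by
      have := congrArg Subtype.val hk
      simpa only [Subgroup.coe_pow, Subgroup.coe_one] using this
    have h2 := congrArg Subtype.val h1
    simpa only [Subgroup.coe_pow, Subgroup.coe_one] using h2

/-- A component of order divisible by `p` lies in the `p`-layer. -/
theorem component_le_pLayer {Y : Type*} [Group Y] [Finite Y] {p : ℕ} [hp : Fact p.Prime]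
    {K : Subgroup Y} (hK : Cfsg.IsComponent K) (hdvd : p ∣ Nat.card ↥K) :
    K ≤ Cfsg.pLayer p Y := by
  set π := QuotientGroup.mk' (Cfsg.pPrimeCore p Y) with hπ
  rcases Cfsg.Agent.Helper21.component_map_eq_bot_or_isComponent π
      (QuotientGroup.mk'_surjective _) hK with h | h
  · exfalso
    have hle : K ≤ Cfsg.pPrimeCore p Y := by
      have := (Subgroup.map_eq_bot_iff K).mp h
      rwa [hπ, QuotientGroup.ker_mk'] at this
    have h1 : Nat.card ↥K ∣ Nat.card ↥(Cfsg.pPrimeCore p Y) := Subgroup.card_dvd_of_le hle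
    have h2 : (Nat.card ↥(Cfsg.pPrimeCore p Y)).Coprime p :=
      Cfsg.Agent.Helper34.card_pPrimeCore_coprime p
    have := Nat.Coprime.eq_one_of_dvd h2.symm (hdvd.trans h1)
    exact hp.out.one_lt.ne' this
  · have h1 := Cfsg.Agent.Helper21.isPComponent_pGen_comap p (K.map π) h
    have h2 := Cfsg.Agent.Helper21.pComponent_le_pLayer p h1
    refine le_trans ?_ h2
    refine (quasisimple_le_pGen hK.2 hdvd).trans ?_
    refine Cfsg.Agent.Helper21.pGen_le_of_forall ?_
    intro g hg hk
    exact Cfsg.Agent.Helper21.mem_pGen (Subgroup.le_comap_map π K hg) hk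

/-- If the `p`-layer centralizes `O_{p'}`, it is contained in the layer. -/
theorem pLayer_le_layer_of_commutator_eq_bot {Y : Type*} [Group Y] [Finite Y] {p : ℕ}
    (h : ⁅Cfsg.pLayer p Y, Cfsg.pPrimeCore p Y⁆ = ⊥) : Cfsg.pLayer p Y ≤ Cfsg.layer Y := by
  refine sSup_le fun K hK => ?_
  have hK' : Cfsg.IsPComponent p K := hK
  have hle : K ≤ Cfsg.pLayer p Y := le_sSup hK
  have hc : ⁅K, Cfsg.pPrimeCore p Y⁆ = ⊥ := by
    rw [eq_bot_iff, ← h]
    exact Subgroup.commutator_mono hle le_rfl
  exact IsComponent.le_layer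
    ⟨hK'.1, Cfsg.Agent.Helper34.IsPComponent.isQuasisimple_of_commutator_eq_bot hK' hc⟩

end Cfsg.Agent.Helper22.MaxComp
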