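import Mathlib
import Cfsg.Agent.Lib.Helper22.MaxComp1

/-!
# Maximal components of involution centralizers, part 2 (helper22)

A component `K` of `C_X(a)` (`a` an involution) contained in `E(X)` lies in a component of `X`
or is a diagonal of `L L^a` for a component `L ≠ L^a`.
-/

set_option autoImplicit false
set_option linter.style.haveILetI false
open scoped commutatorElement

namespace Cfsg.Agent.Helper22.MaxComp

open Subgroup Cfsg.Agent.Helper22 Cfsg.Agent.Helper22.LBal Cfsg.Agent.Helper22.BBal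

variable {X : Type*} [Group X]

theorem commutatorElement_mem {A : Subgroup X} {x y : X} (hx : x ∈ A) (hy : y ∈ A) :
    ⁅x, y⁆ ∈ A := by
  rw [commutatorElement_def]
  exact A.mul_mem (A.mul_mem (A.mul_mem hx hy) (A.inv_mem hx)) (A.inv_mem hy)

/-- Commutators in a product of two commuting subgroups. -/
theorem commutatorElement_mul_mul {A B : Subgroup X} (hAB : ∀ x ∈ A, ∀ y ∈ B, Commute x y)
    {m₁ m₂ c₁ c₂ : X} (hm₁ : m₁ ∈ A) (hm₂ : m₂ ∈ A) (hc₁ : c₁ ∈ B) (hc₂ : c₂ ∈ B) :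
    ⁅m₁ * c₁, m₂ * c₂⁆ = ⁅m₁, m₂⁆ * ⁅c₁, c₂⁆ := by
  let f : ↥A × ↥B →* X :=
    MonoidHom.noncommCoprod A.subtype B.subtype (fun x y => hAB x x.2 y y.2)
  have h1 : f ⁅((⟨m₁, hm₁⟩, ⟨c₁, hc₁⟩) : ↥A × ↥B), ((⟨m₂, hm₂⟩, ⟨c₂, hc₂⟩) : ↥A × ↥B)⁆ =
      ⁅m₁ * c₁, m₂ * c₂⁆ := by
    rw [map_commutatorElement]; rfl
  rw [← h1]
  rfl

/-- Relative form of the dichotomy `K ≤ N` or `[K, N] = 1`. -/
theorem rel_le_or_commutator_eq_bot {K H N : Subgroup X} (hKq : Cfsg.IsQuasisimple ↥K)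
    (hKH : SubnormalIn K H) (hNH : N ≤ H) (hHN : H ≤ normalizer (N : Set X)) :
    K ≤ N ∨ ⁅K, N⁆ = ⊥ := by
  have hK' : Cfsg.IsComponent (K.subgroupOf H) :=
    ⟨hKH.2, IsQuasisimple.of_mulEquiv (subgroupOfEquivOfLe hKH.1).symm hKq⟩
  haveI hN' : (N.subgroupOf H).Normal := (normal_subgroupOf_iff_le_normalizer hNH).mpr hHN
  rcases component_le_or_commutator_eq_bot hK' hN'.isSubnormal with h | h
  · left
    intro k hk
    have : (⟨k, hKH.1 hk⟩ : ↥H) ∈ N.subgroupOf H := h (mem_subgroupOf.mpr hk)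
    exact mem_subgroupOf.mp this
  · right
    have h2 := congrArg (Subgroup.map H.subtype) h
    rwa [map_commutator, map_subgroupOf_eq_of_le hKH.1, map_subgroupOf_eq_of_le hNH,
      Subgroup.map_bot] at h2

theorem le_centralizer_sup {A B C : Subgroup X} (h1 : C ≤ centralizer (A : Set X))
    (h2 : C ≤ centralizer (B : Set X)) : C ≤ centralizer ((A ⊔ B : Subgroup X) : Set X) := by
  rw [le_centralizer_iff]
  exact sup_le (le_centralizer_iff.mp h1) (le_centralizer_iff.mp h2)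

/-- A quasisimple subgroup of the layer does not centralize every component. -/
theorem exists_component_not_commute {K : Subgroup X} (hKq : Cfsg.IsQuasisimple ↥K)
    (hKE : K ≤ Cfsg.layer X) : ∃ L : Subgroup X, Cfsg.IsComponent L ∧ ⁅K, L⁆ ≠ ⊥ := by
  by_contra hcon
  push Not at hcon
  have h1 : K ≤ centralizer (Cfsg.layer X : Set X) := fun k hk =>
    mem_centralizer_layer_of_forall (fun L hL =>
      (commutator_eq_bot_iff_le_centralizer.mp (hcon L hL)) hk)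
  have h2 : ⁅K, K⁆ = ⊥ :=
    commutator_eq_bot_iff_le_centralizer.mpr (h1.trans (centralizer_le hKE))
  exact IsQuasisimple.not_commutator_eq_bot hKq h2

/-- **Claim 1**: a perfect group of `a`-fixed points of `M C(M)` centralizing `C_M(a)` centralizes
`M`. -/
theorem commutator_eq_bot_of_fixed {a : X} {K M : Subgroup X}
    (haM : a ∈ normalizer (M : Set X)) (hKperf : ⁅K, K⁆ = K)
    (hKa : K ≤ centralizer ({a} : Set X)) (hKM : K ≤ M ⊔ centralizer (M : Set X))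
    (hc : ⁅K, M ⊓ centralizer ({a} : Set X)⁆ = ⊥) : ⁅K, M⁆ = ⊥ := by
  set C := centralizer (M : Set X) with hC
  have haC : a ∈ normalizer (C : Set X) := normalizer_le_normalizer_centralizer M haM
  have hMC : ∀ x ∈ M, ∀ y ∈ C, Commute x y := fun x hx y hy =>
    (mem_centralizer_iff.mp hy x hx)
  have hdec : ∀ k ∈ K, ∃ m ∈ M, ∃ c ∈ C, m * c = k ∧ m⁻¹ * (a * m * a⁻¹) ∈ C ∧
      m⁻¹ * (a * m * a⁻¹) ∈ M := by
    intro k hk
    obtain ⟨m, hm, c, hc', hmc⟩ :=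
      (mem_sup_of_commutator_eq_bot (commutator_centralizer_self M)).mp (hKM hk)
    refine ⟨m, hm, c, hc', hmc, ?_, ?_⟩
    · have hak : a * k = k * a := (mem_centralizer_singleton_iff.mp (hKa hk)).symm
      have e : m⁻¹ * (a * m * a⁻¹) = c * (a * c⁻¹ * a⁻¹) := by
        have h1 : a * (m * c) = m * c * a := by rw [hmc]; exact hak
        have h2 : m⁻¹ * a * m = c * a * c⁻¹ := by
          calc m⁻¹ * a * m = m⁻¹ * (a * (m * c)) * c⁻¹ := by group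
            _ = m⁻¹ * (m * c * a) * c⁻¹ := by rw [h1]
            _ = c * a * c⁻¹ := by group
        calc m⁻¹ * (a * m * a⁻¹) = (m⁻¹ * a * m) * a⁻¹ := by group
          _ = (c * a * c⁻¹) * a⁻¹ := by rw [h2]
          _ = c * (a * c⁻¹ * a⁻¹) := by group
      rw [e]
      exact C.mul_mem hc' ((mem_normalizer_iff.mp haC c⁻¹).mp (C.inv_mem hc'))
    · exact M.mul_mem (M.inv_mem hm) ((mem_normalizer_iff.mp haM m).mp hm)
  -- Step A
  have hA : K ≤ (M ⊓ centralizer ({a} : Set X)) ⊔ C := by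
    rw [← hKperf, commutator_le]
    intro k₁ h₁ k₂ h₂
    obtain ⟨m₁, hm₁, c₁, hc₁, rfl, hz₁, hz₁'⟩ := hdec k₁ h₁
    obtain ⟨m₂, hm₂, c₂, hc₂, rfl, hz₂, hz₂'⟩ := hdec k₂ h₂
    rw [commutatorElement_mul_mul hMC hm₁ hm₂ hc₁ hc₂]
    refine mul_mem (mem_sup_left ⟨commutatorElement_mem hm₁ hm₂, ?_⟩)
      (mem_sup_right (commutatorElement_mem hc₁ hc₂))
    show ⁅m₁, m₂⁆ ∈ centralizer ({a} : Set X)
    rw [mem_centralizer_singleton_iff]
    symm
    have e1 : a * ⁅m₁, m₂⁆ * a⁻¹ = ⁅a * m₁ * a⁻¹, a * m₂ * a⁻¹⁆ := by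
      rw [commutatorElement_def, commutatorElement_def]; group
    have e2 : a * m₁ * a⁻¹ = m₁ * (m₁⁻¹ * (a * m₁ * a⁻¹)) := by group
    have e3 : a * m₂ * a⁻¹ = m₂ * (m₂⁻¹ * (a * m₂ * a⁻¹)) := by group
    have e4 : ⁅a * m₁ * a⁻¹, a * m₂ * a⁻¹⁆ = ⁅m₁, m₂⁆ := by
      rw [e2, e3, commutatorElement_mul_mul hMC hm₁ hm₂ hz₁ hz₂]
      have : ⁅m₁⁻¹ * (a * m₁ * a⁻¹), m₂⁻¹ * (a * m₂ * a⁻¹)⁆ = 1 := by
        rw [commutatorElement_eq_one_iff_commute]
        exact (hMC _ hz₂' _ hz₁).symm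
      rw [this, mul_one]
    have e5 : a * ⁅m₁, m₂⁆ * a⁻¹ = ⁅m₁, m₂⁆ := e1.trans e4
    calc a * ⁅m₁, m₂⁆ = (a * ⁅m₁, m₂⁆ * a⁻¹) * a := by group
      _ = ⁅m₁, m₂⁆ * a := by rw [e5]
  -- Step B
  rw [commutator_eq_bot_iff_le_centralizer]
  have hNC : ⁅M ⊓ centralizer ({a} : Set X), C⁆ = ⊥ := by
    rw [eq_bot_iff, ← commutator_centralizer_self M]
    exact commutator_mono inf_le_left le_rfl
  have hNC' : ∀ x ∈ M ⊓ centralizer ({a} : Set X), ∀ y ∈ C, Commute x y :=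
    fun x hx y hy => hMC x hx.1 y hy
  rw [← hKperf, commutator_le]
  intro k₁ h₁ k₂ h₂
  obtain ⟨n₁, hn₁, c₁, hc₁, e₁⟩ := (mem_sup_of_commutator_eq_bot hNC).mp (hA h₁)
  obtain ⟨n₂, hn₂, c₂, hc₂, e₂⟩ := (mem_sup_of_commutator_eq_bot hNC).mp (hA h₂)
  have hk₁n₂ : Commute k₁ n₂ := by
    have := commutator_eq_bot_iff_le_centralizer.mp hc h₁
    exact (mem_centralizer_iff.mp this n₂ hn₂).symm
  have hn : Commute n₁ n₂ := by
    have h3 : Commute c₁ n₂ := (hNC' n₂ hn₂ c₁ hc₁).symm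
    have h4 : n₁ * c₁ * n₂ = n₂ * (n₁ * c₁) := by rw [e₁]; exact hk₁n₂.eq
    have h5 : n₁ * n₂ * c₁ = n₂ * n₁ * c₁ := by
      calc n₁ * n₂ * c₁ = n₁ * (n₂ * c₁) := by group
        _ = n₁ * (c₁ * n₂) := by rw [h3.eq]
        _ = n₁ * c₁ * n₂ := by group
        _ = n₂ * (n₁ * c₁) := h4
        _ = n₂ * n₁ * c₁ := by group
    exact mul_right_cancel h5
  rw [← e₁, ← e₂, commutatorElement_mul_mul hNC' hn₁ hn₂ hc₁ hc₂,
    commutatorElement_eq_one_iff_commute.mpr hn, one_mul]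
  exact commutatorElement_mem hc₁ hc₂

end Cfsg.Agent.Helper22.MaxComp
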