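import Mathlib
import Cfsg.Agent.Lib.Helper22.MaxComp2

/-!
# Maximal components of involution centralizers, part 3 (helper22)
-/

set_option autoImplicit false
set_option linter.style.haveILetI false
open scoped commutatorElement

namespace Cfsg.Agent.Helper22.MaxComp

open Subgroup Cfsg.Agent.Helper22 Cfsg.Agent.Helper22.LBal Cfsg.Agent.Helper22.BBal

variable {X : Type*} [Group X]

theorem conjS_conjS_of_sq {a : X} (ha : a * a = 1) (L : Subgroup X) :
    conjS a (conjS a L) = L := by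
  rw [← conjS_mul, ha, conjS_one]

theorem mem_normalizer_sup_conjS {a : X} (ha : a * a = 1) (L : Subgroup X) :
    a ∈ normalizer ((L ⊔ conjS a L : Subgroup X) : Set X) := by
  rw [mem_normalizer_iff_conjS, conjS_sup, conjS_conjS_of_sq ha, sup_comm]

theorem layer_le_normalizer_component {L : Subgroup X} (hL : Cfsg.IsComponent L) :
    Cfsg.layer X ≤ normalizer (L : Set X) := layer_le_normalizer_of_subnormal hL.1

theorem layer_le_sup_centralizer_sup {L L' : Subgroup X} (hL : Cfsg.IsComponent L)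
    (hL' : Cfsg.IsComponent L') :
    Cfsg.layer X ≤ (L ⊔ L') ⊔ centralizer ((L ⊔ L' : Subgroup X) : Set X) := by
  refine sSup_le fun J hJ => ?_
  have hJ' : Cfsg.IsComponent J := hJ
  by_cases h1 : J = L
  · rw [h1]; exact le_sup_left.trans le_sup_left
  by_cases h2 : J = L'
  · rw [h2]; exact le_sup_right.trans le_sup_left
  refine le_trans ?_ le_sup_right
  exact le_centralizer_sup
    (commutator_eq_bot_iff_le_centralizer.mp (component_commute hJ' hL h1))
    (commutator_eq_bot_iff_le_centralizer.mp (component_commute hJ' hL' h2))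

/-- For a component `L` of `X`: `K ≤ C_{L L^a}(a)` or `[K, L] = 1`. -/
theorem le_sup_conj_or_commute {a : X} (ha : a * a = 1) {K L : Subgroup X}
    (hKq : Cfsg.IsQuasisimple ↥K) (hKa : K ≤ centralizer ({a} : Set X))
    (hKsn : SubnormalIn K (centralizer ({a} : Set X))) (hKE : K ≤ Cfsg.layer X)
    (hL : Cfsg.IsComponent L) :
    K ≤ (L ⊔ conjS a L) ⊓ centralizer ({a} : Set X) ∨ ⁅K, L⁆ = ⊥ := by
  have hL' : Cfsg.IsComponent (conjS a L) := IsComponent.conj hL a
  set M := L ⊔ conjS a L with hM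
  have haM : a ∈ normalizer (M : Set X) := mem_normalizer_sup_conjS ha L
  have hEM : Cfsg.layer X ≤ normalizer (M : Set X) :=
    (le_inf (layer_le_normalizer_component hL) (layer_le_normalizer_component hL')).trans
      (normalizer_inf_le_normalizer_sup L (conjS a L))
  have hME : M ≤ Cfsg.layer X := sup_le (IsComponent.le_layer hL) (IsComponent.le_layer hL')
  have hKH : SubnormalIn K (Cfsg.layer X ⊓ centralizer ({a} : Set X)) :=
    hKsn.mono_right (le_inf hKE hKa) inf_le_right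
  have hNH : M ⊓ centralizer ({a} : Set X) ≤ Cfsg.layer X ⊓ centralizer ({a} : Set X) :=
    inf_le_inf_right _ hME
  have hHN : Cfsg.layer X ⊓ centralizer ({a} : Set X) ≤
      normalizer ((M ⊓ centralizer ({a} : Set X) : Subgroup X) : Set X) :=
    (inf_le_inf hEM le_normalizer).trans (normalizer_inf_le M _)
  rcases rel_le_or_commutator_eq_bot hKq hKH hNH hHN with h | h
  · left; exact h
  · right
    have h1 : ⁅K, M⁆ = ⊥ := commutator_eq_bot_of_fixed haM (IsQuasisimple.commutator_eq hKq) hKa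
      (hKE.trans (layer_le_sup_centralizer_sup hL hL')) h
    rw [eq_bot_iff, ← h1]
    exact commutator_mono le_rfl le_sup_left

/-- The diagonal homomorphism `l ↦ l * l^a` of a subgroup commuting with its `a`-conjugate. -/
noncomputable def diagHom (L : Subgroup X) (a : X)
    (h : ∀ x ∈ L, ∀ y ∈ L, Commute x (a * y * a⁻¹)) : ↥L →* X :=
  (MonoidHom.noncommCoprod L.subtype ((MulAut.conj a).toMonoidHom.comp L.subtype)
    (fun x y => h x x.2 y y.2)).comp (MonoidHom.prod (MonoidHom.id ↥L) (MonoidHom.id ↥L))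

theorem diagHom_apply (L : Subgroup X) (a : X)
    (h : ∀ x ∈ L, ∀ y ∈ L, Commute x (a * y * a⁻¹)) (l : ↥L) :
    diagHom L a h l = (l : X) * (a * (l : X) * a⁻¹) := rfl

/-- The diagonal case. -/
theorem diag_of_le_sup_conj {a : X} (ha : a * a = 1) {K L : Subgroup X}
    (hKq : Cfsg.IsQuasisimple ↥K) (hL : Cfsg.IsComponent L) (hne : conjS a L ≠ L)
    (hK : K ≤ (L ⊔ conjS a L) ⊓ centralizer ({a} : Set X)) :
    ∀ k ∈ K, ∃ l ∈ L, k = l * (a * l * a⁻¹) := by
  have hL' : Cfsg.IsComponent (conjS a L) := IsComponent.conj hL a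
  have hcomm : ⁅L, conjS a L⁆ = ⊥ := component_commute hL hL' (Ne.symm hne)
  have hLL' : ∀ x ∈ L, ∀ y ∈ conjS a L, Commute x y := by
    intro x hx y hy
    have := commutator_eq_bot_iff_le_centralizer.mp hcomm hx
    exact (mem_centralizer_iff.mp this y hy).symm
  have hmem' : ∀ y ∈ L, a * y * a⁻¹ ∈ conjS a L := fun y hy => ⟨y, hy, rfl⟩
  have hh : ∀ x ∈ L, ∀ y ∈ L, Commute x (a * y * a⁻¹) := fun x hx y hy =>
    hLL' x hx _ (hmem' y hy)
  have hainv : a⁻¹ = a := inv_eq_of_mul_eq_one_left ha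
  have hback : ∀ y ∈ conjS a L, a * y * a⁻¹ ∈ L := by
    rintro _ ⟨w, hw, rfl⟩
    have : a * ((MulAut.conj a).toMonoidHom w) * a⁻¹ = (a * a) * w * (a * a)⁻¹ := by
      simp only [MulEquiv.toMonoidHom_eq_coe, MonoidHom.coe_coe, MulAut.conj_apply]
      group
    rw [this, ha]; simpa using hw
  -- decomposition
  have hdec : ∀ k ∈ K, ∃ l ∈ L, ∃ z ∈ L ⊓ conjS a L, k = l * (a * l * a⁻¹) * z := by
    intro k hk
    obtain ⟨l, hl, n', hn', hln⟩ := (mem_sup_of_commutator_eq_bot hcomm).mp (hK hk).1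
    obtain ⟨n, hn, rfl⟩ := hn'
    have hn'' : (MulAut.conj a).toMonoidHom n = a * n * a⁻¹ := by
      simp only [MulEquiv.toMonoidHom_eq_coe, MonoidHom.coe_coe, MulAut.conj_apply]
    rw [hn''] at hln
    have hak : k * a = a * k := mem_centralizer_singleton_iff.mp (hK hk).2
    -- (a l a⁻¹) * n = l * (a n a⁻¹)
    have h1 : (a * l * a⁻¹) * n = l * (a * n * a⁻¹) := by
      have e : a * k * a⁻¹ = k := by rw [← hak]; group
      have e2 : a * (l * (a * n * a⁻¹)) * a⁻¹ = (a * l * a⁻¹) * ((a * a) * n * (a * a)⁻¹) := by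
        group
      rw [← hln] at e
      rw [e2, ha] at e
      simpa using e
    have h2 : n * (a * l * a⁻¹) = l * (a * n * a⁻¹) := by
      rw [← h1]; exact (hh n hn l hl).eq
    -- z := l⁻¹ n
    have hz : l⁻¹ * n = (a * n * a⁻¹) * (a * l * a⁻¹)⁻¹ := by
      calc l⁻¹ * n = l⁻¹ * (n * (a * l * a⁻¹)) * (a * l * a⁻¹)⁻¹ := by group
        _ = l⁻¹ * (l * (a * n * a⁻¹)) * (a * l * a⁻¹)⁻¹ := by rw [h2]
        _ = (a * n * a⁻¹) * (a * l * a⁻¹)⁻¹ := by group
    have hzL : l⁻¹ * n ∈ L := L.mul_mem (L.inv_mem hl) hn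
    have hzL' : l⁻¹ * n ∈ conjS a L := by
      rw [hz]
      exact (conjS a L).mul_mem (hmem' n hn) ((conjS a L).inv_mem (hmem' l hl))
    refine ⟨l, hl, a * (l⁻¹ * n) * a⁻¹, ⟨hback _ hzL', hmem' _ hzL⟩, ?_⟩
    rw [← hln]; group
  -- central elements
  set M := L ⊔ conjS a L with hM
  have hcent : ∀ z ∈ L ⊓ conjS a L, ∀ g ∈ M, g * z = z * g := by
    intro z hz g hg
    have hle : M ≤ centralizer ({z} : Set X) := by
      refine sup_le ?_ ?_
      · intro x hx
        rw [mem_centralizer_singleton_iff]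
        exact (hLL' x hx z hz.2).eq
      · intro y hy
        rw [mem_centralizer_singleton_iff]
        exact (hLL' z hz.1 y hy).eq.symm
    exact mem_centralizer_singleton_iff.mp (hle hg)
  have hδM : ∀ l ∈ L, l * (a * l * a⁻¹) ∈ M := fun l hl =>
    M.mul_mem (mem_sup_left hl) (mem_sup_right (hmem' l hl))
  have hKD : K ≤ (diagHom L a hh).range := by
    rw [← IsQuasisimple.commutator_eq hKq, commutator_le]
    intro k₁ h₁ k₂ h₂
    obtain ⟨l₁, hl₁, z₁, hz₁, rfl⟩ := hdec k₁ h₁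
    obtain ⟨l₂, hl₂, z₂, hz₂, rfl⟩ := hdec k₂ h₂
    have hzM : ∀ z ∈ L ⊓ conjS a L, z ∈ M := fun z hz => mem_sup_left hz.1
    rw [commutatorElement_mul_central_rel _ _ z₁ z₂ M (hδM l₁ hl₁) (hδM l₂ hl₂) (hzM z₁ hz₁)
      (hzM z₂ hz₂) (hcent z₁ hz₁) (hcent z₂ hz₂)]
    refine ⟨⁅(⟨l₁, hl₁⟩ : ↥L), ⟨l₂, hl₂⟩⁆, ?_⟩
    rw [map_commutatorElement]
    rfl
  intro k hk
  obtain ⟨l, hl⟩ := hKD hk
  exact ⟨l, l.2, by rw [← hl, diagHom_apply]⟩

/-- **Main dichotomy**: a component `K` of `C_X(a)` inside `E(X)` lies in a component of `X`,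
or is a diagonal subgroup of `L L^a` with `L^a ≠ L`. -/
theorem exists_component_le_or_diag {a : X} (ha : a * a = 1) {K : Subgroup X}
    (hKq : Cfsg.IsQuasisimple ↥K) (hKa : K ≤ centralizer ({a} : Set X))
    (hKsn : SubnormalIn K (centralizer ({a} : Set X))) (hKE : K ≤ Cfsg.layer X) :
    ∃ L : Subgroup X, Cfsg.IsComponent L ∧
      (K ≤ L ∨ (conjS a L ≠ L ∧ ∀ k ∈ K, ∃ l ∈ L, k = l * (a * l * a⁻¹))) := by
  obtain ⟨L, hL, hne⟩ := exists_component_not_commute hKq hKE
  refine ⟨L, hL, ?_⟩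
  rcases le_sup_conj_or_commute ha hKq hKa hKsn hKE hL with h | h
  · by_cases hc : conjS a L = L
    · left
      rw [hc, sup_idem] at h
      exact h.trans inf_le_left
    · right
      exact ⟨hc, diag_of_le_sup_conj ha hKq hL hc h⟩
  · exact absurd h hne

end Cfsg.Agent.Helper22.MaxComp
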