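import Mathlib
import Cfsg.Agent.Lib.Helper22.MaxComp3

/-!
# Maximal components of involution centralizers, part 4 (helper22)

The diagonal case produces a large elementary abelian subgroup centralizing a component.
-/

set_option autoImplicit false
set_option linter.style.haveILetI false
open scoped commutatorElement

namespace Cfsg.Agent.Helper22.MaxComp

open Subgroup Cfsg.Agent.Helper22 Cfsg.Agent.Helper22.LBal Cfsg.Agent.Helper22.BBal

variable {X : Type*} [Group X]

theorem elemAb_comm {A : Subgroup X} (h : Cfsg.IsElementaryAbelian 2 A) {x y : X} (hx : x ∈ A)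
    (hy : y ∈ A) : x * y = y * x := by
  have := h.1.is_comm.comm (⟨x, hx⟩ : ↥A) ⟨y, hy⟩
  exact congrArg Subtype.val this

theorem card_mul_le_card_sup [Finite X] (H K : Subgroup X) (h : H ⊓ K = ⊥) :
    Nat.card H * Nat.card K ≤ Nat.card ↥(H ⊔ K) := by
  rw [← Nat.card_prod]
  let f : ↥H × ↥K → ↥(H ⊔ K) := fun g =>
    ⟨(g.1 : X) * (g.2 : X), mul_mem (mem_sup_left g.1.2) (mem_sup_right g.2.2)⟩
  refine Nat.card_le_card_of_injective f ?_
  intro g g' hgg
  have := congrArg Subtype.val hgg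
  exact Subgroup.mul_injective_of_disjoint (disjoint_iff.mpr h) this

theorem four_le_card [Finite X] {A : Subgroup X} (h : ∀ a ∈ A, a ^ 2 = 1) (h2 : 2 < Nat.card A) :
    4 ≤ Nat.card A := by
  haveI : Fact (Nat.Prime 2) := ⟨Nat.prime_two⟩
  have hp : IsPGroup 2 ↥A := fun g => ⟨1, by
    have := h g g.2
    apply Subtype.ext
    simpa using this⟩
  obtain ⟨n, hn⟩ := IsPGroup.iff_card.mp hp
  rw [hn] at h2 ⊢
  have h3 : 2 ≤ n := by
    by_contra hlt
    push Not at hlt
    interval_cases n <;> simp at h2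
  calc 4 = 2 ^ 2 := by norm_num
    _ ≤ 2 ^ n := Nat.pow_le_pow_right (by norm_num) h3

/-- The diagonal case: a large elementary abelian `2`-subgroup centralizing `L^a`. -/
theorem exists_large_elementary [Finite X] {a : X} (ha : a * a = 1) {K L Bx A : Subgroup X}
    (hKq : Cfsg.IsQuasisimple ↥K) (hL : Cfsg.IsComponent L) (hne : conjS a L ≠ L)
    (hdiag : ∀ k ∈ K, ∃ l ∈ L, k = l * (a * l * a⁻¹)) (hcard : Nat.card L ≤ Nat.card K)
    (hBK : Bx ≤ centralizer (K : Set X)) (hBa : Bx ≤ centralizer ({a} : Set X))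
    (hBel : Cfsg.IsElementaryAbelian 2 Bx)
    (hAK : A ≤ K) (hAel : Cfsg.IsElementaryAbelian 2 A) (hA2 : 2 < Nat.card A) :
    ∃ W : Subgroup X, Cfsg.IsElementaryAbelian 2 W ∧
      W ≤ centralizer ((conjS a L : Subgroup X) : Set X) ∧ 2 * Nat.card Bx ≤ Nat.card W := by
  classical
  have hL' : Cfsg.IsComponent (conjS a L) := IsComponent.conj hL a
  have hcomm : ⁅L, conjS a L⁆ = ⊥ := component_commute hL hL' (Ne.symm hne)
  have hLL' : ∀ x ∈ L, ∀ y ∈ conjS a L, Commute x y := by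
    intro x hx y hy
    have := commutator_eq_bot_iff_le_centralizer.mp hcomm hx
    exact (mem_centralizer_iff.mp this y hy).symm
  have hmem' : ∀ y ∈ L, a * y * a⁻¹ ∈ conjS a L := fun y hy => ⟨y, hy, rfl⟩
  have hh : ∀ x ∈ L, ∀ y ∈ L, Commute x (a * y * a⁻¹) := fun x hx y hy =>
    hLL' x hx _ (hmem' y hy)
  have hδmul : ∀ l₁ ∈ L, ∀ l₂ ∈ L, (l₁ * l₂) * (a * (l₁ * l₂) * a⁻¹) =
      (l₁ * (a * l₁ * a⁻¹)) * (l₂ * (a * l₂ * a⁻¹)) := by
    intro l₁ h₁ l₂ h₂
    exact map_mul (diagHom L a hh) ⟨l₁, h₁⟩ ⟨l₂, h₂⟩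
  have hdiag' := hdiag
  choose! g hgL hg using hdiag
  let gg : ↥K → ↥L := fun k => ⟨g k, hgL k k.2⟩
  have hgg_inj : Function.Injective gg := by
    intro k k' hkk
    have h1 : g k = g k' := congrArg Subtype.val hkk
    apply Subtype.ext
    rw [hg k k.2, hg k' k'.2, h1]
  have hgg_bij : Function.Bijective gg := hgg_inj.bijective_of_nat_card_le hcard
  have F1 : ∀ l ∈ L, l * (a * l * a⁻¹) ∈ K := by
    intro l hl
    obtain ⟨k, hk⟩ := hgg_bij.2 ⟨l, hl⟩
    have e : g k = l := congrArg Subtype.val hk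
    rw [← e, ← hg k k.2]; exact k.2
  have F2 : ∀ l ∈ L, ∀ l' ∈ L, l * (a * l * a⁻¹) = l' * (a * l' * a⁻¹) → l = l' := by
    intro l hl l' hl' h
    obtain ⟨k, hk⟩ := hgg_bij.2 ⟨l, hl⟩
    obtain ⟨k', hk'⟩ := hgg_bij.2 ⟨l', hl'⟩
    have e1 : g k = l := congrArg Subtype.val hk
    have e2 : g k' = l' := congrArg Subtype.val hk'
    have e3 : (k : X) = k' := by rw [hg k k.2, hg k' k'.2, e1, e2, h]
    rw [← e1, ← e2, e3]
  have hKM : K ≤ L ⊔ conjS a L := by
    intro k hk
    obtain ⟨l, hl, rfl⟩ := hdiag' k hk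
    exact mul_mem (mem_sup_left hl) (mem_sup_right (hmem' l hl))
  -- (s2)
  have hperm : ∀ x ∈ Bx, conjS x L = L ∨ conjS x L = conjS a L := by
    intro x hx
    by_contra hcon
    push Not at hcon
    obtain ⟨h1, h2⟩ := hcon
    have hJc : Cfsg.IsComponent (conjS x L) := IsComponent.conj hL x
    have hxa : x * a = a * x := mem_centralizer_singleton_iff.mp (hBa hx)
    have hJ'c : Cfsg.IsComponent (conjS a (conjS x L)) := IsComponent.conj hJc a
    have h3 : conjS a (conjS x L) ≠ L := by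
      intro h
      apply h2
      have := congrArg (conjS a) h
      rwa [conjS_conjS_of_sq ha] at this
    have h4 : conjS a (conjS x L) ≠ conjS a L := by
      intro h
      apply h1
      have := congrArg (conjS a) h
      rwa [conjS_conjS_of_sq ha, conjS_conjS_of_sq ha] at this
    have hc1 : conjS x L ≤ centralizer ((L ⊔ conjS a L : Subgroup X) : Set X) :=
      le_centralizer_sup
        (commutator_eq_bot_iff_le_centralizer.mp (component_commute hJc hL h1))
        (commutator_eq_bot_iff_le_centralizer.mp (component_commute hJc hL' h2))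
    have hc2 : conjS a (conjS x L) ≤ centralizer ((L ⊔ conjS a L : Subgroup X) : Set X) :=
      le_centralizer_sup
        (commutator_eq_bot_iff_le_centralizer.mp (component_commute hJ'c hL h3))
        (commutator_eq_bot_iff_le_centralizer.mp (component_commute hJ'c hL' h4))
    have hxK : conjS x K = K :=
      mem_normalizer_iff_conjS.mp (centralizer_le_normalizer _ (hBK hx))
    have e1 : conjS x (conjS a L) = conjS a (conjS x L) := by
      rw [← conjS_mul, hxa, conjS_mul]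
    have hK2 : K ≤ centralizer ((L ⊔ conjS a L : Subgroup X) : Set X) := by
      calc K = conjS x K := hxK.symm
        _ ≤ conjS x (L ⊔ conjS a L) := conjS_mono x hKM
        _ = conjS x L ⊔ conjS a (conjS x L) := by rw [conjS_sup, e1]
        _ ≤ _ := sup_le hc1 hc2
    have hK3 : ⁅K, K⁆ = ⊥ :=
      commutator_eq_bot_iff_le_centralizer.mpr (hK2.trans (centralizer_le hKM))
    exact IsQuasisimple.not_commutator_eq_bot hKq hK3
  -- (s3)
  set B₀ : Subgroup X := Bx ⊓ normalizer (L : Set X) with hB₀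
  have hidx : Nat.card Bx ≤ 2 * Nat.card B₀ := by
    by_cases hall : Bx ≤ normalizer (L : Set X)
    · have : B₀ = Bx := inf_of_le_left hall
      rw [this]; omega
    · obtain ⟨x₀, hx₀, hx₀n⟩ := SetLike.not_le_iff_exists.mp hall
      have hx₀L : conjS x₀ L = conjS a L :=
        (hperm x₀ hx₀).resolve_left (fun h => hx₀n (mem_normalizer_iff_conjS.mpr h))
      have hrel : B₀.relIndex Bx = 2 := by
        rw [relIndex_eq_two_iff_exists_notMem_and]
        refine ⟨x₀, hx₀, fun h => hx₀n h.2, fun b hb => ?_⟩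
        rcases hperm b hb with h | h
        · right; exact ⟨hb, mem_normalizer_iff_conjS.mpr h⟩
        · left
          refine ⟨Bx.mul_mem hb hx₀, ?_⟩
          have hba : b * a = a * b := mem_centralizer_singleton_iff.mp (hBa hb)
          show b * x₀ ∈ normalizer (L : Set X)
          rw [mem_normalizer_iff_conjS, conjS_mul, hx₀L, ← conjS_mul, hba, conjS_mul, h,
            conjS_conjS_of_sq ha]
      have h1 := Subgroup.card_mul_index (B₀.subgroupOf Bx)
      have h2 : Nat.card (B₀.subgroupOf Bx) = Nat.card B₀ :=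
        Nat.card_congr (subgroupOfEquivOfLe (inf_le_left : B₀ ≤ Bx)).toEquiv
      have h3 : (B₀.subgroupOf Bx).index = 2 := hrel
      rw [h2, h3] at h1
      omega
  -- (s4)
  have hB₀L : B₀ ≤ centralizer (L : Set X) := by
    intro x hx
    rw [mem_centralizer_iff]
    intro l hl
    have hxa : x * a = a * x := mem_centralizer_singleton_iff.mp (hBa hx.1)
    have hxl : x * l * x⁻¹ ∈ L := (mem_normalizer_iff.mp hx.2 l).mp hl
    have hδ : (x * l * x⁻¹) * (a * (x * l * x⁻¹) * a⁻¹) = l * (a * l * a⁻¹) := by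
      have hk := F1 l hl
      have hxk := mem_centralizer_iff.mp (hBK hx.1) _ hk
      have e1 : x * (l * (a * l * a⁻¹)) * x⁻¹ = l * (a * l * a⁻¹) := by
        rw [← hxk]; group
      have e3 : a * (x * l * x⁻¹) * a⁻¹ = x * (a * l * a⁻¹) * x⁻¹ := by
        calc a * (x * l * x⁻¹) * a⁻¹ = (a * x) * l * (a * x)⁻¹ := by group
          _ = (x * a) * l * (x * a)⁻¹ := by rw [hxa]
          _ = x * (a * l * a⁻¹) * x⁻¹ := by group
      have e2 : (x * l * x⁻¹) * (a * (x * l * x⁻¹) * a⁻¹) =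
          x * (l * (a * l * a⁻¹)) * x⁻¹ := by
        rw [e3]; group
      rw [e2, e1]
    have e := F2 _ hxl _ hl hδ
    calc l * x = (x * l * x⁻¹) * x := by rw [e]
      _ = x * l := by group
  have hB₀L' : B₀ ≤ centralizer ((conjS a L : Subgroup X) : Set X) := by
    intro x hx
    rw [mem_centralizer_iff]
    rintro _ ⟨l, hl, rfl⟩
    have hxa : x * a = a * x := mem_centralizer_singleton_iff.mp (hBa hx.1)
    have hxl : l * x = x * l := mem_centralizer_iff.mp (hB₀L hx) l hl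
    have hxa' : a⁻¹ * x = x * a⁻¹ := by
      calc a⁻¹ * x = a⁻¹ * (x * a) * a⁻¹ := by group
        _ = a⁻¹ * (a * x) * a⁻¹ := by rw [hxa]
        _ = x * a⁻¹ := by group
    simp only [MulEquiv.toMonoidHom_eq_coe, MonoidHom.coe_coe, MulAut.conj_apply]
    calc a * l * a⁻¹ * x = a * l * (a⁻¹ * x) := by group
      _ = a * l * (x * a⁻¹) := by rw [hxa']
      _ = a * (l * x) * a⁻¹ := by group
      _ = a * (x * l) * a⁻¹ := by rw [hxl]
      _ = (a * x) * l * a⁻¹ := by group
      _ = (x * a) * l * a⁻¹ := by rw [hxa]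
      _ = x * (a * l * a⁻¹) := by group
  -- (s5)
  have hB₀L0 : B₀ ⊓ L = ⊥ := by
    rw [eq_bot_iff]
    rintro x ⟨hx, hxL⟩
    rw [mem_bot]
    have hxa : x * a = a * x := mem_centralizer_singleton_iff.mp (hBa hx.1)
    have hx2 : x ^ 2 = 1 := hBel.2 x hx.1
    have h1 : x * (a * x * a⁻¹) = 1 * (a * 1 * a⁻¹) := by
      have e : a * x * a⁻¹ = x := by rw [← hxa]; group
      rw [e, ← pow_two, hx2]; group
    exact F2 x hxL 1 L.one_mem h1
  -- (s6)
  set U : Subgroup X := (A.comap (diagHom L a hh)).map L.subtype with hU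
  have hUL : U ≤ L := map_subtype_le _
  have hU1 : ∀ u ∈ U, u * (a * u * a⁻¹) ∈ A := by
    rintro _ ⟨l, hl, rfl⟩
    exact hl
  have hU2 : ∀ l ∈ L, l * (a * l * a⁻¹) ∈ A → l ∈ U := by
    intro l hl hlA
    exact ⟨⟨l, hl⟩, hlA, rfl⟩
  have hUcomm : ∀ u₁ ∈ U, ∀ u₂ ∈ U, u₁ * u₂ = u₂ * u₁ := by
    intro u₁ h₁ u₂ h₂
    refine F2 _ (L.mul_mem (hUL h₁) (hUL h₂)) _ (L.mul_mem (hUL h₂) (hUL h₁)) ?_
    rw [hδmul _ (hUL h₁) _ (hUL h₂), hδmul _ (hUL h₂) _ (hUL h₁)]
    exact elemAb_comm hAel (hU1 u₁ h₁) (hU1 u₂ h₂)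
  have hUexp : ∀ u ∈ U, u ^ 2 = 1 := by
    intro u hu
    refine F2 _ (L.pow_mem (hUL hu) 2) 1 L.one_mem ?_
    rw [pow_two, hδmul _ (hUL hu) _ (hUL hu), ← pow_two, hAel.2 _ (hU1 u hu)]
    group
  have hUcard : 4 ≤ Nat.card U := by
    have hA4 : 4 ≤ Nat.card A := four_le_card hAel.2 hA2
    refine hA4.trans ?_
    let φ : ↥A → ↥U := fun α =>
      ⟨g α, hU2 _ (hgL α (hAK α.2)) (by rw [← hg α (hAK α.2)]; exact α.2)⟩
    refine Nat.card_le_card_of_injective φ ?_
    intro α α' hαα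
    have h1 : g α = g α' := congrArg Subtype.val hαα
    apply Subtype.ext
    rw [hg α (hAK α.2), hg α' (hAK α'.2), h1]
  -- (s7)
  have hB₀U : B₀ ≤ centralizer (U : Set X) := hB₀L.trans (centralizer_le hUL)
  have hUB₀ : U ≤ centralizer (B₀ : Set X) := le_centralizer_iff.mp hB₀U
  have hB₀B₀ : B₀ ≤ centralizer (B₀ : Set X) := by
    intro x hx
    rw [mem_centralizer_iff]
    intro y hy
    exact elemAb_comm hBel hy.1 hx.1
  have hUU : U ≤ centralizer (U : Set X) := by
    intro x hx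
    rw [mem_centralizer_iff]
    intro y hy
    exact hUcomm y hy x hx
  have hWW : B₀ ⊔ U ≤ centralizer ((B₀ ⊔ U : Subgroup X) : Set X) :=
    sup_le (le_centralizer_sup hB₀B₀ hB₀U) (le_centralizer_sup hUB₀ hUU)
  refine ⟨B₀ ⊔ U, ⟨⟨⟨fun x y => ?_⟩⟩, ?_⟩, ?_, ?_⟩
  · apply Subtype.ext
    exact (mem_centralizer_iff.mp (hWW y.2) x x.2)
  · intro w hw
    obtain ⟨β, hβ, u, hu, rfl⟩ :=
      (mem_sup_of_commutator_eq_bot (commutator_eq_bot_iff_le_centralizer.mpr hB₀U)).mp hw
    have hβu : u * β = β * u := mem_centralizer_iff.mp (hB₀U hβ) u hu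
    have hβ2 : β ^ 2 = 1 := hBel.2 β hβ.1
    have hu2 : u ^ 2 = 1 := hUexp u hu
    calc (β * u) ^ 2 = β * (u * β) * u := by rw [pow_two]; group
      _ = β * (β * u) * u := by rw [hβu]
      _ = β ^ 2 * u ^ 2 := by rw [pow_two, pow_two]; group
      _ = 1 := by rw [hβ2, hu2, one_mul]
  · refine sup_le hB₀L' (hUL.trans ?_)
    exact commutator_eq_bot_iff_le_centralizer.mp hcomm
  · have h1 : B₀ ⊓ U = ⊥ := by
      rw [eq_bot_iff, ← hB₀L0]
      exact inf_le_inf_left _ hUL
    have h2 := card_mul_le_card_sup B₀ U h1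
    have h3 : Nat.card B₀ * 4 ≤ Nat.card B₀ * Nat.card U := Nat.mul_le_mul_left _ hUcard
    omega

end Cfsg.Agent.Helper22.MaxComp
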