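import Mathlib
import Cfsg.Agent.Lib.Helper22.BG161B9
import Cfsg.Agent.Lib.Helper57.BG161G
import Cfsg.Agent.Lib.Helper54.BenderLocalB
import Cfsg.Agent.Lib.Helper50.Hyperplane
import Cfsg.Agent.Lib.Helper55.BGBasic
import Cfsg.Agent.Lib.Helper78.BG121
import Cfsg.Agent.Lib.Helper22.MaxComp4

/-!
# B-G Lemma 16.1 (S1435, helper73's plan), piece (C3) `le_Mstar_of_fpf`
-/

set_option autoImplicit false
set_option linter.style.haveILetI false
set_option linter.unusedSectionVars false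

namespace Cfsg.Agent.Helper22.BG161

open Subgroup Cfsg Cfsg.Agent.Helper73.BG161
open scoped commutatorElement

variable {G : Type*} [Group G] [Finite G]

/-- in an abelian subgroup `F` of order `m * n` with `m, n` coprime, an element normalizing `F`
and centralizing the `m`-torsion and the `n`-torsion centralizes `F`. -/
theorem comm_of_torsion {F : Subgroup G} (hFc : ∀ a ∈ F, ∀ c ∈ F, a * c = c * a) {m n : ℕ}
    (hmn : Nat.card F = m * n) (hcop : m.Coprime n) {y : G} (hyF : y ∈ normalizer (F : Set G))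
    (hm : ∀ x ∈ F, x ^ m = 1 → y * x = x * y) (hn : ∀ x ∈ F, x ^ n = 1 → y * x = x * y)
    {x : G} (hx : x ∈ F) : y * x = x * y := by
  have hpow : ∀ z ∈ F, z ^ (m * n) = 1 := by
    intro z hz
    have h1 : (⟨z, hz⟩ : F) ^ Nat.card F = 1 := pow_card_eq_one'
    rw [hmn] at h1
    have h2 := congrArg Subtype.val h1
    simpa using h2
  have hz : y * x * y⁻¹ ∈ F := (mem_normalizer_iff.mp hyF x).mp hx
  -- `x ^ m` is `n`-torsion, `x ^ n` is `m`-torsion
  have h1 : y * x ^ m = x ^ m * y :=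
    hn (x ^ m) (F.pow_mem hx m) (by rw [← pow_mul]; exact hpow x hx)
  have h2 : y * x ^ n = x ^ n * y :=
    hm (x ^ n) (F.pow_mem hx n) (by rw [← pow_mul, mul_comm]; exact hpow x hx)
  have h1' : (y * x * y⁻¹) ^ m = x ^ m := by
    rw [conj_pow, h1, mul_inv_cancel_right]
  have h2' : (y * x * y⁻¹) ^ n = x ^ n := by
    rw [conj_pow, h2, mul_inv_cancel_right]
  set t := y * x * y⁻¹ * x⁻¹ with ht
  have hcomm : Commute (y * x * y⁻¹) x⁻¹ := hFc _ hz _ (F.inv_mem hx)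
  have htm : t ^ m = 1 := by
    rw [ht, hcomm.mul_pow, h1', inv_pow, mul_inv_cancel]
  have htn : t ^ n = 1 := by
    rw [ht, hcomm.mul_pow, h2', inv_pow, mul_inv_cancel]
  have hd1 : orderOf t ∣ m := orderOf_dvd_of_pow_eq_one htm
  have hd2 : orderOf t ∣ n := orderOf_dvd_of_pow_eq_one htn
  have ho : orderOf t = 1 := Nat.Coprime.eq_one_of_dvd (Nat.Coprime.coprime_dvd_left hd1 hcop) hd2
  have ht1 : t = 1 := orderOf_eq_one_iff.mp ho
  have : y * x * y⁻¹ = x := by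
    rw [ht] at ht1
    exact mul_inv_eq_one.mp ht1
  calc y * x = y * x * y⁻¹ * y := by group
    _ = x * y := by rw [this]

/-- (C3) if a complement `E ≥ K` of `H_σ` in `H` acts fixed-point-freely on `H_σ`, then
`E ≤ M*`. -/
theorem le_Mstar_of_fpf (f : Facts G) {M K U Mstar H : Subgroup G} (b : Base M K U Mstar H)
    (E : Subgroup G) (hE : Cfsg.IsComplIn E (Cfsg.sigmaCore H) H) (hKE : K ≤ E)
    (hfpf : ∀ e ∈ E, e ≠ 1 → Cfsg.sigmaCore H ⊓ centralizer ({e} : Set G) = ⊥) :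
    E ≤ Mstar := by
  classical
  have hG := b.hG
  haveI : IsSimpleGroup G := hG.2.1
  have hHall := (f.t1350 H b.hH).1
  have hEH : E ≤ H := hE.1
  -- `Y ≤ K` of prime order `q`
  obtain ⟨q, hq, hqK⟩ : ∃ q, q.Prime ∧ q ∣ Nat.card K := by
    have h1 : Nat.card K ≠ 1 := fun h => b.hK1 (Subgroup.card_eq_one.mp h)
    exact ⟨_, Nat.minFac_prime h1, Nat.minFac_dvd _⟩
  haveI : Fact q.Prime := ⟨hq⟩
  obtain ⟨y0, hy0⟩ := exists_prime_orderOf_dvd_card' q hqK
  set Y : Subgroup G := zpowers (y0 : G) with hYdef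
  have hYK : Y ≤ K := by rw [hYdef, zpowers_le]; exact y0.2
  have hYc : Nat.card Y = q := by rw [hYdef, Nat.card_zpowers, Subgroup.orderOf_coe, hy0]
  have hYp : (Nat.card Y).Prime := by rw [hYc]; exact hq
  have hYE : Y ≤ E := hYK.trans hKE
  have hYH : Y ≤ H := hYE.trans hEH
  have hY1 : Y ≠ ⊥ := by
    intro h
    rw [h] at hYc
    simp at hYc
    exact hq.one_lt.ne hYc
  have hqσ : q ∉ Cfsg.sigma H := b.hKσH q hq hqK
  have hEσ : ∀ p : ℕ, p.Prime → p ∣ Nat.card E → p ∉ Cfsg.sigma H := fun p hp hd =>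
    Cfsg.Agent.Helper78.BG121.not_mem_sigma_of_dvd hHall hE hp hd
  -- `W = Z(H_σ)`
  have hHn : H ≤ normalizer ((Cfsg.sigmaCore H : Subgroup G) : Set G) :=
    Cfsg.Agent.Helper55.BGB.le_normalizer_sigmaCore H
  set W : Subgroup G := Cfsg.sigmaCore H ⊓ centralizer ((Cfsg.sigmaCore H : Subgroup G) : Set G)
    with hW
  have hW1 : W ≠ ⊥ := center_ne_bot_of_nilpotent b.hHnil b.hHσ1
  have hHW : H ≤ normalizer (W : Set G) := le_normalizer_center hHn
  have hWc : ∀ a ∈ W, ∀ c ∈ W, a * c = c * a := fun a ha c hc =>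
    (mem_centralizer_iff.mp hc.2) a ha.1
  obtain ⟨w, hwW, hw1⟩ : ∃ w ∈ W, w ≠ 1 := by
    by_contra hcon
    push Not at hcon
    exact hW1 ((Subgroup.eq_bot_iff_forall W).mpr hcon)
  have hWfixE : ∀ e ∈ E, e ≠ 1 → W ⊓ centralizer ({e} : Set G) = ⊥ := by
    intro e he he1
    rw [eq_bot_iff, ← hfpf e he he1]
    exact inf_le_inf_right _ inf_le_left
  have hnoC : ∀ e ∈ E, e ∈ centralizer (W : Set G) → e = 1 := by
    intro e he hec
    by_contra he1
    have hmem : w ∈ W ⊓ centralizer ({e} : Set G) := by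
      refine ⟨hwW, ?_⟩
      show w ∈ centralizer ({e} : Set G)
      rw [mem_centralizer_iff]
      intro z hz
      rw [Set.mem_singleton_iff] at hz
      rw [hz]
      exact ((mem_centralizer_iff.mp hec) w hwW).symm
    rw [hWfixE e he he1] at hmem
    exact hw1 (Subgroup.mem_bot.mp hmem)
  have hcopEW : ∀ X : Subgroup G, X ≤ E → (Nat.card X).Coprime (Nat.card W) := by
    intro X hX
    apply Nat.coprime_of_dvd
    intro p hp hpX hpW
    exact hEσ p hp (hpX.trans (Subgroup.card_dvd_of_le hX))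
      (Cfsg.Agent.Helper55.BGB.isPi_sigmaCore H p hp
        (hpW.trans (Subgroup.card_dvd_of_le inf_le_left)))
  -- `F = F(E)` is abelian
  set F := Cfsg.fittingOf E with hF
  have hFE : F ≤ E := Cfsg.Agent.Helper54.BenderLocal.fittingOf_le E
  have hEF : E ≤ normalizer (F : Set G) := Cfsg.Agent.Helper54.BenderLocal.le_normalizer_fittingOf E
  have hFnil : Group.IsNilpotent F := Cfsg.Agent.Helper54.BenderLocal.isNilpotent_fittingOf E
  have h1420a := (f.t1420 H b.hH E hE).1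
  have hFab : IsMulCommutative F := h1420a F (hFE.trans hEH) hFnil
    (fun p hp hd => hEσ p hp (hd.trans (Subgroup.card_dvd_of_le hFE)))
  have hFc : ∀ a ∈ F, ∀ c ∈ F, a * c = c * a := fun a ha c hc =>
    congrArg Subtype.val (hFab.is_comm.comm ⟨a, ha⟩ ⟨c, hc⟩)
  -- the `q`-part and the `q'`-part of `F`
  obtain ⟨k, hk⟩ : ∃ k, k = (Nat.card F).factorization q := ⟨_, rfl⟩
  obtain ⟨m, hm⟩ : ∃ m, m = Nat.card F / q ^ k := ⟨_, rfl⟩
  have hmk : Nat.card F = m * q ^ k := by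
    rw [hm, hk]
    exact (Nat.div_mul_cancel (Nat.ordProj_dvd (Nat.card F) q)).symm
  have hcopm : m.Coprime (q ^ k) := by
    apply Nat.Coprime.pow_right
    rw [hm, hk, Nat.coprime_comm]
    exact Nat.coprime_ordCompl hq Nat.card_pos.ne'
  obtain ⟨A, hA⟩ := exists_omega F hFc m
  obtain ⟨B, hB⟩ := exists_omega F hFc (q ^ k)
  have hAF : A ≤ F := fun x hx => ((hA x).mp hx).1
  have hBF : B ≤ F := fun x hx => ((hB x).mp hx).1
  have hEA : E ≤ normalizer (A : Set G) := by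
    apply le_normalizer_of_conj_mem
    intro e he x hx
    obtain ⟨hxF, hxm⟩ := (hA x).mp hx
    refine (hA _).mpr ⟨(mem_normalizer_iff.mp (hEF he) x).mp hxF, ?_⟩
    rw [conj_pow, hxm, mul_one, mul_inv_cancel]
  have hEB : E ≤ normalizer (B : Set G) := by
    apply le_normalizer_of_conj_mem
    intro e he x hx
    obtain ⟨hxF, hxm⟩ := (hB x).mp hx
    refine (hB _).mpr ⟨(mem_normalizer_iff.mp (hEF he) x).mp hxF, ?_⟩
    rw [conj_pow, hxm, mul_one, mul_inv_cancel]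
  have hAc : ∀ a ∈ A, ∀ c ∈ A, a * c = c * a := fun a ha c hc => hFc a (hAF ha) c (hAF hc)
  -- `Y` centralizes `A`
  have hqm : q.Coprime m := by
    rw [hm, hk]
    exact Nat.coprime_ordCompl hq Nat.card_pos.ne'
  have hcopAq : (Nat.card A).Coprime q := by
    rw [Nat.coprime_comm]
    apply (Nat.Prime.coprime_iff_not_dvd hq).mpr
    intro hd
    obtain ⟨a, ha⟩ := exists_prime_orderOf_dvd_card' q hd
    have ham : (a : G) ^ m = 1 := ((hA _).mp a.2).2
    have h1 : orderOf (a : G) ∣ m := orderOf_dvd_of_pow_eq_one ham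
    rw [Subgroup.orderOf_coe, ha] at h1
    exact hq.one_lt.ne' (hqm.eq_one_of_dvd h1)
  have hYA : Y ≤ normalizer (A : Set G) := hYE.trans hEA
  have hcopAY : (Nat.card A).Coprime (Nat.card Y) := by rw [hYc]; exact hcopAq
  have hG2 := Cfsg.Agent.Helper57.BG161.comm_inf_centralizer_eq_bot A Y hYA hAc hcopAY
  have hP0A : ⁅A, Y⁆ ≤ A := by
    rw [Subgroup.commutator_le]
    intro a ha y hy
    have h1 : y * a⁻¹ * y⁻¹ ∈ A := (mem_normalizer_iff.mp (hYA hy) a⁻¹).mp (A.inv_mem ha)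
    have h2 : ⁅a, y⁆ = a * (y * a⁻¹ * y⁻¹) := by rw [commutatorElement_def]; group
    rw [h2]
    exact A.mul_mem ha h1
  have hYP0 : Y ≤ normalizer ((⁅A, Y⁆ : Subgroup G) : Set G) :=
    Cfsg.Agent.Helper54.Crit.le_normalizer_commutator hYA le_normalizer
  have hP0bot : ⁅A, Y⁆ = ⊥ := by
    by_contra hne
    have hP0E : ⁅A, Y⁆ ≤ E := hP0A.trans (hAF.trans hFE)
    have hfix : ∀ y ∈ Y, y ≠ 1 → ⁅A, Y⁆ ⊓ centralizer ({y} : Set G) = ⊥ :=
      fun y hy hy1 => Cfsg.Agent.Helper22.BG11.inf_centralizer_singleton_eq_bot hYc hG2 hy hy1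
    have hcen := Cfsg.Agent.Helper16.BG161.frob_fix ⁅A, Y⁆ Y W hY1 hYP0
      (hP0E.trans (hEH.trans hHW)) (hYH.trans hHW) hWc (hcopEW _ hP0E) hfix
      (fun y hy hy1 => hWfixE y (hYE hy) hy1)
    apply hne
    rw [eq_bot_iff]
    intro x hx
    exact Subgroup.mem_bot.mpr (hnoC x (hP0E hx) (hcen hx))
  have hYcA : ∀ y ∈ Y, ∀ a ∈ A, y * a = a * y := by
    intro y hy a ha
    have h1 : ⁅a, y⁆ ∈ ⁅A, Y⁆ := Subgroup.commutator_mem_commutator ha hy
    rw [hP0bot, Subgroup.mem_bot, commutatorElement_eq_one_iff_mul_comm] at h1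
    exact h1.symm
  -- `Y` centralizes `B`
  have hBp : IsPGroup q B := by
    intro g
    refine ⟨k, ?_⟩
    have h1 : (g : G) ^ (q ^ k) = 1 := ((hB _).mp g.2).2
    exact Subtype.ext (by simpa using h1)
  obtain ⟨n, hn⟩ := IsPGroup.iff_card.mp hBp
  have hYB : Y ≤ normalizer (B : Set G) := hYE.trans hEB
  have hYBp : IsPGroup q ↥(Y ⊔ B) := by
    have h1 : Nat.card ↥(Y ⊔ B) ∣ q ^ (n + 1) := by
      have h2 := Cfsg.Agent.Helper22.card_sup_dvd_of_le_normalizer hYB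
      rw [hYc, hn] at h2
      rw [pow_succ, mul_comm]
      exact h2
    obtain ⟨j, -, hj⟩ := (Nat.dvd_prime_pow hq).mp h1
    exact IsPGroup.of_card hj
  have hYBE : Y ⊔ B ≤ E := sup_le hYE (hBF.trans hFE)
  have hYBab : IsMulCommutative ↥(Y ⊔ B) := h1420a (Y ⊔ B) (hYBE.trans hEH) hYBp.isNilpotent
    (fun p hp hd => hEσ p hp (hd.trans (Subgroup.card_dvd_of_le hYBE)))
  have hYcB : ∀ y ∈ Y, ∀ x ∈ B, y * x = x * y := by
    intro y hy x hx
    have hy' : y ∈ Y ⊔ B := (le_sup_left : Y ≤ Y ⊔ B) hy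
    have hx' : x ∈ Y ⊔ B := (le_sup_right : B ≤ Y ⊔ B) hx
    exact congrArg Subtype.val (hYBab.is_comm.comm ⟨y, hy'⟩ ⟨x, hx'⟩)
  -- `Y ≤ C_E(F) ≤ F`
  have hYcF : ∀ y ∈ Y, ∀ x ∈ F, y * x = x * y := by
    intro y hy x hx
    exact comm_of_torsion hFc hmk hcopm (hEF (hYE hy))
      (fun z hz hzm => hYcA y hy z ((hA z).mpr ⟨hz, hzm⟩))
      (fun z hz hzn => hYcB y hy z ((hB z).mpr ⟨hz, hzn⟩)) hx
  have hEne : E ≠ ⊤ := fun h => b.hH.1 (top_le_iff.mp (h ▸ hEH))
  have hEsolv : Group.IsSolvable E := hG.2.2.2 E hEne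
  have hYF : Y ≤ F := by
    have h1 := Cfsg.Agent.Helper54.BenderLocal.inf_centralizer_fittingOf_le E E hEsolv
      (inf_le_left.trans le_normalizer)
    intro y hy
    apply h1
    refine ⟨hYE hy, hYE hy, ?_⟩
    show y ∈ centralizer ((Cfsg.fittingOf E : Subgroup G) : Set G)
    rw [mem_centralizer_iff]
    intro x hx
    exact (hYcF y hy x hx).symm
  -- `Y` is the unique subgroup of order `q` of `F`
  have hqσH : (Nat.card (Cfsg.sigmaCore H)).Coprime q := by
    rw [Nat.coprime_comm]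
    apply (Nat.Prime.coprime_iff_not_dvd hq).mpr
    intro hd
    exact hqσ (Cfsg.Agent.Helper55.BGB.isPi_sigmaCore H q hq hd)
  have huniq : ∀ Y' : Subgroup G, Y' ≤ F → Nat.card Y' = q → Y' = Y := by
    intro Y' hY'F hY'c
    by_contra hne
    obtain ⟨V, hV⟩ := exists_omega F hFc q
    have hVF : V ≤ F := fun x hx => ((hV x).mp hx).1
    have hYV : Y ≤ V := by
      intro x hx
      refine (hV x).mpr ⟨hYF hx, ?_⟩
      have h1 : (⟨x, hx⟩ : Y) ^ Nat.card Y = 1 := pow_card_eq_one'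
      rw [hYc] at h1
      simpa using congrArg Subtype.val h1
    have hY'V : Y' ≤ V := by
      intro x hx
      refine (hV x).mpr ⟨hY'F hx, ?_⟩
      have h1 : (⟨x, hx⟩ : Y') ^ Nat.card Y' = 1 := pow_card_eq_one'
      rw [hY'c] at h1
      simpa using congrArg Subtype.val h1
    have hinf : Y' ⊓ Y = ⊥ := by
      have h1 : Nat.card ↥(Y' ⊓ Y) ∣ q := by
        rw [← hYc]
        exact Subgroup.card_dvd_of_le inf_le_right
      rcases (Nat.dvd_prime hq).mp h1 with h2 | h2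
      · exact Subgroup.card_eq_one.mp h2
      · exfalso
        have e1 : Y' ⊓ Y = Y' := Subgroup.eq_of_le_of_card_ge inf_le_left (by rw [h2, hY'c])
        have e2 : Y' ⊓ Y = Y := Subgroup.eq_of_le_of_card_ge inf_le_right (by rw [h2, hYc])
        exact hne (e1.symm.trans e2)
    have hq2 : q ^ 2 ≤ Nat.card V := by
      have h1 := Cfsg.Agent.Helper22.MaxComp.card_mul_le_card_sup Y' Y hinf
      rw [hY'c, hYc] at h1
      have h2 : Nat.card ↥(Y' ⊔ Y) ≤ Nat.card V := Subgroup.card_le_of_le (sup_le hY'V hYV)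
      rw [pow_two]
      exact h1.trans h2
    have hVE : V ≤ E := hVF.trans hFE
    obtain ⟨Z, hZV, hZc, hZfix⟩ := Cfsg.Agent.Helper50.exists_hyperplane_fixed V (Cfsg.sigmaCore H)
      (fun x hx z hz => hFc x (hVF hx) z (hVF hz)) (fun x hx => ((hV x).mp hx).2) hq2
      (hVE.trans (hEH.trans hHn)) hqσH b.hHσ1
    -- `Z ≠ 1`
    have hZ1 : Nat.card Z ≠ 1 := by
      intro h1
      rw [h1, one_mul] at hZc
      rw [← hZc, pow_two] at hq2
      have := hq.one_lt
      nlinarith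
    obtain ⟨z, hzZ, hz1⟩ : ∃ z ∈ Z, z ≠ 1 := by
      by_contra hcon
      push Not at hcon
      exact hZ1 (Subgroup.card_eq_one.mpr ((Subgroup.eq_bot_iff_forall Z).mpr hcon))
    apply hZfix
    rw [eq_bot_iff, ← hfpf z (hVE (hZV hzZ)) hz1]
    apply inf_le_inf_left
    apply centralizer_le
    rw [Set.singleton_subset_iff]
    exact hzZ
  -- `E ≤ N(Y) ≤ M*`
  have hEY : E ≤ normalizer (Y : Set G) := by
    intro e he
    apply Cfsg.Agent.Helper52.mem_normalizer_of_map_conj_eq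
    apply huniq
    · exact Cfsg.Agent.Helper52.map_conj_le_of_le_normalizer hYF (hEF he)
    · rw [Cfsg.Agent.Helper52.card_map_conj, hYc]
  have hYtop : Y ≠ ⊤ := fun h => b.hH.1 (top_le_iff.mp (h ▸ hYH))
  have h1367 := (f.t1367 M b.hM K U b.hKU b.hK1 Mstar b.hMstar b.hKst b.hKstH).2 Y hYK hYp
  exact hEY.trans (Cfsg.Agent.Helper55.BGB.normalizer_le_of_unique hY1 hYtop h1367.2)

end Cfsg.Agent.Helper22.BG161
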