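import Mathlib

set_option autoImplicit false

namespace Cfsg.Agent.Helper22.BlockGL

open Matrix

variable {F : Type*} [Field F] {m : ℕ}

/-- block diagonal matrix `diag(a, A)` on `Fin (m+1)`. -/
def blkd (a : F) (A : Matrix (Fin m) (Fin m) F) : Matrix (Fin (m + 1)) (Fin (m + 1)) F :=
  Matrix.of fun i j =>
    Fin.cases (Fin.cases a (fun _ => 0) j) (fun i' => Fin.cases 0 (fun j' => A i' j') j) i

@[simp] lemma blkd_zero_zero (a : F) (A : Matrix (Fin m) (Fin m) F) : blkd a A 0 0 = a := rfl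
@[simp] lemma blkd_zero_succ (a : F) (A : Matrix (Fin m) (Fin m) F) (j : Fin m) :
    blkd a A 0 j.succ = 0 := rfl
@[simp] lemma blkd_succ_zero (a : F) (A : Matrix (Fin m) (Fin m) F) (i : Fin m) :
    blkd a A i.succ 0 = 0 := rfl
@[simp] lemma blkd_succ_succ (a : F) (A : Matrix (Fin m) (Fin m) F) (i j : Fin m) :
    blkd a A i.succ j.succ = A i j := rfl

lemma blkd_mul (a b : F) (A B : Matrix (Fin m) (Fin m) F) :
    blkd a A * blkd b B = blkd (a * b) (A * B) := by
  ext i j
  refine Fin.cases ?_ (fun i' => ?_) i <;> refine Fin.cases ?_ (fun j' => ?_) j <;>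
    simp [Matrix.mul_apply, Fin.sum_univ_succ]

lemma blkd_one : blkd (1 : F) (1 : Matrix (Fin m) (Fin m) F) = 1 := by
  ext i j
  refine Fin.cases ?_ (fun i' => ?_) i <;> refine Fin.cases ?_ (fun j' => ?_) j <;>
    simp [Matrix.one_apply, Fin.succ_ne_zero, (Fin.succ_ne_zero _).symm]

/-- a matrix with vanishing off-block entries is a `blkd`. -/
lemma eq_blkd (M : Matrix (Fin (m + 1)) (Fin (m + 1)) F) (h1 : ∀ j : Fin m, M 0 j.succ = 0)
    (h2 : ∀ i : Fin m, M i.succ 0 = 0) :
    M = blkd (M 0 0) (M.submatrix Fin.succ Fin.succ) := by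
  ext i j
  refine Fin.cases ?_ (fun i' => ?_) i <;> refine Fin.cases ?_ (fun j' => ?_) j <;>
    simp [h1, h2]

lemma blkd_injective {a b : F} {A B : Matrix (Fin m) (Fin m) F} (h : blkd a A = blkd b B) :
    a = b ∧ A = B := by
  refine ⟨?_, ?_⟩
  · have := congrFun (congrFun h 0) 0
    simpa using this
  · ext i j
    have := congrFun (congrFun h i.succ) j.succ
    simpa using this

end Cfsg.Agent.Helper22.BlockGL
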