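import Mathlib
import Cfsg.Prelude.Def_Transfer
import Cfsg.Agent.Lib.Helper24.CYCDefs

/-!
Shared lemmas for the graph pieces (GR1), (GR2), (GR3) of the lemma server "CYC" (helper24, row S4016).
-/

set_option autoImplicit false
set_option linter.unusedSectionVars false
set_option linter.style.haveILetI false

namespace Cfsg.Agent.Helper22.CYC

open Subgroup Cfsg.Agent.Helper24.CYC

universe u

variable {G : Type u} [Group G] [Finite G] {p : ℕ} [Fact p.Prime]

/-- an element of square one in a Sylow `p`-subgroup, `p` odd, is trivial -/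
theorem gr_eq_one_of_sq (hp : p ≠ 2) (P : Sylow p G) (a : G) (ha : a ∈ P) (haa : a * a = 1) : a = 1 := by
  obtain ⟨k, hk⟩ := P.isPGroup' ⟨a, ha⟩
  have hk' : a ^ (p ^ k) = 1 := by
    have := congrArg (fun x : (P : Subgroup G) => (x : G)) hk
    simpa using this
  have hodd : Odd (p ^ k) := Odd.pow ((Fact.out : p.Prime).odd_of_ne_two hp)
  obtain ⟨m, hm⟩ := hodd
  rw [hm, pow_succ, pow_mul, pow_two, haa, one_pow, one_mul] at hk'
  exact hk'

/-- a cyclic Sylow subgroup centralises itself -/
theorem gr_le_CP (P : Sylow p G) (hcyc : IsCyclic P) : (P : Subgroup G) ≤ CP P := by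
  intro x hx
  rw [Subgroup.mem_centralizer_iff]
  intro y hy
  letI := IsCyclic.commGroup (α := (P : Subgroup G))
  have h := mul_comm (⟨y, hy⟩ : (P : Subgroup G)) ⟨x, hx⟩
  exact congrArg (fun x : (P : Subgroup G) => (x : G)) h

/-- `C_G(P)` of order `2|P|` has a unique involution -/
theorem gr_unique_invol (hp : p ≠ 2) (P : Sylow p G) (hcyc : IsCyclic P)
    (hcard : Nat.card (CP P) = 2 * Nat.card P) (a b : G) (ha : a ∈ CP P) (hb : b ∈ CP P)
    (haa : a * a = 1) (ha1 : a ≠ 1) (hbb : b * b = 1) (hb1 : b ≠ 1) : a = b := by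
  have hle : (P : Subgroup G) ≤ CP P := gr_le_CP P hcyc
  have haP : a ∉ (P : Subgroup G) := fun h => ha1 (gr_eq_one_of_sq hp P a h haa)
  have hbP : b ∉ (P : Subgroup G) := fun h => hb1 (gr_eq_one_of_sq hp P b h hbb)
  have hidx : ((P : Subgroup G).subgroupOf (CP P)).index = 2 := by
    have h1 := Subgroup.card_mul_index ((P : Subgroup G).subgroupOf (CP P))
    have h2 : Nat.card ((P : Subgroup G).subgroupOf (CP P)) = Nat.card (P : Subgroup G) :=
      Nat.card_congr (Subgroup.subgroupOfEquivOfLe hle).toEquiv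
    rw [h2, hcard] at h1
    have hpos : 0 < Nat.card (P : Subgroup G) := Nat.card_pos
    have h3 : Nat.card (P : Subgroup G) * ((P : Subgroup G).subgroupOf (CP P)).index
        = Nat.card (P : Subgroup G) * 2 := by rw [h1]; ring
    exact Nat.eq_of_mul_eq_mul_left hpos h3
  have hmem := Subgroup.mul_mem_iff_of_index_two hidx (a := (⟨a, ha⟩ : CP P)) (b := ⟨b, hb⟩)
  have hab : a * b ∈ (P : Subgroup G) := by
    have : (⟨a, ha⟩ : CP P) * ⟨b, hb⟩ ∈ (P : Subgroup G).subgroupOf (CP P) := by
      rw [hmem]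
      constructor
      · intro h; exact absurd (Subgroup.mem_subgroupOf.1 h) haP
      · intro h; exact absurd (Subgroup.mem_subgroupOf.1 h) hbP
    exact Subgroup.mem_subgroupOf.1 this
  -- `a` commutes with `a * b ∈ P`
  have hc : (a * b) * a = a * (a * b) := (Subgroup.mem_centralizer_iff.1 ha) (a * b) hab
  have h2 : a * b * a = b := by rw [hc, ← mul_assoc, haa, one_mul]
  have hcomm : b * a = a * b := by
    calc b * a = (a * b * a) * a := by rw [h2]
      _ = a * b * (a * a) := by group
      _ = a * b := by rw [haa, mul_one]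
  have hsq : (a * b) * (a * b) = 1 := by
    calc (a * b) * (a * b) = a * (b * a) * b := by group
      _ = a * (a * b) * b := by rw [hcomm]
      _ = (a * a) * (b * b) := by group
      _ = 1 := by rw [haa, hbb, one_mul]
  have h1 : a * b = 1 := gr_eq_one_of_sq hp P (a * b) hab hsq
  calc a = a * (b * b) := by rw [hbb, mul_one]
    _ = (a * b) * b := by group
    _ = b := by rw [h1, one_mul]

/-- an involution `t ≠ z` commuting with `z` lies in `Ivs P` when `C_G(z) = N_G(P)`, `z ∈ C_G(P)`, `|C_G(P)| = 2|P|` -/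
theorem gr_mem_Ivs (hp : p ≠ 2) (P : Sylow p G) (hcyc : IsCyclic P)
    (hcard : Nat.card (CP P) = 2 * Nat.card P) (z : G) (hzz : z * z = 1) (hz1 : z ≠ 1)
    (hcen : Subgroup.centralizer {z} = NP P) (hzC : z ∈ CP P)
    (t : G) (htt : t * t = 1) (ht1 : t ≠ 1) (htz : t ≠ z) (hcomm : z * t = t * z) : t ∈ Ivs P := by
  refine ⟨htt, ?_, ?_⟩
  · rw [← hcen, Subgroup.mem_centralizer_singleton_iff]
    exact hcomm.symm
  · intro htC
    exact htz (gr_unique_invol hp P hcyc hcard t z htC hzC htt ht1 hzz hz1)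

/-- in a type with two elements, every element is one of two given distinct ones -/
theorem gr_eq_or_eq_of_card_two {α : Type*} (h : Nat.card α = 2) (a b c : α) (hab : a ≠ b) :
    c = a ∨ c = b := by
  obtain ⟨x, y, hxy, huniv⟩ := Nat.card_eq_two_iff.1 h
  have ha : a ∈ ({x, y} : Set α) := huniv ▸ Set.mem_univ a
  have hb : b ∈ ({x, y} : Set α) := huniv ▸ Set.mem_univ b
  have hc : c ∈ ({x, y} : Set α) := huniv ▸ Set.mem_univ c
  simp only [Set.mem_insert_iff, Set.mem_singleton_iff] at ha hb hc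
  rcases ha with rfl | rfl <;> rcases hb with rfl | rfl <;> rcases hc with rfl | rfl <;> simp_all

end Cfsg.Agent.Helper22.CYC
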