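import Mathlib
import Cfsg.Prelude.Def_Transfer
import Cfsg.Agent.Lib.Helper24.CYCDefs
import Cfsg.Agent.Lib.Helper22.CYCGRAux

/-!
Piece (GR1) `caseII_degree` of the lemma server "CYC" (helper24, row S4016).
-/

set_option autoImplicit false
set_option linter.unusedSectionVars false

namespace Cfsg.Agent.Helper22.CYC

open Subgroup Cfsg.Agent.Helper24.CYC

universe u

variable {G : Type u} [Group G] [Finite G] {p : ℕ} [Fact p.Prime]

/-- (GR1) valency.  `C_G(z) = N_G(P)`, `z ∈ C_G(P)` (`hII2`); the involutions `t ≠ z` of `N_G(P)` are exactly `Ivs P` (an involution of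
`C_G(P)`, of order `2|P|` with central Sylow 2-subgroup `⟨z⟩`, equals `z`); `|Ivs P| = 2|P|` (`h6`, `j = 2`). -/
theorem caseII_degree (hC : Core p G)
    (hII1 : ∀ P : Sylow p G, Nat.card (CP P) = 2 * Nat.card P ∧ Nat.card (NP P) = 4 * Nat.card P ∧ (Ivs P).Nonempty)
    (hII2 : ∀ z : G, z * z = 1 → z ≠ 1 → ∃ P : Sylow p G, Subgroup.centralizer {z} = NP P ∧ z ∈ CP P)
    (π : ℕ) (hπ : ∀ P : Sylow p G, Nat.card P = π) (h6 : ∀ P : Sylow p G, Nat.card (Ivs P) = π * 2)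
    (z : G) (hz : z * z = 1) (hz1 : z ≠ 1) :
    Nat.card {t : G // t * t = 1 ∧ t ≠ 1 ∧ t ≠ z ∧ z * t = t * z} = 2 * π := by
  obtain ⟨P, hcen, hzC⟩ := hII2 z hz hz1
  have hp : p ≠ 2 := hC.c1.podd
  have hcyc : IsCyclic P := hC.c1.min.cyc P
  have hcard : Nat.card (CP P) = 2 * Nat.card P := (hII1 P).1
  have hiff : ∀ t : G, (t * t = 1 ∧ t ≠ 1 ∧ t ≠ z ∧ z * t = t * z) ↔ t ∈ Ivs P := by
    intro t
    constructor
    · rintro ⟨htt, ht1, htz, hcomm⟩
      exact gr_mem_Ivs hp P hcyc hcard z hz hz1 hcen hzC t htt ht1 htz hcomm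
    · rintro ⟨htt, htN, htC⟩
      refine ⟨htt, ?_, ?_, ?_⟩
      · rintro rfl; exact htC (Subgroup.one_mem _)
      · rintro rfl; exact htC hzC
      · rw [← hcen, Subgroup.mem_centralizer_singleton_iff] at htN
        exact htN.symm
  have h1 : Nat.card {t : G // t * t = 1 ∧ t ≠ 1 ∧ t ≠ z ∧ z * t = t * z} = Nat.card (Ivs P) :=
    Nat.card_congr (Equiv.subtypeEquivRight hiff)
  rw [h1, h6 P, mul_comm]

end Cfsg.Agent.Helper22.CYC
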