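import Mathlib
import Cfsg.Prelude.Def_Transfer
import Cfsg.Agent.Lib.Helper24.CYCDefs
import Cfsg.Agent.Lib.Helper22.CYCGRAux

/-!
Piece (GR2) `caseII_lambda` of the lemma server "CYC" (helper24, row S4016).
-/

set_option autoImplicit false
set_option linter.unusedSectionVars false

namespace Cfsg.Agent.Helper22.CYC

open Subgroup Cfsg.Agent.Helper24.CYC

universe u

variable {G : Type u} [Group G] [Finite G] {p : ℕ} [Fact p.Prime]

/-- (GR2) adjacent involutions have exactly one common neighbour `z z'`.  A common neighbour `t` and `z'` lie in `Ivs P` (`P` from `hII2 z`,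
as in GR1), `t` commutes with `z'`, and exactly `2` elements of `Ivs P` commute with `z'` (`h6`): `z'` and `z z'`. -/
theorem caseII_lambda (hC : Core p G)
    (hII1 : ∀ P : Sylow p G, Nat.card (CP P) = 2 * Nat.card P ∧ Nat.card (NP P) = 4 * Nat.card P ∧ (Ivs P).Nonempty)
    (hII2 : ∀ z : G, z * z = 1 → z ≠ 1 → ∃ P : Sylow p G, Subgroup.centralizer {z} = NP P ∧ z ∈ CP P)
    (h6 : ∀ P : Sylow p G, ∀ s ∈ Ivs P, Nat.card {t : G // t ∈ Ivs P ∧ s * t = t * s} = 2)
    (z z' : G) (hz : z * z = 1) (hz1 : z ≠ 1) (hz' : z' * z' = 1) (hz'1 : z' ≠ 1) (hne : z ≠ z') (hcomm : z * z' = z' * z) :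
    ∃! t : G, t * t = 1 ∧ t ≠ 1 ∧ (t ≠ z ∧ z * t = t * z) ∧ (t ≠ z' ∧ z' * t = t * z') := by
  obtain ⟨P, hcen, hzC⟩ := hII2 z hz hz1
  have hp : p ≠ 2 := hC.c1.podd
  have hcyc : IsCyclic P := hC.c1.min.cyc P
  have hcard : Nat.card (CP P) = 2 * Nat.card P := (hII1 P).1
  -- the candidate `z * z'`
  have hw : (z * z') * (z * z') = 1 := by
    calc (z * z') * (z * z') = z * (z' * z) * z' := by group
      _ = z * (z * z') * z' := by rw [hcomm]
      _ = (z * z) * (z' * z') := by group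
      _ = 1 := by rw [hz, hz', one_mul]
  have hw1 : z * z' ≠ 1 := by
    intro h
    apply hne
    calc z = z * (z' * z') := by rw [hz', mul_one]
      _ = (z * z') * z' := by group
      _ = z' := by rw [h, one_mul]
  have hwz : z * z' ≠ z := by
    intro h
    apply hz'1
    calc z' = (z * z) * z' := by rw [hz, one_mul]
      _ = z * (z * z') := by group
      _ = z * z := by rw [h]
      _ = 1 := hz
  have hwz' : z * z' ≠ z' := by
    intro h
    apply hz1
    calc z = z * (z' * z') := by rw [hz', mul_one]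
      _ = (z * z') * z' := by group
      _ = z' * z' := by rw [h]
      _ = 1 := hz'
  have hzw : z * (z * z') = (z * z') * z := by
    calc z * (z * z') = z * (z' * z) := by rw [hcomm]
      _ = (z * z') * z := by group
  have hz'w : z' * (z * z') = (z * z') * z' := by
    calc z' * (z * z') = (z' * z) * z' := by group
      _ = (z * z') * z' := by rw [hcomm]
  refine ⟨z * z', ⟨hw, hw1, ⟨hwz, hzw⟩, ⟨hwz', hz'w⟩⟩, ?_⟩
  rintro t ⟨htt, ht1, ⟨htz, htzc⟩, ⟨htz', htz'c⟩⟩
  have hz'I : z' ∈ Ivs P := gr_mem_Ivs hp P hcyc hcard z hz hz1 hcen hzC z' hz' hz'1 (Ne.symm hne) hcomm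
  have htI : t ∈ Ivs P := gr_mem_Ivs hp P hcyc hcard z hz hz1 hcen hzC t htt ht1 htz htzc
  have hwI : z * z' ∈ Ivs P := gr_mem_Ivs hp P hcyc hcard z hz hz1 hcen hzC (z * z') hw hw1 hwz hzw
  have h2 := h6 P z' hz'I
  have key := gr_eq_or_eq_of_card_two h2
    (⟨z', hz'I, rfl⟩ : {t : G // t ∈ Ivs P ∧ z' * t = t * z'}) ⟨z * z', hwI, hz'w⟩ ⟨t, htI, htz'c⟩
    (by intro h; exact hwz' (congrArg Subtype.val h).symm)
  rcases key with h | h
  · exact absurd (congrArg Subtype.val h) htz'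
  · exact congrArg Subtype.val h

end Cfsg.Agent.Helper22.CYC
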