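import Mathlib
import Cfsg.Prelude.Def_Transfer
import Cfsg.Agent.Lib.Helper24.CYCDefs
import Cfsg.Agent.Lib.Helper22.CYCGRAux

/-!
Piece (GR3) `caseII_mu` of the lemma server "CYC" (helper24, row S4016).
-/

set_option autoImplicit false
set_option linter.unusedSectionVars false
set_option linter.style.haveILetI false

namespace Cfsg.Agent.Helper22.CYC

open Subgroup Cfsg.Agent.Helper24.CYC

universe u

variable {G : Type u} [Group G] [Finite G] {p : ℕ} [Fact p.Prime]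

/-- (GR3) non-commuting involutions have exactly one common neighbour.  `P*` from `h5`; `z*` = the involution of `C_G(P*)` (Cauchy,
`|C_G(P*)| = 2|P*|`), `C_G(z*) = N_G(P*) ∋ z, z'` (`key`).  Uniqueness: a common neighbour `t` has `C_G(t) = N_G(P_t)`, `t ∈ C_G(P_t)`
(`hII2`); `z, z' ∈ N_G(P_t)` are not in `C_G(P_t)` (its only involution is `t`), so `z, z' ∈ Ivs P_t`, `P_t = P*` (`h5`), `t = z*`. -/
theorem caseII_mu (hC : Core p G)
    (hII1 : ∀ P : Sylow p G, Nat.card (CP P) = 2 * Nat.card P ∧ Nat.card (NP P) = 4 * Nat.card P ∧ (Ivs P).Nonempty)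
    (hII2 : ∀ z : G, z * z = 1 → z ≠ 1 → ∃ P : Sylow p G, Subgroup.centralizer {z} = NP P ∧ z ∈ CP P)
    (h5 : ∀ s t : G, s * s = 1 → t * t = 1 → s * t ≠ t * s → ∃! P : Sylow p G, s ∈ Ivs P ∧ t ∈ Ivs P)
    (z z' : G) (hz : z * z = 1) (hz1 : z ≠ 1) (hz' : z' * z' = 1) (hz'1 : z' ≠ 1) (hnc : z * z' ≠ z' * z) :
    ∃! t : G, t * t = 1 ∧ t ≠ 1 ∧ (t ≠ z ∧ z * t = t * z) ∧ (t ≠ z' ∧ z' * t = t * z') := by
  have hp : p ≠ 2 := hC.c1.podd
  obtain ⟨Ps, ⟨hzI, hz'I⟩, hPuniq⟩ := h5 z z' hz hz' hnc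
  have hcycs : IsCyclic Ps := hC.c1.min.cyc Ps
  have hcards : Nat.card (CP Ps) = 2 * Nat.card Ps := (hII1 Ps).1
  -- the involution `zs` of `C_G(P*)`
  haveI : Fact (Nat.Prime 2) := ⟨Nat.prime_two⟩
  have h2dvd : 2 ∣ Nat.card (CP Ps) := ⟨_, hcards⟩
  obtain ⟨x, hx⟩ := exists_prime_orderOf_dvd_card' (G := CP Ps) 2 h2dvd
  have hxo : orderOf (x : G) = 2 := by rw [Subgroup.orderOf_coe]; exact hx
  set zs : G := (x : G) with hzs
  have hzsC : zs ∈ CP Ps := x.2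
  have hzs2 : zs * zs = 1 := by
    have := pow_orderOf_eq_one zs
    rw [hxo, pow_two] at this
    exact this
  have hzs1 : zs ≠ 1 := by
    intro h
    rw [h, orderOf_one] at hxo
    omega
  -- a nontrivial element of `P*`
  have hPne : ∃ a : G, a ∈ Ps ∧ a ≠ 1 := by
    by_contra hcon
    push Not at hcon
    apply hzI.2.2
    rw [Subgroup.mem_centralizer_iff]
    intro y hy
    rw [hcon y hy, one_mul, mul_one]
  obtain ⟨a, haP, ha1⟩ := hPne
  have hcop : (orderOf zs).Coprime p := by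
    rw [hxo]
    exact (Nat.coprime_primes Nat.prime_two Fact.out).2 (Ne.symm hp)
  have hazs : a * zs = zs * a := ((Subgroup.mem_centralizer_iff.1 hzsC) a haP)
  have hcens : Subgroup.centralizer {zs} = NP Ps := hC.key Ps a zs haP ha1 hzs1 hcop hazs
  -- `zs` commutes with `z`, `z'`
  have hzzs : z * zs = zs * z := by
    have : z ∈ Subgroup.centralizer {zs} := by rw [hcens]; exact hzI.2.1
    exact Subgroup.mem_centralizer_singleton_iff.1 this
  have hz'zs : z' * zs = zs * z' := by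
    have : z' ∈ Subgroup.centralizer {zs} := by rw [hcens]; exact hz'I.2.1
    exact Subgroup.mem_centralizer_singleton_iff.1 this
  have hzsz : zs ≠ z := by
    intro h; exact hzI.2.2 (h ▸ hzsC)
  have hzsz' : zs ≠ z' := by
    intro h; exact hz'I.2.2 (h ▸ hzsC)
  refine ⟨zs, ⟨hzs2, hzs1, ⟨hzsz, hzzs⟩, ⟨hzsz', hz'zs⟩⟩, ?_⟩
  rintro t ⟨htt, ht1, ⟨htz, htzc⟩, ⟨htz', htz'c⟩⟩
  obtain ⟨Pt, hcent, htC⟩ := hII2 t htt ht1
  have hcyct : IsCyclic Pt := hC.c1.min.cyc Pt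
  have hcardt : Nat.card (CP Pt) = 2 * Nat.card Pt := (hII1 Pt).1
  have hzIt : z ∈ Ivs Pt :=
    gr_mem_Ivs hp Pt hcyct hcardt t htt ht1 hcent htC z hz hz1 (Ne.symm htz) htzc.symm
  have hz'It : z' ∈ Ivs Pt :=
    gr_mem_Ivs hp Pt hcyct hcardt t htt ht1 hcent htC z' hz' hz'1 (Ne.symm htz') htz'c.symm
  have hPt : Pt = Ps := hPuniq Pt ⟨hzIt, hz'It⟩
  subst hPt
  exact gr_unique_invol hp Pt hcycs hcards t zs htC hzsC htt ht1 hzs2 hzs1

end Cfsg.Agent.Helper22.CYC
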