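import Mathlib
import Cfsg.Agent.S0100

set_option autoImplicit false

/-! Normal elementary abelian subgroups of order `p ^ 4` in `p`-groups, `p` odd
(the case `n = 4` of the Konvisser--Jonah existence theorem), towards S0122 and S1338. -/

namespace Cfsg.Agent.Helper22

open Cfsg Cfsg.Agent.S0100

section general

variable {P : Type*} [Group P]

/-- If all commutators `[n, e]`, `e ∈ E`, lie in an abelian subgroup `Z` centralized by `E`,
then `C_E(n)` has index at most `|Z|` in `E`. -/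
theorem hom_bound [Finite P] (E Z : Subgroup P) (n : P)
    (hcomm : ∀ e ∈ E, n⁻¹ * e⁻¹ * n * e ∈ Z)
    (hcent : ∀ e ∈ E, ∀ z ∈ Z, e * z = z * e)
    (hZab : ∀ z ∈ Z, ∀ z' ∈ Z, z * z' = z' * z) :
    Nat.card E ≤ Nat.card Z * Nat.card (E ⊓ Subgroup.centralizer ({n} : Set P) : Subgroup P) := by
  let φ : E →* Z := MonoidHom.mk' (fun e => ⟨n⁻¹ * (e : P)⁻¹ * n * (e : P), hcomm e e.2⟩) (by
    intro a b
    apply Subtype.ext
    change n⁻¹ * ((a * b : E) : P)⁻¹ * n * ((a * b : E) : P) =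
      (n⁻¹ * (a : P)⁻¹ * n * (a : P)) * (n⁻¹ * (b : P)⁻¹ * n * (b : P))
    have hc : (b : P) * (n⁻¹ * (a : P)⁻¹ * n * (a : P)) =
        (n⁻¹ * (a : P)⁻¹ * n * (a : P)) * (b : P) := hcent b b.2 _ (hcomm a a.2)
    have hab := hZab _ (hcomm b b.2) _ (hcomm a a.2)
    rw [Subgroup.coe_mul]
    calc n⁻¹ * ((a : P) * (b : P))⁻¹ * n * ((a : P) * (b : P))
        = n⁻¹ * (b : P)⁻¹ * n * ((n⁻¹ * (a : P)⁻¹ * n * (a : P)) * (b : P)) := by group
      _ = n⁻¹ * (b : P)⁻¹ * n * ((b : P) * (n⁻¹ * (a : P)⁻¹ * n * (a : P))) := by rw [hc]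
      _ = (n⁻¹ * (b : P)⁻¹ * n * (b : P)) * (n⁻¹ * (a : P)⁻¹ * n * (a : P)) := by group
      _ = (n⁻¹ * (a : P)⁻¹ * n * (a : P)) * (n⁻¹ * (b : P)⁻¹ * n * (b : P)) := hab)
  have hφ : ∀ e : E, ((φ e : Z) : P) = n⁻¹ * (e : P)⁻¹ * n * (e : P) := fun e => rfl
  have hker : ∀ e : E, e ∈ φ.ker → (e : P) ∈ Subgroup.centralizer ({n} : Set P) := by
    intro e he
    rw [MonoidHom.mem_ker] at he
    have he' : n⁻¹ * (e : P)⁻¹ * n * (e : P) = 1 := by
      rw [← hφ e, he]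
      rfl
    rw [Subgroup.mem_centralizer_singleton_iff]
    calc (e : P) * n = (e : P) * n * (n⁻¹ * (e : P)⁻¹ * n * (e : P)) := by rw [he', mul_one]
      _ = n * (e : P) := by group
  have h1 : Nat.card E = Nat.card (E ⧸ φ.ker) * Nat.card φ.ker :=
    Subgroup.card_eq_card_quotient_mul_card_subgroup φ.ker
  have h2 : Nat.card (E ⧸ φ.ker) ≤ Nat.card Z :=
    Nat.card_le_card_of_injective _ (QuotientGroup.kerLift_injective φ)
  have h3 : Nat.card φ.ker ≤
      Nat.card (E ⊓ Subgroup.centralizer ({n} : Set P) : Subgroup P) := by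
    refine Nat.card_le_card_of_injective
      (fun e : φ.ker => (⟨((e : E) : P), ⟨(e : E).2, hker e e.2⟩⟩ :
        (E ⊓ Subgroup.centralizer ({n} : Set P) : Subgroup P))) ?_
    intro e1 e2 h
    have h' := congrArg
      (fun t : (E ⊓ Subgroup.centralizer ({n} : Set P) : Subgroup P) => (t : P)) h
    exact Subtype.ext (Subtype.ext h')
  calc Nat.card E = Nat.card (E ⧸ φ.ker) * Nat.card φ.ker := h1
    _ ≤ Nat.card Z * Nat.card (E ⊓ Subgroup.centralizer ({n} : Set P) : Subgroup P) :=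
      Nat.mul_le_mul h2 h3

/-- In a finite `p`-group, if `N ≤ K` are normal with `|K : N| = p` then `[K, P] ≤ N`. -/
theorem comm_mem_of_card_step [Finite P] {p : ℕ} [Fact p.Prime] (hP : IsPGroup p P)
    (N K : Subgroup P) [N.Normal] [K.Normal] (hNK : N ≤ K)
    (hcard : Nat.card K = Nat.card N * p) :
    ∀ k ∈ K, ∀ g : P, k⁻¹ * g⁻¹ * k * g ∈ N := by
  have hQ : IsPGroup p (P ⧸ N) := hP.to_quotient N
  have hπ : Function.Surjective (QuotientGroup.mk' N) := QuotientGroup.mk'_surjective N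
  have : (K.map (QuotientGroup.mk' N)).Normal := Subgroup.Normal.map inferInstance _ hπ
  have hcm : (K.map (QuotientGroup.mk' N)).comap (QuotientGroup.mk' N) = K := by
    rw [QuotientGroup.comap_map_mk']
    exact sup_eq_right.mpr hNK
  have hc1 := Cfsg.Agent.Helper35.card_comap_mk' N (K.map (QuotientGroup.mk' N))
  rw [hcm, hcard, mul_comm] at hc1
  have hNpos : 0 < Nat.card N := Nat.card_pos
  have hKbar : Nat.card (K.map (QuotientGroup.mk' N)) = p :=
    (Nat.eq_of_mul_eq_mul_right hNpos hc1).symm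
  have hcen := le_center_of_card_prime hQ (K.map (QuotientGroup.mk' N)) hKbar
  intro k hk g
  rw [← QuotientGroup.eq_one_iff]
  have hkc : (QuotientGroup.mk' N) k ∈ Subgroup.center (P ⧸ N) :=
    hcen (Subgroup.mem_map_of_mem _ hk)
  have hc := Subgroup.mem_center_iff.mp hkc (QuotientGroup.mk g)
  simp only [QuotientGroup.mk_mul, QuotientGroup.mk_inv]
  change (QuotientGroup.mk g : P ⧸ N) * QuotientGroup.mk k =
    QuotientGroup.mk k * QuotientGroup.mk g at hc
  calc (QuotientGroup.mk k : P ⧸ N)⁻¹ * (QuotientGroup.mk g)⁻¹ * QuotientGroup.mk k *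
      QuotientGroup.mk g = (QuotientGroup.mk k : P ⧸ N)⁻¹ * (QuotientGroup.mk g)⁻¹ *
      (QuotientGroup.mk k * QuotientGroup.mk g) := by group
    _ = (QuotientGroup.mk k : P ⧸ N)⁻¹ * (QuotientGroup.mk g)⁻¹ *
      (QuotientGroup.mk g * QuotientGroup.mk k) := by rw [hc]
    _ = 1 := by group

end general

/-- The configuration forced in a `p`-group with no normal elementary abelian subgroup of order
`p ^ 4` but with elementary abelian subgroups of that order: a normal flag `A₁ < F < A` of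
elementary abelian subgroups of orders `p`, `p ^ 2`, `p ^ 3` with `Ω₁(C(A)) = A`. -/
structure RFSetup (p : ℕ) (G : Type*) [Group G] where
  A₁ : Subgroup G
  F : Subgroup G
  A : Subgroup G
  nA₁ : A₁.Normal
  nF : F.Normal
  nA : A.Normal
  hA₁F : A₁ ≤ F
  hFA : F ≤ A
  cA₁ : Nat.card A₁ = p
  cF : Nat.card F = p ^ 2
  cA : Nat.card A = p ^ 3
  Acomm : ∀ a ∈ A, ∀ b ∈ A, a * b = b * a
  alp : ∀ x ∈ Subgroup.centralizer (A : Set G), x ^ p = 1 → x ∈ A

namespace RFSetup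

variable {G : Type*} [Group G] [Finite G] {p : ℕ} [Fact p.Prime] (S : RFSetup p G)

theorem A₁_le_center (hG : IsPGroup p G) : S.A₁ ≤ Subgroup.center G := by
  have := S.nA₁
  exact le_center_of_card_prime hG S.A₁ S.cA₁

theorem commF (hG : IsPGroup p G) : ∀ f ∈ S.F, ∀ g : G, f⁻¹ * g⁻¹ * f * g ∈ S.A₁ := by
  have := S.nA₁
  have := S.nF
  refine comm_mem_of_card_step hG S.A₁ S.F S.hA₁F ?_
  rw [S.cA₁, S.cF, pow_two]

theorem commA (hG : IsPGroup p G) : ∀ a ∈ S.A, ∀ g : G, a⁻¹ * g⁻¹ * a * g ∈ S.F := by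
  have := S.nA
  have := S.nF
  refine comm_mem_of_card_step hG S.F S.A S.hFA ?_
  rw [S.cA, S.cF]
  ring

/-- An element centralizing `F` and some element of `A` outside `F` centralizes `A`. -/
theorem mem_centralizer_A {e d : G} (he : e ∈ Subgroup.centralizer (S.F : Set G))
    (hdA : d ∈ S.A) (hdF : d ∉ S.F) (hed : e * d = d * e) :
    e ∈ Subgroup.centralizer (S.A : Set G) := by
  have hpp : p.Prime := Fact.out
  have hlt : S.F < S.A ⊓ Subgroup.centralizer ({e} : Set G) := by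
    refine lt_of_le_of_ne ?_ ?_
    · intro z hz
      refine ⟨S.hFA hz, Subgroup.mem_centralizer_singleton_iff.mpr ?_⟩
      exact (Subgroup.mem_centralizer_iff.mp he z hz)
    · intro h
      apply hdF
      rw [h]
      exact ⟨hdA, Subgroup.mem_centralizer_singleton_iff.mpr hed.symm⟩
  have hKA := eq_of_lt_of_le_of_card hpp S.F _ S.A hlt inf_le_left
    (by rw [S.cA, S.cF]; ring)
  rw [Subgroup.mem_centralizer_iff]
  intro a ha
  rw [← hKA] at ha
  exact Subgroup.mem_centralizer_singleton_iff.mp ha.2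

theorem exists_not_mem_F : ∃ a₀ ∈ S.A, a₀ ∉ S.F := by
  have hpp : p.Prime := Fact.out
  by_contra hcon
  push Not at hcon
  have hle : S.A ≤ S.F := hcon
  have := Subgroup.card_le_of_le hle
  rw [S.cA, S.cF] at this
  have := Nat.pow_lt_pow_right hpp.one_lt (show 2 < 3 by norm_num)
  omega

/-- elementwise form of "elementary abelian of order `p ^ 4`" -/
def IsE4 (p : ℕ) (B : Subgroup G) : Prop :=
  (∀ a ∈ B, ∀ b ∈ B, a * b = b * a) ∧ (∀ a ∈ B, a ^ p = 1) ∧ Nat.card B = p ^ 4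

omit [Finite G] [Fact p.Prime] in
theorem le_centralizer_of_le {B : Subgroup G} (hB : IsE4 p B) {K : Subgroup G} (hK : K ≤ B) :
    B ≤ Subgroup.centralizer (K : Set G) := by
  intro b hb
  rw [Subgroup.mem_centralizer_iff]
  intro k hk
  exact hB.1 k (hK hk) b hb

theorem not_le_centralizer {B : Subgroup G} (hB : IsE4 p B) :
    ¬ B ≤ Subgroup.centralizer (S.A : Set G) := by
  have hpp : p.Prime := Fact.out
  intro h
  have hBA : B ≤ S.A := fun b hb => S.alp b (h hb) (hB.2.1 b hb)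
  have := Subgroup.card_le_of_le hBA
  rw [S.cA, hB.2.2] at this
  have := Nat.pow_lt_pow_right hpp.one_lt (show 3 < 4 by norm_num)
  omega

theorem le_centralizer_F (hG : IsPGroup p G) {B : Subgroup G} (hB : IsE4 p B) :
    B ≤ Subgroup.centralizer (S.F : Set G) := by
  have hpp : p.Prime := Fact.out
  have := S.nF
  by_contra hcon
  obtain ⟨b, hbB, hbT⟩ := SetLike.not_le_iff_exists.mp hcon
  rw [Subgroup.mem_centralizer_iff] at hbT
  push Not at hbT
  obtain ⟨f₀, hf₀F, hf₀⟩ := hbT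
  have hf₀F' : f₀ ∈ S.F := hf₀F
  -- `C_F(b) = A₁`
  have hCFb : S.F ⊓ Subgroup.centralizer ({b} : Set G) ≤ S.A₁ := by
    have hle : S.A₁ ≤ S.F ⊓ Subgroup.centralizer ({b} : Set G) := by
      intro z hz
      refine ⟨S.hA₁F hz, Subgroup.mem_centralizer_singleton_iff.mpr ?_⟩
      exact (Subgroup.mem_center_iff.mp (S.A₁_le_center hG hz) b).symm
    rcases eq_or_lt_of_le hle with h | h
    · rw [← h]
    · exfalso
      have hKF := eq_of_lt_of_le_of_card hpp S.A₁ _ S.F h inf_le_left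
        (by rw [S.cA₁, S.cF, pow_two])
      have : f₀ ∈ S.F ⊓ Subgroup.centralizer ({b} : Set G) := by rw [hKF]; exact hf₀F'
      exact hf₀ (Subgroup.mem_centralizer_singleton_iff.mp this.2)
  set B₁ : Subgroup G := B ⊓ Subgroup.centralizer (S.F : Set G) with hB₁
  -- (★) `[A, B₁] ≤ A₁`
  have hstar : ∀ b₁ ∈ B₁, ∀ a ∈ S.A, a⁻¹ * b₁⁻¹ * a * b₁ ∈ S.A₁ := by
    intro b₁ hb₁ a ha
    apply hCFb
    have hcF : a⁻¹ * b₁⁻¹ * a * b₁ ∈ S.F := S.commA hG a ha b₁
    refine ⟨hcF, Subgroup.mem_centralizer_singleton_iff.mpr ?_⟩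
    set c := a⁻¹ * b₁⁻¹ * a * b₁ with hc
    set f := a⁻¹ * b⁻¹ * a * b with hf
    have hfF : f ∈ S.F := S.commA hG a ha b
    have hbb₁ : b * b₁ = b₁ * b := hB.1 b hbB b₁ hb₁.1
    have hfb₁ : f * b₁ = b₁ * f := Subgroup.mem_centralizer_iff.mp hb₁.2 f hfF
    have hcf : c * f = f * c := S.Acomm c (S.hFA hcF) f (S.hFA hfF)
    have e1 : b⁻¹ * a * b = a * f := by rw [hf]; group
    have e2 : b⁻¹ * b₁ * b = b₁ := by rw [mul_assoc, ← hbb₁]; group
    calc c * b = b * ((b⁻¹ * a * b)⁻¹ * (b⁻¹ * b₁ * b)⁻¹ * (b⁻¹ * a * b) * (b⁻¹ * b₁ * b)) := by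
          rw [hc]; group
      _ = b * ((a * f)⁻¹ * b₁⁻¹ * (a * f) * b₁) := by rw [e1, e2]
      _ = b * (f⁻¹ * (a⁻¹ * b₁⁻¹ * a) * (f * b₁)) := by group
      _ = b * (f⁻¹ * (a⁻¹ * b₁⁻¹ * a) * (b₁ * f)) := by rw [hfb₁]
      _ = b * (f⁻¹ * (c * f)) := by rw [hc]; group
      _ = b * (f⁻¹ * (f * c)) := by rw [hcf]
      _ = b * c := by group
  obtain ⟨a₀, ha₀A, ha₀F⟩ := S.exists_not_mem_F
  -- (♠)
  have hspade : Nat.card B₁ ≤ p * Nat.card (B₁ ⊓ Subgroup.centralizer (S.A : Set G) : Subgroup G) := by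
    have h1 := hom_bound B₁ S.A₁ a₀ (fun e he => hstar e he a₀ ha₀A)
      (fun e _ z hz => (Subgroup.mem_center_iff.mp (S.A₁_le_center hG hz) e))
      (fun z hz z' _ => (Subgroup.mem_center_iff.mp (S.A₁_le_center hG hz) z').symm)
    rw [S.cA₁] at h1
    refine le_trans h1 (Nat.mul_le_mul_left p (Subgroup.card_le_of_le ?_))
    intro e he
    refine ⟨he.1, S.mem_centralizer_A he.1.2 ha₀A ha₀F ?_⟩
    exact (Subgroup.mem_centralizer_singleton_iff.mp he.2)
  have hidx : Nat.card B ≤ p * Nat.card B₁ := idx hG S.F (by rw [S.cF]) B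
  set D₀ : Subgroup G := B₁ ⊓ Subgroup.centralizer (S.A : Set G) with hD₀
  have hD₀card : p ^ 2 ≤ Nat.card D₀ := by
    have h1 : p ^ 4 ≤ p * (p * Nat.card D₀) := by
      calc p ^ 4 = Nat.card B := hB.2.2.symm
        _ ≤ p * Nat.card B₁ := hidx
        _ ≤ p * (p * Nat.card D₀) := Nat.mul_le_mul_left p hspade
    have h2 : p ^ 4 = p * (p * p ^ 2) := by ring
    rw [h2] at h1
    exact Nat.le_of_mul_le_mul_left (Nat.le_of_mul_le_mul_left h1 hpp.pos) hpp.pos
  -- `D₀ ⊄ F`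
  have hD₀F : ¬ D₀ ≤ S.F := by
    intro h
    have hle : D₀ ≤ S.A₁ := by
      intro d hd
      apply hCFb
      refine ⟨h hd, Subgroup.mem_centralizer_singleton_iff.mpr ?_⟩
      exact hB.1 d hd.1.1 b hbB
    have := Subgroup.card_le_of_le hle
    rw [S.cA₁] at this
    have h2 : p ^ 1 < p ^ 2 := Nat.pow_lt_pow_right hpp.one_lt (by norm_num)
    rw [pow_one] at h2
    omega
  obtain ⟨d, hdD₀, hdF⟩ := SetLike.not_le_iff_exists.mp hD₀F
  have hdA : d ∈ S.A := S.alp d hdD₀.2 (hB.2.1 d hdD₀.1.1)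
  have hB₁C : B₁ ≤ Subgroup.centralizer (S.A : Set G) := by
    intro b₁ hb₁
    exact S.mem_centralizer_A hb₁.2 hdA hdF (hB.1 b₁ hb₁.1 d hdD₀.1.1)
  have hB₁A : B₁ ≤ S.A := fun b₁ hb₁ => S.alp b₁ (hB₁C hb₁) (hB.2.1 b₁ hb₁.1)
  have hB₁card : p ^ 3 ≤ Nat.card B₁ := by
    have h1 : p ^ 4 ≤ p * Nat.card B₁ := hB.2.2 ▸ hidx
    have h2 : p ^ 4 = p * p ^ 3 := by ring
    rw [h2] at h1
    exact Nat.le_of_mul_le_mul_left h1 hpp.pos
  have hB₁eq : B₁ = S.A := Subgroup.eq_of_le_of_card_ge hB₁A (by rw [S.cA]; exact hB₁card)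
  have hAB : S.A ≤ B := hB₁eq ▸ inf_le_left
  exact S.not_le_centralizer hB (le_centralizer_of_le hB hAB)

theorem inf_centralizer_le_F (hG : IsPGroup p G) {B : Subgroup G} (hB : IsE4 p B) :
    B ⊓ Subgroup.centralizer (S.A : Set G) ≤ S.F := by
  have hpp : p.Prime := Fact.out
  have hBT := S.le_centralizer_F hG hB
  have hle : S.F ≤ S.A ⊓ Subgroup.centralizer (B : Set G) := by
    intro f hf
    refine ⟨S.hFA hf, Subgroup.mem_centralizer_iff.mpr ?_⟩
    intro b hb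
    exact (Subgroup.mem_centralizer_iff.mp (hBT hb) f hf).symm
  have heq : S.A ⊓ Subgroup.centralizer (B : Set G) = S.F := by
    rcases eq_or_lt_of_le hle with h | h
    · exact h.symm
    · exfalso
      have hKA := eq_of_lt_of_le_of_card hpp S.F _ S.A h inf_le_left
        (by rw [S.cA, S.cF]; ring)
      apply S.not_le_centralizer hB
      intro b hb
      rw [Subgroup.mem_centralizer_iff]
      intro a ha
      rw [← hKA] at ha
      exact (Subgroup.mem_centralizer_iff.mp ha.2 b hb).symm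
  intro x hx
  rw [← heq]
  refine ⟨S.alp x hx.2 (hB.2.1 x hx.1), Subgroup.mem_centralizer_iff.mpr ?_⟩
  intro b hb
  exact hB.1 b hb x hx.1

omit [Finite G] [Fact p.Prime] in
/-- The product set `B * B'` is a subgroup when `B'` normalizes `B`. -/
theorem exists_mul_of_mem_sup {B B' : Subgroup G}
    (hN : ∀ x ∈ B', ∀ b ∈ B, x * b * x⁻¹ ∈ B) :
    ∀ h ∈ B ⊔ B', ∃ b ∈ B, ∃ x ∈ B', h = b * x := by
  let H : Subgroup G :=
    { carrier := {h | ∃ b ∈ B, ∃ x ∈ B', h = b * x}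
      one_mem' := ⟨1, B.one_mem, 1, B'.one_mem, by simp⟩
      mul_mem' := by
        rintro _ _ ⟨b₁, hb₁, x₁, hx₁, rfl⟩ ⟨b₂, hb₂, x₂, hx₂, rfl⟩
        refine ⟨b₁ * (x₁ * b₂ * x₁⁻¹), B.mul_mem hb₁ (hN x₁ hx₁ b₂ hb₂), x₁ * x₂,
          B'.mul_mem hx₁ hx₂, by group⟩
      inv_mem' := by
        rintro _ ⟨b, hb, x, hx, rfl⟩
        refine ⟨x⁻¹ * b⁻¹ * x⁻¹⁻¹, hN x⁻¹ (B'.inv_mem hx) b⁻¹ (B.inv_mem hb), x⁻¹,
          B'.inv_mem hx, by group⟩ }
  have hle : B ⊔ B' ≤ H := by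
    refine sup_le ?_ ?_
    · intro b hb
      exact ⟨b, hb, 1, B'.one_mem, by simp⟩
    · intro x hx
      exact ⟨1, B.one_mem, x, hx, by simp⟩
  intro h hh
  exact hle hh

include S in
/-- Two distinct elementary abelian subgroups of order `p ^ 4` normalizing each other cannot
exist in the configuration `RFSetup` (`p` odd). -/
theorem false_of_pair (hp : p ≠ 2) (hG : IsPGroup p G) {B B' : Subgroup G} (hB : IsE4 p B)
    (hB' : IsE4 p B') (hN : ∀ x ∈ B', ∀ b ∈ B, x * b * x⁻¹ ∈ B)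
    (hN' : ∀ b ∈ B, ∀ x ∈ B', b * x * b⁻¹ ∈ B') (hne : B ≠ B') : False := by
  have hpp : p.Prime := Fact.out
  set H : Subgroup G := B ⊔ B' with hH
  have hBH : B ≤ H := le_sup_left
  have hB'H : B' ≤ H := le_sup_right
  have hHT : H ≤ Subgroup.centralizer (S.F : Set G) :=
    sup_le (S.le_centralizer_F hG hB) (S.le_centralizer_F hG hB')
  -- exponent `p`
  have hHexp : ∀ h ∈ H, h ^ p = 1 := by
    intro h hh
    obtain ⟨b, hb, x, hx, rfl⟩ := exists_mul_of_mem_sup hN h hh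
    set c := x⁻¹ * b⁻¹ * x * b with hc
    have hcB : c ∈ B := by
      have h1 : x⁻¹ * b⁻¹ * x⁻¹⁻¹ ∈ B := hN x⁻¹ (B'.inv_mem hx) b⁻¹ (B.inv_mem hb)
      have h2 : c = x⁻¹ * b⁻¹ * x⁻¹⁻¹ * b := by rw [hc]; group
      rw [h2]
      exact B.mul_mem h1 hb
    have hcB' : c ∈ B' := by
      have h1 : b⁻¹ * x * b⁻¹⁻¹ ∈ B' := hN' b⁻¹ (B.inv_mem hb) x hx
      have h2 : c = x⁻¹ * (b⁻¹ * x * b⁻¹⁻¹) := by rw [hc]; group
      rw [h2]
      exact B'.mul_mem (B'.inv_mem hx) h1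
    have hcb : Commute c b := hB.1 c hcB b hb
    have hcx : Commute c x := hB'.1 c hcB' x hx
    have hmp := Cfsg.Agent.Helper87.mul_pow_class_two b x c hc hcb hcx p
    obtain ⟨m, hm⟩ := Cfsg.Agent.Helper87.dvd_tri_of_odd_prime p hpp hp
    rw [hmp, hB.2.1 b hb, hB'.2.1 x hx, hm, pow_mul, hB.2.1 c hcB]
    simp
  have hHC : H ⊓ Subgroup.centralizer (S.A : Set G) ≤ S.A :=
    fun h hh => S.alp h hh.2 (hHexp h hh.1)
  obtain ⟨a₀, ha₀A, ha₀F⟩ := S.exists_not_mem_F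
  have hbound : Nat.card H ≤
      p ^ 2 * Nat.card (H ⊓ Subgroup.centralizer (S.A : Set G) : Subgroup G) := by
    have h1 := hom_bound H S.F a₀ (fun e _ => S.commA hG a₀ ha₀A e)
      (fun e he z hz => (Subgroup.mem_centralizer_iff.mp (hHT he) z hz).symm)
      (fun z hz z' hz' => S.Acomm z (S.hFA hz) z' (S.hFA hz'))
    rw [S.cF] at h1
    refine le_trans h1 (Nat.mul_le_mul_left _ (Subgroup.card_le_of_le ?_))
    intro e he
    refine ⟨he.1, S.mem_centralizer_A (hHT he.1) ha₀A ha₀F ?_⟩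
    exact (Subgroup.mem_centralizer_singleton_iff.mp he.2)
  have hle5 : Nat.card H ≤ p ^ 5 := by
    have h2 := Subgroup.card_le_of_le hHC
    rw [S.cA] at h2
    calc Nat.card H ≤ p ^ 2 * Nat.card (H ⊓ Subgroup.centralizer (S.A : Set G) : Subgroup G) :=
          hbound
      _ ≤ p ^ 2 * p ^ 3 := Nat.mul_le_mul_left _ h2
      _ = p ^ 5 := by ring
  -- `B < H`
  have hBlt : B < H := by
    refine lt_of_le_of_ne hBH ?_
    intro h
    apply hne
    have hB'B : B' ≤ B := h ▸ hB'H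
    exact (Subgroup.eq_of_le_of_card_ge hB'B (by rw [hB.2.2, hB'.2.2])).symm
  obtain ⟨k, hk⟩ := IsPGroup.iff_card.mp (hG.to_subgroup H)
  have hk5 : 5 ≤ k := by
    have h1 := card_lt_of_lt hBlt
    rw [hB.2.2, hk] at h1
    have := (Nat.pow_lt_pow_iff_right hpp.one_lt).mp h1
    omega
  have hge5 : p ^ 5 ≤ Nat.card H := by
    rw [hk]
    exact Nat.pow_le_pow_right hpp.pos hk5
  have hH5 : Nat.card H = p ^ 5 := le_antisymm hle5 hge5
  -- `A ≤ H`
  have hAH : S.A ≤ H := by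
    have h3 : p ^ 3 ≤ Nat.card (H ⊓ Subgroup.centralizer (S.A : Set G) : Subgroup G) := by
      rw [hH5] at hbound
      have h2 : p ^ 5 = p ^ 2 * p ^ 3 := by ring
      rw [h2] at hbound
      exact Nat.le_of_mul_le_mul_left hbound (pow_pos hpp.pos 2)
    have heq : H ⊓ Subgroup.centralizer (S.A : Set G) = S.A :=
      Subgroup.eq_of_le_of_card_ge hHC (by rw [S.cA]; exact h3)
    rw [← heq]
    exact inf_le_left
  -- `B ⊓ B' ≤ F`
  have hKF : B ⊓ B' ≤ S.F := by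
    refine le_trans ?_ (S.inf_centralizer_le_F hG hB)
    intro x hx
    refine ⟨hx.1, Subgroup.mem_centralizer_iff.mpr ?_⟩
    have hHx : H ≤ Subgroup.centralizer ({x} : Set G) := by
      refine sup_le ?_ ?_
      · intro b hb
        exact Subgroup.mem_centralizer_singleton_iff.mpr (hB.1 b hb x hx.1)
      · intro y hy
        exact Subgroup.mem_centralizer_singleton_iff.mpr (hB'.1 y hy x hx.2)
    intro a ha
    exact Subgroup.mem_centralizer_singleton_iff.mp (hHx (hAH ha))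
  have hKcard : Nat.card (B ⊓ B' : Subgroup G) ≤ p ^ 2 := by
    have := Subgroup.card_le_of_le hKF
    rwa [S.cF] at this
  -- index computations
  have hrel1 : Nat.card B * B.relIndex H = Nat.card H := by
    have := Subgroup.relIndex_mul_relIndex (⊥ : Subgroup G) B H bot_le hBH
    rwa [Subgroup.relIndex_bot_left, Subgroup.relIndex_bot_left] at this
  have hrelBH : B.relIndex H = p := by
    rw [hB.2.2, hH5] at hrel1
    have h2 : p ^ 5 = p ^ 4 * p := by ring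
    rw [h2] at hrel1
    exact Nat.eq_of_mul_eq_mul_left (pow_pos hpp.pos 4) hrel1
  have hrel2 : (B ⊓ B').relIndex B' ≤ p := by
    rw [Subgroup.inf_relIndex_right, ← hrelBH]
    refine Subgroup.relIndex_le_of_le_right hB'H ?_
    rw [hrelBH]
    exact hpp.ne_zero
  have hrel3 : Nat.card (B ⊓ B' : Subgroup G) * (B ⊓ B').relIndex B' = Nat.card B' := by
    have := Subgroup.relIndex_mul_relIndex (⊥ : Subgroup G) (B ⊓ B') B' bot_le inf_le_right
    rwa [Subgroup.relIndex_bot_left, Subgroup.relIndex_bot_left] at this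
  have hfin : p ^ 4 ≤ p ^ 2 * p := by
    rw [← hB'.2.2, ← hrel3]
    exact Nat.mul_le_mul hKcard hrel2
  have h34 : p ^ 3 < p ^ 4 := Nat.pow_lt_pow_right hpp.one_lt (by norm_num)
  have h23 : p ^ 2 * p = p ^ 3 := by ring
  omega

end RFSetup

/-- If a `p`-group (`p` odd) has an elementary abelian subgroup of order `p ^ 4` but no normal
one, the configuration `RFSetup` arises. -/
theorem exists_rfSetup {G : Type*} [Group G] [Finite G] {p : ℕ} [Fact p.Prime] (hp : p ≠ 2)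
    (hG : IsPGroup p G)
    (hno : ¬ ∃ A : Subgroup G, A.Normal ∧ (∀ a ∈ A, ∀ b ∈ A, a * b = b * a) ∧
      (∀ a ∈ A, a ^ p = 1) ∧ Nat.card A = p ^ 4)
    {B : Subgroup G} (hB : RFSetup.IsE4 p B) : Nonempty (RFSetup p G) := by
  have hpp : p.Prime := Fact.out
  -- a normal elementary abelian subgroup of order `p ^ 3`
  have hex : ∃ A : Subgroup G, A.Normal ∧ IsMulCommutative A ∧ (∀ a ∈ A, a ^ p = 1) ∧
      Nat.card A = p ^ 3 := by
    by_contra hcon
    push Not at hcon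
    have : IsMulCommutative B := ⟨⟨fun a b => Subtype.ext (hB.1 a a.2 b b.2)⟩⟩
    have := Cfsg.Agent.S0100.result hp hG (fun A hA1 hA2 hA3 => hcon A hA1 hA2 hA3) B
      inferInstance hB.2.1
    rw [hB.2.2] at this
    have := Nat.pow_lt_pow_right hpp.one_lt (show 2 < 4 by norm_num)
    omega
  obtain ⟨A, hAn, hAc, hAe, hAcard⟩ := hex
  have := hAn
  have hAcomm : ∀ a ∈ A, ∀ b ∈ A, a * b = b * a := by
    intro a ha b hb
    have := hAc.is_comm.comm ⟨a, ha⟩ ⟨b, hb⟩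
    exact congrArg Subtype.val this
  have hEA : EA p A := ⟨hAn, hAcomm, hAe⟩
  have hmax : ∀ A' : Subgroup G, EA p A' → A ≤ A' → A' ≤ A := by
    intro A' hA' hle
    by_contra hcon
    have := hA'.1
    have hlt : A < A' := lt_of_le_of_ne hle (fun h => hcon (h ▸ le_refl _))
    have h1 := card_lt_of_lt hlt
    obtain ⟨k, hk⟩ := IsPGroup.iff_card.mp (hG.to_subgroup A')
    rw [hAcard, hk] at h1
    have hk4 : 4 ≤ k := by
      have := (Nat.pow_lt_pow_iff_right hpp.one_lt).mp h1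
      omega
    have h4 : p ^ 4 ≤ Nat.card A' := by
      rw [hk]
      exact Nat.pow_le_pow_right hpp.pos hk4
    obtain ⟨N, hNn, hNA', hNc⟩ := exists_normal_card hG A' 4 h4
    exact hno ⟨N, hNn, fun a ha b hb => hA'.2.1 a (hNA' ha) b (hNA' hb),
      fun a ha => hA'.2.2 a (hNA' ha), hNc⟩
  have halp : ∀ x ∈ Subgroup.centralizer (A : Set G), x ^ p = 1 → x ∈ A :=
    fun x hx hxp => alperin hp hG A hEA hmax x hx hxp
  obtain ⟨F, hFn, hFA, hFc⟩ := exists_normal_card hG A 2 (by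
    rw [hAcard]; exact Nat.pow_le_pow_right hpp.pos (by norm_num))
  have := hFn
  obtain ⟨A₁, hA₁n, hA₁F, hA₁c⟩ := exists_normal_card hG F 1 (by
    rw [hFc]; exact Nat.pow_le_pow_right hpp.pos (by norm_num))
  rw [pow_one] at hA₁c
  exact ⟨{ A₁ := A₁, F := F, A := A, nA₁ := hA₁n, nF := hFn, nA := hAn, hA₁F := hA₁F,
           hFA := hFA, cA₁ := hA₁c, cF := hFc, cA := hAcard, Acomm := hAcomm, alp := halp }⟩

end Cfsg.Agent.Helper22
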