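import Mathlib
import Cfsg.Agent.Lib.Helper22.RankTwo
import Cfsg.Agent.Lib.Helper22.RankFour

set_option autoImplicit false

/-! An element of order 3 acting on an elementary abelian 3-group `N` has `|N| ≤ |C_N(y)|³`;
centralizers of `E₉`-subgroups in 3-groups with a normal `E₈₁` (towards S1338). -/

namespace Cfsg.Agent.Helper22

open Cfsg

/-- For an endomorphism `δ` with `δ³` trivial, `|M| ≤ |ker δ|³`. -/
theorem card_le_ker_cube {M : Type*} [Group M] [Finite M] (δ : M →* M)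
    (h : ∀ m, δ (δ (δ m)) = 1) : Nat.card M ≤ Nat.card δ.ker ^ 3 := by
  have h1 : Nat.card M = Nat.card (M ⧸ δ.ker) * Nat.card δ.ker :=
    Subgroup.card_eq_card_quotient_mul_card_subgroup δ.ker
  have h2 : Nat.card (M ⧸ δ.ker) = Nat.card δ.range :=
    Nat.card_congr (QuotientGroup.quotientKerEquivRange δ).toEquiv
  set δ₁ : δ.range →* M := δ.comp δ.range.subtype with hδ₁
  have h3 : Nat.card δ.range = Nat.card (δ.range ⧸ δ₁.ker) * Nat.card δ₁.ker :=
    Subgroup.card_eq_card_quotient_mul_card_subgroup δ₁.ker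
  have h4 : Nat.card δ₁.ker ≤ Nat.card δ.ker := by
    refine Nat.card_le_card_of_injective
      (fun x : δ₁.ker => (⟨((x : δ.range) : M), ?_⟩ : δ.ker)) ?_
    · have := x.2
      rw [MonoidHom.mem_ker] at this ⊢
      exact this
    · intro x1 x2 hx
      have h' := congrArg (fun t : δ.ker => (t : M)) hx
      exact Subtype.ext (Subtype.ext h')
  have h5 : Nat.card (δ.range ⧸ δ₁.ker) ≤ Nat.card δ.ker := by
    rw [Nat.card_congr (QuotientGroup.quotientKerEquivRange δ₁).toEquiv]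
    apply Subgroup.card_le_of_le
    rintro _ ⟨x, rfl⟩
    rw [MonoidHom.mem_ker]
    obtain ⟨m, hm⟩ := x.2
    change δ (δ (x : M)) = 1
    rw [← hm]
    exact h m
  calc Nat.card M = Nat.card δ.range * Nat.card δ.ker := by rw [h1, h2]
    _ = Nat.card (δ.range ⧸ δ₁.ker) * Nat.card δ₁.ker * Nat.card δ.ker := by rw [h3]
    _ ≤ Nat.card δ.ker * Nat.card δ.ker * Nat.card δ.ker :=
        Nat.mul_le_mul (Nat.mul_le_mul h5 h4) le_rfl
    _ = Nat.card δ.ker ^ 3 := by ring

theorem comm_cube_aux {G : Type*} [Group G] (a b c : G) (hab : Commute a b) (hac : Commute a c)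
    (hbc : Commute b c) (hb : b ^ 3 = 1) (hc : c ^ 3 = 1) :
    b⁻¹ * c * a⁻¹ * c * b⁻¹ * c * b⁻¹ * a = 1 := by
  set w := b⁻¹ * c with hw
  have hcb : c * b⁻¹ = w := by rw [hw]; exact (hbc.inv_left.eq).symm
  have hwa : Commute w a⁻¹ := by
    rw [hw]
    exact (hab.symm.inv_left.inv_right).mul_left hac.symm.inv_right
  have hw3 : w ^ 3 = 1 := by
    rw [hw, (hbc.inv_left).mul_pow, inv_pow, hb, hc]
    simp
  calc b⁻¹ * c * a⁻¹ * c * b⁻¹ * c * b⁻¹ * a
      = w * a⁻¹ * (c * b⁻¹) * (c * b⁻¹) * a := by rw [hw]; group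
    _ = w * a⁻¹ * w * w * a := by rw [hcb]
    _ = a⁻¹ * w * w * w * a := by rw [hwa.eq]
    _ = a⁻¹ * w ^ 3 * a := by rw [pow_three]; group
    _ = 1 := by rw [hw3]; group

/-- An element `y` with `y³ = 1` acting on a normal elementary abelian 3-subgroup `N` satisfies
`|N| ≤ |C_N(y)|³`. -/
theorem card_le_centralizer_cube {G : Type*} [Group G] [Finite G] (N : Subgroup G) [N.Normal]
    (hNc : ∀ a ∈ N, ∀ b ∈ N, a * b = b * a) (hN3 : ∀ a ∈ N, a ^ 3 = 1) (y : G)
    (hy : y ^ 3 = 1) :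
    Nat.card N ≤ Nat.card (N ⊓ Subgroup.centralizer ({y} : Set G) : Subgroup G) ^ 3 := by
  have hmem : ∀ e ∈ N, y⁻¹ * e⁻¹ * y * e ∈ N := by
    intro e he
    have h1 : y⁻¹ * e⁻¹ * y⁻¹⁻¹ ∈ N := ‹N.Normal›.conj_mem e⁻¹ (N.inv_mem he) y⁻¹
    have h2 : y⁻¹ * e⁻¹ * y * e = y⁻¹ * e⁻¹ * y⁻¹⁻¹ * e := by group
    rw [h2]
    exact N.mul_mem h1 he
  let δ : N →* N := MonoidHom.mk' (fun e => ⟨y⁻¹ * (e : G)⁻¹ * y * (e : G), hmem e e.2⟩) (by
    intro a b
    apply Subtype.ext
    change y⁻¹ * ((a * b : N) : G)⁻¹ * y * ((a * b : N) : G) =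
      (y⁻¹ * (a : G)⁻¹ * y * (a : G)) * (y⁻¹ * (b : G)⁻¹ * y * (b : G))
    have hc : (b : G) * (y⁻¹ * (a : G)⁻¹ * y * (a : G)) =
        (y⁻¹ * (a : G)⁻¹ * y * (a : G)) * (b : G) := hNc _ b.2 _ (hmem a a.2)
    have hab := hNc _ (hmem b b.2) _ (hmem a a.2)
    rw [Subgroup.coe_mul]
    calc y⁻¹ * ((a : G) * (b : G))⁻¹ * y * ((a : G) * (b : G))
        = y⁻¹ * (b : G)⁻¹ * y * ((y⁻¹ * (a : G)⁻¹ * y * (a : G)) * (b : G)) := by group
      _ = y⁻¹ * (b : G)⁻¹ * y * ((b : G) * (y⁻¹ * (a : G)⁻¹ * y * (a : G))) := by rw [hc]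
      _ = (y⁻¹ * (b : G)⁻¹ * y * (b : G)) * (y⁻¹ * (a : G)⁻¹ * y * (a : G)) := by group
      _ = (y⁻¹ * (a : G)⁻¹ * y * (a : G)) * (y⁻¹ * (b : G)⁻¹ * y * (b : G)) := hab)
  have hδ : ∀ e : N, ((δ e : N) : G) = y⁻¹ * (e : G)⁻¹ * y * (e : G) := fun e => rfl
  have hy3 : y⁻¹ * y⁻¹ * y⁻¹ = 1 := by
    have : y * y * y = 1 := by rw [← pow_three']; exact hy
    calc y⁻¹ * y⁻¹ * y⁻¹ = (y * y * y)⁻¹ := by group
      _ = 1 := by rw [this, inv_one]
  have hy3' : y * y * y = 1 := by rw [← pow_three']; exact hy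
  have hcube : ∀ m : N, δ (δ (δ m)) = 1 := by
    intro m
    apply Subtype.ext
    rw [hδ, hδ, hδ]
    set a : G := (m : G) with ha
    set b : G := y⁻¹ * a * y with hb
    set c : G := y⁻¹ * b * y with hc
    have haN : a ∈ N := m.2
    have hbN : b ∈ N := by
      have := ‹N.Normal›.conj_mem a haN y⁻¹
      rwa [inv_inv] at this
    have hcN : c ∈ N := by
      have := ‹N.Normal›.conj_mem b hbN y⁻¹
      rwa [inv_inv] at this
    have hd : y⁻¹ * c * y = a := by
      rw [hc, hb]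
      calc y⁻¹ * (y⁻¹ * (y⁻¹ * a * y) * y) * y = (y⁻¹ * y⁻¹ * y⁻¹) * a * (y * y * y) := by group
        _ = a := by rw [hy3, hy3']; group
    have e3 : y⁻¹ * (y⁻¹ * (y⁻¹ * a⁻¹ * y * a)⁻¹ * y * (y⁻¹ * a⁻¹ * y * a))⁻¹ * y *
        (y⁻¹ * (y⁻¹ * a⁻¹ * y * a)⁻¹ * y * (y⁻¹ * a⁻¹ * y * a)) =
        b⁻¹ * c * (y⁻¹ * c * y)⁻¹ * c * b⁻¹ * c * b⁻¹ * a := by
      rw [hc, hb]; group
    rw [Subgroup.coe_one, e3, hd]
    exact comm_cube_aux a b c (hNc a haN b hbN) (hNc a haN c hcN) (hNc b hbN c hcN)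
      (hN3 b hbN) (hN3 c hcN)
  have h1 := card_le_ker_cube δ hcube
  have h2 : Nat.card δ.ker ≤
      Nat.card (N ⊓ Subgroup.centralizer ({y} : Set G) : Subgroup G) := by
    refine Nat.card_le_card_of_injective
      (fun e : δ.ker => (⟨((e : N) : G), ⟨(e : N).2, ?_⟩⟩ :
        (N ⊓ Subgroup.centralizer ({y} : Set G) : Subgroup G))) ?_
    · have he := e.2
      rw [MonoidHom.mem_ker] at he
      have he' : y⁻¹ * ((e : N) : G)⁻¹ * y * ((e : N) : G) = 1 := by
        rw [← hδ, he]; rfl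
      apply Subgroup.mem_centralizer_singleton_iff.mpr
      calc ((e : N) : G) * y = ((e : N) : G) * y * (y⁻¹ * ((e : N) : G)⁻¹ * y * ((e : N) : G)) := by
            rw [he', mul_one]
        _ = y * ((e : N) : G) := by group
    · intro e1 e2 h
      have h' := congrArg
        (fun t : (N ⊓ Subgroup.centralizer ({y} : Set G) : Subgroup G) => (t : G)) h
      exact Subtype.ext (Subtype.ext h')
  exact le_trans h1 (Nat.pow_le_pow_left h2 3)

/-- In a finite 3-group with a normal elementary abelian subgroup of order `81`, the centralizer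
of every elementary abelian subgroup of order at least `9` has 3-rank greater than 2. -/
theorem not_pRankLE_centralizer_of_normal_E81 {P : Type*} [Group P] [Finite P]
    (hP : IsPGroup 3 P) (N : Subgroup P) [N.Normal] (hN : IsElementaryAbelian 3 N)
    (hNc : Nat.card N = 3 ^ 4) (X : Subgroup P) (hX : IsElementaryAbelian 3 X)
    (hXc : 3 ^ 2 ≤ Nat.card X) :
    ¬ PRankLE 3 2 ↥(Subgroup.centralizer (X : Set P)) := by
  haveI : Fact (Nat.Prime 3) := ⟨Nat.prime_three⟩
  obtain ⟨hNcomm, hNexp⟩ := Helper10.isElementaryAbelian_iff.mp hN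
  obtain ⟨hXcomm, hXexp⟩ := Helper10.isElementaryAbelian_iff.mp hX
  by_cases h9 : 3 ^ 2 < Nat.card X
  · exact not_pRankLE_centralizer hX (elemAb_le_centralizer_self hX) h9
  have hX9 : Nat.card X = 3 ^ 2 := le_antisymm (not_lt.mp h9) hXc
  by_cases hXN : X ≤ N
  · refine not_pRankLE_centralizer hN ?_ (by rw [hNc]; norm_num)
    intro n hn
    rw [Subgroup.mem_centralizer_iff]
    intro x hx
    exact hNcomm x (hXN hx) n hn
  obtain ⟨y, hyX, hyN⟩ := SetLike.not_le_iff_exists.mp hXN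
  set W : Subgroup P := N ⊓ Subgroup.centralizer (X : Set P) with hW
  have hWe : IsElementaryAbelian 3 W := Helper10.elemAb_mono hN inf_le_left
  have hcomm : ∀ a ∈ W, ∀ b ∈ X, a * b = b * a := by
    intro a ha b hb
    exact (Subgroup.mem_centralizer_iff.mp ha.2 b hb).symm
  have hFe : IsElementaryAbelian 3 (W ⊔ X) := Helper10.elemAb_sup_of_commute hWe hX hcomm
  have hFle : W ⊔ X ≤ Subgroup.centralizer (X : Set P) :=
    sup_le inf_le_right (elemAb_le_centralizer_self hX)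
  -- the key point: `W` is not contained in `X`
  have hkey : ∃ w ∈ W, w ∉ X := by
    by_cases hbot : X ⊓ N = ⊥
    · have hNbot : N ≠ ⊥ := by
        intro h
        rw [h, Subgroup.card_bot] at hNc
        norm_num at hNc
      obtain ⟨z, hzN, hz1, hzc⟩ := Cfsg.Agent.S0100.exists_fixed N X (hP.to_subgroup N) hNbot
        (hP.to_subgroup X) (fun q _ n hn => ‹N.Normal›.conj_mem n hn q)
      refine ⟨z, ⟨hzN, Subgroup.mem_centralizer_iff.mpr hzc⟩, ?_⟩
      intro hzX
      have : z ∈ X ⊓ N := ⟨hzX, hzN⟩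
      rw [hbot, Subgroup.mem_bot] at this
      exact hz1 this
    · set Z : Subgroup P := X ⊓ N with hZ
      have hZX : Z ≤ X := inf_le_left
      have hyZ : y ∉ Z := fun h => hyN h.2
      have hZcard : Nat.card Z = 3 := by
        have hdvd : Nat.card Z ∣ 3 ^ 2 := hX9 ▸ Subgroup.card_dvd_of_le hZX
        obtain ⟨i, hi2, hi⟩ := (Nat.dvd_prime_pow Nat.prime_three).mp hdvd
        have hi0 : i ≠ 0 := by
          intro h
          rw [h, pow_zero] at hi
          exact hbot (Subgroup.card_eq_one.mp hi)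
        have hi2' : i ≠ 2 := by
          intro h
          rw [h] at hi
          have : Z = X := Subgroup.eq_of_le_of_card_ge hZX (by rw [hi, hX9])
          exact hyZ (this ▸ hyX)
        have : i = 1 := by omega
        rw [hi, this, pow_one]
      have hlt : Z < Z ⊔ Subgroup.zpowers y := by
        refine lt_of_le_of_ne le_sup_left ?_
        intro h
        apply hyZ
        rw [h]
        exact Subgroup.mem_sup_right (Subgroup.mem_zpowers y)
      have hle : Z ⊔ Subgroup.zpowers y ≤ X :=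
        sup_le hZX (by rw [Subgroup.zpowers_le]; exact hyX)
      have hXeq : Z ⊔ Subgroup.zpowers y = X :=
        Cfsg.Agent.S0100.eq_of_lt_of_le_of_card Nat.prime_three Z _ X hlt hle
          (by rw [hX9, hZcard]; norm_num)
      have hCW : N ⊓ Subgroup.centralizer ({y} : Set P) ≤ W := by
        intro n hn
        refine ⟨hn.1, Subgroup.mem_centralizer_iff.mpr ?_⟩
        have hXn : X ≤ Subgroup.centralizer ({n} : Set P) := by
          rw [← hXeq]
          refine sup_le ?_ ?_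
          · intro z hz
            exact Subgroup.mem_centralizer_singleton_iff.mpr (hNcomm z hz.2 n hn.1)
          · rw [Subgroup.zpowers_le]
            exact Subgroup.mem_centralizer_singleton_iff.mpr
              (Subgroup.mem_centralizer_singleton_iff.mp hn.2).symm
        intro x hx
        exact Subgroup.mem_centralizer_singleton_iff.mp (hXn hx)
      have hcube := card_le_centralizer_cube N hNcomm hNexp y (hXexp y hyX)
      by_contra hcon
      push Not at hcon
      have hWZ : W ≤ Z := fun w hw => ⟨hcon w hw, hw.1⟩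
      have h1 : Nat.card (N ⊓ Subgroup.centralizer ({y} : Set P) : Subgroup P) ≤ 3 := by
        rw [← hZcard]
        exact Subgroup.card_le_of_le (le_trans hCW hWZ)
      have h2 : Nat.card (N ⊓ Subgroup.centralizer ({y} : Set P) : Subgroup P) ^ 3 ≤ 3 ^ 3 :=
        Nat.pow_le_pow_left h1 3
      rw [hNc] at hcube
      norm_num at hcube h2
      omega
  obtain ⟨w, hwW, hwX⟩ := hkey
  have hlt : X < W ⊔ X := by
    refine lt_of_le_of_ne le_sup_right ?_
    intro h
    apply hwX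
    rw [h]
    exact Subgroup.mem_sup_left hwW
  have hcard := Cfsg.Agent.S0100.card_lt_of_lt hlt
  rw [hX9] at hcard
  exact not_pRankLE_centralizer hFe hFle hcard

end Cfsg.Agent.Helper22
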