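import Mathlib
import Cfsg.Agent.Lib.Helper22.MaxComp4

/-!
# Maximal components of involution centralizers, part 5 (helper22): transport lemmas
-/

set_option autoImplicit false
set_option linter.style.haveILetI false
open scoped commutatorElement

namespace Cfsg.Agent.Helper22.MaxComp

open Subgroup Cfsg.Agent.Helper22

theorem elemAb_iff {H : Type*} [Group H] {A : Subgroup H} :
    Cfsg.IsElementaryAbelian 2 A ↔
      (∀ x ∈ A, ∀ y ∈ A, x * y = y * x) ∧ ∀ x ∈ A, x ^ 2 = 1 := by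
  constructor
  · intro h
    exact ⟨fun x hx y hy => elemAb_comm h hx hy, h.2⟩
  · intro h
    exact ⟨⟨⟨fun x y => Subtype.ext (h.1 x x.2 y y.2)⟩⟩, h.2⟩

theorem elemAb_map {H H' : Type*} [Group H] [Group H'] (f : H →* H') {A : Subgroup H}
    (h : Cfsg.IsElementaryAbelian 2 A) : Cfsg.IsElementaryAbelian 2 (A.map f) := by
  rw [elemAb_iff] at h ⊢
  refine ⟨?_, ?_⟩
  · rintro _ ⟨x, hx, rfl⟩ _ ⟨y, hy, rfl⟩
    rw [← map_mul, ← map_mul, h.1 x hx y hy]
  · rintro _ ⟨x, hx, rfl⟩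
    rw [← map_pow, h.2 x hx, map_one]

theorem elemAb_comap {H H' : Type*} [Group H] [Group H'] (f : H →* H')
    (hf : Function.Injective f) {A : Subgroup H'}
    (h : Cfsg.IsElementaryAbelian 2 A) : Cfsg.IsElementaryAbelian 2 (A.comap f) := by
  rw [elemAb_iff] at h ⊢
  refine ⟨?_, ?_⟩
  · intro x hx y hy
    apply hf
    rw [map_mul, map_mul]
    exact h.1 _ hx _ hy
  · intro x hx
    apply hf
    rw [map_pow, map_one]
    exact h.2 _ hx

theorem elemAb_subgroupOf {H : Type*} [Group H] {A : Subgroup H} (M : Subgroup H)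
    (h : Cfsg.IsElementaryAbelian 2 A) : Cfsg.IsElementaryAbelian 2 (A.subgroupOf M) :=
  elemAb_comap M.subtype M.subtype_injective h

theorem card_map_subtype {H : Type*} [Group H] {M : Subgroup H} (A : Subgroup ↥M) :
    Nat.card (A.map M.subtype) = Nat.card A :=
  (Nat.card_congr (A.equivMapOfInjective M.subtype M.subtype_injective).toEquiv).symm

theorem two_dvd_card_of_elemAb {H : Type*} [Group H] [Finite H] {A : Subgroup H}
    (h : Cfsg.IsElementaryAbelian 2 A) (h2 : 2 < Nat.card A) : 2 ∣ Nat.card A := by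
  have h4 := four_le_card h.2 h2
  haveI : Fact (Nat.Prime 2) := ⟨Nat.prime_two⟩
  have hp : IsPGroup 2 ↥A := fun g => ⟨1, by
    have := h.2 g g.2
    apply Subtype.ext
    simpa using this⟩
  obtain ⟨n, hn⟩ := IsPGroup.iff_card.mp hp
  rw [hn] at h4 ⊢
  have hn0 : n ≠ 0 := by
    rintro rfl
    simp at h4
  exact dvd_pow_self 2 hn0

theorem exists_card_eq_two_pow {H : Type*} [Group H] [Finite H] {A : Subgroup H}
    (h : Cfsg.IsElementaryAbelian 2 A) : ∃ n : ℕ, Nat.card A = 2 ^ n := by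
  haveI : Fact (Nat.Prime 2) := ⟨Nat.prime_two⟩
  have hp : IsPGroup 2 ↥A := fun g => ⟨1, by
    have := h.2 g g.2
    apply Subtype.ext
    simpa using this⟩
  exact IsPGroup.iff_card.mp hp

/-- Extract an elementary abelian subgroup of order `> 2` from `¬ PRankLE 2 1`. -/
theorem exists_elemAb_of_not_pRankLE {H : Type*} [Group H] {K : Subgroup H}
    (hrk : ¬ Cfsg.PRankLE 2 1 ↥K) :
    ∃ A : Subgroup H, A ≤ K ∧ Cfsg.IsElementaryAbelian 2 A ∧ 2 < Nat.card A := by
  unfold Cfsg.PRankLE at hrk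
  push Not at hrk
  obtain ⟨A, hAc, hAe, hAcard⟩ := hrk
  refine ⟨A.map K.subtype, map_subtype_le A, elemAb_map K.subtype ⟨hAc, hAe⟩, ?_⟩
  rw [card_map_subtype]
  simpa using hAcard

/-- `PRankLE` bounds elementary abelian subgroups of a subgroup. -/
theorem card_le_of_pRankLE {H : Type*} [Group H] {M W : Subgroup H} {k : ℕ}
    (h : Cfsg.PRankLE 2 k ↥M) (hWM : W ≤ M) (hW : Cfsg.IsElementaryAbelian 2 W) :
    Nat.card W ≤ 2 ^ k := by
  have h1 := elemAb_subgroupOf M hW
  have := h (W.subgroupOf M) h1.1 h1.2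
  rwa [card_subgroupOf_of_le hWM] at this

theorem pRankLE_of_forall {H : Type*} [Group H] {M : Subgroup H} {k : ℕ}
    (h : ∀ W : Subgroup H, W ≤ M → Cfsg.IsElementaryAbelian 2 W → Nat.card W ≤ 2 ^ k) :
    Cfsg.PRankLE 2 k ↥M := by
  intro A hAc hAe
  have := h (A.map M.subtype) (map_subtype_le A) (elemAb_map M.subtype ⟨hAc, hAe⟩)
  rwa [card_map_subtype] at this

end Cfsg.Agent.Helper22.MaxComp
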