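import Mathlib
import Cfsg.Agent.Lib.Helper22.MaxComp5
import Cfsg.Agent.Lib.Helper22.BBal7

/-!
# Images of `2`-components of `C_X(t)` in `X / O(X)` under the `B`-property (helper22)
-/

set_option autoImplicit false
set_option linter.style.haveILetI false
open scoped commutatorElement

namespace Cfsg.Agent.Helper22.DLayer

open Subgroup Cfsg.Agent.Helper22 Cfsg.Agent.Helper22.LBal Cfsg.Agent.Helper22.BBal
  Cfsg.Agent.Helper22.MaxComp

variable {X : Type*} [Group X]

/-- Coprime action: the centralizer of the image of an involution `t` in `X / O`, `O` of odd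
order, is the image of `C_X(t)`. -/
theorem map_centralizer_invol [Finite X] (O : Subgroup X) [O.Normal]
    (hO : (Nat.card O).Coprime 2) (t : X) (ht : orderOf t = 2) :
    (centralizer ({t} : Set X)).map (QuotientGroup.mk' O) =
      centralizer ({QuotientGroup.mk' O t} : Set (X ⧸ O)) := by
  haveI : Fact (Nat.Prime 2) := ⟨Nat.prime_two⟩
  apply le_antisymm
  · rintro _ ⟨c, hc, rfl⟩
    rw [mem_centralizer_singleton_iff, ← map_mul, ← map_mul,
      mem_centralizer_singleton_iff.mp hc]
  · intro d hd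
    set R : Subgroup X := zpowers t with hR
    have hRp : IsPGroup 2 ↥R := by
      have h1 : Nat.card ↥R = 2 ^ 1 := by rw [hR, Nat.card_zpowers, pow_one, ht]
      exact IsPGroup.of_card h1
    have hd' : d ∈ centralizer ((R.map (QuotientGroup.mk' O) : Subgroup _) : Set (X ⧸ O)) := by
      rw [mem_centralizer_iff]
      rintro _ ⟨r, hr, rfl⟩
      obtain ⟨i, rfl⟩ := mem_zpowers_iff.mp hr
      have hc : Commute (QuotientGroup.mk' O t) d :=
        (mem_centralizer_singleton_iff.mp hd).symm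
      rw [map_zpow]
      exact (hc.zpow_left i).eq
    obtain ⟨y, hy, rfl⟩ := exists_lift_mem_normalizer O R hO hRp d hd'
    refine ⟨y, ?_, rfl⟩
    have h1 : y * t * y⁻¹ ∈ R := (mem_normalizer_iff.mp hy t).mp (mem_zpowers t)
    obtain ⟨i, hi⟩ := mem_zpowers_iff.mp h1
    have h2 : t ^ i = t ^ (i % 2) := by
      have := zpow_mod_orderOf t i
      rw [ht] at this
      exact this.symm
    rw [h2] at hi
    show y ∈ centralizer ({t} : Set X)
    rw [mem_centralizer_singleton_iff]
    rcases Int.emod_two_eq_zero_or_one i with h | h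
    · exfalso
      rw [h, zpow_zero] at hi
      have : t = 1 := by
        have e : t = y⁻¹ * (y * t * y⁻¹) * y := by group
        rw [e, ← hi]; group
      rw [this, orderOf_one] at ht
      omega
    · rw [h, zpow_one] at hi
      calc y * t = (y * t * y⁻¹) * y := by group
        _ = t * y := by rw [← hi]

/-- The main theorem: the image in `X / O(X)` of a `2`-component-like subnormal subgroup `J` of
`C_X(t)` is a component of `C(t̄)` when `X / O(X)` has the `B`-property, and `J` centralizes,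
modulo `O(X)`, every `J`-invariant subgroup of odd order of `C_X(t)`. -/
theorem image_isComponent_and [Finite X] {t : X} (ht : orderOf t = 2) {J : Subgroup X}
    (hJ : PCompLike 2 ↥J) (hJsn : SubnormalIn J (centralizer ({t} : Set X)))
    (hBQ : Cfsg.HasBProperty (X ⧸ Cfsg.oddCore X)) :
    Cfsg.IsComponent ((J.map (QuotientGroup.mk' (Cfsg.oddCore X))).subgroupOf
      (centralizer ({QuotientGroup.mk' (Cfsg.oddCore X) t} : Set (X ⧸ Cfsg.oddCore X)))) ∧
    ∀ E : Subgroup X, E ≤ centralizer ({t} : Set X) → (Nat.card E).Coprime 2 →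
      (∀ j ∈ J, ∀ e ∈ E, j * e * j⁻¹ ∈ E) → ⁅J, E⁆ ≤ Cfsg.oddCore X := by
  haveI : Fact (Nat.Prime 2) := ⟨Nat.prime_two⟩
  set O := Cfsg.oddCore X with hOdef
  set π := QuotientGroup.mk' O with hπ
  set Cbar := centralizer ({π t} : Set (X ⧸ O)) with hCbar
  have hOcop : (Nat.card O).Coprime 2 := Cfsg.Agent.Helper34.card_pPrimeCore_coprime 2
  have hmapC : (centralizer ({t} : Set X)).map π = Cbar := map_centralizer_invol O hOcop t ht
  have hsn2 : SubnormalIn (J.map π) Cbar := by
    have := hJsn.map π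
    rwa [hmapC] at this
  have hJnt : Nontrivial ↥J := by
    by_contra hcon
    rw [not_nontrivial_iff_subsingleton] at hcon
    have hs2 : Subsingleton (↥J ⧸ Cfsg.pPrimeCore 2 ↥J) := inferInstance
    have hn := Cfsg.Agent.Helper34.IsQuasisimple_nontrivial hJ.2
    exact not_subsingleton _ hs2
  have hJO : ¬ J ≤ O := by
    intro hle
    have h1 : Nat.card ↥J ∣ Nat.card ↥O := Subgroup.card_dvd_of_le hle
    have h2 : (Nat.card ↥J).Coprime 2 := Nat.Coprime.coprime_dvd_left h1 hOcop
    have := hJ.1.subsingleton_of_coprime h2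
    exact not_subsingleton _ this
  have hnt : Nontrivial ↥(J.map π) := by
    rw [Subgroup.nontrivial_iff_ne_bot]
    intro hbot
    apply hJO
    have := (Subgroup.map_eq_bot_iff J).mp hbot
    rwa [hπ, QuotientGroup.ker_mk'] at this
  have h1 : PCompLike 2 ↥(J.map π) :=
    hJ.of_surjective (π.subgroupMap J) (π.subgroupMap_surjective J)
  set Jt := (J.map π).subgroupOf Cbar with hJt
  have h2 : PCompLike 2 ↥Jt := h1.of_mulEquiv (subgroupOfEquivOfLe hsn2.1).symm
  have h3 : Cfsg.IsPComponent 2 Jt := PCompLike.isPComponent hsn2.2 h2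
  -- the image of `t` is an involution
  have ht2 : t ^ 2 = 1 := by rw [← ht]; exact pow_orderOf_eq_one t
  have htb2 : π t ^ 2 = 1 := by rw [← map_pow, ht2, map_one]
  have htb1 : π t ≠ 1 := by
    intro h
    have htO : t ∈ O := by
      rwa [hπ, QuotientGroup.mk'_apply, QuotientGroup.eq_one_iff] at h
    have h4 : orderOf (⟨t, htO⟩ : ↥O) ∣ Nat.card ↥O := orderOf_dvd_natCard _
    have h5 : orderOf (⟨t, htO⟩ : ↥O) = 2 := by
      rw [← ht]; exact (Subgroup.orderOf_mk t htO)
    rw [h5] at h4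
    have := Nat.Coprime.eq_one_of_dvd hOcop.symm h4
    omega
  have htbo : orderOf (π t) = 2 := orderOf_eq_prime htb2 htb1
  have hB := hBQ (π t) htbo
  have hOQ : Cfsg.oddCore (X ⧸ O) = ⊥ := Cfsg.Agent.Helper34.pPrimeCore_quotient_eq_bot 2
  rw [hOQ] at hB
  have h4 : ⁅Cfsg.pLayer 2 ↥Cbar, Cfsg.pPrimeCore 2 ↥Cbar⁆ = ⊥ :=
    (Subgroup.map_eq_bot_iff_of_injective _ Cbar.subtype_injective).mp (le_bot_iff.mp hB)
  have h5 : ⁅Jt, Cfsg.pPrimeCore 2 ↥Cbar⁆ = ⊥ := by
    rw [eq_bot_iff, ← h4]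
    exact Subgroup.commutator_mono (Cfsg.Agent.Helper21.pComponent_le_pLayer 2 h3) le_rfl
  have hJtq : Cfsg.IsQuasisimple ↥Jt :=
    Cfsg.Agent.Helper34.IsPComponent.isQuasisimple_of_commutator_eq_bot h3 h5
  refine ⟨⟨hsn2.2, hJtq⟩, ?_⟩
  intro E hEt hEodd hinv
  have hJbq : Cfsg.IsQuasisimple ↥(J.map π) :=
    IsQuasisimple.of_mulEquiv (subgroupOfEquivOfLe hsn2.1) hJtq
  have hEbC : E.map π ≤ Cbar := by
    rw [← hmapC]; exact Subgroup.map_mono hEt
  have hconj : ∀ j ∈ J, conjS (π j) (E.map π) ≤ E.map π := by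
    intro j hj
    rintro _ ⟨_, ⟨e, he, rfl⟩, rfl⟩
    refine ⟨j * e * j⁻¹, hinv j hj e he, ?_⟩
    simp only [map_mul, map_inv, MulEquiv.toMonoidHom_eq_coe, MonoidHom.coe_coe,
      MulAut.conj_apply]
  have hJbN : J.map π ≤ normalizer ((E.map π : Subgroup (X ⧸ O)) : Set (X ⧸ O)) := by
    rintro _ ⟨j, hj, rfl⟩
    refine mem_normalizer_of_conjS_le (hconj j hj) ?_
    have := hconj j⁻¹ (J.inv_mem hj)
    rwa [map_inv] at this
  have hsnH : SubnormalIn (J.map π) (J.map π ⊔ E.map π) :=
    hsn2.mono_right le_sup_left (sup_le hsn2.1 hEbC)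
  rcases rel_le_or_commutator_eq_bot hJbq hsnH le_sup_right (sup_le hJbN le_normalizer)
    with h | h
  · exfalso
    have h6 : Nat.card ↥(J.map π) ∣ Nat.card ↥E :=
      (Subgroup.card_dvd_of_le h).trans (Subgroup.card_map_dvd E π)
    have h7 : (Nat.card ↥(J.map π)).Coprime 2 := Nat.Coprime.coprime_dvd_left h6 hEodd
    have := h1.1.subsingleton_of_coprime h7
    exact not_subsingleton _ this
  · have h6 : (⁅J, E⁆).map π = ⊥ := by rw [Subgroup.map_commutator, h]
    have := (Subgroup.map_eq_bot_iff ⁅J, E⁆).mp h6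
    rwa [hπ, QuotientGroup.ker_mk'] at this

end Cfsg.Agent.Helper22.DLayer
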