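import Mathlib
import Cfsg.Agent.Lib.Helper52.FCDefs
import Cfsg.Agent.Lib.Helper52.Coprime

set_option autoImplicit false
set_option linter.unusedVariables false
set_option linter.unusedSectionVars false

namespace Cfsg.Agent.Helper22.FC

open Subgroup Cfsg.Agent.Helper52.FC
open scoped commutatorElement

universe u

variable {G : Type u} [Group G]

/-- expansion of a commutator in `N ⋊ L` with `[N, L]` central and `N` abelian -/
theorem h22_comm_expand (y m y' m' z1 z2 : G) (hz1 : z1 = ⁅m, y'⁆) (hz2 : z2 = ⁅y, m'⁆)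
    (hmm : m * m' = m' * m) (h1 : z1 * y = y * z1) (h2 : z2 * y' = y' * z2) :
    ⁅y * m, y' * m'⁆ = z1 * ⁅y, y'⁆ * z2 := by
  have e1 : m * y' = z1 * y' * m := by
    rw [hz1, commutatorElement_def]
    group
  have e2 : m * m' * m⁻¹ = m' := by
    rw [hmm]
    group
  have e3 : m' * y⁻¹ = y⁻¹ * z2 * m' := by
    rw [hz2, commutatorElement_def]
    group
  have e4 : z2 * y'⁻¹ = y'⁻¹ * z2 := by
    calc z2 * y'⁻¹ = y'⁻¹ * (y' * z2) * y'⁻¹ := by group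
      _ = y'⁻¹ * (z2 * y') * y'⁻¹ := by rw [h2]
      _ = y'⁻¹ * z2 := by group
  calc ⁅y * m, y' * m'⁆
      = y * (m * y') * m' * m⁻¹ * y⁻¹ * m'⁻¹ * y'⁻¹ := by
        rw [commutatorElement_def]
        group
    _ = y * (z1 * y' * m) * m' * m⁻¹ * y⁻¹ * m'⁻¹ * y'⁻¹ := by rw [e1]
    _ = (y * z1) * y' * (m * m' * m⁻¹) * y⁻¹ * m'⁻¹ * y'⁻¹ := by group
    _ = (z1 * y) * y' * m' * y⁻¹ * m'⁻¹ * y'⁻¹ := by rw [← h1, e2]
    _ = z1 * y * y' * (m' * y⁻¹) * m'⁻¹ * y'⁻¹ := by group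
    _ = z1 * y * y' * (y⁻¹ * z2 * m') * m'⁻¹ * y'⁻¹ := by rw [e3]
    _ = z1 * (y * y' * y⁻¹) * (z2 * y'⁻¹) := by group
    _ = z1 * (y * y' * y⁻¹) * (y'⁻¹ * z2) := by rw [e4]
    _ = z1 * ⁅y, y'⁆ * z2 := by
        rw [commutatorElement_def]
        group

/-- a central factor does not change a commutator -/
theorem h22_comm_mul_central (w ζ y : G) (h : ζ * y = y * ζ) : ⁅w * ζ, y⁆ = ⁅w, y⁆ := by
  rw [commutatorElement_def, commutatorElement_def]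
  calc w * ζ * y * (w * ζ)⁻¹ * y⁻¹ = w * (ζ * y) * ζ⁻¹ * w⁻¹ * y⁻¹ := by group
    _ = w * (y * ζ) * ζ⁻¹ * w⁻¹ * y⁻¹ := by rw [h]
    _ = w * y * w⁻¹ * y⁻¹ := by group

theorem h22_inv_iff_map (a : G) (X : Subgroup G) :
    Inv a X ↔ X.map (MulAut.conj a).toMonoidHom ≤ X := by
  constructor
  · rintro h _ ⟨x, hx, rfl⟩
    exact h x hx
  · intro h x hx
    exact h ⟨x, hx, rfl⟩

theorem h22_inv_sup (a : G) (X Y : Subgroup G) (hX : Inv a X) (hY : Inv a Y) : Inv a (X ⊔ Y) := by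
  rw [h22_inv_iff_map] at hX hY ⊢
  rw [Subgroup.map_sup]
  exact sup_le_sup hX hY

theorem h22_inv_commutator (a : G) (X : Subgroup G) (hX : Inv a X) : Inv a ⁅X, X⁆ := by
  rw [h22_inv_iff_map] at hX ⊢
  rw [Subgroup.map_commutator]
  exact Subgroup.commutator_mono hX hX

theorem h22_zpowers_le_normalizer [Finite G] (a : G) (X : Subgroup G) (hX : Inv a X) :
    zpowers a ≤ normalizer (X : Set G) := by
  rw [zpowers_le]
  exact mem_normalizer_fintype (fun n hn => hX n hn)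

/-- key lemma: the derived subgroup of `[h,P]`, `h ∈ L N`, lies in `L` -/
theorem h22_derived_le [Finite G] {p : ℕ} {a : G} {H : Subgroup G} (mx : MCX p G a H)
    (hZs : ZZ a H ⊓ star a H = ⊥)
    (N : Subgroup G) (hNH : N ≤ H) (hNn : NormBy H N) (hNa : Inv a N) (hNab : Ab N)
    (L : Subgroup G) (hLH : L ≤ H) (hLa : Inv a L) (hLne : L ≠ H) (hLc : comm a L = L)
    (hc : ∀ n ∈ N, ∀ y ∈ L, n * y * n⁻¹ * y⁻¹ ∈ ZZ a H)
    (h : G) (hh : h ∈ L ⊔ N) : ⁅Lh a h, Lh a h⁆ ≤ L := by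
  have hyp := mx.mc.hyp
  have hXH : L ⊔ N ≤ H := sup_le hLH hNH
  have hhH : h ∈ H := hXH hh
  -- facts on `Z`
  have hZH : ∀ z ∈ ZZ a H, z ∈ H := fun z hz => hz.1.1
  have hZa : ∀ z ∈ ZZ a H, z * a = a * z := fun z hz =>
    Subgroup.mem_centralizer_singleton_iff.mp hz.1.2
  have hZc : ∀ z ∈ ZZ a H, ∀ x ∈ H, z * x = x * z := fun z hz x hx =>
    ((Subgroup.mem_centralizer_iff.mp hz.2) x hx).symm
  have hLfix : L ⊓ Fix a ≤ star a H := by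
    have := mx.proper L hLH hLne hLa
    rwa [hLc] at this
  -- elements of `L ⊔ N`
  have hLN : L ≤ normalizer (N : Set G) := by
    intro y hy
    exact mem_normalizer_fintype (fun n hn => hNn y (hLH hy) n hn)
  have hXmem : ∀ x ∈ L ⊔ N, ∃ y ∈ L, ∃ m ∈ N, x = y * m := by
    intro x hx
    have h1 : x ∈ ((L ⊔ N : Subgroup G) : Set G) := hx
    rw [Subgroup.coe_mul_of_left_le_normalizer_right L N hLN] at h1
    obtain ⟨y, hy, m, hm, rfl⟩ := Set.mem_mul.mp h1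
    exact ⟨y, hy, m, hm, rfl⟩
  -- elements of `L ⊔ Z`
  have hLZ : L ≤ normalizer ((ZZ a H : Subgroup G) : Set G) := by
    intro y hy
    apply mem_normalizer_fintype
    intro z hz
    have : y * z * y⁻¹ = z := by
      rw [← hZc z hz y (hLH hy)]
      group
    rw [this]
    exact hz
  have hTmem : ∀ x ∈ L ⊔ ZZ a H, ∃ y ∈ L, ∃ z ∈ ZZ a H, x = y * z := by
    intro x hx
    have h1 : x ∈ ((L ⊔ ZZ a H : Subgroup G) : Set G) := hx
    rw [Subgroup.coe_mul_of_left_le_normalizer_right L (ZZ a H) hLZ] at h1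
    obtain ⟨y, hy, z, hz, rfl⟩ := Set.mem_mul.mp h1
    exact ⟨y, hy, z, hz, rfl⟩
  -- the derived subgroup of `L ⊔ N` lies in `L ⊔ Z`
  have hXT : ⁅L ⊔ N, L ⊔ N⁆ ≤ L ⊔ ZZ a H := by
    rw [Subgroup.commutator_le]
    intro g₁ hg₁ g₂ hg₂
    obtain ⟨y, hy, m, hm, rfl⟩ := hXmem g₁ hg₁
    obtain ⟨y', hy', m', hm', rfl⟩ := hXmem g₂ hg₂
    have hz1 : ⁅m, y'⁆ ∈ ZZ a H := by
      rw [commutatorElement_def]
      exact hc m hm y' hy'
    have hz2 : ⁅y, m'⁆ ∈ ZZ a H := by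
      rw [← commutatorElement_inv]
      apply inv_mem
      rw [commutatorElement_def]
      exact hc m' hm' y hy
    rw [h22_comm_expand y m y' m' ⁅m, y'⁆ ⁅y, m'⁆ rfl rfl (hNab m hm m' hm')
      (hZc _ hz1 y (hLH hy)) (hZc _ hz2 y' (hLH hy'))]
    refine mul_mem (mul_mem ?_ ?_) ?_
    · exact (le_sup_right : ZZ a H ≤ L ⊔ ZZ a H) hz1
    · exact (le_sup_left : L ≤ L ⊔ ZZ a H) (Subgroup.commutator_mem_commutator hy hy' |>
        (Subgroup.commutator_le_self L) )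
    · exact (le_sup_right : ZZ a H ≤ L ⊔ ZZ a H) hz2
  have hXinv : Inv a (L ⊔ N) := h22_inv_sup a L N hLa hNa
  have hKX : Lh a h ≤ L ⊔ N := mx.Lh_le (L ⊔ N) hXinv h hh
  have hMT : ⁅Lh a h, Lh a h⁆ ≤ L ⊔ ZZ a H :=
    le_trans (Subgroup.commutator_mono hKX hKX) hXT
  have hMK : ⁅Lh a h, Lh a h⁆ ≤ Lh a h := Subgroup.commutator_le_self _
  have hMinv : Inv a ⁅Lh a h, Lh a h⁆ := h22_inv_commutator a _ (mx.Lh_inv h)
  have hMH : ⁅Lh a h, Lh a h⁆ ≤ H := le_trans hMK (le_trans hKX hXH)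
  have hPM : zpowers a ≤ normalizer ((⁅Lh a h, Lh a h⁆ : Subgroup G) : Set G) :=
    h22_zpowers_le_normalizer a _ hMinv
  have hcop : (Nat.card (zpowers a)).Coprime (Nat.card ↥(⁅Lh a h, Lh a h⁆ : Subgroup G)) := by
    have h1 : Nat.card (zpowers a) ∣ p := by
      rw [Nat.card_zpowers]
      exact orderOf_dvd_of_pow_eq_one hyp.pow
    have h2 : Nat.card ↥(⁅Lh a h, Lh a h⁆ : Subgroup G) ∣ Nat.card H := Subgroup.card_dvd_of_le hMH
    exact Nat.Coprime.coprime_dvd_left h1 (Nat.Coprime.coprime_dvd_right h2 hyp.cop.symm)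
  have hdec := Cfsg.Agent.Helper52.eq_commutator_sup_centralizer ⁅Lh a h, Lh a h⁆ (zpowers a) hPM
    hcop (Or.inl inferInstance)
  rw [hdec]
  apply sup_le
  · rw [Subgroup.commutator_le]
    intro g hg b hb
    obtain ⟨y, hy, z, hz, rfl⟩ := hTmem g (hMT hg)
    have hzb : z * b = b * z := by
      have h1 : zpowers a ≤ centralizer {z} := by
        rw [zpowers_le, Subgroup.mem_centralizer_singleton_iff]
        exact (hZa z hz).symm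
      exact (Subgroup.mem_centralizer_singleton_iff.mp (h1 hb)).symm
    have hbL : b * y⁻¹ * b⁻¹ ∈ L := by
      have hbn := h22_zpowers_le_normalizer a L hLa hb
      exact (Subgroup.mem_normalizer_iff.mp hbn y⁻¹).mp (inv_mem hy)
    have h2 : ⁅y * z, b⁆ = y * (b * y⁻¹ * b⁻¹) := by
      rw [commutatorElement_def]
      calc y * z * b * (y * z)⁻¹ * b⁻¹ = y * (z * b) * z⁻¹ * y⁻¹ * b⁻¹ := by group
        _ = y * (b * z) * z⁻¹ * y⁻¹ * b⁻¹ := by rw [hzb]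
        _ = y * (b * y⁻¹ * b⁻¹) := by group
    rw [h2]
    exact mul_mem hy hbL
  · rintro g ⟨hg, hgc⟩
    obtain ⟨y, hy, z, hz, rfl⟩ := hTmem g (hMT hg)
    have hga : a * (y * z) = (y * z) * a :=
      (Subgroup.mem_centralizer_iff.mp hgc) a (mem_zpowers a)
    have hya : y * a = a * y := by
      have hz' := hZa z hz
      have h1 : a * y * z = y * a * z := by
        calc a * y * z = a * (y * z) := by group
          _ = y * z * a := hga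
          _ = y * (z * a) := by group
          _ = y * (a * z) := by rw [hz']
          _ = y * a * z := by group
      exact (mul_right_cancel h1).symm
    have hyF : y ∈ L ⊓ Fix a := ⟨hy, Subgroup.mem_centralizer_singleton_iff.mpr hya⟩
    have hys : y ∈ star a H := hLfix hyF
    have hgF : y * z ∈ Lh a h ⊓ Fix a :=
      ⟨hMK hg, Subgroup.mem_centralizer_singleton_iff.mpr hga.symm⟩
    have hgs : y * z ∈ star a H := mx.Lh_fix h hhH hgF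
    have hzs : z ∈ star a H := by
      have h1 : z = y⁻¹ * (y * z) := by group
      rw [h1]
      exact mul_mem (inv_mem hys) hgs
    have hz1 : z = 1 := by
      have h1 : z ∈ ZZ a H ⊓ star a H := ⟨hz, hzs⟩
      rw [hZs] at h1
      exact (Subgroup.mem_bot).mp h1
    rw [hz1, mul_one]
    exact hy

/-- (R2-ID) -/
theorem r2_identity [Finite G] {p : ℕ} {a : G} {H : Subgroup G} (mx : MCX p G a H) (hZs : ZZ a H ⊓ star a H = ⊥)
    (N : Subgroup G) (hNH : N ≤ H) (hNn : NormBy H N) (hNa : Inv a N) (hNab : Ab N)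
    (L : Subgroup G) (hLH : L ≤ H) (hLa : Inv a L) (hLne : L ≠ H) (hLc : comm a L = L) (hNL' : N ⊓ L = ⊥)
    (hc : ∀ n ∈ N, ∀ y ∈ L, n * y * n⁻¹ * y⁻¹ ∈ ZZ a H)
    (n : G) (hn : n ∈ N) (l : G) (hl : l ∈ L) (i j : ℕ) :
    ⁅n⁻¹ * (a ^ i * n * (a ^ i)⁻¹), l⁻¹ * (a ^ j * l * (a ^ j)⁻¹)⁆ = ⁅n⁻¹ * (a ^ j * n * (a ^ j)⁻¹), l⁻¹ * (a ^ i * l * (a ^ i)⁻¹)⁆ := by
  have hZc : ∀ z ∈ ZZ a H, ∀ x ∈ H, z * x = x * z := fun z hz x hx =>
    ((Subgroup.mem_centralizer_iff.mp hz.2) x hx).symm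
  have hh : n * l ∈ L ⊔ N := mul_mem ((le_sup_right : N ≤ L ⊔ N) hn) ((le_sup_left : L ≤ L ⊔ N) hl)
  have hM := h22_derived_le mx hZs N hNH hNn hNa hNab L hLH hLa hLne hLc hc (n * l) hh
  -- conjugates by powers of `a`
  have hLpow : ∀ k : ℕ, ∀ x ∈ L, a ^ k * x * (a ^ k)⁻¹ ∈ L := by
    intro k x hx
    have hbn := h22_zpowers_le_normalizer a L hLa (Subgroup.pow_mem _ (mem_zpowers a) k)
    exact (Subgroup.mem_normalizer_iff.mp hbn x).mp hx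
  have hNpow : ∀ k : ℕ, ∀ x ∈ N, a ^ k * x * (a ^ k)⁻¹ ∈ N := by
    intro k x hx
    have hbn := h22_zpowers_le_normalizer a N hNa (Subgroup.pow_mem _ (mem_zpowers a) k)
    exact (Subgroup.mem_normalizer_iff.mp hbn x).mp hx
  -- decomposition of the generators of `Lh a (n * l)`
  have key : ∀ k : ℕ, ∃ m ∈ N, ∃ ζ ∈ ZZ a H,
      (n * l)⁻¹ * (a ^ k * (n * l) * (a ^ k)⁻¹) = (l⁻¹ * (a ^ k * l * (a ^ k)⁻¹)) * m ∧
      m = (n⁻¹ * (a ^ k * n * (a ^ k)⁻¹)) * ζ := by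
    intro k
    obtain ⟨A, hA⟩ : ∃ A, A = a ^ k := ⟨_, rfl⟩
    rw [← hA]
    have hlk : A * l * A⁻¹ ∈ L := by rw [hA]; exact hLpow k l hl
    have hnk : A * n * A⁻¹ ∈ N := by rw [hA]; exact hNpow k n hn
    have hw : n⁻¹ * (A * n * A⁻¹) ∈ N := mul_mem (inv_mem hn) hnk
    refine ⟨(A * l * A⁻¹)⁻¹ * (n⁻¹ * (A * n * A⁻¹)) * (A * l * A⁻¹), ?_,
      (n⁻¹ * (A * n * A⁻¹))⁻¹ * (A * l * A⁻¹)⁻¹ * (n⁻¹ * (A * n * A⁻¹)) * (A * l * A⁻¹), ?_, ?_, ?_⟩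
    · have h1 := hNn (A * l * A⁻¹)⁻¹ (hLH (inv_mem hlk)) _ hw
      rwa [inv_inv] at h1
    · have h1 := hc (n⁻¹ * (A * n * A⁻¹))⁻¹ (inv_mem hw) (A * l * A⁻¹)⁻¹ (inv_mem hlk)
      rwa [inv_inv, inv_inv] at h1
    · group
    · group
  obtain ⟨mi, hmiN, ζi, hζi, hgi, hmi⟩ := key i
  obtain ⟨mj, hmjN, ζj, hζj, hgj, hmj⟩ := key j
  have hyi : l⁻¹ * (a ^ i * l * (a ^ i)⁻¹) ∈ L := mul_mem (inv_mem hl) (hLpow i l hl)
  have hyj : l⁻¹ * (a ^ j * l * (a ^ j)⁻¹) ∈ L := mul_mem (inv_mem hl) (hLpow j l hl)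
  obtain ⟨yi, hyi'⟩ : ∃ yi, yi = l⁻¹ * (a ^ i * l * (a ^ i)⁻¹) := ⟨_, rfl⟩
  obtain ⟨yj, hyj'⟩ : ∃ yj, yj = l⁻¹ * (a ^ j * l * (a ^ j)⁻¹) := ⟨_, rfl⟩
  obtain ⟨wi, hwi'⟩ : ∃ wi, wi = n⁻¹ * (a ^ i * n * (a ^ i)⁻¹) := ⟨_, rfl⟩
  obtain ⟨wj, hwj'⟩ : ∃ wj, wj = n⁻¹ * (a ^ j * n * (a ^ j)⁻¹) := ⟨_, rfl⟩
  rw [← hyi'] at hyi hgi
  rw [← hyj'] at hyj hgj
  rw [← hwi'] at hmi
  rw [← hwj'] at hmj
  rw [← hyi', ← hyj', ← hwi', ← hwj']
  -- the commutator of two generators lies in `L`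
  have hcomm : ⁅yi * mi, yj * mj⁆ ∈ L := by
    rw [← hgi, ← hgj]
    apply hM
    apply Subgroup.commutator_mem_commutator
    · exact Subgroup.subset_closure ⟨i, rfl⟩
    · exact Subgroup.subset_closure ⟨j, rfl⟩
  have hz1 : ⁅mi, yj⁆ ∈ ZZ a H := by
    rw [commutatorElement_def]
    exact hc mi hmiN yj hyj
  have hz2 : ⁅yi, mj⁆ ∈ ZZ a H := by
    rw [← commutatorElement_inv]
    apply inv_mem
    rw [commutatorElement_def]
    exact hc mj hmjN yi hyi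
  rw [h22_comm_expand yi mi yj mj ⁅mi, yj⁆ ⁅yi, mj⁆ rfl rfl (hNab mi hmiN mj hmjN)
    (hZc _ hz1 yi (hLH hyi)) (hZc _ hz2 yj (hLH hyj))] at hcomm
  have hyy : ⁅yi, yj⁆ ∈ L := Subgroup.commutator_le_self L (Subgroup.commutator_mem_commutator hyi hyj)
  -- `z1 * z2 ∈ L ⊓ N = ⊥`
  have hzzL : ⁅mi, yj⁆ * ⁅yi, mj⁆ ∈ L := by
    have h1 : ⁅mi, yj⁆ * ⁅yi, mj⁆ = ⁅yi, yj⁆⁻¹ * (⁅mi, yj⁆ * ⁅yi, yj⁆ * ⁅yi, mj⁆) := by
      rw [hZc _ hz1 _ (hLH hyy)]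
      group
    rw [h1]
    exact mul_mem (inv_mem hyy) hcomm
  have hzzN : ⁅mi, yj⁆ * ⁅yi, mj⁆ ∈ N := by
    apply mul_mem
    · rw [commutatorElement_def]
      have h1 := hNn yj (hLH hyj) mi⁻¹ (inv_mem hmiN)
      have h2 : mi * yj * mi⁻¹ * yj⁻¹ = mi * (yj * mi⁻¹ * yj⁻¹) := by group
      rw [h2]
      exact mul_mem hmiN h1
    · rw [commutatorElement_def]
      have h1 := hNn yi (hLH hyi) mj hmjN
      exact mul_mem h1 (inv_mem hmjN)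
  have hzz1 : ⁅mi, yj⁆ * ⁅yi, mj⁆ = 1 := by
    have h1 : ⁅mi, yj⁆ * ⁅yi, mj⁆ ∈ N ⊓ L := ⟨hzzN, hzzL⟩
    rw [hNL'] at h1
    exact Subgroup.mem_bot.mp h1
  have hfin : ⁅mi, yj⁆ = ⁅mj, yi⁆ := by
    rw [← commutatorElement_inv yi mj]
    exact eq_inv_of_mul_eq_one_left hzz1
  rw [hmi, hmj, h22_comm_mul_central wi ζi yj (hZc ζi hζi yj (hLH hyj)),
    h22_comm_mul_central wj ζj yi (hZc ζj hζj yi (hLH hyi))] at hfin
  exact hfin

end Cfsg.Agent.Helper22.FC
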