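import Mathlib
import Cfsg.Agent.Lib.Helper52.FLDefs

set_option autoImplicit false
set_option linter.unusedSectionVars false
set_option linter.unusedVariables false

namespace Cfsg.Agent.Helper22.FL

open Cfsg.Agent.Helper52.FL

variable {G : Type*} [Group G]

theorem h22_cj_mul (g k : G) (H : Subgroup G) : cj (g * k) H = cj g (cj k H) := by
  ext x
  rw [mem_cj, mem_cj, mem_cj]
  have e : (g * k)⁻¹ * x * (g * k) = k⁻¹ * (g⁻¹ * x * g) * k := by group
  rw [e]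

theorem h22_cj_one (H : Subgroup G) : cj 1 H = H := by
  ext x
  rw [mem_cj]
  simp

theorem h22_mem_normalizer_iff_cj (g : G) (H : Subgroup G) :
    g ∈ Subgroup.normalizer (H : Set G) ↔ cj g H = H := by
  constructor
  · intro hg
    have hg' : g⁻¹ ∈ Subgroup.normalizer (H : Set G) := inv_mem hg
    rw [Subgroup.mem_normalizer_iff] at hg'
    ext x
    rw [mem_cj]
    have := hg' x
    rw [inv_inv] at this
    exact this.symm
  · intro h
    have hinv : ∀ x, x ∈ H ↔ g⁻¹ * x * g ∈ H := by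
      intro x
      have := mem_cj (g := g) (x := x) (H := H)
      rw [h] at this
      exact this
    rw [Subgroup.mem_normalizer_iff]
    intro x
    have := hinv (g * x * g⁻¹)
    have e : g⁻¹ * (g * x * g⁻¹) * g = x := by group
    rw [e] at this
    exact this.symm

theorem h22_cj_mono (g : G) {H K : Subgroup G} (h : H ≤ K) : cj g H ≤ cj g K :=
  Subgroup.map_mono h

theorem h22_cj_sup (g : G) (H K : Subgroup G) : cj g (H ⊔ K) = cj g H ⊔ cj g K :=
  Subgroup.map_sup H K _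

theorem h22_cj_inf (g : G) (H K : Subgroup G) : cj g (H ⊓ K) = cj g H ⊓ cj g K := by
  ext x
  rw [mem_cj, Subgroup.mem_inf, Subgroup.mem_inf, mem_cj, mem_cj]

theorem h22_normalizer_sup_le {X H K : Subgroup G}
    (hH : X ≤ Subgroup.normalizer (H : Set G)) (hK : X ≤ Subgroup.normalizer (K : Set G)) :
    X ≤ Subgroup.normalizer ((H ⊔ K : Subgroup G) : Set G) := by
  intro x hx
  rw [h22_mem_normalizer_iff_cj, h22_cj_sup, (h22_mem_normalizer_iff_cj x H).1 (hH hx),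
    (h22_mem_normalizer_iff_cj x K).1 (hK hx)]

theorem h22_normalizer_inf_le {X H K : Subgroup G}
    (hH : X ≤ Subgroup.normalizer (H : Set G)) (hK : X ≤ Subgroup.normalizer (K : Set G)) :
    X ≤ Subgroup.normalizer ((H ⊓ K : Subgroup G) : Set G) := by
  intro x hx
  rw [h22_mem_normalizer_iff_cj, h22_cj_inf, (h22_mem_normalizer_iff_cj x H).1 (hH hx),
    (h22_mem_normalizer_iff_cj x K).1 (hK hx)]

/-- (CC2) from (CC1) and (NQ) as hypotheses. -/
theorem h22_le_conj_core {A Q V : Subgroup G} {r s : ℕ} (h : Ctx A Q V r s) (B : Subgroup G)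
    (hBY : B ≤ A ⊔ V)
    (hCC1 : ∃ w ∈ V, (B ⊔ Dsub Q V) ⊓ (V ⊔ Q) = cj w (Q ⊔ Dsub Q V))
    (hNQ : ∀ y ∈ A ⊔ V, y ∈ Subgroup.normalizer ((Q ⊔ Dsub Q V : Subgroup G) : Set G) →
      y ∈ A ⊔ Dsub Q V) :
    ∃ w ∈ V, B ≤ cj w (A ⊔ Dsub Q V) := by
  obtain ⟨w, hwV, hR⟩ := hCC1
  refine ⟨w, hwV, ?_⟩
  intro b hb
  rw [mem_cj]
  apply hNQ
  · -- w⁻¹ b w ∈ A ⊔ V
    have hw : w ∈ A ⊔ V := (le_sup_right : V ≤ A ⊔ V) hwV
    exact mul_mem (mul_mem (inv_mem hw) (hBY hb)) hw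
  · -- w⁻¹ b w normalises Q ⊔ D
    have hVQ : A ⊔ V ≤ Subgroup.normalizer ((V ⊔ Q : Subgroup G) : Set G) := by
      apply sup_le
      · exact h22_normalizer_sup_le h.hAV h.hAQ
      · exact le_trans le_sup_left Subgroup.le_normalizer
    have hb1 : b ∈ Subgroup.normalizer ((B ⊔ Dsub Q V : Subgroup G) : Set G) :=
      Subgroup.le_normalizer ((le_sup_left : B ≤ B ⊔ Dsub Q V) hb)
    have hb2 : b ∈ Subgroup.normalizer ((V ⊔ Q : Subgroup G) : Set G) := hVQ (hBY hb)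
    have hbR : cj b ((B ⊔ Dsub Q V) ⊓ (V ⊔ Q)) = (B ⊔ Dsub Q V) ⊓ (V ⊔ Q) := by
      rw [h22_cj_inf, (h22_mem_normalizer_iff_cj b _).1 hb1, (h22_mem_normalizer_iff_cj b _).1 hb2]
    rw [hR] at hbR
    rw [h22_mem_normalizer_iff_cj]
    have e : w⁻¹ * b * w = w⁻¹ * (b * w) := by group
    rw [e, h22_cj_mul, h22_cj_mul, hbR, ← h22_cj_mul, inv_mul_cancel, h22_cj_one]

end Cfsg.Agent.Helper22.FL
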