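import Mathlib
import Cfsg.Agent.Lib.Helper52.FLDefs
import Cfsg.Agent.Lib.Helper52.Coprime
import Cfsg.Agent.Lib.Helper22.FLCC2Core

set_option autoImplicit false
set_option linter.unusedSectionVars false
set_option linter.unusedVariables false
set_option linter.style.haveILetI false

namespace Cfsg.Agent.Helper22.FL

open Cfsg.Agent.Helper52.FL

variable {G : Type*} [Group G] [Finite G]

theorem h22_relIndex_mul_card {K L : Subgroup G} (h : K ≤ L) :
    K.relIndex L * Nat.card K = Nat.card L := by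
  have := Subgroup.relIndex_mul_relIndex (⊥ : Subgroup G) K L bot_le h
  rw [Subgroup.relIndex_bot_left, Subgroup.relIndex_bot_left] at this
  rw [mul_comm]; exact this

/-- product formula: if `K` normalizes `H` then `|HK| |H ∩ K| = |H| |K|`. -/
theorem h22_card_sup_mul_card_inf (H K : Subgroup G)
    (hK : K ≤ Subgroup.normalizer (H : Set G)) :
    Nat.card ↥(H ⊔ K) * Nat.card ↥(H ⊓ K) = Nat.card H * Nat.card K := by
  set N := Subgroup.normalizer (H : Set G) with hN
  have hHN : H ≤ N := Subgroup.le_normalizer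
  have : (H.subgroupOf N).Normal := Subgroup.normal_in_normalizer
  have hKH : K ⊔ H ≤ N := sup_le hK hHN
  have h1 : (H.subgroupOf N).relIndex (K.subgroupOf N ⊔ H.subgroupOf N) =
      (H.subgroupOf N).relIndex (K.subgroupOf N) := Subgroup.relIndex_sup_right _ _
  rw [← Subgroup.subgroupOf_sup hK hHN, Subgroup.relIndex_subgroupOf hKH,
    Subgroup.relIndex_subgroupOf hK] at h1
  have h2 : H.relIndex (K ⊔ H) * Nat.card H = Nat.card ↥(K ⊔ H) :=
    h22_relIndex_mul_card le_sup_right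
  have h3 : H.relIndex K * Nat.card ↥(H ⊓ K) = Nat.card K := by
    rw [← Subgroup.inf_relIndex_right]; exact h22_relIndex_mul_card inf_le_right
  rw [sup_comm, ← h2, ← h3, h1]; ring

theorem h22_normalizer_centralizer {Q : Subgroup G} :
    Subgroup.normalizer (Q : Set G) ≤
      Subgroup.normalizer ((Subgroup.centralizer (Q : Set G) : Subgroup G) : Set G) := by
  intro a ha
  have key : ∀ b : G, b ∈ Subgroup.normalizer (Q : Set G) →
      ∀ x ∈ Subgroup.centralizer (Q : Set G), b * x * b⁻¹ ∈ Subgroup.centralizer (Q : Set G) := by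
    intro b hb x hx
    rw [Subgroup.mem_centralizer_iff] at hx ⊢
    intro q hq
    have hq' : b⁻¹ * q * b ∈ Q := by
      have := (Subgroup.mem_normalizer_iff.1 (inv_mem hb) q).1 hq
      simpa using this
    have := hx _ hq'
    calc q * (b * x * b⁻¹) = b * ((b⁻¹ * q * b) * x) * b⁻¹ := by group
      _ = b * (x * (b⁻¹ * q * b)) * b⁻¹ := by rw [this]
      _ = b * x * b⁻¹ * q := by group
  rw [Subgroup.mem_normalizer_iff]
  intro x
  constructor
  · exact key a ha x
  · intro hx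
    have := key a⁻¹ (inv_mem ha) _ hx
    have e : a⁻¹ * (a * x * a⁻¹) * a⁻¹⁻¹ = x := by group
    rwa [e] at this

/-- (CC1) with (DNOR) and the first part of (INT) as hypotheses. -/
theorem h22_exists_conj_Q_core {A Q V : Subgroup G} {r s : ℕ} [hr : Fact r.Prime] [hs : Fact s.Prime]
    (h : Ctx A Q V r s) (hDN : V ≤ Subgroup.normalizer (Dsub Q V : Set G)) (hQV : Q ⊓ V = ⊥)
    (B : Subgroup G) (hBY : B ≤ A ⊔ V) (hBV : B ⊔ V = A ⊔ V) (hBD : B ⊓ V ≤ Dsub Q V) :
    ∃ w ∈ V, (B ⊔ Dsub Q V) ⊓ (V ⊔ Q) = cj w (Q ⊔ Dsub Q V) := by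
  set D := Dsub Q V with hD
  have hDV : D ≤ V := inf_le_left
  have hDC : D ≤ Subgroup.centralizer (Q : Set G) := inf_le_right
  -- normalisers
  have hAD : A ≤ Subgroup.normalizer (D : Set G) :=
    h22_normalizer_inf_le h.hAV (le_trans h.hAQ h22_normalizer_centralizer)
  have hYD : A ⊔ V ≤ Subgroup.normalizer (D : Set G) := sup_le hAD hDN
  have hYV : A ⊔ V ≤ Subgroup.normalizer (V : Set G) := sup_le h.hAV Subgroup.le_normalizer
  have hBnD : B ≤ Subgroup.normalizer (D : Set G) := le_trans hBY hYD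
  have hBnV : B ≤ Subgroup.normalizer (V : Set G) := le_trans hBY hYV
  have hQnV : Q ≤ Subgroup.normalizer (V : Set G) := le_trans h.hQA h.hAV
  have hVQY : V ⊔ Q ≤ A ⊔ V := sup_le le_sup_right (le_trans h.hQA le_sup_left)
  set R := (B ⊔ D) ⊓ (V ⊔ Q) with hR
  have hRVQ : R ≤ V ⊔ Q := inf_le_right
  have hDR : D ≤ R := le_inf le_sup_right (le_trans hDV le_sup_left)
  have hRnV : R ≤ Subgroup.normalizer (V : Set G) := le_trans hRVQ (le_trans hVQY hYV)
  have hRnD : R ≤ Subgroup.normalizer (D : Set G) := le_trans hRVQ (le_trans hVQY hYD)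
  -- Step 1: R ⊓ V = D
  have h1 : V ⊓ R = D := by
    apply le_antisymm
    · intro x hx
      obtain ⟨hxV, hxR⟩ := Subgroup.mem_inf.1 hx
      have hxBD : x ∈ B ⊔ D := (Subgroup.mem_inf.1 hxR).1
      have hx' : x ∈ ((B ⊔ D : Subgroup G) : Set G) := hxBD
      rw [Subgroup.coe_mul_of_left_le_normalizer_right B D hBnD] at hx'
      obtain ⟨b, hb, d, hd, rfl⟩ := Set.mem_mul.1 hx'
      have hbV : b ∈ V := by
        have := mul_mem hxV (inv_mem (hDV hd))
        simpa using this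
      have hbD : b ∈ D := hBD (Subgroup.mem_inf.2 ⟨hb, hbV⟩)
      exact mul_mem hbD hd
    · exact le_inf hDV hDR
  -- Step 2: V ⊔ R = V ⊔ Q
  have h2 : V ⊔ R = V ⊔ Q := by
    apply le_antisymm
    · exact sup_le le_sup_left hRVQ
    · apply sup_le le_sup_left
      intro q hq
      have hqY : q ∈ B ⊔ V := by rw [hBV]; exact (le_sup_left : A ≤ A ⊔ V) (h.hQA hq)
      have hq' : q ∈ ((B ⊔ V : Subgroup G) : Set G) := hqY
      rw [Subgroup.coe_mul_of_left_le_normalizer_right B V hBnV] at hq'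
      obtain ⟨b, hb, v, hv, hbv⟩ := Set.mem_mul.1 hq'
      have hbq : b = q * v⁻¹ := by rw [← hbv]; group
      have hbR : b ∈ R := by
        refine Subgroup.mem_inf.2 ⟨(le_sup_left : B ≤ B ⊔ D) hb, ?_⟩
        rw [hbq]
        exact mul_mem ((le_sup_right : Q ≤ V ⊔ Q) hq) ((le_sup_left : V ≤ V ⊔ Q) (inv_mem hv))
      rw [← hbv]
      exact mul_mem ((le_sup_right : R ≤ V ⊔ R) hbR) ((le_sup_left : V ≤ V ⊔ R) hv)
  -- cardinalities
  obtain ⟨k, hk⟩ := IsPGroup.iff_card.1 h.hQ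
  obtain ⟨m, hm⟩ := IsPGroup.iff_card.1 h.hV
  have hDp : IsPGroup r D := h.hV.to_le hDV
  obtain ⟨m', hm'⟩ := IsPGroup.iff_card.1 hDp
  have hcop_sr : Nat.Coprime s r := (Nat.coprime_primes hs.out hr.out).2 (Ne.symm h.hrs)
  have hcVQ : Nat.card ↥(V ⊔ Q) = Nat.card V * Nat.card Q := by
    have := h22_card_sup_mul_card_inf V Q hQnV
    rw [inf_comm, hQV, Subgroup.card_bot, mul_one] at this
    exact this
  have hcR : Nat.card R = Nat.card Q * Nat.card D := by
    have := h22_card_sup_mul_card_inf V R hRnV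
    rw [h1, h2, hcVQ] at this
    have hVpos : 0 < Nat.card V := Nat.card_pos
    have e : Nat.card V * (Nat.card Q * Nat.card D) = Nat.card V * Nat.card R := by
      rw [← this]; ring
    exact (Nat.eq_of_mul_eq_mul_left hVpos e).symm
  -- Step 4: a subgroup of R of order |Q|
  have hdvd : s ^ k ∣ Nat.card R := by rw [hcR, hk]; exact dvd_mul_right _ _
  obtain ⟨K, hK⟩ := Sylow.exists_subgroup_card_pow_prime s hdvd
  set Q₁ := K.map R.subtype with hQ₁
  have hQ₁R : Q₁ ≤ R := by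
    rintro x ⟨y, _, rfl⟩
    exact y.2
  have hcQ₁ : Nat.card Q₁ = Nat.card Q := by
    rw [hQ₁, Subgroup.card_map_of_injective R.subtype_injective, hK, hk]
  -- Step 5: conjugate to Q by an element of V
  have hVsolv : Group.IsSolvable V := by
    haveI : Group.IsNilpotent V := h.hV.isNilpotent
    infer_instance
  have hcopVQ : (Nat.card V).Coprime (Nat.card Q) := by
    rw [hm, hk]
    exact Nat.Coprime.pow _ _ hcop_sr.symm
  obtain ⟨w, hwV, hw⟩ := Cfsg.Agent.Helper52.sz_conj_internal V Q Q₁ hQnV (Or.inl hVsolv) hcopVQ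
    hcQ₁ (le_trans hQ₁R hRVQ)
  refine ⟨w, hwV, ?_⟩
  -- Step 6
  have hwD : cj w D = D := (h22_mem_normalizer_iff_cj w D).1 (hDN hwV)
  have hcjQ : cj w Q = Q₁ := hw.symm
  rw [h22_cj_sup, hwD, hcjQ]
  symm
  apply Subgroup.eq_of_le_of_card_ge (sup_le hQ₁R hDR)
  have hQ₁nD : Q₁ ≤ Subgroup.normalizer (D : Set G) := le_trans hQ₁R hRnD
  have hcopQD : (Nat.card Q₁).Coprime (Nat.card D) := by
    rw [hcQ₁, hk, hm']
    exact Nat.Coprime.pow _ _ hcop_sr
  have hinf : D ⊓ Q₁ = ⊥ := (Subgroup.disjoint_of_coprime_natCard hcopQD.symm).eq_bot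
  have := h22_card_sup_mul_card_inf D Q₁ hQ₁nD
  rw [hinf, Subgroup.card_bot, mul_one] at this
  rw [sup_comm, this, hcR, hcQ₁, mul_comm]

end Cfsg.Agent.Helper22.FL
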