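import Mathlib
import Cfsg.Agent.Lib.Helper52.FLDefs
import Cfsg.Agent.Lib.Helper52.Coprime
import Cfsg.Agent.Lib.Helper22.FLCC2Core
import Cfsg.Agent.Lib.Helper22.FLCC1Core

set_option autoImplicit false
set_option linter.unusedSectionVars false
set_option linter.unusedVariables false
set_option linter.style.haveILetI false

namespace Cfsg.Agent.Helper22.FL

open Cfsg.Agent.Helper52.FL

variable {G : Type*} [Group G] [Finite G]

section CTX
variable {A Q V : Subgroup G} {r s : ℕ} [Fact r.Prime] [Fact s.Prime]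

/-- own copy of (DNOR) -/
theorem h22_D_normal (h : Ctx A Q V r s) : V ≤ Subgroup.normalizer (Dsub Q V : Set G) := by
  set D := Dsub Q V with hD
  have hDV : D ≤ V := inf_le_left
  have hAD : A ≤ Subgroup.normalizer (D : Set G) :=
    h22_normalizer_inf_le h.hAV (le_trans h.hAQ h22_normalizer_centralizer)
  have hDne : D ≠ V := by
    intro e
    apply h.hnc
    rw [← e]
    exact inf_le_right
  set NV := V ⊓ Subgroup.normalizer (D : Set G) with hNV
  have hANV : A ≤ Subgroup.normalizer (NV : Set G) :=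
    h22_normalizer_inf_le h.hAV (le_trans hAD Subgroup.le_normalizer)
  by_contra hcon
  have hNVne : NV ≠ V := by
    intro e
    apply hcon
    rw [← e]
    exact inf_le_right
  have hNVC := h.hmin NV inf_le_left hNVne hANV
  have hNVD : NV ≤ D := le_inf inf_le_left hNVC
  -- normaliser condition in V
  haveI : Group.IsNilpotent V := h.hV.isNilpotent
  have hlt : D.subgroupOf V < ⊤ := by
    rw [lt_top_iff_ne_top]
    intro e
    rw [Subgroup.subgroupOf_eq_top] at e
    exact hDne (le_antisymm hDV e)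
  have hnc := Group.normalizerCondition_of_isNilpotent (G := V) (D.subgroupOf V) hlt
  obtain ⟨x, hxN, hxD⟩ := SetLike.exists_of_lt hnc
  apply hxD
  rw [Subgroup.mem_subgroupOf]
  apply hNVD
  refine Subgroup.mem_inf.2 ⟨x.2, ?_⟩
  rw [Subgroup.mem_normalizer_iff] at hxN ⊢
  intro g
  constructor
  · intro hg
    have := (hxN ⟨g, hDV hg⟩).1 (by rw [Subgroup.mem_subgroupOf]; exact hg)
    rw [Subgroup.mem_subgroupOf] at this
    simpa using this
  · intro hg
    have hgV : g ∈ V := by
      have h1 : (x : G)⁻¹ * ((x : G) * g * (x : G)⁻¹) * (x : G) ∈ V :=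
        mul_mem (mul_mem (inv_mem x.2) (hDV hg)) x.2
      have e : (x : G)⁻¹ * ((x : G) * g * (x : G)⁻¹) * (x : G) = g := by group
      rwa [e] at h1
    have := (hxN ⟨g, hgV⟩).2 (by rw [Subgroup.mem_subgroupOf]; simpa using hg)
    rw [Subgroup.mem_subgroupOf] at this
    exact this

/-- own copy of the first part of (INT) -/
theorem h22_Q_inf_V (h : Ctx A Q V r s) : Q ⊓ V = ⊥ := by
  obtain ⟨k, hk⟩ := IsPGroup.iff_card.1 h.hQ
  obtain ⟨m, hm⟩ := IsPGroup.iff_card.1 h.hV
  have hr : r.Prime := Fact.out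
  have hs : s.Prime := Fact.out
  have hcop : (Nat.card Q).Coprime (Nat.card V) := by
    rw [hk, hm]
    exact Nat.Coprime.pow _ _ ((Nat.coprime_primes hs hr).2 (Ne.symm h.hrs))
  exact (Subgroup.disjoint_of_coprime_natCard hcop).eq_bot

theorem exists_conj_Q (h : Ctx A Q V r s) (B : Subgroup G) (hBY : B ≤ A ⊔ V) (hBV : B ⊔ V = A ⊔ V)
    (hBD : B ⊓ V ≤ Dsub Q V) :
    ∃ w ∈ V, (B ⊔ Dsub Q V) ⊓ (V ⊔ Q) = cj w (Q ⊔ Dsub Q V) :=
  h22_exists_conj_Q_core h (h22_D_normal h) (h22_Q_inf_V h) B hBY hBV hBD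

end CTX

end Cfsg.Agent.Helper22.FL
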