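import Mathlib
import Cfsg.Agent.Lib.Helper52.FLDefs
import Cfsg.Agent.Lib.Helper22.FLCC2Core
import Cfsg.Agent.Lib.Helper22.FLCC1Core

set_option autoImplicit false
set_option linter.unusedSectionVars false
set_option linter.unusedVariables false
set_option linter.style.haveILetI false

namespace Cfsg.Agent.Helper22.FL

open Cfsg.Agent.Helper52.FL

variable {G : Type*} [Group G] [Finite G]

/-- (NQ) with (CQ) and `Q ⊓ V = ⊥` as hypotheses. -/
theorem h22_normalizer_le_core {A Q V : Subgroup G} {r s : ℕ} (h : Ctx A Q V r s)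
    (hQV : Q ⊓ V = ⊥)
    (hCQ : ∀ v ∈ V, (∀ q ∈ Q, v * q * v⁻¹ * q⁻¹ ∈ Dsub Q V) → v ∈ Dsub Q V) :
    ∀ y ∈ A ⊔ V, y ∈ Subgroup.normalizer ((Q ⊔ Dsub Q V : Subgroup G) : Set G) →
      y ∈ A ⊔ Dsub Q V := by
  set D := Dsub Q V with hD
  have hDV : D ≤ V := inf_le_left
  have hDC : D ≤ Subgroup.centralizer (Q : Set G) := inf_le_right
  have hAD : A ≤ Subgroup.normalizer (D : Set G) :=
    h22_normalizer_inf_le h.hAV (le_trans h.hAQ h22_normalizer_centralizer)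
  have hQnD : Q ≤ Subgroup.normalizer (D : Set G) :=
    le_trans (Subgroup.le_centralizer_iff.1 hDC) (Subgroup.centralizer_le_normalizer _)
  have hQnV : Q ≤ Subgroup.normalizer (V : Set G) := le_trans h.hQA h.hAV
  have hAQD : A ≤ Subgroup.normalizer ((Q ⊔ D : Subgroup G) : Set G) :=
    h22_normalizer_sup_le h.hAQ hAD
  intro y hy hyN
  have hy' : y ∈ ((A ⊔ V : Subgroup G) : Set G) := hy
  rw [Subgroup.coe_mul_of_left_le_normalizer_right A V h.hAV] at hy'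
  obtain ⟨α, hα, v, hv, rfl⟩ := Set.mem_mul.1 hy'
  have hvN : v ∈ Subgroup.normalizer ((Q ⊔ D : Subgroup G) : Set G) := by
    have := mul_mem (inv_mem (hAQD hα)) hyN
    simpa using this
  have hvD : v ∈ D := by
    apply hCQ v hv
    intro q hq
    have hc1 : v * q * v⁻¹ * q⁻¹ ∈ Q ⊔ D := by
      have h1 : v * q * v⁻¹ ∈ Q ⊔ D :=
        (Subgroup.mem_normalizer_iff.1 hvN q).1 ((le_sup_left : Q ≤ Q ⊔ D) hq)
      exact mul_mem h1 (inv_mem ((le_sup_left : Q ≤ Q ⊔ D) hq))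
    have hc2 : v * q * v⁻¹ * q⁻¹ ∈ V := by
      have h1 : q * v⁻¹ * q⁻¹ ∈ V :=
        (Subgroup.mem_normalizer_iff.1 (hQnV hq) v⁻¹).1 (inv_mem hv)
      have e : v * q * v⁻¹ * q⁻¹ = v * (q * v⁻¹ * q⁻¹) := by group
      rw [e]
      exact mul_mem hv h1
    have hc1' : v * q * v⁻¹ * q⁻¹ ∈ ((Q ⊔ D : Subgroup G) : Set G) := hc1
    rw [Subgroup.coe_mul_of_left_le_normalizer_right Q D hQnD] at hc1'
    obtain ⟨q', hq', d, hd, hqd⟩ := Set.mem_mul.1 hc1'
    have hq'V : q' ∈ V := by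
      have e : q' = (v * q * v⁻¹ * q⁻¹) * d⁻¹ := by rw [← hqd]; group
      rw [e]
      exact mul_mem hc2 (inv_mem (hDV hd))
    have hq'1 : q' = 1 := by
      have : q' ∈ Q ⊓ V := Subgroup.mem_inf.2 ⟨hq', hq'V⟩
      rw [hQV, Subgroup.mem_bot] at this
      exact this
    rw [← hqd, hq'1, one_mul]
    exact hd
  exact mul_mem ((le_sup_left : A ≤ A ⊔ D) hα) ((le_sup_right : D ≤ A ⊔ D) hvD)

end Cfsg.Agent.Helper22.FL
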