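import Mathlib
import Cfsg.Agent.Lib.Helper52.FLDefs
import Cfsg.Agent.Lib.Helper52.Coprime
import Cfsg.Agent.Lib.Helper22.FLCC2Core
import Cfsg.Agent.Lib.Helper22.FLCC1Core
import Cfsg.Agent.Lib.Helper22.FLCC1
import Cfsg.Agent.Lib.Helper22.FLNQCore
import Cfsg.Agent.Lib.Helper78.FLCQCore
import Cfsg.Agent.Lib.Helper47.FLCOMM

set_option autoImplicit false
set_option linter.unusedSectionVars false
set_option linter.unusedVariables false

namespace Cfsg.Agent.Helper22.FL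

open Cfsg.Agent.Helper52.FL

variable {G : Type*} [Group G] [Finite G]

section CTX
variable {A Q V : Subgroup G} {r s : ℕ} [Fact r.Prime] [Fact s.Prime]

/-- (CQ), assembled from helper78's core, helper47's (COMM) and my copy of (DNOR). -/
theorem h22_mem_D_of_comm (h : Ctx A Q V r s) :
    ∀ v ∈ V, (∀ q ∈ Q, v * q * v⁻¹ * q⁻¹ ∈ Dsub Q V) → v ∈ Dsub Q V :=
  Cfsg.Agent.Helper78.FL.mem_D_of_comm_core h (Cfsg.Agent.Helper47.FL.comm_eq h) (h22_D_normal h)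

/-- (NQ), complete. -/
theorem h22_normalizer_le (h : Ctx A Q V r s) :
    ∀ y ∈ A ⊔ V, y ∈ Subgroup.normalizer ((Q ⊔ Dsub Q V : Subgroup G) : Set G) →
      y ∈ A ⊔ Dsub Q V :=
  h22_normalizer_le_core h (h22_Q_inf_V h) (h22_mem_D_of_comm h)

theorem le_conj (h : Ctx A Q V r s) (B : Subgroup G) (hBY : B ≤ A ⊔ V) (hBV : B ⊔ V = A ⊔ V)
    (hBD : B ⊓ V ≤ Dsub Q V) : ∃ w ∈ V, B ≤ cj w (A ⊔ Dsub Q V) :=
  h22_le_conj_core h B hBY (exists_conj_Q h B hBY hBV hBD) (h22_normalizer_le h)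

end CTX

end Cfsg.Agent.Helper22.FL
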