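import Mathlib
import Cfsg.Agent.Lib.Helper52.FLDefs

set_option autoImplicit false
set_option linter.unusedSectionVars false

namespace Cfsg.Agent.Helper22.FL

open Cfsg.Agent.Helper52.FL

variable {G : Type*} [Group G] [Finite G]

theorem exists_not_mul (V D : Subgroup G) (S T : Set G) (hS : S ⊆ V) (hT : T ⊆ V)
    (hSD : ∀ d ∈ D, ∀ w ∈ S, w * d ∈ S) (hTD : ∀ d ∈ D, ∀ w ∈ T, d⁻¹ * w ∈ T)
    (hcard : Nat.card S * Nat.card T < Nat.card V * Nat.card D) :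
    ∃ v ∈ V, ¬ ∃ w₁ ∈ S, ∃ w₂ ∈ T, v = w₁ * w₂ := by
  by_contra hcon
  push Not at hcon
  choose f hf g hg hfg using hcon
  let φ : V × D → S × T := fun x =>
    (⟨f x.1.1 x.1.2 * x.2.1, hSD x.2.1 x.2.2 _ (hf x.1.1 x.1.2)⟩,
     ⟨x.2.1⁻¹ * g x.1.1 x.1.2, hTD x.2.1 x.2.2 _ (hg x.1.1 x.1.2)⟩)
  have hinj : Function.Injective φ := by
    rintro ⟨⟨v, hv⟩, ⟨d, hd⟩⟩ ⟨⟨v', hv'⟩, ⟨d', hd'⟩⟩ h
    have h1 : f v hv * d = f v' hv' * d' := congrArg (fun y => (y.1 : G)) h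
    have h2 : d⁻¹ * g v hv = d'⁻¹ * g v' hv' := congrArg (fun y => (y.2 : G)) h
    have hvv : v = v' := by
      rw [hfg v hv, hfg v' hv']
      calc f v hv * g v hv = (f v hv * d) * (d⁻¹ * g v hv) := by group
        _ = (f v' hv' * d') * (d'⁻¹ * g v' hv') := by rw [h1, h2]
        _ = f v' hv' * g v' hv' := by group
    subst hvv
    have hdd : d = d' := mul_left_cancel h1
    subst hdd
    rfl
  have hle := Nat.card_le_card_of_injective φ hinj
  rw [Nat.card_prod, Nat.card_prod] at hle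
  exact absurd hcard (not_lt.2 hle)

end Cfsg.Agent.Helper22.FL
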