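import Mathlib
import Cfsg.Agent.Lib.Helper31.G2Defs
import Cfsg.Agent.Lib.Helper20.SGKEY

set_option autoImplicit false
set_option linter.unusedVariables false
set_option linter.unusedSectionVars false
set_option linter.style.haveILetI false

/-!
# S3795 (Gross, `p = 2`), piece (KEY2) of helper31's lemma server "G2" : the group-theoretic reduction

`g2_key_of_nil`: (KEY2) from the statement of (KEYNIL) taken as a hypothesis (`KeyNilStmt`, verbatim
the statement of `g2_key_nil` without the `TOW` argument).  Follows `Helper20.SG.sg_key_aux`.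
-/

namespace Cfsg.Agent.Helper22.G2

open Subgroup
open Cfsg.Agent.Helper52
open Cfsg.Agent.Helper20.SG
open Cfsg.Agent.Helper31.G2

universe u

/-- the statement of (KEYNIL) `g2_key_nil` (after applying it to `TOW`). -/
def KeyNilStmt : Prop :=
  ∀ {M V : Type u} [Group M] [Finite M] [Group V] [Finite V] [Nontrivial V]
    (hV : ∀ a b : V, a * b = b * a) (r : ℕ) (hr : r.Prime) (hexp : ∀ v : V, v ^ r = 1)
    (act : M →* MulAut V) (hinj : Function.Injective act) (σM : MulAut M) (x : MulAut V) (n : ℕ)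
    (hσ : σM ^ 2 ^ (n + 1) = 1) (hx : x ^ 2 ^ (n + 1) = 1)
    (hcompat : ∀ m : M, x * act m = act (σM m) * x)
    (hfM : ∀ m : M, σM m = m → m = 1) (hfV : ∀ v : V, x v = v → v = 1)
    (hmin : ∀ W : Subgroup V, (∀ m : M, ∀ w ∈ W, act m w ∈ W) → (∀ w ∈ W, x w ∈ W) →
      W ≠ ⊥ → W = ⊤)
    (L N : Subgroup M) (hLN : L ≤ N) (hLn : L.Normal) (hNn : N.Normal)
    (hLσ : ∀ m ∈ L, σM m ∈ L) (hNσ : ∀ m ∈ N, σM m ∈ N) (hLnil : Group.IsNilpotent L)
    (hNL : ∃ k : ℕ, N.lowerCentralSeries k ≤ L)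
    (hc : ∀ m : M, m⁻¹ * (σM ^ 2 ^ n) m ∈ N),
    ∃ X : Subgroup M, X.Normal ∧ (∀ m ∈ X, σM m ∈ X) ∧ Group.IsNilpotent X ∧
      ∀ m : M, m⁻¹ * (σM ^ 2 ^ n) m ∈ X

theorem g2_key_aux (KN : KeyNilStmt.{u}) :
    ∀ (m : ℕ) (G : Type u) [Group G] [Finite G], Nat.card G = m → Group.IsSolvable G →
      ∀ (σ : MulAut G) (n : ℕ),
      σ ^ 2 ^ (n + 1) = 1 → (∀ g : G, σ g = g → g = 1) →
      ∃ N₁ N : Subgroup G, N₁ ≤ N ∧ N₁.Normal ∧ N.Normal ∧ (∀ g ∈ N₁, σ g ∈ N₁) ∧
        (∀ g ∈ N, σ g ∈ N) ∧ Group.IsNilpotent N₁ ∧ (∃ k : ℕ, N.lowerCentralSeries k ≤ N₁) ∧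
        ∀ g : G, g⁻¹ * (σ ^ 2 ^ n) g ∈ N := by
  intro m
  induction m using Nat.strong_induction_on with
  | _ m ih =>
  intro G _ _ hm hsol σ n hσ hfpf
  classical
  by_cases htriv : Subsingleton G
  · refine ⟨⊥, ⊥, le_rfl, inferInstance, inferInstance, ?_, ?_, inferInstance, ⟨0, le_rfl⟩, ?_⟩
    · intro g hg
      rw [mem_bot] at hg ⊢
      rw [hg, map_one]
    · intro g hg
      rw [mem_bot] at hg ⊢
      rw [hg, map_one]
    · intro g
      rw [mem_bot]
      exact Subsingleton.elim _ _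
  haveI hsol' : Group.IsSolvable G := hsol
  have hφ : MonoidHom.FixedPointFree ((σ : G ≃* G) : G →* G) := hfpf
  have hσit : ∀ k : ℕ, σ ^ k = 1 → (⇑(σ : G ≃* G))^[k] = id :=
    fun k hk => (mulAut_pow_eq_one_iff σ k).mp hk
  obtain ⟨V, hVn, hVs, hVne, hVmin⟩ := exists_min_invariant_normal (σ : G ≃* G) htriv
  haveI := hVn
  have hab := commute_of_min_invariant_normal (σ : G ≃* G) V hVn hVs hVne hVmin
  obtain ⟨r, hr, hexp⟩ :=
    exists_prime_exponent_of_min_invariant_normal (σ : G ≃* G) V hVn hVs hVne hVmin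
  haveI : Fact r.Prime := ⟨hr⟩
  have hmapV : V.map ((σ : G ≃* G) : G →* G) = V := map_eq_of_invariant σ V hVs
  -- the centralizer of `V`
  let C : Subgroup G := centralizer (V : Set G)
  haveI hCn : C.Normal := inferInstance
  have hVC : V ≤ C := by
    intro v hv
    show v ∈ centralizer (V : Set G)
    rw [mem_centralizer_iff]
    intro w hw
    exact hab w hw v hv
  have hCne : C ≠ ⊥ := fun hcon => hVne (eq_bot_iff.mpr (hcon ▸ hVC))
  have hCs : ∀ x ∈ C, σ x ∈ C := by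
    intro x hx
    show σ x ∈ centralizer (V : Set G)
    rw [mem_centralizer_iff]
    intro w hw
    have hw' : w ∈ V.map ((σ : G ≃* G) : G →* G) := by rw [hmapV]; exact hw
    obtain ⟨w', hw'V, rfl⟩ := hw'
    show σ w' * σ x = σ x * σ w'
    rw [← map_mul, ← map_mul, (mem_centralizer_iff.mp hx) w' hw'V]
  -- the action of `G ⧸ C` on `V`
  have hker : ∀ x ∈ C, (MulAut.conjNormal x : MulAut V) = 1 := by
    intro x hx
    ext v
    rw [MulAut.conjNormal_apply, MulAut.one_apply]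
    have := (mem_centralizer_iff.mp hx) v v.2
    rw [← this, mul_inv_cancel_right]
  have hker' : C ≤ (MulAut.conjNormal : G →* MulAut V).ker :=
    fun x hx => MonoidHom.mem_ker.mpr (hker x hx)
  let act : G ⧸ C →* MulAut V := QuotientGroup.lift C MulAut.conjNormal hker'
  have hact : ∀ (g : G) (v : V), ((act (g : G ⧸ C) v : V) : G) = g * v * g⁻¹ := by
    intro g v
    show ((QuotientGroup.lift C MulAut.conjNormal hker' (g : G ⧸ C) v : V) : G) = g * v * g⁻¹
    rw [QuotientGroup.lift_mk, MulAut.conjNormal_apply]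
  have hmemC : ∀ g : G, (∀ v ∈ V, g * v * g⁻¹ = v) → g ∈ C := by
    intro g hg
    show g ∈ centralizer (V : Set G)
    rw [mem_centralizer_iff]
    intro v hv
    have h2 := hg v hv
    calc v * g = g * v * g⁻¹ * g := by rw [h2]
      _ = g * v := by group
  have act_inj : Function.Injective act := by
    rw [injective_iff_map_eq_one]
    intro x hx
    obtain ⟨g, rfl⟩ := QuotientGroup.mk_surjective x
    rw [QuotientGroup.eq_one_iff]
    apply hmemC
    intro v hv
    have h1 := hact g ⟨v, hv⟩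
    rw [hx, MulAut.one_apply] at h1
    exact h1.symm
  -- the induced automorphisms
  let σC : MulAut (G ⧸ C) := quotEquiv (σ : G ≃* G) C hCs
  let σV : MulAut (G ⧸ V) := quotEquiv (σ : G ≃* G) V hVs
  let x : MulAut V := restrictEquiv (σ : G ≃* G) V hVs
  have hσC : σC ^ 2 ^ (n + 1) = 1 :=
    (mulAut_pow_eq_one_iff σC _).mpr (quotEquiv_iterate_eq_id σ C hCs _ (hσit _ hσ))
  have hσV : σV ^ 2 ^ (n + 1) = 1 :=
    (mulAut_pow_eq_one_iff σV _).mpr (quotEquiv_iterate_eq_id σ V hVs _ (hσit _ hσ))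
  have hx : x ^ 2 ^ (n + 1) = 1 :=
    (mulAut_pow_eq_one_iff x _).mpr (restrictEquiv_iterate_eq_id σ V hVs _ (hσit _ hσ))
  have hσCfpf : ∀ y : G ⧸ C, σC y = y → y = 1 := quotEquiv_fpf σ hφ C hCs
  have hσVfpf : ∀ y : G ⧸ V, σV y = y → y = 1 := quotEquiv_fpf σ hφ V hVs
  have hxfpf : ∀ v : V, x v = v → v = 1 := restrictEquiv_fpf σ hφ V hVs
  have hσCpow : ∀ (k : ℕ) (g : G), (σC ^ k) (g : G ⧸ C) = (((σ ^ k) g : G) : G ⧸ C) := by
    intro k g
    rw [mulAut_pow_apply, mulAut_pow_apply]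
    exact quotEquiv_iterate σ C hCs k g
  have hσVpow : ∀ (k : ℕ) (g : G), (σV ^ k) (g : G ⧸ V) = (((σ ^ k) g : G) : G ⧸ V) := by
    intro k g
    rw [mulAut_pow_apply, mulAut_pow_apply]
    exact quotEquiv_iterate σ V hVs k g
  have compat : ∀ (y : G ⧸ C) (v : V), x (act y v) = act (σC y) (x v) := by
    intro y v
    obtain ⟨g, rfl⟩ := QuotientGroup.mk_surjective y
    apply Subtype.ext
    show ((restrictEquiv (σ : G ≃* G) V hVs (act (g : G ⧸ C) v) : V) : G) =
      ((act (quotEquiv (σ : G ≃* G) C hCs (g : G ⧸ C)) (restrictEquiv (σ : G ≃* G) V hVs v) : V) : G)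
    rw [restrictEquiv_apply, hact, quotEquiv_mk, hact, restrictEquiv_apply, map_mul, map_mul,
      map_inv]
  have hconj : ∀ y : G ⧸ C, x * act y = act (σC y) * x := by
    intro y
    ext v
    rw [MulAut.mul_apply, MulAut.mul_apply, compat]
  haveI : Nontrivial V := by
    rw [Subgroup.nontrivial_iff_ne_bot]
    exact hVne
  -- induction hypothesis for `G ⧸ C`
  have hMsol : Group.IsSolvable (G ⧸ C) :=
    Group.isSolvable_of_surjective (f := QuotientGroup.mk' C) (QuotientGroup.mk'_surjective C)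
  have hMlt : Nat.card (G ⧸ C) < m := hm ▸ card_quotient_lt_of_ne_bot' C hCne
  obtain ⟨N2', N2, hN22, hN2'n, hN2n, hN2's, hN2s, hN2'nil, hN2lcs, hN2c⟩ :=
    ih _ hMlt (G ⧸ C) rfl hMsol σC n hσC hσCfpf
  -- induction hypothesis for `G ⧸ V`
  have hQsol : Group.IsSolvable (G ⧸ V) :=
    Group.isSolvable_of_surjective (f := QuotientGroup.mk' V) (QuotientGroup.mk'_surjective V)
  have hQlt : Nat.card (G ⧸ V) < m := hm ▸ card_quotient_lt_of_ne_bot' V hVne
  obtain ⟨N1', N1, hN11, hN1'n, hN1n, hN1's, hN1s, hN1'nil, hN1lcs, hN1c⟩ :=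
    ih _ hQlt (G ⧸ V) rfl hQsol σV n hσV hσVfpf
  -- minimality of `V` in terms of subgroups of `↥V`
  have hmin : ∀ W : Subgroup V, (∀ y : G ⧸ C, ∀ w ∈ W, act y w ∈ W) → (∀ w ∈ W, x w ∈ W) →
      W ≠ ⊥ → W = ⊤ := by
    intro W hWM hWt hWne
    have hNn : (W.map V.subtype).Normal := by
      refine ⟨?_⟩
      rintro _ ⟨w, hw, rfl⟩ g
      refine ⟨act (g : G ⧸ C) w, hWM _ w hw, ?_⟩
      exact hact g w
    have hNs : ∀ z ∈ W.map V.subtype, σ z ∈ W.map V.subtype := by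
      rintro _ ⟨w, hw, rfl⟩
      exact ⟨restrictEquiv (σ : G ≃* G) V hVs w, hWt w hw, rfl⟩
    have hNne : W.map V.subtype ≠ ⊥ := by
      intro hcon
      exact hWne ((Subgroup.map_eq_bot_iff_of_injective _ V.subtype_injective).mp hcon)
    have hNV := hVmin _ hNn hNs hNne (map_subtype_le W)
    rw [eq_top_iff]
    intro v _
    have hv : (v : G) ∈ W.map V.subtype := by rw [hNV]; exact v.2
    obtain ⟨w, hw, hwv⟩ := hv
    have : w = v := Subtype.ext hwv
    rwa [← this]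
  have hcommV : ∀ a b : V, a * b = b * a := fun a b => Subtype.ext (hab a a.2 b b.2)
  have hexpV : ∀ v : V, v ^ r = 1 := by
    intro v
    apply Subtype.ext
    rw [Subgroup.coe_pow, hexp v v.2]
    rfl
  -- (KEYNIL)
  obtain ⟨X, hXn, hXs, hXnil, hXc⟩ := KN hcommV r hr hexpV act act_inj σC x n hσC hx hconj
    hσCfpf hxfpf hmin N2' N2 hN22 hN2'n hN2n hN2's hN2s hN2'nil hN2lcs hN2c
  -- the subgroups `N₁ ≤ N`
  haveI := hN1n
  haveI := hN1'n
  haveI := hN1'nil
  haveI := hXn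
  let N₁ : Subgroup G := N1'.comap (QuotientGroup.mk' V) ⊓ C
  let N : Subgroup G := N1.comap (QuotientGroup.mk' V) ⊓ X.comap (QuotientGroup.mk' C)
  have hCX : C ≤ X.comap (QuotientGroup.mk' C) := by
    intro g hg
    show ((g : G) : G ⧸ C) ∈ X
    rw [(QuotientGroup.eq_one_iff g).mpr hg]
    exact one_mem X
  refine ⟨N₁, N, inf_le_inf (Subgroup.comap_mono hN11) hCX, inferInstance, inferInstance,
    ?_, ?_, ?_, ?_, ?_⟩
  · intro g hg
    refine ⟨?_, hCs g hg.2⟩
    show ((σ g : G) : G ⧸ V) ∈ N1'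
    rw [← quotEquiv_mk (σ : G ≃* G) V hVs]
    exact hN1's _ hg.1
  · intro g hg
    refine ⟨?_, ?_⟩
    · show ((σ g : G) : G ⧸ V) ∈ N1
      rw [← quotEquiv_mk (σ : G ≃* G) V hVs]
      exact hN1s _ hg.1
    · show ((σ g : G) : G ⧸ C) ∈ X
      rw [← quotEquiv_mk (σ : G ≃* G) C hCs]
      exact hXs _ hg.2
  · -- nilpotent
    have hmem : ∀ k : N₁, (QuotientGroup.mk' V) (k : G) ∈ N1' := fun k => k.2.1
    let f : N₁ →* N1' := ((QuotientGroup.mk' V).comp N₁.subtype).codRestrict _ hmem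
    apply Subgroup.isNilpotent_of_ker_le_center f
    intro k hk
    rw [Subgroup.mem_center_iff]
    intro k'
    have h1 : ((k : G) : G ⧸ V) = 1 := by
      have := congrArg Subtype.val (MonoidHom.mem_ker.mp hk)
      exact this
    have h2 : (k : G) ∈ V := (QuotientGroup.eq_one_iff _).mp h1
    have h3 : (k' : G) ∈ centralizer (V : Set G) := k'.2.2
    apply Subtype.ext
    show (k' : G) * k = k * k'
    exact ((mem_centralizer_iff.mp h3) k h2).symm
  · -- lower central series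
    obtain ⟨k₁, hk₁⟩ := hN1lcs
    obtain ⟨k₂, hk₂⟩ := (Subgroup.isNilpotent_iff_lowerCentralSeries X).mp hXnil
    refine ⟨max k₁ k₂, le_inf ?_ ?_⟩
    · rw [← Subgroup.map_le_iff_le_comap, Subgroup.map_lowerCentralSeries]
      refine le_trans (Subgroup.lowerCentralSeries_mono _ ?_) 
        (le_trans (N1.lowerCentralSeries_antitone (le_max_left k₁ k₂)) hk₁)
      exact le_trans (Subgroup.map_mono inf_le_left) (Subgroup.map_comap_le _ _)
    · have h1 : (N.lowerCentralSeries (max k₁ k₂)).map (QuotientGroup.mk' C) ≤ ⊥ := by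
        rw [Subgroup.map_lowerCentralSeries, ← hk₂]
        refine le_trans (Subgroup.lowerCentralSeries_mono _ ?_)
          (X.lowerCentralSeries_antitone (le_max_right k₁ k₂))
        exact le_trans (Subgroup.map_mono inf_le_right) (Subgroup.map_comap_le _ _)
      intro g hg
      have h2 : (QuotientGroup.mk' C) g ∈ (⊥ : Subgroup (G ⧸ C)) := h1 (Subgroup.mem_map_of_mem _ hg)
      rw [Subgroup.mem_bot] at h2
      exact (QuotientGroup.eq_one_iff g).mp h2
  · intro g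
    refine ⟨?_, ?_⟩
    · show ((g⁻¹ * (σ ^ 2 ^ n) g : G) : G ⧸ V) ∈ N1
      rw [QuotientGroup.mk_mul, QuotientGroup.mk_inv, ← hσVpow]
      exact hN1c _
    · show ((g⁻¹ * (σ ^ 2 ^ n) g : G) : G ⧸ C) ∈ X
      rw [QuotientGroup.mk_mul, QuotientGroup.mk_inv, ← hσCpow]
      exact hXc _

/-- (KEY2) from (KEYNIL). -/
theorem g2_key_of_nil (KN : KeyNilStmt.{u}) : Key2Stmt.{u} :=
  fun G _ _ hsol σ n hσ hfpf => g2_key_aux KN (Nat.card G) G rfl hsol σ n hσ hfpf

end Cfsg.Agent.Helper22.G2
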