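import Mathlib
import Cfsg.Agent.Lib.Helper31.G2Defs
import Cfsg.Agent.Lib.Helper22.G2KEY2a
import Cfsg.Agent.Lib.Helper42.G2KEYNILb
import Cfsg.Agent.Lib.Helper38.G2NILCRIT

set_option autoImplicit false

/-!
# S3795 (Gross, `p = 2`), piece (KEY2) of helper31's lemma server "G2": `[G, σ^(2^n)] ≤ F₂(G)`

Assembly of `g2_key_of_nil` (this seat), `g2_key_nil_of` (helper42) and `g2_nilcrit` (helper38).
-/

namespace Cfsg.Agent.Helper22.G2

open Module Subgroup Cfsg.Agent.Helper31.SG Cfsg.Agent.Helper31.G2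

universe u

/-- (KEY2) `[G, σ^(2^n)] ≤ F₂(G)`. -/
theorem g2_key (TOW : TowerStmt.{u}) : Key2Stmt.{u} := by
  apply g2_key_of_nil
  intro M V _ _ _ _ _ hV r hr hexp act hinj σM x n hσ hx hcompat hfM hfV hmin L N hLN hLn hNn
    hLσ hNσ hLnil hNL hc
  refine Cfsg.Agent.Helper42.G2.g2_key_nil_of ?_ TOW hV r hr hexp act hinj σM x n hσ hx hcompat
    hfM hfV hmin L N hLN hLn hNn hLσ hNσ hLnil hNL hc
  intro K _ _ hodd t ht L' _ hLt hLnil' hKL hgen hsyl
  exact Cfsg.Agent.Helper38.G2.g2_nilcrit hodd t ht L' hLt hLnil' hKL hgen hsyl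

end Cfsg.Agent.Helper22.G2
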