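import Mathlib
import Cfsg.Agent.Lib.Helper14.GLIDefs

set_option autoImplicit false
set_option linter.unusedVariables false
set_option linter.unusedSectionVars false

namespace Cfsg.Agent.Helper22.GLI

open Module Polynomial Cfsg.Agent.Helper14.GLI

/-- the dimension of a finite supremum of an independent family is the sum of the dimensions -/
theorem h22_finrank_biSup {F V : Type*} [Field F] [AddCommGroup V] [Module F V]
    [FiniteDimensional F V] {K : Type*} (W : K → Submodule F V) (hind : iSupIndep W)
    (s : Finset K) : finrank F ↥(⨆ k ∈ s, W k) = ∑ k ∈ s, finrank F (W k) := by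
  classical
  induction s using Finset.induction_on with
  | empty => simp
  | insert k s₀ hk ih =>
    rw [Finset.iSup_insert, Finset.sum_insert hk, ← ih]
    have hdisj : Disjoint (W k) (⨆ i ∈ s₀, W i) := by
      have h := hind.disjoint_biSup (x := k) (y := (↑s₀ : Set K)) (by simpa using hk)
      simpa using h
    have h := Submodule.finrank_sup_add_finrank_inf_eq (W k) (⨆ i ∈ s₀, W i)
    rw [disjoint_iff.mp hdisj, finrank_bot, add_zero] at h
    exact h

theorem h22_finrank_iSup {F V : Type*} [Field F] [AddCommGroup V] [Module F V]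
    [FiniteDimensional F V] {K : Type*} [Fintype K] (W : K → Submodule F V) (hind : iSupIndep W) :
    finrank F ↥(⨆ k, W k) = ∑ k, finrank F (W k) := by
  have h := h22_finrank_biSup W hind Finset.univ
  have e : (⨆ k ∈ (Finset.univ : Finset K), W k) = ⨆ k, W k := by
    simp only [Finset.mem_univ, iSup_pos]
  rw [e] at h
  exact h

/-- the core of (LINES), with (GFIX) for `⊤` and (GST) on `range (x - 1)` as hypotheses -/
theorem h22_lines_core {F V : Type*} [Field F] [AddCommGroup V] [Module F V] [FiniteDimensional F V]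
    (x : V →ₗ[F] V) (r : ℕ) [Fact r.Prime] (hr0 : (r : F) ≠ 0) (hxr : x ^ r = 1)
    (c : ℕ) (hc1 : 1 < c) (hcr : c = r - 1)
    (t : ℕ) (ht : finrank F V = t) (hnk : t ≤ (t % c) * r)
    (hdisj : LinearMap.ker (x - 1) ⊓ LinearMap.range (x - 1) = ⊥)
    (hsup : LinearMap.ker (x - 1) ⊔ LinearMap.range (x - 1) = ⊤)
    (m : ℕ) (W : Fin m → Submodule F V) (hW : IsIndepFam (LinearMap.range (x - 1)) W)
    (hWx : ∀ k, (W k).map x ≤ W k) (hWc : ∀ k, finrank F (W k) = c)
    (hWirr : ∀ k, ∀ Z : Submodule F V, Z ≤ W k → Z.map x ≤ Z → Z = ⊥ ∨ Z = W k) :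
    ∃ D : Fin t → Submodule F V, IsIndepFam ⊤ D ∧ (∀ j, finrank F (D j) = 1) ∧
      ∃ σ : Equiv.Perm (Fin t), ∀ j, (D j).map x = D (σ j) := by
  classical
  have : NeZero r := ⟨(Fact.out : r.Prime).ne_zero⟩
  have hr2 : 2 ≤ r := (Fact.out : r.Prime).two_le
  have hrc : r = c + 1 := by omega
  have hUfix : ∀ v ∈ LinearMap.ker (x - 1), x v = v := by
    intro v hv
    have h1 : (x - 1) v = 0 := LinearMap.mem_ker.mp hv
    rw [LinearMap.sub_apply, Module.End.one_apply, sub_eq_zero] at h1
    exact h1
  have hcompl : IsCompl (LinearMap.ker (x - 1)) (LinearMap.range (x - 1)) :=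
    ⟨disjoint_iff.mpr hdisj, codisjoint_iff.mpr hsup⟩
  have hdim1 : finrank F (LinearMap.ker (x - 1)) + finrank F (LinearMap.range (x - 1)) =
      finrank F V := Submodule.finrank_add_eq_of_isCompl hcompl
  have hdimR : finrank F (LinearMap.range (x - 1)) = m * c := by
    rw [← hW.sup, h22_finrank_iSup W hW.indep]
    simp [hWc]
  -- a basis of the fixed space
  obtain ⟨u, ub, hubU, hubspan⟩ : ∃ (u : ℕ) (ub : Fin u → V), (∀ k, ub k ∈ LinearMap.ker (x - 1)) ∧
      Submodule.span F (Set.range ub) = LinearMap.ker (x - 1) ∧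
      u = finrank F (LinearMap.ker (x - 1)) := by
    refine ⟨finrank F (LinearMap.ker (x - 1)),
      fun k => ((Module.finBasis F (LinearMap.ker (x - 1))) k : V), fun k => Subtype.property _, ?_,
      rfl⟩
    have h1 := (Module.finBasis F (LinearMap.ker (x - 1))).span_eq
    have h2 := congrArg (Submodule.map (LinearMap.ker (x - 1)).subtype) h1
    rw [Submodule.map_span, Submodule.map_top, Submodule.range_subtype, ← Set.range_comp] at h2
    exact h2
  obtain ⟨hubspan, hu⟩ := hubspan
  have htu : t = u + m * c := by omega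
  have hmu : m ≤ u := by
    have h1 : t % c = u % c := by rw [htu, Nat.add_mul_mod_self_right]
    have h2 : u % c ≤ u := Nat.mod_le u c
    have h3 : u + m * c ≤ u * (c + 1) := by
      calc u + m * c = t := htu.symm
        _ ≤ (t % c) * r := hnk
        _ = (u % c) * (c + 1) := by rw [h1, hrc]
        _ ≤ u * (c + 1) := Nat.mul_le_mul_right _ h2
    have h4 : m * c ≤ u * c := by nlinarith
    exact Nat.le_of_mul_le_mul_right h4 (by omega)
  -- nonzero vectors of the blocks
  have hbex : ∀ i : Fin m, ∃ b ∈ W i, b ≠ 0 := by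
    intro i
    apply Submodule.exists_mem_ne_zero_of_ne_bot
    intro h
    have h1 := hWc i
    rw [h, finrank_bot] at h1
    omega
  choose b hbW hb0 using hbex
  have hWR : ∀ i, W i ≤ LinearMap.range (x - 1) := by
    intro i
    rw [← hW.sup]
    exact le_iSup W i
  -- the vectors
  let uvec : Fin m → V := fun i => ub (Fin.castLE hmu i)
  let wvec : Fin (u - m) → V := fun k => ub ⟨m + k, by have := k.2; omega⟩
  let f : (Fin m × Fin r) ⊕ Fin (u - m) → V :=
    Sum.elim (fun p => (x ^ (p.2 : ℕ)) (b p.1 + uvec p.1)) wvec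
  let π : Equiv.Perm ((Fin m × Fin r) ⊕ Fin (u - m)) :=
    Equiv.sumCongr (Equiv.prodCongr (Equiv.refl (Fin m)) (Equiv.addRight (1 : Fin r)))
      (Equiv.refl (Fin (u - m)))
  have hπ : ∀ z, x (f z) = f (π z) := by
    rintro (⟨i, j⟩ | k)
    · change x ((x ^ (j : ℕ)) (b i + uvec i)) = (x ^ ((j + 1 : Fin r) : ℕ)) (b i + uvec i)
      have h1 : ((j + 1 : Fin r) : ℕ) = ((j : ℕ) + 1) % r := by
        rw [Fin.val_add, Fin.val_one', Nat.add_mod_mod]
      rw [h1, ← pow_eq_pow_mod _ hxr, pow_succ', Module.End.mul_apply]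
    · change x (wvec k) = wvec k
      exact hUfix _ (hubU _)
  have hcard : Fintype.card ((Fin m × Fin r) ⊕ Fin (u - m)) = finrank F V := by
    rw [Fintype.card_sum, Fintype.card_prod, Fintype.card_fin, Fintype.card_fin, Fintype.card_fin,
      ht, htu]
    have : m * r = m * c + m := by rw [hrc]; ring
    omega
  -- the span of the family is everything
  have hspan : ⊤ ≤ Submodule.span F (Set.range f) := by
    have hSx : (Submodule.span F (Set.range f)).map x ≤ Submodule.span F (Set.range f) := by
      rw [Submodule.map_span]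
      apply Submodule.span_mono
      rintro _ ⟨_, ⟨z, rfl⟩, rfl⟩
      exact ⟨π z, (hπ z).symm⟩
    have hw : ∀ k, wvec k ∈ Submodule.span F (Set.range f) :=
      fun k => Submodule.subset_span ⟨Sum.inr k, rfl⟩
    have hv : ∀ (i : Fin m) (j : Fin r),
        (x ^ (j : ℕ)) (b i + uvec i) ∈ Submodule.span F (Set.range f) :=
      fun i j => Submodule.subset_span ⟨Sum.inl (i, j), rfl⟩
    have huvfix : ∀ (i : Fin m) (j : ℕ), (x ^ j) (uvec i) = uvec i := by
      intro i j
      induction j with
      | zero => simp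
      | succ j ih => rw [pow_succ, Module.End.mul_apply, hUfix _ (hubU _), ih]
    have hNb : ∀ i : Fin m, (∑ j : Fin r, x ^ (j : ℕ)) (b i) = 0 := by
      intro i
      obtain ⟨y, hy⟩ := hWR i (hbW i)
      rw [← hy, ← Module.End.mul_apply, ← Finset.sum_range (fun j => x ^ j), geom_sum_mul, hxr,
        sub_self, LinearMap.zero_apply]
    have hu_mem : ∀ i : Fin m, uvec i ∈ Submodule.span F (Set.range f) := by
      intro i
      have h1 : (∑ j : Fin r, x ^ (j : ℕ)) (b i + uvec i) ∈ Submodule.span F (Set.range f) := by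
        rw [LinearMap.sum_apply]
        exact Submodule.sum_mem _ (fun j _ => hv i j)
      rw [map_add, hNb i, zero_add, LinearMap.sum_apply] at h1
      simp only [huvfix, Finset.sum_const, Finset.card_univ, Fintype.card_fin] at h1
      have h2 : (r : F)⁻¹ • (r • uvec i) ∈ Submodule.span F (Set.range f) :=
        Submodule.smul_mem _ _ h1
      rw [← Nat.cast_smul_eq_nsmul F, smul_smul, inv_mul_cancel₀ hr0, one_smul] at h2
      exact h2
    have hb_mem : ∀ i : Fin m, b i ∈ Submodule.span F (Set.range f) := by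
      intro i
      have h1 := hv i 0
      have h2 : b i = (x ^ ((0 : Fin r) : ℕ)) (b i + uvec i) - uvec i := by
        simp
      rw [h2]
      exact Submodule.sub_mem _ h1 (hu_mem i)
    have hW_le : ∀ i : Fin m, W i ≤ Submodule.span F (Set.range f) := by
      intro i
      have h1 : (Submodule.span F (Set.range f) ⊓ W i).map x ≤
          Submodule.span F (Set.range f) ⊓ W i := by
        refine le_trans (Submodule.map_inf_le _) (inf_le_inf hSx (hWx i))
      rcases hWirr i _ inf_le_right h1 with h | h
      · exfalso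
        have h3 : b i ∈ Submodule.span F (Set.range f) ⊓ W i := ⟨hb_mem i, hbW i⟩
        rw [h] at h3
        exact hb0 i ((Submodule.mem_bot F).mp h3)
      · rw [← h]
        exact inf_le_left
    have hR_le : LinearMap.range (x - 1) ≤ Submodule.span F (Set.range f) := by
      rw [← hW.sup]
      exact iSup_le hW_le
    have hU_le : LinearMap.ker (x - 1) ≤ Submodule.span F (Set.range f) := by
      rw [← hubspan, Submodule.span_le]
      rintro _ ⟨k, rfl⟩
      by_cases hk : (k : ℕ) < m
      · have h1 : ub k = uvec ⟨k, hk⟩ := by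
          change ub k = ub (Fin.castLE hmu ⟨k, hk⟩)
          congr 1
        rw [h1]
        exact hu_mem _
      · have hk' : m ≤ (k : ℕ) := not_lt.mp hk
        have h1 : ub k = wvec ⟨(k : ℕ) - m, by have := k.2; omega⟩ := by
          change ub k = ub ⟨m + ((k : ℕ) - m), _⟩
          congr 1
          apply Fin.ext
          simp only
          omega
        rw [h1]
        exact hw _
    rw [← hsup]
    exact sup_le hU_le hR_le
  have hli : LinearIndependent F f :=
    linearIndependent_of_top_le_span_of_card_eq_finrank hspan hcard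
  -- the decomposition
  let e : ((Fin m × Fin r) ⊕ Fin (u - m)) ≃ Fin t := Fintype.equivFinOfCardEq (hcard.trans ht)
  refine ⟨fun j => Submodule.span F {f (e.symm j)}, ⟨?_, ?_⟩, ?_, e.symm.trans (π.trans e), ?_⟩
  · have h1 : LinearIndependent F (f ∘ e.symm) := hli.comp _ e.symm.injective
    exact h1.iSupIndep_span_singleton
  · have h1 : (⨆ j : Fin t, Submodule.span F {f (e.symm j)}) =
        Submodule.span F (Set.range (f ∘ e.symm)) := by
      rw [Submodule.span_range_eq_iSup]
      rfl
    rw [h1, Set.range_comp, Equiv.range_eq_univ, Set.image_univ]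
    exact top_le_iff.mp hspan
  · intro j
    exact finrank_span_singleton (hli.ne_zero _)
  · intro j
    rw [Submodule.map_span, Set.image_singleton, hπ]
    simp

end Cfsg.Agent.Helper22.GLI
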