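import Mathlib
import Cfsg.Agent.Lib.Helper31.H2Defs


/-!
Piece (A2) of helper31's lemma server "H2" (row S3786).
-/

set_option autoImplicit false
set_option linter.style.haveILetI false

namespace Cfsg.Agent.Helper22.H2

open Cfsg Cfsg.Agent.Helper31.H2 Cfsg.Agent.Helper31.HHB Cfsg.Agent.Helper48.Wreath

universe u

/-- (A2) `NE` passes to quotients (copy the proof of `HHB.AbSyl.quotient` at `q = 2`). -/
theorem ne_quotient {G : Type*} [Group G] [Finite G] {p : ℕ} (h : NE p G) (N : Subgroup G) [N.Normal] :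
    NE p (G ⧸ N) := by
  rcases h with h | h
  · exact Or.inl h
  · right
    intro Q'
    haveI : Fact (Nat.Prime 2) := ⟨Nat.prime_two⟩
    obtain ⟨Q, rfl⟩ := Sylow.mapSurjective_surjective (QuotientGroup.mk'_surjective N) 2 Q'
    intro a ha b hb
    rw [Sylow.coe_mapSurjective] at ha hb
    obtain ⟨a, ha, rfl⟩ := ha
    obtain ⟨b, hb, rfl⟩ := hb
    rw [← map_mul, ← map_mul, h Q a ha b hb]

end Cfsg.Agent.Helper22.H2
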