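import Mathlib
import Cfsg.Agent.Lib.Helper31.H2Defs


/-!
Piece (LIFT) of helper31's lemma server "H2" (row S3786).
-/

set_option autoImplicit false
set_option linter.style.haveILetI false

namespace Cfsg.Agent.Helper22.H2

open Cfsg Cfsg.Agent.Helper31.H2 Cfsg.Agent.Helper31.HHB Cfsg.Agent.Helper48.Wreath

universe u

/-- a cyclic group generated by a `p`-element is a `p`-group -/
theorem lift_isPGroup_zpowers {G : Type*} [Group G] {p : ℕ} (y : G) (k : ℕ) (h : y ^ p ^ k = 1) :
    IsPGroup p (Subgroup.zpowers y) := by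
  rintro ⟨_, n, rfl⟩
  refine ⟨k, ?_⟩
  apply Subtype.ext
  simp only [Subgroup.coe_pow, Subgroup.coe_one]
  rw [← zpow_natCast, ← zpow_mul, mul_comm, zpow_mul, zpow_natCast, h, one_zpow]

/-- (LIFT) `L := comap (mk' N) (P ⊔ zpowers (mk x))` has `L/N` a `p`-group; take a Sylow `p`-subgroup
`T` of `L` containing `x`; `T N = L` by index considerations. -/
theorem exists_pgroup_lift {Q : Type*} [Group Q] [Finite Q] {p : ℕ} [Fact p.Prime] (N : Subgroup Q)
    [N.Normal] (x : Q) (hx : ∃ k : ℕ, x ^ p ^ k = 1)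
    (P : Subgroup (Q ⧸ N)) [P.Normal] (hP : IsPGroup p P) :
    ∃ T : Subgroup Q, IsPGroup p T ∧ x ∈ T ∧
      ∀ u ∈ P, ∃ t ∈ T, QuotientGroup.mk' N t = u * QuotientGroup.mk' N x := by
  obtain ⟨k, hk⟩ := hx
  set f := QuotientGroup.mk' N with hf
  have hfs : Function.Surjective f := QuotientGroup.mk'_surjective N
  -- the `p`-group `R = P ⟨f x⟩`
  have hZ : IsPGroup p (Subgroup.zpowers (f x)) :=
    lift_isPGroup_zpowers (f x) k (by rw [← map_pow, hk, map_one])
  set R : Subgroup (Q ⧸ N) := P ⊔ Subgroup.zpowers (f x) with hR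
  have hRp : IsPGroup p R := IsPGroup.to_sup_of_normal_left hP hZ
  set L : Subgroup Q := R.comap f with hL
  have hxL : x ∈ L := by
    rw [hL, Subgroup.mem_comap]
    exact (le_sup_right : Subgroup.zpowers (f x) ≤ R) (Subgroup.mem_zpowers (f x))
  have hgs : Function.Surjective (f.subgroupComap R) :=
    f.subgroupComap_surjective_of_surjective R hfs
  have hZL : IsPGroup p (Subgroup.zpowers (⟨x, hxL⟩ : L)) :=
    lift_isPGroup_zpowers _ k (by apply Subtype.ext; simpa using hk)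
  obtain ⟨S, hS⟩ := hZL.exists_le_sylow
  have hS' : ((S.mapSurjective hgs : Sylow p R) : Subgroup R) = ⊤ := by
    have hRtop : IsPGroup p (⊤ : Subgroup R) := IsPGroup.to_subgroup hRp ⊤
    exact ((S.mapSurjective hgs).is_maximal' hRtop le_top).symm
  rw [Sylow.coe_mapSurjective] at hS'
  refine ⟨(S : Subgroup L).map L.subtype, S.isPGroup'.map L.subtype, ?_, ?_⟩
  · exact ⟨⟨x, hxL⟩, hS (Subgroup.mem_zpowers _), rfl⟩
  · intro u hu
    have hr : u * f x ∈ R := R.mul_mem ((le_sup_left : P ≤ R) hu)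
      ((le_sup_right : Subgroup.zpowers (f x) ≤ R) (Subgroup.mem_zpowers (f x)))
    have hmem : (⟨u * f x, hr⟩ : R) ∈ (S : Subgroup L).map (f.subgroupComap R) := by
      rw [hS']; exact Subgroup.mem_top _
    obtain ⟨s, hsS, hs⟩ := hmem
    refine ⟨(s : Q), ⟨s, hsS, rfl⟩, ?_⟩
    have := congrArg Subtype.val hs
    exact this

end Cfsg.Agent.Helper22.H2
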