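import Mathlib
import Cfsg.Agent.Lib.Helper31.H2Defs


/-!
Piece (O1) of helper31's lemma server "H2" (row S3786).
-/

set_option autoImplicit false
set_option linter.style.haveILetI false

namespace Cfsg.Agent.Helper22.H2

open Cfsg Cfsg.Agent.Helper31.H2 Cfsg.Agent.Helper31.HHB Cfsg.Agent.Helper48.Wreath

universe u

/-- (O1) `O_p(G / O_{p',p}(G)) = 1`. -/
theorem pCore_quot_pPrimePCore_eq_bot {G : Type*} [Group G] [Finite G] (p : ℕ) [Fact p.Prime] :
    pCore p (G ⧸ pPrimePCore p G) = ⊥ := by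
  set O := pPrimeCore p G with hO
  set K := pPrimePCore p G with hK
  haveI hKn : K.Normal := inferInstance
  -- the preimage `X` of `O_p(G/K)` in `G`
  set X : Subgroup G := (pCore p (G ⧸ K)).comap (QuotientGroup.mk' K) with hX
  haveI hXn : X.Normal := inferInstance
  -- its image in `G/O` is a normal `p`-subgroup
  set Y : Subgroup (G ⧸ O) := X.map (QuotientGroup.mk' O) with hY
  have hYn : Y.Normal := hXn.map (QuotientGroup.mk' O) (QuotientGroup.mk'_surjective O)
  have hYp : IsPGroup p Y := by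
    rintro ⟨_, x, hx, rfl⟩
    have hx1 : QuotientGroup.mk' K x ∈ pCore p (G ⧸ K) := hx
    obtain ⟨k, hk⟩ := (Cfsg.Agent.Helper55.isPGroup_pCore (G := G ⧸ K) (p := p)) ⟨_, hx1⟩
    have hk' : (QuotientGroup.mk' K x) ^ (p ^ k) = 1 := by
      have := congrArg Subtype.val hk
      simpa using this
    rw [← map_pow, QuotientGroup.mk'_apply, QuotientGroup.eq_one_iff] at hk'
    have hk2 : QuotientGroup.mk' O (x ^ p ^ k) ∈ pCore p (G ⧸ O) := hk'
    obtain ⟨j, hj⟩ := (Cfsg.Agent.Helper55.isPGroup_pCore (G := G ⧸ O) (p := p)) ⟨_, hk2⟩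
    have hj' : (QuotientGroup.mk' O (x ^ p ^ k)) ^ (p ^ j) = 1 := by
      have := congrArg Subtype.val hj
      simpa using this
    refine ⟨k + j, ?_⟩
    apply Subtype.ext
    rw [Subgroup.coe_pow, Subgroup.coe_one, pow_add, pow_mul, ← map_pow]
    exact hj'
  have hle : Y ≤ pCore p (G ⧸ O) := Cfsg.Agent.Helper55.le_pCore hYn hYp
  have hXK : X ≤ K := by
    intro x hx
    have : QuotientGroup.mk' O x ∈ pCore p (G ⧸ O) := hle ⟨x, hx, rfl⟩
    exact this
  rw [eq_bot_iff]
  intro q hq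
  obtain ⟨g, rfl⟩ := QuotientGroup.mk_surjective q
  have hg : g ∈ X := hq
  rw [Subgroup.mem_bot]
  exact (QuotientGroup.eq_one_iff g).mpr (hXK hg)

end Cfsg.Agent.Helper22.H2
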