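import Mathlib
import Cfsg.Agent.Lib.Helper31.H2Defs
import Cfsg.Agent.S0636

/-!
Piece (PP) of helper31's lemma server "H2" (row S3786).
-/

set_option autoImplicit false
set_option linter.style.haveILetI false

namespace Cfsg.Agent.Helper22.H2

open Cfsg Cfsg.Agent.Helper31.H2 Cfsg.Agent.Helper31.HHB Cfsg.Agent.Helper48.Wreath

universe u

/-- (PP) `Cfsg.Agent.S0636.main` applied to the `p`-group `↥B` and `Y.subgroupOf B` (normal, nonabelian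
hence non-cyclic); map the result back with `B.subtype`. -/
theorem exists_pp {H : Type*} [Group H] [Finite H] {p : ℕ} [Fact p.Prime] (hp2 : p ≠ 2)
    (B Y : Subgroup H) (hB : IsPGroup p B) (hYB : Y ≤ B) (hYn : ∀ b ∈ B, ∀ y ∈ Y, b * y * b⁻¹ ∈ Y)
    (hYnc : ∃ y₁ ∈ Y, ∃ y₂ ∈ Y, y₁ * y₂ ≠ y₂ * y₁) :
    ∃ M : Subgroup H, M ≤ Y ∧ (∀ b ∈ B, ∀ m ∈ M, b * m * b⁻¹ ∈ M) ∧
      (∀ x ∈ M, ∀ y ∈ M, x * y = y * x) ∧ (∀ x ∈ M, x ^ p = 1) ∧ Nat.card M = p ^ 2 := by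
  haveI hSn : (Y.subgroupOf B).Normal := by
    constructor
    intro y hy b
    rw [Subgroup.mem_subgroupOf] at hy ⊢
    have := hYn b b.2 y hy
    simpa using this
  have hS : ¬ IsCyclic (Y.subgroupOf B) := by
    intro hc
    obtain ⟨y₁, hy₁, y₂, hy₂, hne⟩ := hYnc
    letI := IsCyclic.commGroup (α := Y.subgroupOf B)
    have h1 := mul_comm
      (⟨⟨y₁, hYB hy₁⟩, Subgroup.mem_subgroupOf.2 hy₁⟩ : Y.subgroupOf B)
      ⟨⟨y₂, hYB hy₂⟩, Subgroup.mem_subgroupOf.2 hy₂⟩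
    apply hne
    exact congrArg (fun z : Y.subgroupOf B => ((z : B) : H)) h1
  obtain ⟨M, hMS, hMn, hMc, hMp, hMcard⟩ := Cfsg.Agent.S0636.main hp2 hB (Y.subgroupOf B) hS
  refine ⟨M.map B.subtype, ?_, ?_, ?_, ?_, ?_⟩
  · rintro _ ⟨m, hm, rfl⟩
    exact Subgroup.mem_subgroupOf.1 (hMS hm)
  · rintro b hb _ ⟨m, hm, rfl⟩
    refine ⟨⟨b, hb⟩ * m * ⟨b, hb⟩⁻¹, hMn.conj_mem m hm ⟨b, hb⟩, ?_⟩
    simp
  · rintro _ ⟨x, hx, rfl⟩ _ ⟨y, hy, rfl⟩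
    have := hMc x hx y hy
    rw [← map_mul, ← map_mul, this]
  · rintro _ ⟨x, hx, rfl⟩
    rw [← map_pow, hMp x hx, map_one]
  · rw [← hMcard]
    exact Nat.card_congr (Subgroup.equivMapOfInjective M B.subtype B.subtype_injective).symm.toEquiv

end Cfsg.Agent.Helper22.H2
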