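import Mathlib
import Cfsg.Prelude.Def_Local
import Cfsg.Prelude.Def_Transfer
import Cfsg.Agent.Lib.Helper22.Structure
import Cfsg.Agent.Lib.Helper11.ZJ1
import Cfsg.Agent.Lib.Helper47.Transfer
import Cfsg.Agent.S0081
import Cfsg.Agent.S4043
import Cfsg.Agent.S4208

/-!
# Groups with a two-generated non-abelian Sylow `p`-subgroup (for S4172)
-/

set_option autoImplicit false

namespace Cfsg.Agent.Helper22.TwoGen

open Subgroup
open scoped commutatorElement

section Abstract

variable {P : Type*} [Group P] [Finite P] {p : ℕ} [hp : Fact p.Prime]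

theorem card_mul_le_of_lt (hP : IsPGroup p P) {A B : Subgroup P} (h : A < B) :
    p * Nat.card A ≤ Nat.card B := by
  obtain ⟨n, hn⟩ := IsPGroup.iff_card.mp (hP.to_subgroup B)
  obtain ⟨k, hk⟩ := Subgroup.card_dvd_of_le h.le
  have hkd : k ∣ p ^ n := ⟨Nat.card A, by rw [← hn, hk, mul_comm]⟩
  obtain ⟨j, _, rfl⟩ := (Nat.dvd_prime_pow hp.out).mp hkd
  rcases j with _ | j
  · exfalso
    have : A = B := Subgroup.eq_of_le_of_card_ge h.le (by rw [hk]; simp)
    exact h.ne this
  · rw [hk, pow_succ]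
    have h1 : 1 ≤ p ^ j := Nat.one_le_pow _ _ hp.out.pos
    calc p * Nat.card A = Nat.card A * (1 * p) := by ring
      _ ≤ Nat.card A * (p ^ j * p) := by gcongr

theorem exists_gen_pair (hP : IsPGroup p P) (hΦ : (frattini P).index = p ^ 2) {x : P}
    (hx : x ∉ frattini P) : ∃ y : P, Subgroup.closure ({x, y} : Set P) = ⊤ := by
  set S : Subgroup P := frattini P ⊔ zpowers x with hS
  have hxS : x ∈ S := (le_sup_right : zpowers x ≤ S) (mem_zpowers x)
  have hlt : frattini P < S := lt_of_le_of_ne le_sup_left (fun h => hx (h ▸ hxS))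
  by_cases hS1 : S = ⊤
  · refine ⟨x, ?_⟩
    have : zpowers x = ⊤ := frattini_nongenerating (by rw [sup_comm]; exact hS1)
    rw [Set.pair_eq_singleton, ← zpowers_eq_closure]; exact this
  · obtain ⟨y, -, hy⟩ := SetLike.exists_of_lt (lt_top_iff_ne_top.mpr hS1)
    refine ⟨y, ?_⟩
    set S' : Subgroup P := S ⊔ zpowers y with hS'
    have hyS' : y ∈ S' := (le_sup_right : zpowers y ≤ S') (mem_zpowers y)
    have hlt' : S < S' := lt_of_le_of_ne le_sup_left (fun h => hy (h ▸ hyS'))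
    have h1 := card_mul_le_of_lt hP hlt
    have h2 := card_mul_le_of_lt hP hlt'
    have h3 : Nat.card (frattini P) * p ^ 2 = Nat.card P := by
      rw [← hΦ]; exact Subgroup.card_mul_index _
    have h4 : Nat.card P ≤ Nat.card S' := by
      calc Nat.card P = p * (p * Nat.card (frattini P)) := by rw [← h3]; ring
        _ ≤ p * Nat.card S := by gcongr
        _ ≤ Nat.card S' := h2
    have h5 : S' = ⊤ := Subgroup.eq_top_of_le_card _ h4
    have h6 : Subgroup.closure ({x, y} : Set P) = zpowers x ⊔ zpowers y := by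
      rw [show ({x, y} : Set P) = {x} ∪ {y} from rfl, Subgroup.closure_union,
        ← zpowers_eq_closure, ← zpowers_eq_closure]
    apply frattini_nongenerating
    rw [h6, ← h5, hS', hS]
    ac_rfl

theorem isCyclic_of_surjective_of_mem_ker {Q : Type*} [Group Q] (hP : IsPGroup p P)
    (hΦ : (frattini P).index = p ^ 2) (f : P →* Q) (hf : Function.Surjective f) {x : P}
    (hx : x ∉ frattini P) (hxf : f x = 1) : IsCyclic Q := by
  obtain ⟨y, hy⟩ := exists_gen_pair hP hΦ hx
  have key : ∀ a : P, f a ∈ zpowers (f y) := by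
    intro a
    have ha : a ∈ Subgroup.closure ({x, y} : Set P) := by rw [hy]; trivial
    induction ha using Subgroup.closure_induction with
    | mem z hz =>
      rcases hz with rfl | rfl
      · rw [hxf]; exact one_mem _
      · exact mem_zpowers _
    | one => rw [map_one]; exact one_mem _
    | mul a b _ _ iha ihb => rw [map_mul]; exact mul_mem iha ihb
    | inv a _ iha => rw [map_inv]; exact inv_mem iha
  refine ⟨⟨f y, fun q => ?_⟩⟩
  obtain ⟨a, rfl⟩ := hf q
  obtain ⟨k, hk⟩ := mem_zpowers_iff.mp (key a)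
  exact ⟨k, hk⟩

theorem comm_mem_of_normal (hP : IsPGroup p P) (hΦ : (frattini P).index = p ^ 2) :
    ∀ (R : Subgroup P) [R.Normal] (x : P), x ∈ R → x ∉ frattini P →
      ∀ a b : P, a * b * a⁻¹ * b⁻¹ ∈ R := by
    intro R _ x hxR hxΦ a b
    have hc : IsCyclic (P ⧸ R) :=
      isCyclic_of_surjective_of_mem_ker hP hΦ (QuotientGroup.mk' R)
        (QuotientGroup.mk'_surjective R) hxΦ ((QuotientGroup.eq_one_iff x).mpr hxR)
    obtain ⟨g, hg⟩ := hc.exists_generator
    obtain ⟨i, hi⟩ := hg (QuotientGroup.mk' R a)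
    obtain ⟨j, hj⟩ := hg (QuotientGroup.mk' R b)
    have hcomm : QuotientGroup.mk' R a * QuotientGroup.mk' R b =
        QuotientGroup.mk' R b * QuotientGroup.mk' R a := by
      rw [← hi, ← hj]
      exact ((Commute.refl g).zpow_zpow i j).eq
    rw [← QuotientGroup.eq_one_iff]
    have : ((a * b * a⁻¹ * b⁻¹ : P) : P ⧸ R) =
        QuotientGroup.mk' R a * QuotientGroup.mk' R b * (QuotientGroup.mk' R a)⁻¹ *
          (QuotientGroup.mk' R b)⁻¹ := by
      simp
    rw [this, hcomm]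
    group

theorem commute_of_two_normal (hP : IsPGroup p P) (hΦ : (frattini P).index = p ^ 2)
    (R₁ R₂ : Subgroup P) [R₁.Normal] [R₂.Normal] (hR : R₁ ⊓ R₂ = ⊥) {x₁ x₂ : P}
    (h₁ : x₁ ∈ R₁) (h₁' : x₁ ∉ frattini P) (h₂ : x₂ ∈ R₂) (h₂' : x₂ ∉ frattini P) :
    ∀ a b : P, a * b = b * a := by
  have key := comm_mem_of_normal hP hΦ
  intro a b
  have h : a * b * a⁻¹ * b⁻¹ ∈ R₁ ⊓ R₂ := ⟨key R₁ x₁ h₁ h₁' a b, key R₂ x₂ h₂ h₂' a b⟩
  rw [hR, Subgroup.mem_bot] at h
  calc a * b = a * b * a⁻¹ * b⁻¹ * (b * a) := by group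
    _ = b * a := by rw [h, one_mul]

theorem commutator_le_frattini (hP : IsPGroup p P) : commutator P ≤ frattini P := by
  obtain ⟨hc, -⟩ := Cfsg.Agent.S4208.frattini_quot_props hP
  rw [commutator_def, Subgroup.commutator_le]
  intro a _ b _
  rw [← QuotientGroup.eq_one_iff, commutatorElement_def]
  simp only [QuotientGroup.mk_mul, QuotientGroup.mk_inv]
  rw [hc (QuotientGroup.mk a) (QuotientGroup.mk b)]
  group

end Abstract

section Transfer

/-- In a perfect finite group, a central `p`-element of a subgroup `H` of index prime to `p` lies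
in the derived subgroup of `H`. -/
theorem mem_commutator_of_center_of_perfect {E : Type*} [Group E] [Finite E] {p : ℕ}
    [hp : Fact p.Prime] (hE : commutator E = ⊤) (H : Subgroup E) (hH : (H.index).Coprime p)
    {z : E} (hzc : z ∈ center E) (hzH : z ∈ H) (hzp : ∃ k : ℕ, z ^ (p ^ k) = 1) :
    z ∈ ⁅H, H⁆ := by
  let ϕ : ↥H →* Abelianization ↥H := Abelianization.of
  have ht : ∀ g : E, ϕ.transfer g = 1 := by
    intro g
    have h1 := Abelianization.commutator_subset_ker ϕ.transfer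
    rw [hE] at h1
    exact h1 (Subgroup.mem_top g)
  have key : ∀ (k : ℕ) (g₀ : E), g₀⁻¹ * z ^ k * g₀ ∈ H → g₀⁻¹ * z ^ k * g₀ = z ^ k := by
    intro k g₀ _
    have hc : z ^ k ∈ center E := pow_mem hzc k
    rw [Subgroup.mem_center_iff] at hc
    rw [mul_assoc, ← hc g₀, ← mul_assoc, inv_mul_cancel, one_mul]
  have h2 := MonoidHom.transfer_eq_pow ϕ z key
  rw [ht] at h2
  have h3 : (⟨z ^ H.index, by exact pow_mem hzH _⟩ : ↥H) ∈ commutator ↥H := by
    rw [← Abelianization.ker_of, MonoidHom.mem_ker]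
    exact h2.symm
  have h4 : z ^ H.index ∈ ⁅H, H⁆ := by
    rw [← Subgroup.map_subtype_commutator]
    exact ⟨_, h3, rfl⟩
  obtain ⟨k, hk⟩ := hzp
  have h5 : (H.index).Coprime (orderOf z) := by
    obtain ⟨j, _, hj⟩ := (Nat.dvd_prime_pow hp.out).mp (orderOf_dvd_of_pow_eq_one hk)
    rw [hj]
    exact Nat.Coprime.pow_right j hH
  obtain ⟨m, hm⟩ := exists_pow_eq_self_of_coprime h5
  rw [← hm]
  exact pow_mem h4 m

end Transfer

section Sylow

variable {G : Type*} [Group G] [Finite G] {p : ℕ} [hp : Fact p.Prime]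

/-- Tate: under the hypotheses of S4172, every nontrivial normal subgroup meets `P` outside
`Φ(P)`. -/
theorem exists_mem_not_mem_frattini (P : Sylow p G) (hcore : Cfsg.pPrimeCore p G = ⊥)
    (hfrat : ((frattini ↥(P : Subgroup G)).map (P : Subgroup G).subtype).normalCore = ⊥)
    (K : Subgroup G) (hKn : K.Normal) (hK : K ≠ ⊥) :
    ∃ x : ↥(P : Subgroup G), (x : G) ∈ K ∧ x ∉ frattini ↥(P : Subgroup G) := by
  by_contra hcon
  push Not at hcon
  have h1 : K ⊓ (P : Subgroup G) ≤ (frattini ↥(P : Subgroup G)).map (P : Subgroup G).subtype := by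
    rintro g ⟨hgK, hgP⟩
    exact ⟨⟨g, hgP⟩, hcon ⟨g, hgP⟩ hgK, rfl⟩
  have h2 := Cfsg.Agent.S0081.result P K h1
  obtain ⟨M, Pk, hMK, hPkK, hKM, hPk, hMc, hcard, hsup, hall⟩ := Cfsg.Agent.S4043.npc_data K h2
  have hMn : M.Normal := by
    constructor
    intro m hm g
    apply hall
    · exact hKn.conj_mem m (hMK hm) g
    · have : orderOf (g * m * g⁻¹) = orderOf m := by
        have := orderOf_injective (MulAut.conj g).toMonoidHom (MulAut.conj g).injective m
        simpa using this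
      rw [this]
      have hd : orderOf m ∣ Nat.card ↥M := by
        have := orderOf_dvd_natCard (⟨m, hm⟩ : ↥M)
        rwa [Subgroup.orderOf_mk] at this
      exact Nat.Coprime.coprime_dvd_left hd hMc
  have hM : M = ⊥ := by
    have := Cfsg.Agent.Helper22.le_pPrimeCore hMn hMc
    rw [hcore] at this
    exact le_bot_iff.mp this
  have hKp : IsPGroup p K := by
    rw [← hsup, hM, bot_sup_eq]; exact hPk
  have hKP : K ≤ (P : Subgroup G) :=
    (Cfsg.Agent.Helper22.le_pCore hKn hKp).trans (Cfsg.Agent.Helper11.ZJ.pCore_le_sylow' P)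
  have hKΦ : K ≤ (frattini ↥(P : Subgroup G)).map (P : Subgroup G).subtype := by
    intro k hk
    exact ⟨⟨k, hKP hk⟩, hcon ⟨k, hKP hk⟩ hk, rfl⟩
  have := (Subgroup.normal_le_normalCore (H := (frattini ↥(P : Subgroup G)).map
    (P : Subgroup G).subtype) (N := K)).mpr hKΦ
  rw [hfrat] at this
  exact hK (le_bot_iff.mp this)

/-- The image of `P` modulo a nontrivial normal subgroup is cyclic. -/
theorem isCyclic_map_of_normal (P : Sylow p G)
    (hgen : (frattini ↥(P : Subgroup G)).index = p ^ 2) (hcore : Cfsg.pPrimeCore p G = ⊥)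
    (hfrat : ((frattini ↥(P : Subgroup G)).map (P : Subgroup G).subtype).normalCore = ⊥)
    (K : Subgroup G) [hKn : K.Normal] (hK : K ≠ ⊥) :
    IsCyclic ↥((P : Subgroup G).map (QuotientGroup.mk' K)) := by
  obtain ⟨x, hxK, hxΦ⟩ := exists_mem_not_mem_frattini P hcore hfrat K hKn hK
  refine isCyclic_of_surjective_of_mem_ker P.isPGroup' hgen
    ((QuotientGroup.mk' K).subgroupMap (P : Subgroup G))
    ((QuotientGroup.mk' K).subgroupMap_surjective (P : Subgroup G)) hxΦ ?_
  apply Subtype.ext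
  simp only [MonoidHom.subgroupMap_apply_coe, OneMemClass.coe_one]
  exact (QuotientGroup.eq_one_iff (x : G)).mpr hxK

/-- Two nontrivial normal subgroups meet nontrivially. -/
theorem inf_ne_bot_of_normal (P : Sylow p G) (hna : ¬ IsMulCommutative (P : Subgroup G))
    (hgen : (frattini ↥(P : Subgroup G)).index = p ^ 2) (hcore : Cfsg.pPrimeCore p G = ⊥)
    (hfrat : ((frattini ↥(P : Subgroup G)).map (P : Subgroup G).subtype).normalCore = ⊥)
    (K₁ K₂ : Subgroup G) (hK₁n : K₁.Normal) (hK₂n : K₂.Normal) (hK₁ : K₁ ≠ ⊥) (hK₂ : K₂ ≠ ⊥) :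
    K₁ ⊓ K₂ ≠ ⊥ := by
  intro h
  obtain ⟨x₁, hx₁K, hx₁Φ⟩ := exists_mem_not_mem_frattini P hcore hfrat K₁ hK₁n hK₁
  obtain ⟨x₂, hx₂K, hx₂Φ⟩ := exists_mem_not_mem_frattini P hcore hfrat K₂ hK₂n hK₂
  apply hna
  have hR : K₁.subgroupOf (P : Subgroup G) ⊓ K₂.subgroupOf (P : Subgroup G) = ⊥ := by
    rw [eq_bot_iff]
    rintro z ⟨hz1, hz2⟩
    have hz : (z : G) ∈ K₁ ⊓ K₂ := ⟨Subgroup.mem_subgroupOf.mp hz1, Subgroup.mem_subgroupOf.mp hz2⟩
    rw [h, Subgroup.mem_bot] at hz
    rw [Subgroup.mem_bot]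
    exact Subtype.ext hz
  have := commute_of_two_normal P.isPGroup' hgen (K₁.subgroupOf (P : Subgroup G))
    (K₂.subgroupOf (P : Subgroup G)) hR (Subgroup.mem_subgroupOf.mpr hx₁K) hx₁Φ
    (Subgroup.mem_subgroupOf.mpr hx₂K) hx₂Φ
  exact ⟨⟨this⟩⟩

/-- There is a least nontrivial normal subgroup. -/
theorem exists_least_normal (P : Sylow p G) (hna : ¬ IsMulCommutative (P : Subgroup G))
    (hgen : (frattini ↥(P : Subgroup G)).index = p ^ 2) (hcore : Cfsg.pPrimeCore p G = ⊥)
    (hfrat : ((frattini ↥(P : Subgroup G)).map (P : Subgroup G).subtype).normalCore = ⊥) :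
    ∃ N₀ : Subgroup G, N₀.Normal ∧ N₀ ≠ ⊥ ∧ ∀ K : Subgroup G, K.Normal → K ≠ ⊥ → N₀ ≤ K := by
  have htop : (⊤ : Subgroup G) ≠ ⊥ := by
    intro h
    apply hna
    refine ⟨⟨fun a b => ?_⟩⟩
    have ha : (a : G) ∈ (⊤ : Subgroup G) := trivial
    have hb : (b : G) ∈ (⊤ : Subgroup G) := trivial
    rw [h, Subgroup.mem_bot] at ha hb
    apply Subtype.ext
    simp [ha, hb]
  let 𝒮 : Set (Subgroup G) := {K | K.Normal ∧ K ≠ ⊥}
  have hfin : 𝒮.Finite := Set.toFinite 𝒮
  have hne : 𝒮.Nonempty := ⟨⊤, inferInstance, htop⟩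
  obtain ⟨N₀, hN₀, hmin⟩ := Set.exists_min_image 𝒮 (fun K => Nat.card K) hfin hne
  refine ⟨N₀, hN₀.1, hN₀.2, fun K hKn hK => ?_⟩
  have hN₀n := hN₀.1
  have h1 : N₀ ⊓ K ≠ ⊥ := inf_ne_bot_of_normal P hna hgen hcore hfrat N₀ K hN₀.1 hKn hN₀.2 hK
  have h2 : (N₀ ⊓ K).Normal := inferInstance
  have h3 := hmin (N₀ ⊓ K) ⟨h2, h1⟩
  have h4 : N₀ ⊓ K = N₀ := Subgroup.eq_of_le_of_card_ge inf_le_left h3
  rw [← h4]; exact inf_le_right

/-- `O_p(G)` is elementary abelian. -/
theorem pCore_elementary (P : Sylow p G)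
    (hfrat : ((frattini ↥(P : Subgroup G)).map (P : Subgroup G).subtype).normalCore = ⊥) :
    (∀ a ∈ Cfsg.pCore p G, ∀ b ∈ Cfsg.pCore p G, a * b = b * a) ∧
      ∀ a ∈ Cfsg.pCore p G, a ^ p = 1 := by
  have hQP : Cfsg.pCore p G ≤ (P : Subgroup G) := Cfsg.Agent.Helper11.ZJ.pCore_le_sylow' P
  have hQn : (Cfsg.pCore p G).Normal := Cfsg.Agent.Helper11.ZJ.pCore_normal' p G
  obtain ⟨hc, he⟩ := Cfsg.Agent.S4208.frattini_quot_props (P := ↥(P : Subgroup G)) P.isPGroup'
  have hbot : ∀ z : G, (∀ g : G, g * z * g⁻¹ ∈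
      (frattini ↥(P : Subgroup G)).map (P : Subgroup G).subtype) → z = 1 := by
    intro z hz
    have : z ∈ ((frattini ↥(P : Subgroup G)).map (P : Subgroup G).subtype).normalCore := hz
    rw [hfrat, Subgroup.mem_bot] at this
    exact this
  constructor
  · intro a ha b hb
    have h1 : a * b * a⁻¹ * b⁻¹ = 1 := by
      apply hbot
      intro g
      have hga : g * a * g⁻¹ ∈ (P : Subgroup G) := hQP (hQn.conj_mem a ha g)
      have hgb : g * b * g⁻¹ ∈ (P : Subgroup G) := hQP (hQn.conj_mem b hb g)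
      refine ⟨(⟨_, hga⟩ : ↥(P : Subgroup G)) * ⟨_, hgb⟩ * (⟨_, hga⟩ : ↥(P : Subgroup G))⁻¹ *
        (⟨_, hgb⟩ : ↥(P : Subgroup G))⁻¹, ?_, ?_⟩
      · rw [SetLike.mem_coe, ← QuotientGroup.eq_one_iff]
        have := hc (QuotientGroup.mk (⟨_, hga⟩ : ↥(P : Subgroup G)))
          (QuotientGroup.mk (⟨_, hgb⟩ : ↥(P : Subgroup G)))
        simp only [QuotientGroup.mk_mul, QuotientGroup.mk_inv]
        rw [this]; group
      · simp only [Subgroup.coe_subtype, Subgroup.coe_mul, Subgroup.coe_inv]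
        group
    calc a * b = a * b * a⁻¹ * b⁻¹ * (b * a) := by group
      _ = b * a := by rw [h1, one_mul]
  · intro a ha
    apply hbot
    intro g
    have hga : g * a * g⁻¹ ∈ (P : Subgroup G) := hQP (hQn.conj_mem a ha g)
    refine ⟨(⟨_, hga⟩ : ↥(P : Subgroup G)) ^ p, ?_, ?_⟩
    · rw [SetLike.mem_coe, ← QuotientGroup.eq_one_iff]
      rw [QuotientGroup.mk_pow]
      exact he _
    · simp only [Subgroup.coe_subtype, Subgroup.coe_pow]
      rw [conj_pow]

omit [Finite G] in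
theorem layer_commutator_eq : ⁅Cfsg.layer G, Cfsg.layer G⁆ = Cfsg.layer G := by
  apply le_antisymm (Subgroup.commutator_le_left _ _)
  unfold Cfsg.layer
  apply sSup_le
  intro K hK
  have h1 : ⁅K, K⁆ = K := Cfsg.Agent.Helper22.IsQuasisimple.commutator_eq hK.2
  rw [← h1]
  exact Subgroup.commutator_mono (le_sSup hK) (le_sSup hK)

/-- Case A: if the least normal subgroup lies in `O_p(G)` then `E(G) = 1`. -/
theorem layer_eq_bot_of_le_pCore (P : Sylow p G) (hcore : Cfsg.pPrimeCore p G = ⊥)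
    (hfrat : ((frattini ↥(P : Subgroup G)).map (P : Subgroup G).subtype).normalCore = ⊥)
    (N₀ : Subgroup G) (hN₀n : N₀.Normal) (hN₀ : N₀ ≠ ⊥)
    (hmin : ∀ K : Subgroup G, K.Normal → K ≠ ⊥ → N₀ ≤ K) (hN₀Q : N₀ ≤ Cfsg.pCore p G) :
    Cfsg.layer G = ⊥ := by
  by_contra hE
  have hN₀E : N₀ ≤ Cfsg.layer G := hmin _ inferInstance hE
  obtain ⟨x, hxN, hxΦ⟩ := exists_mem_not_mem_frattini P hcore hfrat N₀ hN₀n hN₀
  apply hxΦ
  have hxE : (x : G) ∈ Cfsg.layer G := hN₀E hxN
  have hxF : (x : G) ∈ Cfsg.fittingSubgroup G :=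
    Cfsg.Agent.Helper22.pCore_le_fittingSubgroup p (hN₀Q hxN)
  have hcomm : ∀ e ∈ Cfsg.layer G, e * (x : G) = (x : G) * e := by
    intro e he
    have h1 : ⁅e, (x : G)⁆ ∈ ⁅Cfsg.layer G, Cfsg.fittingSubgroup G⁆ :=
      Subgroup.commutator_mem_commutator he hxF
    rw [Cfsg.Agent.Helper22.commutator_layer_fittingSubgroup, Subgroup.mem_bot,
      commutatorElement_eq_one_iff_mul_comm] at h1
    exact h1
  have hperf : commutator ↥(Cfsg.layer G) = ⊤ := by
    have h1 := Subgroup.map_subtype_commutator (Cfsg.layer G)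
    rw [layer_commutator_eq] at h1
    apply Subgroup.map_injective (Cfsg.layer G).subtype_injective
    rw [h1, ← MonoidHom.range_eq_map, Subgroup.range_subtype]
  have hidx : (((P : Subgroup G).subgroupOf (Cfsg.layer G)).index).Coprime p := by
    have := Cfsg.Agent.Helper11.ZJ.not_dvd_relIndex_normal P (Cfsg.layer G)
    exact ((Nat.Prime.coprime_iff_not_dvd hp.out).mpr this).symm
  have hz := mem_commutator_of_center_of_perfect (p := p) hperf
    ((P : Subgroup G).subgroupOf (Cfsg.layer G)) hidx (z := ⟨(x : G), hxE⟩)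
    (by
      rw [Subgroup.mem_center_iff]
      intro g
      exact Subtype.ext (hcomm g g.2))
    (Subgroup.mem_subgroupOf.mpr x.2)
    (by
      obtain ⟨k, hk⟩ := P.isPGroup' x
      exact ⟨k, Subtype.ext (by simpa using congrArg Subtype.val hk)⟩)
  have hxP : (x : G) ∈ ⁅(P : Subgroup G), (P : Subgroup G)⁆ := by
    have h1 := Subgroup.mem_map_of_mem (Cfsg.layer G).subtype hz
    rw [Subgroup.map_commutator] at h1
    refine Subgroup.commutator_mono ?_ ?_ h1 <;>
    · rw [Subgroup.subgroupOf_map_subtype]; exact inf_le_left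
  rw [← Subgroup.map_subtype_commutator] at hxP
  obtain ⟨y, hy, hyx⟩ := hxP
  have : y = x := Subtype.ext hyx
  rw [← this]
  exact commutator_le_frattini P.isPGroup' hy

/-- The subgroup of elements acting trivially on `Q / N`. -/
def centMod (Q N : Subgroup G) [hQ : Q.Normal] [hN : N.Normal] : Subgroup G where
  carrier := {g | ∀ q ∈ Q, g * q * g⁻¹ * q⁻¹ ∈ N}
  one_mem' := by intro q _; simp
  mul_mem' := by
    intro g h hg hh q hq
    have h1 := hN.conj_mem _ (hh q hq) g
    have h2 := mul_mem h1 (hg q hq)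
    have : g * (h * q * h⁻¹ * q⁻¹) * g⁻¹ * (g * q * g⁻¹ * q⁻¹) = g * h * q * (g * h)⁻¹ * q⁻¹ := by
      group
    rwa [this] at h2
  inv_mem' := by
    intro g hg q hq
    have hq' : g⁻¹ * q * g ∈ Q := by simpa using hQ.conj_mem q hq g⁻¹
    have h1 := inv_mem (hg _ hq')
    have : (g * (g⁻¹ * q * g) * g⁻¹ * (g⁻¹ * q * g)⁻¹)⁻¹ = g⁻¹ * q * g⁻¹⁻¹ * q⁻¹ := by group
    rwa [this] at h1

omit [Finite G] in
theorem mem_centMod {Q N : Subgroup G} [Q.Normal] [N.Normal] {g : G} :
    g ∈ centMod Q N ↔ ∀ q ∈ Q, g * q * g⁻¹ * q⁻¹ ∈ N := Iff.rfl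

instance centMod_normal (Q N : Subgroup G) [hQ : Q.Normal] [hN : N.Normal] :
    (centMod Q N).Normal := by
  constructor
  intro n hn g q hq
  have hq' : g⁻¹ * q * g ∈ Q := by simpa using hQ.conj_mem q hq g⁻¹
  have h1 := hN.conj_mem _ (hn _ hq') g
  have : g * (n * (g⁻¹ * q * g) * n⁻¹ * (g⁻¹ * q * g)⁻¹) * g⁻¹ =
      g * n * g⁻¹ * q * (g * n * g⁻¹)⁻¹ * q⁻¹ := by group
  rwa [this] at h1

/-- Case A: if the least normal subgroup lies in `O_p(G)`, and `O_p(G)` is self-centralizing,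
then `O_p(G)` is the least normal subgroup. -/
theorem pCore_le_of_least (P : Sylow p G) (hna : ¬ IsMulCommutative (P : Subgroup G))
    (hgen : (frattini ↥(P : Subgroup G)).index = p ^ 2) (hcore : Cfsg.pPrimeCore p G = ⊥)
    (hfrat : ((frattini ↥(P : Subgroup G)).map (P : Subgroup G).subtype).normalCore = ⊥)
    (N₀ : Subgroup G) (hN₀n : N₀.Normal) (hN₀ : N₀ ≠ ⊥)
    (hmin : ∀ K : Subgroup G, K.Normal → K ≠ ⊥ → N₀ ≤ K) (hN₀Q : N₀ ≤ Cfsg.pCore p G)
    (hcent : centralizer (Cfsg.pCore p G : Set G) ≤ Cfsg.pCore p G) :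
    Cfsg.pCore p G ≤ N₀ := by
  classical
  have hQn : (Cfsg.pCore p G).Normal := Cfsg.Agent.Helper11.ZJ.pCore_normal' p G
  have hQP : Cfsg.pCore p G ≤ (P : Subgroup G) := Cfsg.Agent.Helper11.ZJ.pCore_le_sylow' P
  obtain ⟨hQc, hQe⟩ := pCore_elementary P hfrat
  obtain ⟨x, hxN, hxΦ⟩ := exists_mem_not_mem_frattini P hcore hfrat N₀ hN₀n hN₀
  have hPP : ∀ a ∈ (P : Subgroup G), ∀ b ∈ (P : Subgroup G), a * b * a⁻¹ * b⁻¹ ∈ N₀ := by
    intro a ha b hb
    have := comm_mem_of_normal P.isPGroup' hgen (N₀.subgroupOf (P : Subgroup G)) x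
      (mem_subgroupOf.mpr hxN) hxΦ ⟨a, ha⟩ ⟨b, hb⟩
    exact mem_subgroupOf.mp this
  obtain ⟨y, hy⟩ := exists_gen_pair P.isPGroup' hgen hxΦ
  have hdec : ∀ a : ↥(P : Subgroup G), ∃ m ∈ N₀, ∃ i : ℤ, (a : G) = m * (y : G) ^ i := by
    intro a
    have ha : a ∈ closure ({x, y} : Set ↥(P : Subgroup G)) := by rw [hy]; trivial
    induction ha using closure_induction with
    | mem z hz =>
      rcases hz with rfl | rfl
      · exact ⟨z, hxN, 0, by simp⟩
      · exact ⟨1, one_mem _, 1, by simp⟩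
    | one => exact ⟨1, one_mem _, 0, by simp⟩
    | mul a b _ _ iha ihb =>
      obtain ⟨m₁, hm₁, i, hi⟩ := iha
      obtain ⟨m₂, hm₂, j, hj⟩ := ihb
      refine ⟨m₁ * ((y : G) ^ i * m₂ * ((y : G) ^ i)⁻¹),
        mul_mem hm₁ (hN₀n.conj_mem m₂ hm₂ _), i + j, ?_⟩
      rw [Subgroup.coe_mul, hi, hj, zpow_add]; group
    | inv a _ iha =>
      obtain ⟨m₁, hm₁, i, hi⟩ := iha
      refine ⟨((y : G) ^ i)⁻¹ * m₁⁻¹ * (y : G) ^ i, ?_, -i, ?_⟩
      · have := hN₀n.conj_mem m₁⁻¹ (inv_mem hm₁) ((y : G) ^ i)⁻¹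
        simpa using this
      · rw [Subgroup.coe_inv, hi, zpow_neg]; group
  have hPG₁ : (P : Subgroup G) ≤ centMod (Cfsg.pCore p G) N₀ :=
    fun a ha q hq => hPP a ha q (hQP hq)
  set C : Subgroup G := Cfsg.pCore p G ⊓ centralizer (centMod (Cfsg.pCore p G) N₀ : Set G)
    with hC
  have hCn : C.Normal := inferInstance
  have hidx : (((P : Subgroup G).subgroupOf (centMod (Cfsg.pCore p G) N₀)).index).Coprime p := by
    have h1 : ((P : Subgroup G).subgroupOf (centMod (Cfsg.pCore p G) N₀)).index ∣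
        (P : Subgroup G).index := Dvd.intro _ (relIndex_mul_index hPG₁)
    exact Nat.Coprime.coprime_dvd_left h1
      ((Nat.Prime.coprime_iff_not_dvd hp.out).mpr P.not_dvd_index).symm
  have hsub : ∀ q ∈ Cfsg.pCore p G, ∃ c ∈ C, ∃ u ∈ Cfsg.pCore p G, ∃ m ∈ N₀, q = m * u ∧
      ∃ n : ℕ, n.Coprime p ∧ c * (u ^ n)⁻¹ ∈ N₀ := by
    intro q hq
    obtain ⟨m, hm, i, hi⟩ := hdec ⟨q, hQP hq⟩
    simp only at hi
    set u : G := (y : G) ^ i with hu
    have huQ : u ∈ Cfsg.pCore p G := by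
      have : u = m⁻¹ * q := by rw [hi]; group
      rw [this]; exact mul_mem (inv_mem (hN₀Q hm)) hq
    have hucomm : ∀ a ∈ (P : Subgroup G), a * u = u * a := by
      intro a ha
      obtain ⟨m', hm', j, hj⟩ := hdec ⟨a, ha⟩
      simp only at hj
      have h1 : u * m' = m' * u := hQc u huQ m' (hN₀Q hm')
      have h2 : u * (y : G) ^ j = (y : G) ^ j * u := by
        rw [hu, ← zpow_add, ← zpow_add, add_comm]
      rw [hj, mul_assoc, ← h2, ← mul_assoc, ← mul_assoc, h1]
    let _ : CommGroup ↥(Cfsg.pCore p G) :=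
      { (inferInstance : Group ↥(Cfsg.pCore p G)) with
        mul_comm := fun a b => Subtype.ext (hQc a a.2 b b.2) }
    let φ : ↥(centMod (Cfsg.pCore p G) N₀) →* MulAut ↥(Cfsg.pCore p G) :=
      (MulAut.conjNormal (H := Cfsg.pCore p G)).comp (centMod (Cfsg.pCore p G) N₀).subtype
    have hφ : ∀ (g : ↥(centMod (Cfsg.pCore p G) N₀)) (a : ↥(Cfsg.pCore p G)),
        ((φ g a : ↥(Cfsg.pCore p G)) : G) = (g : G) * a * (g : G)⁻¹ := fun g a => rfl
    obtain ⟨c, hc1, hc2⟩ := Cfsg.Agent.Helper47.exists_fixed_of_transfer φ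
      ((P : Subgroup G).subgroupOf (centMod (Cfsg.pCore p G) N₀)) (⟨u, huQ⟩ : ↥(Cfsg.pCore p G))
      (by
        intro t ht
        apply Subtype.ext
        rw [hφ]
        have := hucomm t (mem_subgroupOf.mp ht)
        simp only
        rw [this, mul_inv_cancel_right])
      (N₀.subgroupOf (Cfsg.pCore p G))
      (by
        intro g
        rw [mem_subgroupOf]
        have := g.2 u huQ
        simpa [div_eq_mul_inv, hφ] using this)
    refine ⟨(c : G), ⟨c.2, mem_centralizer_iff.mpr ?_⟩, u, huQ, m, hm, hi, _, hidx, ?_⟩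
    · intro g hg
      have := congrArg Subtype.val (hc1 ⟨g, hg⟩)
      rw [hφ] at this
      simp only at this
      calc g * (c : G) = g * (c : G) * g⁻¹ * g := by group
        _ = (c : G) * g := by rw [this]
    · have := mem_subgroupOf.mp hc2
      simpa [div_eq_mul_inv] using this
  by_contra hcon
  obtain ⟨q₀, hq₀, hq₀N⟩ := SetLike.not_le_iff_exists.mp hcon
  have hpow : ∀ (K : Subgroup G) (u : G), u ∈ Cfsg.pCore p G → ∀ n : ℕ, n.Coprime p → u ^ n ∈ K →
      u ∈ K := fun K u hu n hn h =>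
    Cfsg.Agent.Helper47.mem_of_pow_mem_of_pow_eq_one hn (hQe u hu) h
  have hN₀C : N₀ ≤ C := by
    obtain ⟨c, hcC, u, huQ, m, hm, hqm, n, hn, hcu⟩ := hsub q₀ hq₀
    apply hmin C hCn
    intro hbot
    rw [hbot, mem_bot] at hcC
    apply hq₀N
    rw [hqm]
    refine mul_mem hm (hpow N₀ u huQ n hn ?_)
    rw [hcC, one_mul] at hcu
    simpa using inv_mem hcu
  have hQC : Cfsg.pCore p G ≤ C := by
    intro q hq
    obtain ⟨c, hcC, u, huQ, m, hm, hqm, n, hn, hcu⟩ := hsub q hq
    rw [hqm]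
    refine mul_mem (hN₀C hm) (hpow C u huQ n hn ?_)
    have : u ^ n = (c * (u ^ n)⁻¹)⁻¹ * c := by group
    rw [this]
    exact mul_mem (inv_mem (hN₀C hcu)) hcC
  have hG₁Q : centMod (Cfsg.pCore p G) N₀ ≤ Cfsg.pCore p G := by
    intro g hg
    apply hcent
    rw [mem_centralizer_iff]
    intro q hq
    have := mem_centralizer_iff.mp (hQC hq).2 g hg
    exact this.symm
  apply hna
  refine ⟨⟨fun a b => Subtype.ext ?_⟩⟩
  exact hQc a (hG₁Q (hPG₁ a.2)) b (hG₁Q (hPG₁ b.2))

theorem fittingSubgroup_le_pCore (hcore : Cfsg.pPrimeCore p G = ⊥) :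
    Cfsg.fittingSubgroup G ≤ Cfsg.pCore p G := by
  have := Cfsg.Agent.Helper22.fittingSubgroup_le_pCore_sup_pPrimeCore (G := G) p
  rwa [hcore, sup_bot_eq] at this

omit [Finite G] in
theorem le_fittingSubgroup_of_comm (N : Subgroup G) (hNn : N.Normal)
    (hc : ∀ a ∈ N, ∀ b ∈ N, a * b = b * a) : N ≤ Cfsg.fittingSubgroup G := by
  apply Cfsg.Agent.Helper22.le_fittingSubgroup hNn
  let _ : CommGroup ↥N :=
    { (inferInstance : Group ↥N) with mul_comm := fun a b => Subtype.ext (hc a a.2 b b.2) }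
  exact CommGroup.isNilpotent

/-- Case B: if `O_p(G) = 1` then `E(G)` lies in the least normal subgroup. -/
theorem layer_le_of_pCore_eq_bot (hcore : Cfsg.pPrimeCore p G = ⊥)
    (N₀ : Subgroup G) (hN₀n : N₀.Normal) (hN₀ : N₀ ≠ ⊥)
    (hmin : ∀ K : Subgroup G, K.Normal → K ≠ ⊥ → N₀ ≤ K) (hQ : Cfsg.pCore p G = ⊥) :
    Cfsg.layer G ≤ N₀ := by
  have hF : Cfsg.fittingSubgroup G = ⊥ := by
    have := fittingSubgroup_le_pCore (G := G) (p := p) hcore
    rw [hQ] at this
    exact le_bot_iff.mp this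
  unfold Cfsg.layer
  apply sSup_le
  intro K hK
  rcases Cfsg.Agent.Helper22.component_le_or_commutator_eq_bot hK
    (Subgroup.Normal.isSubnormal hN₀n) with h | h
  · exact h
  · exfalso
    have h1 : K ≤ centralizer (N₀ : Set G) := commutator_eq_bot_iff_le_centralizer.mp h
    have h2 : normalClosure (K : Set G) ≤ centralizer (N₀ : Set G) :=
      normalClosure_le_normal h1
    have hKne : K ≠ ⊥ := Cfsg.Agent.Helper22.IsQuasisimple.ne_bot hK.2
    have h3 : N₀ ≤ normalClosure (K : Set G) := by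
      apply hmin _ normalClosure_normal
      intro hbot
      apply hKne
      have := le_normalClosure (H := K)
      rw [hbot] at this
      exact le_bot_iff.mp this
    have h4 : N₀ ≤ Cfsg.fittingSubgroup G := by
      apply le_fittingSubgroup_of_comm N₀ hN₀n
      intro a ha b hb
      exact (mem_centralizer_iff.mp (h2 (h3 hb)) a ha)
    rw [hF] at h4
    exact hN₀ (le_bot_iff.mp h4)

/-- A subgroup containing a component has no normal `p`-complement when `O_{p'}(G) = 1`. -/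
theorem not_hasNormalPComplement_of_component (hcore : Cfsg.pPrimeCore p G = ⊥) {K A : Subgroup G}
    (hK : Cfsg.IsComponent K) (hKA : K ≤ A) : ¬ Cfsg.HasNormalPComplement p ↥A := by
  intro hA
  obtain ⟨M, Pk, hMA, -, -, -, hMc, -, -, hall⟩ := Cfsg.Agent.S4043.npc_data A hA
  let Y : Subgroup ↥K := closure {k : ↥K | (orderOf k).Coprime p}
  have hYn : Y.Normal := by
    constructor
    intro n hn g
    induction hn using closure_induction with
    | mem k hk =>
      apply Subgroup.subset_closure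
      have : orderOf (g * k * g⁻¹) = orderOf k := by
        have := orderOf_injective (MulAut.conj g).toMonoidHom (MulAut.conj g).injective k
        simpa using this
      show (orderOf (g * k * g⁻¹)).Coprime p
      rw [this]; exact hk
    | one => simp
    | mul a b _ _ iha ihb =>
      have : g * (a * b) * g⁻¹ = g * a * g⁻¹ * (g * b * g⁻¹) := by group
      rw [this]; exact mul_mem iha ihb
    | inv a _ iha =>
      have : g * a⁻¹ * g⁻¹ = (g * a * g⁻¹)⁻¹ := by group
      rw [this]; exact inv_mem iha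
  have hYM : Y.map K.subtype ≤ M := by
    rw [map_le_iff_le_comap, closure_le]
    intro k hk
    apply hall _ (hKA k.2)
    have : orderOf (k : G) = orderOf k := Subgroup.orderOf_coe k
    rw [this]; exact hk
  rcases Cfsg.Agent.Helper22.quasisimple_normal_top_or_le_center hK.2 Y with h | h
  · have hKM : K ≤ M := by
      intro k hk
      apply hYM
      exact ⟨⟨k, hk⟩, by rw [h]; trivial, rfl⟩
    have hKc : (Nat.card K).Coprime p :=
      Nat.Coprime.coprime_dvd_left (Subgroup.card_dvd_of_le hKM) hMc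
    have := Cfsg.Agent.Helper22.le_pPrimeCore_of_subnormal hK.1 le_rfl le_normalizer hKc
    rw [hcore] at this
    exact Cfsg.Agent.Helper22.IsQuasisimple.ne_bot hK.2 (le_bot_iff.mp this)
  · have hpg : IsPGroup p (↥K ⧸ center ↥K) := by
      intro q
      induction q using QuotientGroup.induction_on with | _ k => ?_
      have hk0 : orderOf k ≠ 0 := (orderOf_pos k).ne'
      obtain ⟨e, m, hm, hkm⟩ := Nat.exists_eq_pow_mul_and_not_dvd hk0 p hp.out.ne_one
      refine ⟨e, ?_⟩
      rw [← QuotientGroup.mk_pow, QuotientGroup.eq_one_iff]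
      apply h
      apply Subgroup.subset_closure
      show (orderOf (k ^ p ^ e)).Coprime p
      have h1 : (k ^ p ^ e) ^ m = 1 := by
        rw [← pow_mul, ← hkm, pow_orderOf_eq_one]
      have h2 : orderOf (k ^ p ^ e) ∣ m := orderOf_dvd_of_pow_eq_one h1
      exact Nat.Coprime.coprime_dvd_left h2 ((Nat.Prime.coprime_iff_not_dvd hp.out).mpr hm).symm
    have hnil : Group.IsNilpotent (↥K ⧸ center ↥K) := hpg.isNilpotent
    have hcs : Group.IsSolvable ↥(center ↥K) :=
      Group.isSolvable_of_comm (fun a b => Subtype.ext (mem_center_iff.mp b.2 (a : ↥K)))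
    have hsol : Group.IsSolvable ↥K :=
      Group.isSolvable_of_ker_le_range (center ↥K).subtype (QuotientGroup.mk' (center ↥K))
        (by rw [QuotientGroup.ker_mk', Subgroup.range_subtype])
    exact Cfsg.Agent.Helper22.IsQuasisimple.not_isSolvable hK.2 hsol

/-- Tate's theorem inside the normalizer of a `P`-invariant subgroup containing a component. -/
theorem exists_mem_not_mem_frattini_of_component (P : Sylow p G)
    (hcore : Cfsg.pPrimeCore p G = ⊥) (N : Subgroup G)
    (hPN : (P : Subgroup G) ≤ normalizer (N : Set G)) {K : Subgroup G}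
    (hK : Cfsg.IsComponent K) (hKN : K ≤ N) :
    ∃ x : ↥(P : Subgroup G), (x : G) ∈ N ∧ x ∉ frattini ↥(P : Subgroup G) := by
  by_contra hcon
  push Not at hcon
  apply not_hasNormalPComplement_of_component hcore hK hKN
  have hNn : (N.subgroupOf (normalizer (N : Set G))).Normal := normal_in_normalizer
  let f : ↥(P : Subgroup G) →* ↥((P.subtype hPN : Sylow p ↥(normalizer (N : Set G))) :
      Subgroup ↥(normalizer (N : Set G))) :=
    { toFun := fun a => ⟨⟨(a : G), hPN a.2⟩, by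
        rw [Sylow.coe_subtype, mem_subgroupOf]; exact a.2⟩
      map_one' := rfl
      map_mul' := fun a b => rfl }
  have hf : Function.Surjective f := by
    rintro ⟨w, hw⟩
    have hw' : (w : G) ∈ (P : Subgroup G) := by
      rw [Sylow.coe_subtype, mem_subgroupOf] at hw; exact hw
    exact ⟨⟨(w : G), hw'⟩, rfl⟩
  have h1 : N.subgroupOf (normalizer (N : Set G)) ⊓
      ((P.subtype hPN : Sylow p ↥(normalizer (N : Set G))) : Subgroup ↥(normalizer (N : Set G))) ≤
      (frattini ↥((P.subtype hPN : Sylow p ↥(normalizer (N : Set G))) :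
        Subgroup ↥(normalizer (N : Set G)))).map
      ((P.subtype hPN : Sylow p ↥(normalizer (N : Set G))) :
        Subgroup ↥(normalizer (N : Set G))).subtype := by
    rintro z ⟨hzN, hzP⟩
    have hzP' : (z : G) ∈ (P : Subgroup G) := hzP
    have h2 := hcon ⟨(z : G), hzP'⟩ (mem_subgroupOf.mp hzN)
    have h3 := frattini_le_comap_frattini_of_surjective hf h2
    exact ⟨f ⟨(z : G), hzP'⟩, h3, rfl⟩
  have h4 := Cfsg.Agent.S0081.result (P.subtype hPN) (N.subgroupOf (normalizer (N : Set G))) h1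
  exact Cfsg.Agent.Helper2.hasNormalPComplement_of_mulEquiv
    (subgroupOfEquivOfLe (le_normalizer : N ≤ normalizer (N : Set G))) h4

/-- When `O_p(G) = 1`, `P` permutes the components transitively. -/
theorem exists_conj_of_components (P : Sylow p G) (hna : ¬ IsMulCommutative (P : Subgroup G))
    (hgen : (frattini ↥(P : Subgroup G)).index = p ^ 2) (hcore : Cfsg.pPrimeCore p G = ⊥)
    (hQ : Cfsg.pCore p G = ⊥) {K L : Subgroup G} (hK : Cfsg.IsComponent K)
    (hL : Cfsg.IsComponent L) :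
    ∃ x ∈ (P : Subgroup G), L = K.map (MulAut.conj x).toMonoidHom := by
  by_contra hcon
  push Not at hcon
  have hF : Cfsg.fittingSubgroup G = ⊥ := by
    have := fittingSubgroup_le_pCore (G := G) (p := p) hcore
    rw [hQ] at this
    exact le_bot_iff.mp this
  have hK' : ∀ x : ↥(P : Subgroup G), Cfsg.IsComponent (Cfsg.Agent.Helper22.conjS (x : G) K) :=
    fun x => Cfsg.Agent.Helper22.IsComponent.conj hK x
  have hL' : ∀ x : ↥(P : Subgroup G), Cfsg.IsComponent (Cfsg.Agent.Helper22.conjS (x : G) L) :=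
    fun x => Cfsg.Agent.Helper22.IsComponent.conj hL x
  have hne : ∀ x y : ↥(P : Subgroup G),
      Cfsg.Agent.Helper22.conjS (x : G) K ≠ Cfsg.Agent.Helper22.conjS (y : G) L := by
    intro x y h
    apply hcon ((y : G)⁻¹ * x) (mul_mem (inv_mem y.2) x.2)
    show L = Cfsg.Agent.Helper22.conjS ((y : G)⁻¹ * x) K
    rw [Cfsg.Agent.Helper22.conjS_mul, h, Cfsg.Agent.Helper22.conjS_inv_conjS]
  have hcomm : ⁅⨆ x : ↥(P : Subgroup G), Cfsg.Agent.Helper22.conjS (x : G) K,
      ⨆ x : ↥(P : Subgroup G), Cfsg.Agent.Helper22.conjS (x : G) L⁆ = ⊥ := by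
    rw [commutator_eq_bot_iff_le_centralizer]
    apply iSup_le
    intro x
    rw [le_centralizer_iff]
    apply iSup_le
    intro y
    rw [le_centralizer_iff, ← commutator_eq_bot_iff_le_centralizer]
    exact Cfsg.Agent.Helper22.component_commute (hK' x) (hL' y) (hne x y)
  have hnorm : ∀ M : Subgroup G, (P : Subgroup G) ≤
      normalizer ((⨆ x : ↥(P : Subgroup G), Cfsg.Agent.Helper22.conjS (x : G) M : Subgroup G) :
        Set G) := by
    intro M
    have key : ∀ y ∈ (P : Subgroup G), Cfsg.Agent.Helper22.conjS y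
        (⨆ x : ↥(P : Subgroup G), Cfsg.Agent.Helper22.conjS (x : G) M) ≤
        ⨆ x : ↥(P : Subgroup G), Cfsg.Agent.Helper22.conjS (x : G) M := by
      intro y hy
      unfold Cfsg.Agent.Helper22.conjS
      rw [Subgroup.map_iSup]
      apply iSup_le
      intro x
      have h1 := Cfsg.Agent.Helper22.conjS_mul y (x : G) M
      unfold Cfsg.Agent.Helper22.conjS at h1
      rw [← h1]
      exact le_iSup (fun x : ↥(P : Subgroup G) => M.map (MulAut.conj (x : G)).toMonoidHom)
        ⟨y * x, mul_mem hy x.2⟩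
    intro y hy
    exact Cfsg.Agent.Helper22.mem_normalizer_of_conjS_le (key y hy) (key y⁻¹ (inv_mem hy))
  have hle : ∀ M : Subgroup G, M ≤ ⨆ x : ↥(P : Subgroup G), Cfsg.Agent.Helper22.conjS (x : G) M := by
    intro M
    have := le_iSup (fun x : ↥(P : Subgroup G) => Cfsg.Agent.Helper22.conjS (x : G) M) 1
    simpa [Cfsg.Agent.Helper22.conjS_one] using this
  have hinf : (⨆ x : ↥(P : Subgroup G), Cfsg.Agent.Helper22.conjS (x : G) K) ⊓
      (⨆ x : ↥(P : Subgroup G), Cfsg.Agent.Helper22.conjS (x : G) L) = ⊥ := by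
    rw [eq_bot_iff]
    rintro z ⟨hz1, hz2⟩
    have h12 := commutator_eq_bot_iff_le_centralizer.mp hcomm
    have hzl : z ∈ Cfsg.layer G := by
      have : (⨆ x : ↥(P : Subgroup G), Cfsg.Agent.Helper22.conjS (x : G) K) ≤ Cfsg.layer G :=
        iSup_le fun x => Cfsg.Agent.Helper22.IsComponent.le_layer (hK' x)
      exact this hz1
    have hzc : Cfsg.layer G ≤ centralizer ({z} : Set G) := by
      unfold Cfsg.layer
      apply sSup_le
      intro K' hKc
      by_cases h : ∃ x : ↥(P : Subgroup G), K' = Cfsg.Agent.Helper22.conjS (x : G) K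
      · obtain ⟨x, rfl⟩ := h
        intro k hk
        rw [mem_centralizer_singleton_iff]
        have hk1 : k ∈ ⨆ x : ↥(P : Subgroup G), Cfsg.Agent.Helper22.conjS (x : G) K :=
          le_iSup (fun x : ↥(P : Subgroup G) => Cfsg.Agent.Helper22.conjS (x : G) K) x hk
        exact (mem_centralizer_iff.mp (h12 hk1) z hz2).symm
      · push Not at h
        have h3 : (⨆ x : ↥(P : Subgroup G), Cfsg.Agent.Helper22.conjS (x : G) K) ≤
            centralizer (K' : Set G) := by
          apply iSup_le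
          intro x
          rw [← commutator_eq_bot_iff_le_centralizer]
          exact Cfsg.Agent.Helper22.component_commute (hK' x) hKc (fun e => h x e.symm)
        intro k hk
        rw [mem_centralizer_singleton_iff]
        exact mem_centralizer_iff.mp (h3 hz1) k hk
    have hzc' : z ∈ centralizer (Cfsg.layer G : Set G) := by
      rw [mem_centralizer_iff]
      intro h hh
      exact mem_centralizer_singleton_iff.mp (hzc hh)
    have := Cfsg.Agent.Helper22.layer_inf_centralizer_layer_le_fittingSubgroup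
      (G := G) ⟨hzl, hzc'⟩
    rwa [hF] at this
  obtain ⟨x₁, hx₁N, hx₁Φ⟩ := exists_mem_not_mem_frattini_of_component P hcore _ (hnorm K) hK (hle K)
  obtain ⟨x₂, hx₂N, hx₂Φ⟩ := exists_mem_not_mem_frattini_of_component P hcore _ (hnorm L) hL (hle L)
  have hn₁ := normal_subgroupOf_of_le_normalizer (hnorm K)
  have hn₂ := normal_subgroupOf_of_le_normalizer (hnorm L)
  apply hna
  have hR : (⨆ x : ↥(P : Subgroup G), Cfsg.Agent.Helper22.conjS (x : G) K).subgroupOf
      (P : Subgroup G) ⊓ (⨆ x : ↥(P : Subgroup G), Cfsg.Agent.Helper22.conjS (x : G) L).subgroupOf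
      (P : Subgroup G) = ⊥ := by
    rw [eq_bot_iff]
    rintro z ⟨hz1, hz2⟩
    have hz : (z : G) ∈ (⨆ x : ↥(P : Subgroup G), Cfsg.Agent.Helper22.conjS (x : G) K) ⊓
        (⨆ x : ↥(P : Subgroup G), Cfsg.Agent.Helper22.conjS (x : G) L) :=
      ⟨Subgroup.mem_subgroupOf.mp hz1, Subgroup.mem_subgroupOf.mp hz2⟩
    rw [hinf, Subgroup.mem_bot] at hz
    rw [Subgroup.mem_bot]
    exact Subtype.ext hz
  have := commute_of_two_normal P.isPGroup' hgen _ _ hR (Subgroup.mem_subgroupOf.mpr hx₁N) hx₁Φ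
    (Subgroup.mem_subgroupOf.mpr hx₂N) hx₂Φ
  exact ⟨⟨this⟩⟩

end Sylow

end Cfsg.Agent.Helper22.TwoGen
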