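import Mathlib
import Cfsg.Prelude.Def_Local
import Cfsg.Prelude.Def_IsolatedElements
import Cfsg.Prelude.Def_CaseTheorems
import Cfsg.Agent.Lib.Helper22.TwoGen
import Cfsg.Agent.Lib.Helper50.SubnormalSylow
import Cfsg.Agent.S0100
import Cfsg.Agent.S1946

/-!
# Isolated elements of order `p` in groups of `p`-rank at most 2 (for S3049)
-/

set_option autoImplicit false

namespace Cfsg.Agent.Helper22.Isolated

open Subgroup
open scoped commutatorElement

variable {G : Type*} [Group G]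

/-- The closure of a commuting set of elements of order dividing `p` is elementary abelian. -/
theorem elemAb_closure {p : ℕ} {T : Set G} (hcomm : ∀ x ∈ T, ∀ y ∈ T, x * y = y * x)
    (hpow : ∀ x ∈ T, x ^ p = 1) :
    IsMulCommutative ↥(closure T) ∧ ∀ a ∈ closure T, a ^ p = 1 := by
  have inst : IsMulCommutative ↥(closure T) := Subgroup.isMulCommutative_closure hcomm
  have hc : ∀ a ∈ closure T, ∀ b ∈ closure T, a * b = b * a := by
    intro a ha b hb
    exact congrArg Subtype.val (inst.is_comm.comm (⟨a, ha⟩ : ↥(closure T)) ⟨b, hb⟩)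
  refine ⟨⟨⟨fun a b => Subtype.ext (hc a a.2 b b.2)⟩⟩, ?_⟩
  intro a ha
  induction ha using closure_induction with
  | mem x hx => exact hpow x hx
  | one => exact one_pow _
  | mul a b ha hb iha ihb =>
    have : Commute a b := hc a ha b hb
    rw [this.mul_pow, iha, ihb, one_mul]
  | inv a _ iha => rw [inv_pow, iha, inv_one]

/-- Elements of the closure of a commuting pair. -/
theorem mem_closure_pair_of_comm {a b : G} (hab : a * b = b * a) {u : G}
    (hu : u ∈ closure ({a, b} : Set G)) : ∃ i j : ℤ, u = a ^ i * b ^ j := by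
  have hc : Commute a b := hab
  induction hu using closure_induction with
  | mem z hz =>
    rcases hz with rfl | rfl
    · exact ⟨1, 0, by simp⟩
    · exact ⟨0, 1, by simp⟩
  | one => exact ⟨0, 0, by simp⟩
  | mul u v _ _ ihu ihv =>
    obtain ⟨i, j, rfl⟩ := ihu
    obtain ⟨k, l, rfl⟩ := ihv
    refine ⟨i + k, j + l, ?_⟩
    rw [zpow_add, zpow_add]
    have h1 : Commute (b ^ j) (a ^ k) := (hc.zpow_zpow k j).symm
    calc a ^ i * b ^ j * (a ^ k * b ^ l) = a ^ i * (b ^ j * a ^ k) * b ^ l := by group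
      _ = a ^ i * (a ^ k * b ^ j) * b ^ l := by rw [h1.eq]
      _ = a ^ i * a ^ k * (b ^ j * b ^ l) := by group
  | inv u _ ihu =>
    obtain ⟨i, j, rfl⟩ := ihu
    refine ⟨-i, -j, ?_⟩
    have h1 : Commute (a ^ i) (b ^ j) := hc.zpow_zpow i j
    rw [mul_inv_rev, zpow_neg, zpow_neg]
    exact ((h1.inv_inv).eq).symm

/-- If `x` has prime order `p` and `x ^ i ≠ 1`, then `x` is a power of `x ^ i`. -/
theorem exists_zpow_zpow_eq {p : ℕ} [hp : Fact p.Prime] {x : G} (hx : x ^ p = 1) {i : ℤ}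
    (hi : x ^ i ≠ 1) : ∃ k : ℤ, (x ^ i) ^ k = x := by
  have hnd : ¬ (p : ℤ) ∣ i := by
    rintro ⟨m, rfl⟩
    apply hi
    rw [zpow_mul, zpow_natCast, hx, one_zpow]
  have hcop : IsCoprime i (p : ℤ) := by
    have h1 : Prime (p : ℤ) := Nat.prime_iff_prime_int.mp hp.out
    exact ((h1.irreducible.coprime_iff_not_dvd).mpr hnd).symm
  obtain ⟨k, l, hkl⟩ := hcop
  refine ⟨k, ?_⟩
  have : x ^ (k * i + l * (p : ℤ)) = x := by rw [hkl, zpow_one]
  rw [zpow_add, zpow_mul, zpow_mul, zpow_natCast] at this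
  rw [← zpow_mul, mul_comm i k, zpow_mul]
  have h2 : (x ^ l) ^ p = 1 := by rw [← zpow_natCast, ← zpow_mul, mul_comm, zpow_mul, zpow_natCast, hx, one_zpow]
  rwa [h2, mul_one] at this

variable [Finite G] {p : ℕ} [hp : Fact p.Prime]

/-- An isolated element lies in the centre of every `p`-subgroup containing it. -/
theorem commute_of_isolated {x : G} (hiso : Cfsg.IsIsolated x) (S : Subgroup G)
    (hS : IsPGroup p S) (hxS : x ∈ S) : ∀ s ∈ S, s * x = x * s := by
  by_contra hcon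
  push Not at hcon
  obtain ⟨s, hs, hsx⟩ := hcon
  have hnil : Group.IsNilpotent ↥S := hS.isNilpotent
  set x' : ↥S := ⟨x, hxS⟩ with hx'
  set C : Subgroup ↥S := centralizer ({x'} : Set ↥S) with hC
  have hCtop : C < ⊤ := by
    rw [lt_top_iff_ne_top]
    intro h
    have : (⟨s, hs⟩ : ↥S) ∈ C := by rw [h]; trivial
    rw [hC, mem_centralizer_singleton_iff] at this
    exact hsx (congrArg Subtype.val this)
  have hlt := Group.normalizerCondition_of_isNilpotent C hCtop
  obtain ⟨t, htN, htC⟩ := SetLike.exists_of_lt hlt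
  have hxC : x' ∈ C := by rw [hC, mem_centralizer_singleton_iff]
  have h1 : t * x' * t⁻¹ ∈ C := (mem_normalizer_iff.mp htN x').mp hxC
  rw [hC, mem_centralizer_singleton_iff] at h1
  have h2 : Commute x ((t : G) * x * (t : G)⁻¹) := by
    have := congrArg Subtype.val h1
    simp only [Subgroup.coe_mul, Subgroup.coe_inv, hx'] at this
    exact this.symm
  have h3 := hiso (t : G) h2
  apply htC
  rw [hC, mem_centralizer_singleton_iff]
  apply Subtype.ext
  simp only [Subgroup.coe_mul, hx']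
  calc (t : G) * x = (t : G) * x * (t : G)⁻¹ * t := by group
    _ = x * t := by rw [h3]

/-- From an element `z ≠ 1` of a `p`-group, a power of order `p`. -/
theorem exists_pow_orderOf_eq {S : Subgroup G} (hS : IsPGroup p S) {z : G} (hz : z ∈ S)
    (hz1 : z ≠ 1) : ∃ n : ℕ, orderOf (z ^ n) = p := by
  obtain ⟨k, hk⟩ := hS ⟨z, hz⟩
  have hk' : z ^ p ^ k = 1 := by simpa using congrArg Subtype.val hk
  have hdvd : p ∣ orderOf z := by
    obtain ⟨j, _, hj⟩ := (Nat.dvd_prime_pow hp.out).mp (orderOf_dvd_of_pow_eq_one hk')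
    rcases j with _ | j
    · exfalso
      rw [pow_zero, orderOf_eq_one_iff] at hj
      exact hz1 hj
    · rw [hj, pow_succ]; exact dvd_mul_left _ _
  exact ⟨orderOf z / p, orderOf_pow_orderOf_div (orderOf_pos z).ne' hdvd⟩

/-- The rank-two argument: a commuting pair `a, b` of elements of order `p` generating a group
of order `p²` absorbs every element of order dividing `p` commuting with both. -/
theorem mem_closure_pair_of_rank (hrank : Cfsg.PRankLE p 2 G) {a b u : G} (hab : a * b = b * a)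
    (ha : a ^ p = 1) (hb : b ^ p = 1) (hcard : p ^ 2 ≤ Nat.card ↥(closure ({a, b} : Set G)))
    (hua : u * a = a * u) (hub : u * b = b * u) (hu : u ^ p = 1) :
    u ∈ closure ({a, b} : Set G) := by
  have hT : ∀ x ∈ ({a, b, u} : Set G), ∀ y ∈ ({a, b, u} : Set G), x * y = y * x := by
    intro x hx y hy
    simp only [Set.mem_insert_iff, Set.mem_singleton_iff] at hx hy
    rcases hx with rfl | rfl | rfl <;> rcases hy with rfl | rfl | rfl <;>
      first | rfl | assumption | (symm; assumption)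
  have hTp : ∀ x ∈ ({a, b, u} : Set G), x ^ p = 1 := by
    intro x hx
    simp only [Set.mem_insert_iff, Set.mem_singleton_iff] at hx
    rcases hx with rfl | rfl | rfl <;> assumption
  obtain ⟨h1, h2⟩ := elemAb_closure hT hTp
  have h3 := hrank _ h1 h2
  have hle : closure ({a, b} : Set G) ≤ closure ({a, b, u} : Set G) := by
    apply Subgroup.closure_mono
    intro x hx
    simp only [Set.mem_insert_iff, Set.mem_singleton_iff] at hx ⊢
    rcases hx with rfl | rfl
    · exact Or.inl rfl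
    · exact Or.inr (Or.inl rfl)
  have heq : closure ({a, b} : Set G) = closure ({a, b, u} : Set G) :=
    Subgroup.eq_of_le_of_card_ge hle (h3.trans hcard)
  rw [heq]
  exact subset_closure (by simp)

/-- Two independent commuting elements of order `p` generate a group of order at least `p²`. -/
theorem sq_le_card_closure_pair {a b : G} (ha : orderOf a = p) (hb : b ^ p = 1)
    (hP : IsPGroup p ↥(closure ({a, b} : Set G))) (hba : b ∉ zpowers a) :
    p ^ 2 ≤ Nat.card ↥(closure ({a, b} : Set G)) := by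
  have hle : zpowers a ≤ closure ({a, b} : Set G) := by
    rw [zpowers_le]; exact subset_closure (by simp)
  have hlt : zpowers a < closure ({a, b} : Set G) :=
    lt_of_le_of_ne hle (fun h => hba (h ▸ subset_closure (by simp)))
  have h1 : Nat.card ↥(zpowers a) = p := by rw [Nat.card_zpowers, ha]
  obtain ⟨n, hn⟩ := IsPGroup.iff_card.mp hP
  have h2 : p < p ^ n := by
    rw [← hn, ← h1]
    exact Cfsg.Agent.S0100.card_lt_of_lt hlt
  rw [hn]
  have : 2 ≤ n := by
    by_contra hcon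
    have h3 : n ≤ 1 := by omega
    have h4 := Nat.pow_le_pow_right hp.out.pos h3
    rw [pow_one] at h4
    omega
  exact Nat.pow_le_pow_right hp.out.pos this


/-- Conjugates of the isolated element inside the Sylow subgroup are trivial. -/
theorem conj_eq_of_mem {x : G} (hiso : Cfsg.IsIsolated x) (P : Sylow p G)
    (hxP : x ∈ (P : Subgroup G)) {g : G} (hg : g * x * g⁻¹ ∈ (P : Subgroup G)) :
    g * x * g⁻¹ = x := by
  apply hiso
  exact (commute_of_isolated hiso (P : Subgroup G) P.isPGroup' hxP _ hg).symm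

/-- The basic fusion lemma: if `x = y ^ a * c` with `c` centralised by `g` and `y ^ a ≠ 1`,
then a conjugate of `y` by `g` lying in `P` equals `y`. -/
theorem conj_eq_of_decomp {x : G} (hiso : Cfsg.IsIsolated x) (P : Sylow p G)
    (hxP : x ∈ (P : Subgroup G)) {y c : G} (hy : y ^ p = 1) (hcP : c ∈ (P : Subgroup G))
    {a : ℤ} (hxy : x = y ^ a * c) (hya : y ^ a ≠ 1) {g : G} (hgc : g * c = c * g)
    (hg : g * y * g⁻¹ ∈ (P : Subgroup G)) : g * y * g⁻¹ = y := by
  have hc' : g * c * g⁻¹ = c := by rw [hgc, mul_inv_cancel_right]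
  have h1 : g * x * g⁻¹ = (g * y * g⁻¹) ^ a * c := by
    rw [hxy, conj_zpow]
    calc g * (y ^ a * c) * g⁻¹ = g * y ^ a * g⁻¹ * (g * c * g⁻¹) := by group
      _ = g * y ^ a * g⁻¹ * c := by rw [hc']
  have h2 : g * x * g⁻¹ ∈ (P : Subgroup G) := by
    rw [h1]; exact mul_mem (zpow_mem hg a) hcP
  have h3 := conj_eq_of_mem hiso P hxP h2
  have h4 : (g * y * g⁻¹) ^ a * c = y ^ a * c := by rw [← h1, h3]; exact hxy
  have h5 : (g * y * g⁻¹) ^ a = y ^ a := mul_right_cancel h4
  obtain ⟨k, hk⟩ := exists_zpow_zpow_eq hy hya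
  calc g * y * g⁻¹ = g * (y ^ a) ^ k * g⁻¹ := by rw [hk]
    _ = ((g * y * g⁻¹) ^ a) ^ k := by rw [conj_zpow, conj_zpow]
    _ = (y ^ a) ^ k := by rw [h5]
    _ = y := hk

theorem pow_eq_one_of_orderOf {y : G} (hy : orderOf y = p) : y ^ p = 1 := by
  rw [← hy]; exact pow_orderOf_eq_one y

theorem ne_one_of_orderOf {y : G} (hy : orderOf y = p) : y ≠ 1 := by
  intro h
  rw [h, orderOf_one] at hy
  exact hp.out.ne_one hy.symm

/-- Asymmetric form of the two-component contradiction. -/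
theorem no_two_components_aux (hp2 : p ≠ 2) (hcore : Cfsg.pPrimeCore p G = ⊥)
    (hrank : Cfsg.PRankLE p 2 G) {x : G} (hiso : Cfsg.IsIsolated x) (P : Sylow p G)
    (hxP : x ∈ (P : Subgroup G)) {K₁ K₂ : Subgroup G} (hK₁ : Cfsg.IsComponent K₁)
    (hcomm : ⁅K₁, K₂⁆ = ⊥) (hinf : K₁ ⊓ K₂ = ⊥)
    {y₁ y₂ : G} (hy₁K : y₁ ∈ K₁) (hy₁P : y₁ ∈ (P : Subgroup G)) (hy₁ : orderOf y₁ = p)
    (hy₁c : ∀ s ∈ K₁ ⊓ (P : Subgroup G), s * y₁ = y₁ * s)
    (hy₂K : y₂ ∈ K₂) (hy₂P : y₂ ∈ (P : Subgroup G)) (hy₂ : orderOf y₂ = p)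
    {a b : ℤ} (hx : x = y₁ ^ a * y₂ ^ b) (hya : y₁ ^ a ≠ 1) : False := by
  have hc12 : ∀ s ∈ K₁, ∀ t ∈ K₂, s * t = t * s := by
    intro s hs t ht
    have := commutator_eq_bot_iff_le_centralizer.mp hcomm
    exact (mem_centralizer_iff.mp (this hs) t ht).symm
  have hy₁p : y₁ ^ p = 1 := pow_eq_one_of_orderOf hy₁
  have hy₂p : y₂ ^ p = 1 := pow_eq_one_of_orderOf hy₂
  have hy12 : y₁ * y₂ = y₂ * y₁ := hc12 y₁ hy₁K y₂ hy₂K
  have hEP : closure ({y₁, y₂} : Set G) ≤ (P : Subgroup G) := by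
    rw [closure_le]
    intro z hz
    rcases hz with rfl | rfl
    exacts [hy₁P, hy₂P]
  have hEp : IsPGroup p ↥(closure ({y₁, y₂} : Set G)) := P.isPGroup'.to_le hEP
  have hy₂1 : y₂ ≠ 1 := ne_one_of_orderOf hy₂
  have hnot : y₂ ∉ zpowers y₁ := by
    intro h
    have h1 : y₂ ∈ K₁ := (zpowers_le.mpr hy₁K) h
    have : y₂ ∈ K₁ ⊓ K₂ := ⟨h1, hy₂K⟩
    rw [hinf, mem_bot] at this
    exact hy₂1 this
  have hcard := sq_le_card_closure_pair hy₁ hy₂p hEp hnot
  have hu : ∀ u ∈ K₁ ⊓ (P : Subgroup G), u ^ p = 1 → ∃ i : ℤ, u = y₁ ^ i := by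
    intro u hu hup
    have h1 := mem_closure_pair_of_rank hrank hy12 hy₁p hy₂p hcard (hy₁c u hu)
      (hc12 u hu.1 y₂ hy₂K) hup
    obtain ⟨i, j, hij⟩ := mem_closure_pair_of_comm hy12 h1
    refine ⟨i, ?_⟩
    have h2 : y₂ ^ j ∈ K₁ ⊓ K₂ := by
      refine Subgroup.mem_inf.mpr ⟨?_, zpow_mem hy₂K j⟩
      have : y₂ ^ j = (y₁ ^ i)⁻¹ * u := by rw [hij]; group
      rw [this]; exact mul_mem (inv_mem (zpow_mem hy₁K i)) (Subgroup.mem_inf.mp hu).1
    rw [hinf, mem_bot] at h2
    rw [hij, h2, mul_one]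
  have hcardS : Nat.card ↥((P : Subgroup G).subgroupOf K₁) =
      p ^ (Nat.card ↥K₁).factorization p := by
    rw [← Cfsg.Agent.Helper50.card_inf_sylow_of_isSubnormal P hK₁.1, ← inf_subgroupOf_right,
      Cfsg.Agent.Helper22.card_subgroupOf_of_le inf_le_right, inf_comm]
  let P₁ : Sylow p ↥K₁ := Sylow.ofCard _ hcardS
  have hP₁ : ∀ t : ↥K₁, t ∈ (P₁ : Subgroup ↥K₁) ↔ (t : G) ∈ (P : Subgroup G) := by
    intro t
    rw [Sylow.coe_ofCard]
    exact mem_subgroupOf
  apply Cfsg.Agent.Helper22.TwoGen.not_hasNormalPComplement_of_component hcore hK₁ le_rfl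
  rw [Cfsg.Agent.S1946.result P₁]
  intro t ht htp g hg
  refine ⟨1, one_mem _, ?_⟩
  rw [one_mul, inv_one, mul_one]
  have htp' : (t : G) ^ p = 1 := by
    rcases htp with h | ⟨h, -⟩
    · have := congrArg Subtype.val h
      simpa using this
    · exact absurd h hp2
  have htP : (t : G) ∈ (P : Subgroup G) := (hP₁ t).mp ht
  have hgP : (g : G) * (t : G) * (g : G)⁻¹ ∈ (P : Subgroup G) := by
    have := (hP₁ _).mp hg
    simpa using this
  obtain ⟨i, hi⟩ := hu (t : G) ⟨t.2, htP⟩ htp'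
  apply Subtype.ext
  simp only [Subgroup.coe_mul, Subgroup.coe_inv]
  by_cases hyi : y₁ ^ i = 1
  · rw [hi, hyi, mul_one, mul_inv_cancel]
  · obtain ⟨k, hk⟩ := exists_zpow_zpow_eq hy₁p hyi
    have hgy : (g : G) * y₁ * (g : G)⁻¹ ∈ (P : Subgroup G) := by
      have h1 : (g : G) * y₁ * (g : G)⁻¹ = ((g : G) * (t : G) * (g : G)⁻¹) ^ k := by
        rw [conj_zpow, hi, hk]
      rw [h1]
      exact zpow_mem hgP k
    have hgc : (g : G) * y₂ ^ b = y₂ ^ b * (g : G) := hc12 (g : G) g.2 _ (zpow_mem hy₂K b)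
    have h2 := conj_eq_of_decomp hiso P hxP hy₁p (zpow_mem hy₂P b) hx hya hgc hgy
    rw [hi, ← conj_zpow, h2]

/-- Symmetric form: two distinct commuting components meeting trivially cannot exist. -/
theorem no_two_components (hp2 : p ≠ 2) (hcore : Cfsg.pPrimeCore p G = ⊥)
    (hrank : Cfsg.PRankLE p 2 G) {x : G} (hxo : orderOf x = p) (hiso : Cfsg.IsIsolated x)
    (P : Sylow p G)
    (hxP : x ∈ (P : Subgroup G)) {K₁ K₂ : Subgroup G} (hK₁ : Cfsg.IsComponent K₁)
    (hK₂ : Cfsg.IsComponent K₂) (hcomm : ⁅K₁, K₂⁆ = ⊥) (hinf : K₁ ⊓ K₂ = ⊥)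
    {y₁ y₂ : G} (hy₁K : y₁ ∈ K₁) (hy₁P : y₁ ∈ (P : Subgroup G)) (hy₁ : orderOf y₁ = p)
    (hy₁c : ∀ s ∈ K₁ ⊓ (P : Subgroup G), s * y₁ = y₁ * s)
    (hy₂K : y₂ ∈ K₂) (hy₂P : y₂ ∈ (P : Subgroup G)) (hy₂ : orderOf y₂ = p)
    (hy₂c : ∀ s ∈ K₂ ⊓ (P : Subgroup G), s * y₂ = y₂ * s) : False := by
  have hc12 : ∀ s ∈ K₁, ∀ t ∈ K₂, s * t = t * s := by
    intro s hs t ht
    have := commutator_eq_bot_iff_le_centralizer.mp hcomm
    exact (mem_centralizer_iff.mp (this hs) t ht).symm
  have hy₁p : y₁ ^ p = 1 := pow_eq_one_of_orderOf hy₁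
  have hy₂p : y₂ ^ p = 1 := pow_eq_one_of_orderOf hy₂
  have hxp : x ^ p = 1 := pow_eq_one_of_orderOf hxo
  have hx1 : x ≠ 1 := ne_one_of_orderOf hxo
  have hy12 : y₁ * y₂ = y₂ * y₁ := hc12 y₁ hy₁K y₂ hy₂K
  have hEP : closure ({y₁, y₂} : Set G) ≤ (P : Subgroup G) := by
    rw [closure_le]
    intro z hz
    rcases hz with rfl | rfl
    exacts [hy₁P, hy₂P]
  have hEp : IsPGroup p ↥(closure ({y₁, y₂} : Set G)) := P.isPGroup'.to_le hEP
  have hy₂1 : y₂ ≠ 1 := ne_one_of_orderOf hy₂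
  have hnot : y₂ ∉ zpowers y₁ := by
    intro h
    have h1 : y₂ ∈ K₁ := (zpowers_le.mpr hy₁K) h
    have : y₂ ∈ K₁ ⊓ K₂ := ⟨h1, hy₂K⟩
    rw [hinf, mem_bot] at this
    exact hy₂1 this
  have hcard := sq_le_card_closure_pair hy₁ hy₂p hEp hnot
  have hxc := commute_of_isolated hiso (P : Subgroup G) P.isPGroup' hxP
  have hxE := mem_closure_pair_of_rank hrank hy12 hy₁p hy₂p hcard (hxc y₁ hy₁P).symm
    (hxc y₂ hy₂P).symm hxp
  obtain ⟨a, b, hab⟩ := mem_closure_pair_of_comm hy12 hxE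
  by_cases hya : y₁ ^ a = 1
  · have hab' : x = y₂ ^ b * y₁ ^ (0 : ℤ) := by rw [hab, hya, one_mul, zpow_zero, mul_one]
    have hyb : y₂ ^ b ≠ 1 := by
      intro h
      apply hx1
      rw [hab, hya, h, one_mul]
    have hcomm' : ⁅K₂, K₁⁆ = ⊥ := by rw [commutator_comm]; exact hcomm
    have hinf' : K₂ ⊓ K₁ = ⊥ := by rw [inf_comm]; exact hinf
    exact no_two_components_aux hp2 hcore hrank hiso P hxP hK₂ hcomm' hinf' hy₂K hy₂P hy₂ hy₂c
      hy₁K hy₁P hy₁ hab' hyb
  · exact no_two_components_aux hp2 hcore hrank hiso P hxP hK₁ hcomm hinf hy₁K hy₁P hy₁ hy₁c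
      hy₂K hy₂P hy₂ hab hya


/-- Part (A): `O_p(G) = 1`. -/
theorem pCore_eq_bot_of_isolated (hp2 : p ≠ 2) (hcore : Cfsg.pPrimeCore p G = ⊥)
    (hrank : Cfsg.PRankLE p 2 G) {x : G} (hxo : orderOf x = p) (hiso : Cfsg.IsIsolated x)
    (hnc : x ∉ center G) (P : Sylow p G) (hxP : x ∈ (P : Subgroup G)) :
    Cfsg.pCore p G = ⊥ := by
  by_contra hQ
  have hQn : (Cfsg.pCore p G).Normal := Cfsg.Agent.Helper11.ZJ.pCore_normal' p G
  have hQP : Cfsg.pCore p G ≤ (P : Subgroup G) := Cfsg.Agent.Helper11.ZJ.pCore_le_sylow' P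
  have hQp : IsPGroup p ↥(Cfsg.pCore p G) := P.isPGroup'.to_le hQP
  have hxp : x ^ p = 1 := pow_eq_one_of_orderOf hxo
  have hx1 : x ≠ 1 := ne_one_of_orderOf hxo
  have hxc := commute_of_isolated hiso (P : Subgroup G) P.isPGroup' hxP
  have hxQ : x ∉ Cfsg.pCore p G := by
    intro h
    apply hnc
    rw [mem_center_iff]
    intro g
    have h1 := conj_eq_of_mem hiso P hxP (g := g) (hQP (hQn.conj_mem x h g))
    calc g * x = g * x * g⁻¹ * g := by group
      _ = x * g := by rw [h1]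
  obtain ⟨z, hzQ, hz1, hzc⟩ := Cfsg.Agent.S0100.exists_fixed (Cfsg.pCore p G) (P : Subgroup G)
    hQp hQ P.isPGroup' (fun q _ n hn => hQn.conj_mem n hn q)
  obtain ⟨n, hn⟩ := exists_pow_orderOf_eq hQp hzQ hz1
  set z₀ := z ^ n with hz₀
  have hz₀Q : z₀ ∈ Cfsg.pCore p G := pow_mem hzQ n
  have hz₀P : z₀ ∈ (P : Subgroup G) := hQP hz₀Q
  have hz₀c : ∀ q ∈ (P : Subgroup G), q * z₀ = z₀ * q := by
    intro q hq
    have : Commute q z := hzc q hq
    exact (this.pow_right n).eq
  have hz₀p : z₀ ^ p = 1 := pow_eq_one_of_orderOf hn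
  have hz₀1 : z₀ ≠ 1 := ne_one_of_orderOf hn
  have hxz : x * z₀ = z₀ * x := hz₀c x hxP
  have hnot : z₀ ∉ zpowers x := by
    intro h
    obtain ⟨i, hi⟩ := mem_zpowers_iff.mp h
    have hxi : x ^ i ≠ 1 := by rw [hi]; exact hz₀1
    obtain ⟨k, hk⟩ := exists_zpow_zpow_eq hxp hxi
    apply hxQ
    rw [← hk, hi]
    exact zpow_mem hz₀Q k
  have hEP : closure ({x, z₀} : Set G) ≤ (P : Subgroup G) := by
    rw [closure_le]
    intro z hz
    rcases hz with rfl | rfl
    exacts [hxP, hz₀P]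
  have hEp : IsPGroup p ↥(closure ({x, z₀} : Set G)) := P.isPGroup'.to_le hEP
  have hcard := sq_le_card_closure_pair hxo hz₀p hEp hnot
  have hPG₁ : (P : Subgroup G) ≤ centralizer ({z₀} : Set G) := by
    intro q hq
    rw [mem_centralizer_singleton_iff]
    exact hz₀c q hq
  have hnpc : Cfsg.HasNormalPComplement p ↥(centralizer ({z₀} : Set G)) := by
    rw [Cfsg.Agent.S1946.result (P.subtype hPG₁)]
    intro t ht htp g hg
    refine ⟨1, one_mem _, ?_⟩
    rw [one_mul, inv_one, mul_one]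
    have htp' : (t : G) ^ p = 1 := by
      rcases htp with h | ⟨h, -⟩
      · have := congrArg Subtype.val h
        simpa using this
      · exact absurd h hp2
    have htP : (t : G) ∈ (P : Subgroup G) := by
      rw [Sylow.coe_subtype, mem_subgroupOf] at ht; exact ht
    have hgP : (g : G) * (t : G) * (g : G)⁻¹ ∈ (P : Subgroup G) := by
      rw [Sylow.coe_subtype, mem_subgroupOf] at hg
      simpa using hg
    have hgz : (g : G) * z₀ = z₀ * (g : G) := mem_centralizer_singleton_iff.mp g.2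
    have htE := mem_closure_pair_of_rank hrank hxz hxp hz₀p hcard (hxc _ htP) (hz₀c _ htP) htp'
    obtain ⟨i, j, hij⟩ := mem_closure_pair_of_comm hxz htE
    have hgzj : (g : G) * z₀ ^ j = z₀ ^ j * (g : G) := by
      have : Commute (g : G) z₀ := hgz
      exact (this.zpow_right j).eq
    have hgzj' : (g : G) * z₀ ^ j * (g : G)⁻¹ = z₀ ^ j := by rw [hgzj, mul_inv_cancel_right]
    apply Subtype.ext
    simp only [Subgroup.coe_mul, Subgroup.coe_inv]
    have hconj : (g : G) * (t : G) * (g : G)⁻¹ = ((g : G) * x * (g : G)⁻¹) ^ i * z₀ ^ j := by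
      rw [hij, conj_zpow]
      calc (g : G) * (x ^ i * z₀ ^ j) * (g : G)⁻¹
          = (g : G) * x ^ i * (g : G)⁻¹ * ((g : G) * z₀ ^ j * (g : G)⁻¹) := by group
        _ = (g : G) * x ^ i * (g : G)⁻¹ * z₀ ^ j := by rw [hgzj']
    by_cases hxi : x ^ i = 1
    · rw [hconj, conj_zpow, hij, hxi, mul_one, mul_inv_cancel]
    · obtain ⟨k, hk⟩ := exists_zpow_zpow_eq hxp hxi
      have h1 : ((g : G) * x * (g : G)⁻¹) ^ i ∈ (P : Subgroup G) := by
        have : ((g : G) * x * (g : G)⁻¹) ^ i = (g : G) * (t : G) * (g : G)⁻¹ * (z₀ ^ j)⁻¹ := by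
          rw [hconj, mul_inv_cancel_right]
        rw [this]
        exact mul_mem hgP (inv_mem (zpow_mem hz₀P j))
      have h2 : (g : G) * x * (g : G)⁻¹ ∈ (P : Subgroup G) := by
        have : (g : G) * x * (g : G)⁻¹ = (((g : G) * x * (g : G)⁻¹) ^ i) ^ k := by
          rw [conj_zpow, conj_zpow, hk]
        rw [this]
        exact zpow_mem h1 k
      have h3 := conj_eq_of_mem hiso P hxP h2
      rw [hconj, h3, hij]
  have hnocomp : ∀ K : Subgroup G, ¬ Cfsg.IsComponent K := by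
    intro K hK
    apply Cfsg.Agent.Helper22.TwoGen.not_hasNormalPComplement_of_component hcore hK ?_ hnpc
    intro k hk
    rw [mem_centralizer_singleton_iff]
    have h1 := Cfsg.Agent.Helper22.component_le_centralizer_fittingSubgroup hK hk
    have h2 : z₀ ∈ Cfsg.fittingSubgroup G :=
      Cfsg.Agent.Helper22.pCore_le_fittingSubgroup p hz₀Q
    exact (mem_centralizer_iff.mp h1 z₀ h2).symm
  have hlayer : Cfsg.layer G = ⊥ := Cfsg.Agent.Helper22.layer_eq_bot_iff.mpr hnocomp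
  have hFQ : Cfsg.generalizedFittingSubgroup G ≤ Cfsg.pCore p G := by
    unfold Cfsg.generalizedFittingSubgroup
    rw [hlayer, bot_sup_eq]
    exact Cfsg.Agent.Helper22.TwoGen.fittingSubgroup_le_pCore hcore
  apply hxQ
  apply hFQ
  apply Cfsg.Agent.Helper22.centralizer_generalizedFittingSubgroup_le
  rw [mem_centralizer_iff]
  intro f hf
  exact hxc f (hQP (hFQ hf))

/-- The main theorem on isolated elements of order `p` in `p`-rank at most two. -/
theorem generalizedFitting_simple (hp2 : p ≠ 2) (hcore : Cfsg.pPrimeCore p G = ⊥)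
    (hrank : Cfsg.PRankLE p 2 G) (x : G) (hxo : orderOf x = p) (hiso : Cfsg.IsIsolated x)
    (hnc : x ∉ center G) :
    IsSimpleGroup ↥(Cfsg.generalizedFittingSubgroup G) ∧
      ¬ IsMulCommutative ↥(Cfsg.generalizedFittingSubgroup G) := by
  have hxp : x ^ p = 1 := pow_eq_one_of_orderOf hxo
  have hx1 : x ≠ 1 := ne_one_of_orderOf hxo
  have hzp : IsPGroup p ↥(zpowers x) := by
    apply IsPGroup.of_card (n := 1)
    rw [Nat.card_zpowers, hxo, pow_one]
  obtain ⟨P, hP⟩ := hzp.exists_le_sylow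
  have hxP : x ∈ (P : Subgroup G) := hP (mem_zpowers x)
  have hQ := pCore_eq_bot_of_isolated hp2 hcore hrank hxo hiso hnc P hxP
  have hF : Cfsg.fittingSubgroup G = ⊥ := by
    have := Cfsg.Agent.Helper22.TwoGen.fittingSubgroup_le_pCore (G := G) (p := p) hcore
    rw [hQ] at this
    exact le_bot_iff.mp this
  have hFs : Cfsg.generalizedFittingSubgroup G = Cfsg.layer G := by
    unfold Cfsg.generalizedFittingSubgroup
    rw [hF, sup_bot_eq]
  -- there is a component
  have hex : ∃ K : Subgroup G, Cfsg.IsComponent K := by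
    by_contra hcon
    push Not at hcon
    have hl : Cfsg.layer G = ⊥ := Cfsg.Agent.Helper22.layer_eq_bot_iff.mpr hcon
    have h1 : x ∈ Cfsg.generalizedFittingSubgroup G := by
      apply Cfsg.Agent.Helper22.centralizer_generalizedFittingSubgroup_le
      rw [mem_centralizer_iff]
      intro f hf
      have hf' : f ∈ Cfsg.generalizedFittingSubgroup G := hf
      rw [hFs, hl, mem_bot] at hf'
      rw [hf', one_mul, mul_one]
    rw [hFs, hl, mem_bot] at h1
    exact hx1 h1
  obtain ⟨K, hK⟩ := hex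
  -- data attached to a component
  have hdata : ∀ L : Subgroup G, Cfsg.IsComponent L → ∃ y ∈ L, y ∈ (P : Subgroup G) ∧
      orderOf y = p ∧ ∀ s ∈ L ⊓ (P : Subgroup G), s * y = y * s := by
    intro L hL
    have hdvd : p ∣ Nat.card ↥L := by
      by_contra hnd
      have hc : (Nat.card ↥L).Coprime p :=
        ((Nat.Prime.coprime_iff_not_dvd hp.out).mpr hnd).symm
      have := Cfsg.Agent.Helper22.le_pPrimeCore_of_subnormal hL.1 le_rfl le_normalizer hc
      rw [hcore] at this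
      exact Cfsg.Agent.Helper22.IsQuasisimple.ne_bot hL.2 (le_bot_iff.mp this)
    have hcardLP := Cfsg.Agent.Helper50.card_inf_sylow_of_isSubnormal P hL.1
    have hLPp : IsPGroup p ↥(L ⊓ (P : Subgroup G)) := P.isPGroup'.to_le inf_le_right
    have hLPne : L ⊓ (P : Subgroup G) ≠ ⊥ := by
      intro h
      rw [h, Subgroup.card_bot] at hcardLP
      have hpos : 0 < (Nat.card ↥L).factorization p :=
        hp.out.factorization_pos_of_dvd Nat.card_pos.ne' hdvd
      have : 1 < p ^ (Nat.card ↥L).factorization p :=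
        Nat.one_lt_pow hpos.ne' hp.out.one_lt
      omega
    obtain ⟨z, hz, hz1, hzc⟩ := Cfsg.Agent.S0100.exists_fixed (L ⊓ (P : Subgroup G))
      (L ⊓ (P : Subgroup G)) hLPp hLPne hLPp
      (fun q hq n hn => mul_mem (mul_mem hq hn) (inv_mem hq))
    obtain ⟨n, hn⟩ := exists_pow_orderOf_eq hLPp hz hz1
    have hzn : z ^ n ∈ L ⊓ (P : Subgroup G) := pow_mem hz n
    refine ⟨z ^ n, (Subgroup.mem_inf.mp hzn).1, (Subgroup.mem_inf.mp hzn).2, hn, ?_⟩
    intro s hs
    have : Commute s z := hzc s hs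
    exact (this.pow_right n).eq
  -- uniqueness of the component
  have huniq : ∀ L : Subgroup G, Cfsg.IsComponent L → L = K := by
    intro L hL
    by_contra hne
    have hcomm : ⁅L, K⁆ = ⊥ := Cfsg.Agent.Helper22.component_commute hL hK hne
    have hcLK : ∀ s ∈ L, ∀ t ∈ K, s * t = t * s := by
      intro s hs t ht
      have := commutator_eq_bot_iff_le_centralizer.mp hcomm
      exact (mem_centralizer_iff.mp (this hs) t ht).symm
    have hinf : L ⊓ K = ⊥ := by
      rw [eq_bot_iff]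
      intro z hz
      obtain ⟨hzL, hzK⟩ := Subgroup.mem_inf.mp hz
      have h1 : z ∈ centralizer (Cfsg.layer G : Set G) := by
        have h2 : Cfsg.layer G ≤ centralizer ({z} : Set G) := by
          apply sSup_le
          intro M hM m hm
          rw [mem_centralizer_singleton_iff]
          by_cases hML : M = L
          · subst hML
            exact hcLK m hm z hzK
          · have hc2 : ⁅M, L⁆ = ⊥ := Cfsg.Agent.Helper22.component_commute hM hL hML
            have := commutator_eq_bot_iff_le_centralizer.mp hc2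
            exact (mem_centralizer_iff.mp (this hm) z hzL).symm
        rw [mem_centralizer_iff]
        intro l hl
        exact mem_centralizer_singleton_iff.mp (h2 hl)
      have h3 : z ∈ Cfsg.fittingSubgroup G :=
        Cfsg.Agent.Helper22.layer_inf_centralizer_layer_le_fittingSubgroup
          (Subgroup.mem_inf.mpr ⟨Cfsg.Agent.Helper22.IsComponent.le_layer hK hzK, h1⟩)
      rw [hF] at h3
      exact h3
    obtain ⟨y₁, hy₁L, hy₁P, hy₁, hy₁c⟩ := hdata L hL
    obtain ⟨y₂, hy₂K, hy₂P, hy₂, hy₂c⟩ := hdata K hK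
    exact no_two_components hp2 hcore hrank hxo hiso P hxP hL hK hcomm hinf hy₁L hy₁P hy₁ hy₁c
      hy₂K hy₂P hy₂ hy₂c
  have hlayer : Cfsg.layer G = K := by
    apply le_antisymm
    · apply sSup_le
      intro L hL
      exact (huniq L hL).le
    · exact Cfsg.Agent.Helper22.IsComponent.le_layer hK
  rw [hFs, hlayer]
  have hcen : center ↥K = ⊥ := by
    rw [eq_bot_iff]
    intro z hz
    rw [mem_bot]
    have h1 : (z : G) ∈ Cfsg.layer G ⊓ centralizer (Cfsg.layer G : Set G) := by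
      refine Subgroup.mem_inf.mpr ⟨hlayer ▸ z.2, ?_⟩
      rw [mem_centralizer_iff]
      intro l hl
      rw [hlayer] at hl
      have := mem_center_iff.mp hz ⟨l, hl⟩
      exact congrArg Subtype.val this
    have h2 := Cfsg.Agent.Helper22.layer_inf_centralizer_layer_le_fittingSubgroup h1
    rw [hF, mem_bot] at h2
    exact Subtype.ext h2
  constructor
  · have hsimple : IsSimpleGroup (↥K ⧸ center ↥K) := hK.2.2
    have e : ↥K ≃* ↥K ⧸ center ↥K :=
      ((QuotientGroup.quotientMulEquivOfEq hcen).trans QuotientGroup.quotientBot).symm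
    exact e.isSimpleGroup
  · intro hcomm
    apply Cfsg.Agent.Helper22.IsQuasisimple.not_isSolvable hK.2
    exact Group.isSolvable_of_comm (fun a b => hcomm.is_comm.comm a b)

end Cfsg.Agent.Helper22.Isolated
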