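import Mathlib
import Cfsg.Agent.Lib.Helper7.M11LADefs

/-!
# M11LA piece (K5) (helper7 server, S0435): the number of involutions of a simple group of order 7920
is at most `110 + 11 * inv (N(P))`, `P` a Sylow 5-subgroup.
-/

set_option autoImplicit false
set_option linter.unusedVariables false
set_option linter.unusedSectionVars false
set_option linter.style.haveILetI false

namespace Cfsg.Agent.Helper22.M11LA

open Subgroup
open Cfsg.Agent.Helper7.M11LA
open scoped Pointwise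

variable {G : Type*} [Group G] [Finite G]

/-! ## counting tools -/

theorem k5_card_split {α : Type*} [Finite α] (p : α → Prop) :
    Nat.card α = Nat.card {x // p x} + Nat.card {x // ¬ p x} := by
  classical
  rw [← Nat.card_sum]
  exact Nat.card_congr (Equiv.sumCompl p).symm

theorem k5_card_sigma_const {α : Type*} [Finite α] {β : α → Type*} [∀ a, Finite (β a)] (c : ℕ)
    (h : ∀ a, Nat.card (β a) = c) : Nat.card (Σ a, β a) = Nat.card α * c := by
  classical
  haveI := Fintype.ofFinite α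
  rw [Nat.card_sigma]
  simp [h, Nat.card_eq_fintype_card]

theorem k5_card_sigma_le {α : Type*} [Finite α] {β : α → Type*} [∀ a, Finite (β a)] (c : ℕ)
    (h : ∀ a, Nat.card (β a) ≤ c) : Nat.card (Σ a, β a) ≤ Nat.card α * c := by
  classical
  haveI := Fintype.ofFinite α
  rw [Nat.card_sigma, Nat.card_eq_fintype_card, ← Finset.card_univ, ← smul_eq_mul]
  exact Finset.sum_le_card_nsmul _ _ _ (fun a _ => h a)

theorem k5_card_pairs_const {α β : Type*} [Finite α] [Finite β] (r : α → β → Prop) (c : ℕ)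
    (h : ∀ a, Nat.card {b // r a b} = c) : Nat.card {x : α × β // r x.1 x.2} = Nat.card α * c := by
  rw [Nat.card_congr (Equiv.subtypeProdEquivSigmaSubtype r)]
  exact k5_card_sigma_const c h

theorem k5_card_pairs_le {α β : Type*} [Finite α] [Finite β] (r : α → β → Prop) (c : ℕ)
    (h : ∀ a, Nat.card {b // r a b} ≤ c) : Nat.card {x : α × β // r x.1 x.2} ≤ Nat.card α * c := by
  rw [Nat.card_congr (Equiv.subtypeProdEquivSigmaSubtype r)]
  exact k5_card_sigma_le c h

theorem k5_card_pairs_swap {α β : Type*} (r : α → β → Prop) :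
    Nat.card {x : α × β // r x.1 x.2} = Nat.card {x : β × α // r x.2 x.1} :=
  Nat.card_congr ((Equiv.prodComm α β).subtypeEquiv (fun _ => Iff.rfl))

/-! ## Sylow tools -/

theorem k5_card_sylow11 (hord : Nat.card G = 7920) (Q : Sylow 11 G) :
    Nat.card (Q : Subgroup G) = 11 := by
  have : Fact (Nat.Prime 11) := ⟨by norm_num⟩
  obtain ⟨k, hk⟩ := IsPGroup.exists_card_eq Q.2
  have hdvd : Nat.card (Q : Subgroup G) ∣ 7920 :=
    hord ▸ Subgroup.card_subgroup_dvd_card (Q : Subgroup G)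
  have h5 : 11 ∣ Nat.card (Q : Subgroup G) := Q.dvd_card_of_dvd_card (by rw [hord]; norm_num)
  rw [hk] at hdvd h5 ⊢
  rcases k with _ | _ | k
  · norm_num at h5
  · norm_num
  · exfalso
    have h25 : 121 ∣ 7920 := dvd_trans ⟨11 ^ k, by ring⟩ hdvd
    norm_num at h25

theorem k5_card_sylow5 (hord : Nat.card G = 7920) (P : Sylow 5 G) :
    Nat.card (P : Subgroup G) = 5 := by
  have : Fact (Nat.Prime 5) := ⟨by norm_num⟩
  obtain ⟨k, hk⟩ := IsPGroup.exists_card_eq P.2
  have hdvd : Nat.card (P : Subgroup G) ∣ 7920 :=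
    hord ▸ Subgroup.card_subgroup_dvd_card (P : Subgroup G)
  have h5 : 5 ∣ Nat.card (P : Subgroup G) := P.dvd_card_of_dvd_card (by rw [hord]; norm_num)
  rw [hk] at hdvd h5 ⊢
  rcases k with _ | _ | k
  · norm_num at h5
  · norm_num
  · exfalso
    have h25 : 25 ∣ 7920 := dvd_trans ⟨5 ^ k, by ring⟩ hdvd
    norm_num at h25

theorem k5_n5 (F : Facts G) : Nat.card (Sylow 5 G) = 396 := by
  have : Fact (Nat.Prime 5) := ⟨by norm_num⟩
  obtain ⟨P⟩ : Nonempty (Sylow 5 G) := inferInstance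
  have h1 := Sylow.card_eq_index_normalizer P
  have h2 := Subgroup.index_mul_card (normalizer ((P : Subgroup G) : Set G))
  rw [F.np P, F.card] at h2
  have h3 : (normalizer ((P : Subgroup G) : Set G)).index = 396 := by omega
  rw [h1]; exact h3

theorem k5_n11 (F : Facts G) : Nat.card (Sylow 11 G) = 144 := by
  have : Fact (Nat.Prime 11) := ⟨by norm_num⟩
  obtain ⟨P⟩ : Nonempty (Sylow 11 G) := inferInstance
  have h1 := Sylow.card_eq_index_normalizer P
  have h2 := Subgroup.index_mul_card (normalizer ((P : Subgroup G) : Set G))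
  rw [F.nq P, F.card] at h2
  have h3 : (normalizer ((P : Subgroup G) : Set G)).index = 144 := by omega
  rw [h1]; exact h3

theorem k5_smul_eq_iff {p : ℕ} (g : G) (P : Sylow p G) :
    g • P = P ↔ g ∈ normalizer ((P : Subgroup G) : Set G) :=
  Sylow.smul_eq_iff_mem_normalizer

theorem k5_conj_mem {p : ℕ} (g x : G) (Q : Sylow p G) :
    g * x * g⁻¹ ∈ normalizer (((g • Q : Sylow p G) : Subgroup G) : Set G) ↔
      x ∈ normalizer ((Q : Subgroup G) : Set G) := by
  rw [← k5_smul_eq_iff, ← k5_smul_eq_iff, smul_smul, inv_mul_cancel_right, mul_smul]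
  exact smul_left_cancel_iff g

theorem k5_le_of_le_normalizer {p : ℕ} [Fact p.Prime] (Q : Sylow p G) (H : Subgroup G)
    (hH : IsPGroup p H) (hle : H ≤ normalizer ((Q : Subgroup G) : Set G)) :
    H ≤ (Q : Subgroup G) := by
  have h1 : Q ∈ MulAction.fixedPoints H (Sylow p G) :=
    (Subgroup.sylow_mem_fixedPoints_iff H).mpr hle
  exact (IsPGroup.sylow_mem_fixedPoints_iff hH).mp h1

theorem k5_smul_le {p q : ℕ} (g : G) (P' : Sylow p G) (Q : Sylow q G)
    (h : (P' : Subgroup G) ≤ normalizer ((Q : Subgroup G) : Set G)) :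
    ((g • P' : Sylow p G) : Subgroup G) ≤
      normalizer (((g • Q : Sylow q G) : Subgroup G) : Set G) := by
  intro y hy
  rw [Sylow.coe_subgroup_smul] at hy
  obtain ⟨x, hx, rfl⟩ := (Subgroup.mem_smul_pointwise_iff_exists _ _ _).mp hy
  rw [MulAut.smul_def, MulAut.conj_apply]
  exact (k5_conj_mem g x Q).mpr (h hx)

theorem k5_invol_not_mem (F : Facts G) (Q : Sylow 11 G) (t : G) (ht : orderOf t = 2) :
    t ∉ normalizer ((Q : Subgroup G) : Set G) := by
  intro h
  have h1 := Subgroup.orderOf_dvd_natCard _ h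
  rw [ht, F.nq Q] at h1
  norm_num at h1

theorem k5_invol_inv (t : G) (ht : orderOf t = 2) : t⁻¹ = t := by
  have h1 : t ^ 2 = 1 := by rw [← ht]; exact pow_orderOf_eq_one t
  rw [pow_two] at h1
  exact inv_eq_of_mul_eq_one_right h1

theorem k5_invol_smul_smul {p : ℕ} (t : G) (ht : orderOf t = 2) (Q : Sylow p G) :
    t • t • Q = Q := by
  have h1 : t ^ 2 = 1 := by rw [← ht]; exact pow_orderOf_eq_one t
  rw [pow_two] at h1
  rw [smul_smul, h1, one_smul]

/-! ## the groups `D(Q') = N(Q₀) ⊓ N(Q')` -/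

theorem k5_card_D (F : Facts G) (Q₀ Q' : Sylow 11 G) (hne : Q' ≠ Q₀) :
    Nat.card ↥(normalizer ((Q₀ : Subgroup G) : Set G) ⊓
        normalizer ((Q' : Subgroup G) : Set G)) = 1 ∨
      Nat.card ↥(normalizer ((Q₀ : Subgroup G) : Set G) ⊓
        normalizer ((Q' : Subgroup G) : Set G)) = 5 := by
  have : Fact (Nat.Prime 11) := ⟨by norm_num⟩
  have hdvd : Nat.card ↥(normalizer ((Q₀ : Subgroup G) : Set G) ⊓
      normalizer ((Q' : Subgroup G) : Set G)) ∣ 55 := by
    rw [← F.nq Q₀]; exact Subgroup.card_dvd_of_le inf_le_left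
  have h11 : ¬ 11 ∣ Nat.card ↥(normalizer ((Q₀ : Subgroup G) : Set G) ⊓
      normalizer ((Q' : Subgroup G) : Set G)) := by
    intro h
    obtain ⟨x, hx⟩ := exists_prime_orderOf_dvd_card' 11 h
    have hxo : orderOf (x : G) = 11 := by rw [Subgroup.orderOf_coe]; exact hx
    have hc : Nat.card (zpowers (x : G)) = 11 := by rw [Nat.card_zpowers, hxo]
    have hP : IsPGroup 11 (zpowers (x : G)) := by
      apply IsPGroup.of_card (n := 1); rw [hc, pow_one]
    have hle0 : zpowers (x : G) ≤ normalizer ((Q₀ : Subgroup G) : Set G) := by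
      rw [zpowers_le]; exact (Subgroup.mem_inf.mp x.2).1
    have hle1 : zpowers (x : G) ≤ normalizer ((Q' : Subgroup G) : Set G) := by
      rw [zpowers_le]; exact (Subgroup.mem_inf.mp x.2).2
    have h0 := k5_le_of_le_normalizer Q₀ _ hP hle0
    have h1 := k5_le_of_le_normalizer Q' _ hP hle1
    have e0 : zpowers (x : G) = (Q₀ : Subgroup G) :=
      Subgroup.eq_of_le_of_card_ge h0 (by rw [hc, k5_card_sylow11 F.card])
    have e1 : zpowers (x : G) = (Q' : Subgroup G) :=
      Subgroup.eq_of_le_of_card_ge h1 (by rw [hc, k5_card_sylow11 F.card])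
    exact hne (Sylow.ext (e1.symm.trans e0))
  have hmem : Nat.card ↥(normalizer ((Q₀ : Subgroup G) : Set G) ⊓
      normalizer ((Q' : Subgroup G) : Set G)) ∈ Nat.divisors 55 :=
    Nat.mem_divisors.mpr ⟨hdvd, by norm_num⟩
  have hdiv : Nat.divisors 55 = {1, 5, 11, 55} := by decide
  rw [hdiv] at hmem
  simp only [Finset.mem_insert, Finset.mem_singleton] at hmem
  rcases hmem with h | h | h | h
  · left; exact h
  · right; exact h
  · exact absurd (by rw [h]) h11
  · exact absurd (by rw [h]; norm_num) h11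

/-- an involution `t` normalizes `N(Q₀) ⊓ N(t • Q₀)`. -/
theorem k5_normalizes_D {p : ℕ} (Q₀ : Sylow p G) (t : G) (ht : orderOf t = 2) :
    t ∈ normalizer (((normalizer ((Q₀ : Subgroup G) : Set G) ⊓
      normalizer (((t • Q₀ : Sylow p G) : Subgroup G) : Set G) : Subgroup G)) : Set G) := by
  have hsw : t • t • Q₀ = Q₀ := k5_invol_smul_smul t ht Q₀
  rw [mem_normalizer_iff]
  intro h
  have e1 := k5_conj_mem t h Q₀
  have e2 := k5_conj_mem t h (t • Q₀)
  rw [hsw] at e2
  rw [Subgroup.mem_inf, Subgroup.mem_inf]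
  constructor
  · rintro ⟨h1, h2⟩
    exact ⟨e2.mpr h2, e1.mpr h1⟩
  · rintro ⟨h1, h2⟩
    exact ⟨e1.mp h2, e2.mp h1⟩

theorem k5_exists_sylow5 (F : Facts G) (D : Subgroup G) (hD : Nat.card D = 5) :
    ∃ P' : Sylow 5 G, (P' : Subgroup G) = D := by
  have : Fact (Nat.Prime 5) := ⟨by norm_num⟩
  have hP : IsPGroup 5 D := by
    apply IsPGroup.of_card (n := 1); rw [hD, pow_one]
  obtain ⟨P', hP'⟩ := hP.exists_le_sylow
  refine ⟨P', (Subgroup.eq_of_le_of_card_ge hP' ?_).symm⟩
  rw [hD, k5_card_sylow5 F.card]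

/-- if a Sylow 5-subgroup `P'` lies in `N(Q₀) ⊓ N(Q')`, `Q' ≠ Q₀`, then it is equal to it. -/
theorem k5_eq_D (F : Facts G) (Q₀ Q' : Sylow 11 G) (hne : Q' ≠ Q₀) (P' : Sylow 5 G)
    (h0 : (P' : Subgroup G) ≤ normalizer ((Q₀ : Subgroup G) : Set G))
    (h1 : (P' : Subgroup G) ≤ normalizer ((Q' : Subgroup G) : Set G)) :
    (P' : Subgroup G) = normalizer ((Q₀ : Subgroup G) : Set G) ⊓
        normalizer ((Q' : Subgroup G) : Set G) := by
  have hle : (P' : Subgroup G) ≤ normalizer ((Q₀ : Subgroup G) : Set G) ⊓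
        normalizer ((Q' : Subgroup G) : Set G) := le_inf h0 h1
  have hc := k5_card_sylow5 F.card P'
  apply Subgroup.eq_of_le_of_card_ge hle
  rcases k5_card_D F Q₀ Q' hne with h | h
  · exfalso
    have := Subgroup.card_le_of_le hle
    rw [h, hc] at this
    norm_num at this
  · rw [h, hc]

/-! ## conjugation invariance -/

theorem k5_inv_le (P' P : Sylow 5 G) :
    Helper7.M11LA.inv (normalizer ((P' : Subgroup G) : Set G)) ≤
      Helper7.M11LA.inv (normalizer ((P : Subgroup G) : Set G)) := by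
  have : Fact (Nat.Prime 5) := ⟨by norm_num⟩
  obtain ⟨g, rfl⟩ := MulAction.exists_smul_eq G P P'
  unfold Helper7.M11LA.inv
  refine Nat.card_le_card_of_injective
    (fun t => ⟨g⁻¹ * t.1 * g, ?_, ?_⟩) ?_
  · have := (MulAut.conj g⁻¹).orderOf_eq t.1
    rw [MulAut.conj_apply, inv_inv] at this
    rw [this]; exact t.2.1
  · apply (k5_conj_mem g (g⁻¹ * t.1 * g) P).mp
    have e : g * (g⁻¹ * t.1 * g) * g⁻¹ = t.1 := by group
    rw [e]; exact t.2.2
  · intro a b hab
    simp only [Subtype.mk.injEq] at hab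
    apply Subtype.ext
    have := congrArg (fun x => g * x * g⁻¹) hab
    simpa [mul_assoc] using this

theorem k5_m_le (Q Q' : Sylow 11 G) :
    Nat.card {P' : Sylow 5 G // (P' : Subgroup G) ≤ normalizer ((Q : Subgroup G) : Set G)} ≤
    Nat.card {P' : Sylow 5 G // (P' : Subgroup G) ≤ normalizer ((Q' : Subgroup G) : Set G)} := by
  have : Fact (Nat.Prime 11) := ⟨by norm_num⟩
  obtain ⟨g, rfl⟩ := MulAction.exists_smul_eq G Q Q'
  refine Nat.card_le_card_of_injective (fun P' => ⟨g • P'.1, k5_smul_le g P'.1 Q P'.2⟩) ?_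
  intro a b hab
  simp only [Subtype.mk.injEq] at hab
  exact Subtype.ext (smul_left_cancel g hab)

/-- every `N(Q)` contains exactly 11 Sylow 5-subgroups (double counting with `F.phi`). -/
theorem k5_m (F : Facts G) (Q₀ : Sylow 11 G) :
    Nat.card {P' : Sylow 5 G //
      (P' : Subgroup G) ≤ normalizer ((Q₀ : Subgroup G) : Set G)} = 11 := by
  have hconst : ∀ Q : Sylow 11 G, Nat.card {P' : Sylow 5 G //
      (P' : Subgroup G) ≤ normalizer ((Q : Subgroup G) : Set G)} = Nat.card {P' : Sylow 5 G //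
      (P' : Subgroup G) ≤ normalizer ((Q₀ : Subgroup G) : Set G)} :=
    fun Q => le_antisymm (k5_m_le Q Q₀) (k5_m_le Q₀ Q)
  have h1 := k5_card_pairs_const (fun (P' : Sylow 5 G) (Q : Sylow 11 G) =>
    (P' : Subgroup G) ≤ normalizer ((Q : Subgroup G) : Set G)) 4 (fun P' => F.phi P')
  have h2 := k5_card_pairs_const (fun (Q : Sylow 11 G) (P' : Sylow 5 G) =>
    (P' : Subgroup G) ≤ normalizer ((Q : Subgroup G) : Set G)) _ hconst
  have h3 := k5_card_pairs_swap (fun (P' : Sylow 5 G) (Q : Sylow 11 G) =>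
    (P' : Subgroup G) ≤ normalizer ((Q : Subgroup G) : Set G))
  rw [k5_n5 F] at h1
  rw [k5_n11 F] at h2
  omega

theorem k5_three (F : Facts G) (Q₀ : Sylow 11 G) (P' : Sylow 5 G)
    (h0 : (P' : Subgroup G) ≤ normalizer ((Q₀ : Subgroup G) : Set G)) :
    Nat.card {Q' : Sylow 11 G //
      (P' : Subgroup G) ≤ normalizer ((Q' : Subgroup G) : Set G) ∧ Q' ≠ Q₀} = 3 := by
  have h4 := F.phi P'
  have hs := k5_card_split (α := {Q : Sylow 11 G //
    (P' : Subgroup G) ≤ normalizer ((Q : Subgroup G) : Set G)}) (fun x => x.1 = Q₀)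
  have h1 : Nat.card {x : {Q : Sylow 11 G //
      (P' : Subgroup G) ≤ normalizer ((Q : Subgroup G) : Set G)} // x.1 = Q₀} = 1 := by
    rw [Nat.card_eq_one_iff_unique]
    exact ⟨⟨fun a b => Subtype.ext (Subtype.ext (a.2.trans b.2.symm))⟩, ⟨⟨⟨Q₀, h0⟩, rfl⟩⟩⟩
  have h2 : Nat.card {x : {Q : Sylow 11 G //
      (P' : Subgroup G) ≤ normalizer ((Q : Subgroup G) : Set G)} // ¬ x.1 = Q₀} =
      Nat.card {Q' : Sylow 11 G //
        (P' : Subgroup G) ≤ normalizer ((Q' : Subgroup G) : Set G) ∧ Q' ≠ Q₀} :=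
    Nat.card_congr (Equiv.subtypeSubtypeEquivSubtypeInter
      (fun Q : Sylow 11 G => (P' : Subgroup G) ≤ normalizer ((Q : Subgroup G) : Set G))
      (fun Q => Q ≠ Q₀))
  beta_reduce at hs
  omega

/-! ## the three injections -/

theorem k5_partA (F : Facts G) (Q₀ : Sylow 11 G) :
    Nat.card {t : {t : G // orderOf t = 2 ∧ t ∈ (⊤ : Subgroup G)} //
        normalizer ((Q₀ : Subgroup G) : Set G) ⊓
          normalizer (((t.1 • Q₀ : Sylow 11 G) : Subgroup G) : Set G) = ⊥} ≤
    Nat.card {Q' : {Q' : Sylow 11 G // Q' ≠ Q₀} //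
        normalizer ((Q₀ : Subgroup G) : Set G) ⊓
          normalizer ((Q'.1 : Subgroup G) : Set G) = ⊥} := by
  refine Nat.card_le_card_of_injective
    (fun t => ⟨⟨t.1.1 • Q₀, ?_⟩, t.2⟩) ?_
  · intro h
    exact k5_invol_not_mem F Q₀ t.1.1 t.1.2.1 ((k5_smul_eq_iff _ _).mp h)
  · intro a b hab
    simp only [Subtype.mk.injEq] at hab
    apply Subtype.ext; apply Subtype.ext
    have hs := b.1.2.1
    have ht := a.1.2.1
    have hD := a.2
    have hmem : (b.1.1)⁻¹ * a.1.1 ∈ normalizer ((Q₀ : Subgroup G) : Set G) ⊓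
          normalizer (((a.1.1 • Q₀ : Sylow 11 G) : Subgroup G) : Set G) := by
      rw [Subgroup.mem_inf, ← k5_smul_eq_iff, ← k5_smul_eq_iff]
      constructor
      · rw [mul_smul, hab, smul_smul, inv_mul_cancel, one_smul]
      · rw [mul_smul, k5_invol_smul_smul a.1.1 ht, k5_invol_inv b.1.1 hs]; exact hab.symm
    rw [hD, Subgroup.mem_bot] at hmem
    exact (inv_mul_eq_one.mp hmem).symm

theorem k5_partB (F : Facts G) (Q₀ : Sylow 11 G) :
    Nat.card {t : {t : G // orderOf t = 2 ∧ t ∈ (⊤ : Subgroup G)} //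
        ¬ (normalizer ((Q₀ : Subgroup G) : Set G) ⊓
          normalizer (((t.1 • Q₀ : Sylow 11 G) : Subgroup G) : Set G) = ⊥)} ≤
    Nat.card {x : {P' : Sylow 5 G //
          (P' : Subgroup G) ≤ normalizer ((Q₀ : Subgroup G) : Set G)} × G //
        orderOf x.2 = 2 ∧ x.2 ∈ normalizer ((x.1.1 : Subgroup G) : Set G)} := by
  have hex : ∀ t : {t : {t : G // orderOf t = 2 ∧ t ∈ (⊤ : Subgroup G)} //
        ¬ (normalizer ((Q₀ : Subgroup G) : Set G) ⊓
          normalizer (((t.1 • Q₀ : Sylow 11 G) : Subgroup G) : Set G) = ⊥)},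
      ∃ P' : Sylow 5 G, (P' : Subgroup G) ≤ normalizer ((Q₀ : Subgroup G) : Set G) ∧
        t.1.1 ∈ normalizer ((P' : Subgroup G) : Set G) := by
    intro t
    have hne : t.1.1 • Q₀ ≠ Q₀ := fun h =>
      k5_invol_not_mem F Q₀ t.1.1 t.1.2.1 ((k5_smul_eq_iff _ _).mp h)
    have hc : Nat.card ↥(normalizer ((Q₀ : Subgroup G) : Set G) ⊓
          normalizer (((t.1.1 • Q₀ : Sylow 11 G) : Subgroup G) : Set G)) = 5 := by
      rcases k5_card_D F Q₀ (t.1.1 • Q₀) hne with h | h
      · exact absurd (Subgroup.card_eq_one.mp h) t.2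
      · exact h
    obtain ⟨P', hP'⟩ := k5_exists_sylow5 F _ hc
    refine ⟨P', ?_, ?_⟩
    · rw [hP']; exact inf_le_left
    · rw [hP']; exact k5_normalizes_D Q₀ t.1.1 t.1.2.1
  refine Nat.card_le_card_of_injective
    (fun t => ⟨(⟨(hex t).choose, (hex t).choose_spec.1⟩, t.1.1), t.1.2.1,
      (hex t).choose_spec.2⟩) ?_
  intro a b hab
  simp only [Subtype.mk.injEq, Prod.mk.injEq] at hab
  exact Subtype.ext (Subtype.ext hab.2)

theorem k5_partC (F : Facts G) (Q₀ : Sylow 11 G) :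
    Nat.card {x : {P' : Sylow 5 G //
          (P' : Subgroup G) ≤ normalizer ((Q₀ : Subgroup G) : Set G)} × Sylow 11 G //
        (x.1.1 : Subgroup G) ≤ normalizer ((x.2 : Subgroup G) : Set G) ∧ x.2 ≠ Q₀} ≤
    Nat.card {Q' : {Q' : Sylow 11 G // Q' ≠ Q₀} //
        ¬ (normalizer ((Q₀ : Subgroup G) : Set G) ⊓
          normalizer ((Q'.1 : Subgroup G) : Set G) = ⊥)} := by
  refine Nat.card_le_card_of_injective
    (fun x => ⟨⟨x.1.2, x.2.2⟩, ?_⟩) ?_
  · intro hbot
    have heq := k5_eq_D F Q₀ x.1.2 x.2.2 x.1.1.1 x.1.1.2 x.2.1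
    have hc := k5_card_sylow5 F.card x.1.1.1
    rw [heq] at hc
    change normalizer ((Q₀ : Subgroup G) : Set G) ⊓
          normalizer ((x.1.2 : Subgroup G) : Set G) = ⊥ at hbot
    rw [hbot] at hc
    simp at hc
  · intro a b hab
    simp only [Subtype.mk.injEq] at hab
    apply Subtype.ext
    apply Prod.ext
    · apply Subtype.ext
      apply Sylow.ext
      have e1 := k5_eq_D F Q₀ a.1.2 a.2.2 a.1.1.1 a.1.1.2 a.2.1
      have e2 := k5_eq_D F Q₀ b.1.2 b.2.2 b.1.1.1 b.1.1.2 b.2.1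
      rw [e1, e2, hab]
    · exact hab

/-! ## (K5) -/

theorem inv_bound (F : Facts G) (P : Sylow 5 G) :
    Helper7.M11LA.inv (⊤ : Subgroup G) ≤
      110 + 11 * Helper7.M11LA.inv (normalizer ((P : Subgroup G) : Set G)) := by
  classical
  obtain ⟨Q₀⟩ : Nonempty (Sylow 11 G) := inferInstance
  have hI := k5_card_split (α := {t : G // orderOf t = 2 ∧ t ∈ (⊤ : Subgroup G)})
    (fun t => normalizer ((Q₀ : Subgroup G) : Set G) ⊓
      normalizer (((t.1 • Q₀ : Sylow 11 G) : Subgroup G) : Set G) = ⊥)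
  have hΩ := k5_card_split (α := {Q' : Sylow 11 G // Q' ≠ Q₀})
    (fun Q' => normalizer ((Q₀ : Subgroup G) : Set G) ⊓
      normalizer ((Q'.1 : Subgroup G) : Set G) = ⊥)
  have h143 : Nat.card {Q' : Sylow 11 G // Q' ≠ Q₀} = 143 := by
    have := Nat.card_congr (Equiv.optionSubtypeNe Q₀)
    rw [Finite.card_option, k5_n11 F] at this
    omega
  have hA := k5_partA F Q₀
  have hB := k5_partB F Q₀
  have hC := k5_partC F Q₀
  have hT2 := k5_card_pairs_le (α := {P' : Sylow 5 G //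
      (P' : Subgroup G) ≤ normalizer ((Q₀ : Subgroup G) : Set G)}) (β := G)
    (fun P' t => orderOf t = 2 ∧ t ∈ normalizer ((P'.1 : Subgroup G) : Set G))
    (Helper7.M11LA.inv (normalizer ((P : Subgroup G) : Set G))) (fun P' => k5_inv_le P'.1 P)
  have hT3 := k5_card_pairs_const (α := {P' : Sylow 5 G //
      (P' : Subgroup G) ≤ normalizer ((Q₀ : Subgroup G) : Set G)}) (β := Sylow 11 G)
    (fun P' Q' => (P'.1 : Subgroup G) ≤ normalizer ((Q' : Subgroup G) : Set G) ∧ Q' ≠ Q₀) 3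
    (fun P' => k5_three F Q₀ P'.1 P'.2)
  rw [k5_m F Q₀] at hT2 hT3
  beta_reduce at hI hΩ hT2 hT3
  unfold Helper7.M11LA.inv at hT2 ⊢
  omega

end Cfsg.Agent.Helper22.M11LA
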