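import Mathlib
import Cfsg.Agent.Lib.Helper74.M11Defs
import Cfsg.Agent.Lib.Helper22.M11LAK5

/-!
# M11 server (helper74, S0434/S0435), pieces (P8a) inter_card, (P8b) card_short, (P8c) card_involutions_le.
-/

set_option autoImplicit false
set_option linter.unusedVariables false
set_option linter.unusedSectionVars false
set_option linter.style.haveILetI false

namespace Cfsg.Agent.Helper22.M11

open Subgroup
open Cfsg.Agent.Helper74.M11
open Cfsg.Agent.Helper22.M11LA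
open scoped Pointwise

variable {G : Type*} [Group G] [Finite G]

theorem p8_gen11 (hc : Nat.card G = 7920) (Q : Sylow 11 G) :
    ∃ x : G, orderOf x = 11 ∧ zpowers x = (Q : Subgroup G) := by
  have : Fact (Nat.Prime 11) := ⟨by norm_num⟩
  have hcard := k5_card_sylow11 hc Q
  obtain ⟨x, hx⟩ := exists_prime_orderOf_dvd_card' (G := ↥(Q : Subgroup G)) 11 (by rw [hcard])
  refine ⟨(x : G), by rw [Subgroup.orderOf_coe]; exact hx, ?_⟩
  apply Subgroup.eq_of_le_of_card_ge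
  · rw [zpowers_le]; exact x.2
  · rw [hcard, Nat.card_zpowers, Subgroup.orderOf_coe, hx]

theorem p8_gen5 (hc : Nat.card G = 7920) (R : Sylow 5 G) :
    ∃ y : G, orderOf y = 5 ∧ zpowers y = (R : Subgroup G) := by
  have : Fact (Nat.Prime 5) := ⟨by norm_num⟩
  have hcard := k5_card_sylow5 hc R
  obtain ⟨x, hx⟩ := exists_prime_orderOf_dvd_card' (G := ↥(R : Subgroup G)) 5 (by rw [hcard])
  refine ⟨(x : G), by rw [Subgroup.orderOf_coe]; exact hx, ?_⟩
  apply Subgroup.eq_of_le_of_card_ge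
  · rw [zpowers_le]; exact x.2
  · rw [hcard, Nat.card_zpowers, Subgroup.orderOf_coe, hx]

theorem p8_nq (hc : Nat.card G = 7920)
    (h11n : ∀ x : G, orderOf x = 11 → Nat.card (Nor x) = 55) (Q : Sylow 11 G) :
    Nat.card (normalizer ((Q : Subgroup G) : Set G)) = 55 := by
  obtain ⟨x, hx1, hx2⟩ := p8_gen11 hc Q
  rw [← hx2]; exact h11n x hx1

theorem p8_n11 (hc : Nat.card G = 7920)
    (hnq : ∀ Q : Sylow 11 G, Nat.card (normalizer ((Q : Subgroup G) : Set G)) = 55) :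
    Nat.card (Sylow 11 G) = 144 := by
  have : Fact (Nat.Prime 11) := ⟨by norm_num⟩
  obtain ⟨P⟩ : Nonempty (Sylow 11 G) := inferInstance
  have h1 := Sylow.card_eq_index_normalizer P
  have h2 := Subgroup.index_mul_card (normalizer ((P : Subgroup G) : Set G))
  rw [hnq P, hc] at h2
  have h3 : (normalizer ((P : Subgroup G) : Set G)).index = 144 := by omega
  rw [h1]; exact h3

theorem p8_invol_not_mem
    (hnq : ∀ Q : Sylow 11 G, Nat.card (normalizer ((Q : Subgroup G) : Set G)) = 55)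
    (Q : Sylow 11 G) (t : G) (ht : orderOf t = 2) :
    t ∉ normalizer ((Q : Subgroup G) : Set G) := by
  intro h
  have h1 := Subgroup.orderOf_dvd_natCard _ h
  rw [ht, hnq Q] at h1
  norm_num at h1

theorem p8_card_D (hc : Nat.card G = 7920)
    (hnq : ∀ Q : Sylow 11 G, Nat.card (normalizer ((Q : Subgroup G) : Set G)) = 55)
    (Q₀ Q' : Sylow 11 G) (hne : Q' ≠ Q₀) :
    Nat.card ↥(normalizer ((Q₀ : Subgroup G) : Set G) ⊓
        normalizer ((Q' : Subgroup G) : Set G)) = 1 ∨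
      Nat.card ↥(normalizer ((Q₀ : Subgroup G) : Set G) ⊓
        normalizer ((Q' : Subgroup G) : Set G)) = 5 := by
  have : Fact (Nat.Prime 11) := ⟨by norm_num⟩
  have hdvd : Nat.card ↥(normalizer ((Q₀ : Subgroup G) : Set G) ⊓
      normalizer ((Q' : Subgroup G) : Set G)) ∣ 55 := by
    rw [← hnq Q₀]; exact Subgroup.card_dvd_of_le inf_le_left
  have h11 : ¬ 11 ∣ Nat.card ↥(normalizer ((Q₀ : Subgroup G) : Set G) ⊓
      normalizer ((Q' : Subgroup G) : Set G)) := by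
    intro h
    obtain ⟨x, hx⟩ := exists_prime_orderOf_dvd_card' 11 h
    have hxo : orderOf (x : G) = 11 := by rw [Subgroup.orderOf_coe]; exact hx
    have hcz : Nat.card (zpowers (x : G)) = 11 := by rw [Nat.card_zpowers, hxo]
    have hP : IsPGroup 11 (zpowers (x : G)) := by
      apply IsPGroup.of_card (n := 1); rw [hcz, pow_one]
    have hle0 : zpowers (x : G) ≤ normalizer ((Q₀ : Subgroup G) : Set G) := by
      rw [zpowers_le]; exact (Subgroup.mem_inf.mp x.2).1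
    have hle1 : zpowers (x : G) ≤ normalizer ((Q' : Subgroup G) : Set G) := by
      rw [zpowers_le]; exact (Subgroup.mem_inf.mp x.2).2
    have h0 := k5_le_of_le_normalizer Q₀ _ hP hle0
    have h1 := k5_le_of_le_normalizer Q' _ hP hle1
    have e0 : zpowers (x : G) = (Q₀ : Subgroup G) :=
      Subgroup.eq_of_le_of_card_ge h0 (by rw [hcz, k5_card_sylow11 hc])
    have e1 : zpowers (x : G) = (Q' : Subgroup G) :=
      Subgroup.eq_of_le_of_card_ge h1 (by rw [hcz, k5_card_sylow11 hc])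
    exact hne (Sylow.ext (e1.symm.trans e0))
  have hmem : Nat.card ↥(normalizer ((Q₀ : Subgroup G) : Set G) ⊓
      normalizer ((Q' : Subgroup G) : Set G)) ∈ Nat.divisors 55 :=
    Nat.mem_divisors.mpr ⟨hdvd, by norm_num⟩
  have hdiv : Nat.divisors 55 = {1, 5, 11, 55} := by decide
  rw [hdiv] at hmem
  simp only [Finset.mem_insert, Finset.mem_singleton] at hmem
  rcases hmem with h | h | h | h
  · left; exact h
  · right; exact h
  · exact absurd (by rw [h]) h11
  · exact absurd (by rw [h]; norm_num) h11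

/-- (P8a) -/
theorem inter_card (hc : Nat.card G = 7920)
    (h11n : ∀ x : G, orderOf x = 11 → Nat.card (Nor x) = 55)
    (Q0 Q : Sylow 11 G) (hQ : Q ≠ Q0) :
    Nat.card (NorS (Q0 : Subgroup G) ⊓ NorS (Q : Subgroup G) : Subgroup G) = 1 ∨
    Nat.card (NorS (Q0 : Subgroup G) ⊓ NorS (Q : Subgroup G) : Subgroup G) = 5 :=
  p8_card_D hc (p8_nq hc h11n) Q0 Q hQ

theorem p8_exists_sylow5 (hc : Nat.card G = 7920) (D : Subgroup G) (hD : Nat.card D = 5) :
    ∃ P' : Sylow 5 G, (P' : Subgroup G) = D := by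
  have : Fact (Nat.Prime 5) := ⟨by norm_num⟩
  have hP : IsPGroup 5 D := by
    apply IsPGroup.of_card (n := 1); rw [hD, pow_one]
  obtain ⟨P', hP'⟩ := hP.exists_le_sylow
  refine ⟨P', (Subgroup.eq_of_le_of_card_ge hP' ?_).symm⟩
  rw [hD, k5_card_sylow5 hc]

theorem p8_eq_D (hc : Nat.card G = 7920) (Q₀ Q' : Sylow 11 G)
    (hD : Nat.card ↥(normalizer ((Q₀ : Subgroup G) : Set G) ⊓
        normalizer ((Q' : Subgroup G) : Set G)) = 1 ∨
      Nat.card ↥(normalizer ((Q₀ : Subgroup G) : Set G) ⊓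
        normalizer ((Q' : Subgroup G) : Set G)) = 5) (P' : Sylow 5 G)
    (h0 : (P' : Subgroup G) ≤ normalizer ((Q₀ : Subgroup G) : Set G))
    (h1 : (P' : Subgroup G) ≤ normalizer ((Q' : Subgroup G) : Set G)) :
    (P' : Subgroup G) = normalizer ((Q₀ : Subgroup G) : Set G) ⊓
        normalizer ((Q' : Subgroup G) : Set G) ∧
      Nat.card ↥(normalizer ((Q₀ : Subgroup G) : Set G) ⊓
        normalizer ((Q' : Subgroup G) : Set G)) = 5 := by
  have hle : (P' : Subgroup G) ≤ normalizer ((Q₀ : Subgroup G) : Set G) ⊓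
        normalizer ((Q' : Subgroup G) : Set G) := le_inf h0 h1
  have hcP := k5_card_sylow5 hc P'
  have h5 : Nat.card ↥(normalizer ((Q₀ : Subgroup G) : Set G) ⊓
        normalizer ((Q' : Subgroup G) : Set G)) = 5 := by
    rcases hD with h | h
    · exfalso
      have := Subgroup.card_le_of_le hle
      rw [h, hcP] at this
      norm_num at this
    · exact h
  exact ⟨Subgroup.eq_of_le_of_card_ge hle (by rw [h5, hcP]), h5⟩

/-- `N(Q₀)` (order 55) contains at most 11 Sylow 5-subgroups. -/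
theorem p8_m_le (hc : Nat.card G = 7920)
    (hnq : ∀ Q : Sylow 11 G, Nat.card (normalizer ((Q : Subgroup G) : Set G)) = 55)
    (Q₀ : Sylow 11 G) :
    Nat.card {R : Sylow 5 G //
      (R : Subgroup G) ≤ normalizer ((Q₀ : Subgroup G) : Set G)} ≤ 11 := by
  have : Fact (Nat.Prime 5) := ⟨by norm_num⟩
  by_cases hne : Nonempty {R : Sylow 5 G //
      (R : Subgroup G) ≤ normalizer ((Q₀ : Subgroup G) : Set G)}
  · obtain ⟨R₀⟩ := hne
    have hinj : Function.Injective (fun R : {R : Sylow 5 G //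
        (R : Subgroup G) ≤ normalizer ((Q₀ : Subgroup G) : Set G)} => R.1.subtype R.2) := by
      intro a b hab
      exact Subtype.ext (Sylow.subtype_injective hab)
    have h1 := Nat.card_le_card_of_injective _ hinj
    have h2 : Nat.card (Sylow 5 ↥(normalizer ((Q₀ : Subgroup G) : Set G))) ∣ 11 := by
      have hd := Sylow.card_dvd_index (R₀.1.subtype R₀.2)
      have hi := Subgroup.index_mul_card ((R₀.1.subtype R₀.2 :
        Sylow 5 ↥(normalizer ((Q₀ : Subgroup G) : Set G))) :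
          Subgroup ↥(normalizer ((Q₀ : Subgroup G) : Set G)))
      have h5 : Nat.card ↥((R₀.1.subtype R₀.2 :
        Sylow 5 ↥(normalizer ((Q₀ : Subgroup G) : Set G))) :
          Subgroup ↥(normalizer ((Q₀ : Subgroup G) : Set G))) = 5 := by
        rw [Sylow.coe_subtype, Nat.card_congr (Subgroup.subgroupOfEquivOfLe R₀.2).toEquiv]
        exact k5_card_sylow5 hc R₀.1
      rw [h5, hnq Q₀] at hi
      have h11 : ((R₀.1.subtype R₀.2 :
        Sylow 5 ↥(normalizer ((Q₀ : Subgroup G) : Set G))) :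
          Subgroup ↥(normalizer ((Q₀ : Subgroup G) : Set G))).index = 11 := by omega
      rwa [h11] at hd
    exact h1.trans (Nat.le_of_dvd (by norm_num) h2)
  · rw [not_nonempty_iff] at hne
    simp

/-- a Sylow 5-subgroup inside `N(Q₀)` is not normalized by `Q₀`. -/
theorem p8_not_le (hc : Nat.card G = 7920)
    (h11 : ∀ x : G, orderOf x = 11 → Nat.card (Cen x) = 11)
    (Q₀ : Sylow 11 G) (R : Sylow 5 G)
    (hR : (R : Subgroup G) ≤ normalizer ((Q₀ : Subgroup G) : Set G)) :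
    ¬ (Q₀ : Subgroup G) ≤ normalizer ((R : Subgroup G) : Set G) := by
  intro hQ
  obtain ⟨x, hx1, hx2⟩ := p8_gen11 hc Q₀
  obtain ⟨y, hy1, hy2⟩ := p8_gen5 hc R
  have hxQ : x ∈ (Q₀ : Subgroup G) := by rw [← hx2]; exact mem_zpowers x
  have hyR : y ∈ (R : Subgroup G) := by rw [← hy2]; exact mem_zpowers y
  have hxN := hQ hxQ
  have hyN := hR hyR
  have hbot : (R : Subgroup G) ⊓ (Q₀ : Subgroup G) = ⊥ := by
    apply disjoint_iff.mp
    apply Subgroup.disjoint_of_coprime_natCard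
    rw [k5_card_sylow5 hc, k5_card_sylow11 hc]; norm_num
  have hc1 : x * y * x⁻¹ * y⁻¹ ∈ (R : Subgroup G) :=
    mul_mem ((mem_normalizer_iff.mp hxN y).mp hyR) (inv_mem hyR)
  have hc2 : x * y * x⁻¹ * y⁻¹ ∈ (Q₀ : Subgroup G) := by
    have := mul_mem hxQ ((mem_normalizer_iff.mp hyN x⁻¹).mp (inv_mem hxQ))
    simpa [mul_assoc] using this
  have hc3 : x * y * x⁻¹ * y⁻¹ ∈ (R : Subgroup G) ⊓ (Q₀ : Subgroup G) := ⟨hc1, hc2⟩
  rw [hbot, Subgroup.mem_bot] at hc3
  have hcomm : x * y = y * x := by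
    have := congrArg (fun z => z * y * x) hc3
    simpa [mul_assoc] using this
  have hyC : y ∈ Cen x := by
    rw [Subgroup.mem_centralizer_iff]
    intro h hh
    rw [Set.mem_singleton_iff] at hh
    rw [hh]; exact hcomm
  have hdvd := Subgroup.orderOf_dvd_natCard _ hyC
  rw [hy1, h11 x hx1] at hdvd
  norm_num at hdvd

theorem p8_m_ge (hc : Nat.card G = 7920)
    (h11 : ∀ x : G, orderOf x = 11 → Nat.card (Cen x) = 11)
    (hnq : ∀ Q : Sylow 11 G, Nat.card (normalizer ((Q : Subgroup G) : Set G)) = 55)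
    (Q₀ : Sylow 11 G) :
    11 ≤ Nat.card {R : Sylow 5 G //
      (R : Subgroup G) ≤ normalizer ((Q₀ : Subgroup G) : Set G)} := by
  have : Fact (Nat.Prime 5) := ⟨by norm_num⟩
  have : Fact (Nat.Prime 11) := ⟨by norm_num⟩
  -- a Sylow 5-subgroup inside N(Q₀)
  obtain ⟨y, hy⟩ := exists_prime_orderOf_dvd_card'
    (G := ↥(normalizer ((Q₀ : Subgroup G) : Set G))) 5 (by rw [hnq Q₀]; norm_num)
  have hyo : orderOf (y : G) = 5 := by rw [Subgroup.orderOf_coe]; exact hy
  obtain ⟨R, hR⟩ := p8_exists_sylow5 hc (zpowers (y : G)) (by rw [Nat.card_zpowers, hyo])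
  have hRN : (R : Subgroup G) ≤ normalizer ((Q₀ : Subgroup G) : Set G) := by
    rw [hR, zpowers_le]; exact y.2
  obtain ⟨x, hx1, hx2⟩ := p8_gen11 hc Q₀
  have hxQ : ∀ i : ℕ, x ^ i ∈ (Q₀ : Subgroup G) := fun i => by
    rw [← hx2]; exact Subgroup.pow_mem _ (mem_zpowers x) i
  have hfix : ∀ g : G, g ∈ (Q₀ : Subgroup G) → g • Q₀ = Q₀ := fun g hg =>
    (k5_smul_eq_iff g Q₀).mpr (le_normalizer hg)
  have hmem : ∀ i : ℕ, ((x ^ i • R : Sylow 5 G) : Subgroup G) ≤
      normalizer ((Q₀ : Subgroup G) : Set G) := fun i => by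
    have := k5_smul_le (x ^ i) R Q₀ hRN
    rwa [hfix _ (hxQ i)] at this
  have hinj : Function.Injective (fun i : Fin 11 => (⟨x ^ (i : ℕ) • R, hmem i⟩ :
      {R : Sylow 5 G // (R : Subgroup G) ≤ normalizer ((Q₀ : Subgroup G) : Set G)})) := by
    intro i j hij
    simp only [Subtype.mk.injEq] at hij
    -- g := (x^i)⁻¹ * x^j normalizes R
    have hg : ((x ^ (i : ℕ))⁻¹ * x ^ (j : ℕ)) • R = R := by
      rw [mul_smul, ← hij, smul_smul, inv_mul_cancel, one_smul]
    have hgN := (k5_smul_eq_iff _ R).mp hg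
    have hgQ : (x ^ (i : ℕ))⁻¹ * x ^ (j : ℕ) ∈ (Q₀ : Subgroup G) :=
      mul_mem (inv_mem (hxQ i)) (hxQ j)
    by_contra hne
    have hg1 : (x ^ (i : ℕ))⁻¹ * x ^ (j : ℕ) ≠ 1 := by
      intro h1
      have hpow : x ^ (i : ℕ) = x ^ (j : ℕ) := inv_mul_eq_one.mp h1
      have := pow_injOn_Iio_orderOf (x := x) (by rw [hx1]; exact i.2) (by rw [hx1]; exact j.2) hpow
      exact hne (Fin.ext this)
    -- Q₀ ⊓ N(R) is nontrivial hence equal to Q₀
    have hcard : Nat.card ↥((Q₀ : Subgroup G) ⊓ normalizer ((R : Subgroup G) : Set G)) ∣ 11 := by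
      have hd := Subgroup.card_dvd_of_le (inf_le_left :
        (Q₀ : Subgroup G) ⊓ normalizer ((R : Subgroup G) : Set G) ≤ (Q₀ : Subgroup G))
      rwa [k5_card_sylow11 hc Q₀] at hd
    have hne1 : Nat.card ↥((Q₀ : Subgroup G) ⊓ normalizer ((R : Subgroup G) : Set G)) ≠ 1 := by
      intro h1
      have hb := Subgroup.card_eq_one.mp h1
      have : (x ^ (i : ℕ))⁻¹ * x ^ (j : ℕ) ∈
          (Q₀ : Subgroup G) ⊓ normalizer ((R : Subgroup G) : Set G) := ⟨hgQ, hgN⟩
      rw [hb, Subgroup.mem_bot] at this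
      exact hg1 this
    have h11c : Nat.card ↥((Q₀ : Subgroup G) ⊓ normalizer ((R : Subgroup G) : Set G)) = 11 := by
      rcases (Nat.dvd_prime (by norm_num : Nat.Prime 11)).mp hcard with h | h
      · exact absurd h hne1
      · exact h
    have heq : (Q₀ : Subgroup G) ⊓ normalizer ((R : Subgroup G) : Set G) = (Q₀ : Subgroup G) :=
      Subgroup.eq_of_le_of_card_ge inf_le_left (by rw [h11c, k5_card_sylow11 hc])
    exact p8_not_le hc h11 Q₀ R hRN (by rw [← heq]; exact inf_le_right)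
  have := Nat.card_le_card_of_injective _ hinj
  simpa using this

theorem p8_phi (hc : Nat.card G = 7920)
    (hf : ∀ y : G, orderOf y = 5 → Nat.card {Q : Sylow 11 G // y ∈ NorS (Q : Subgroup G)} = 4)
    (R : Sylow 5 G) :
    Nat.card {Q : Sylow 11 G //
      (R : Subgroup G) ≤ normalizer ((Q : Subgroup G) : Set G)} = 4 := by
  obtain ⟨y, hy1, hy2⟩ := p8_gen5 hc R
  rw [← hf y hy1]
  apply Nat.card_congr
  exact Equiv.subtypeEquivRight (fun Q => by rw [← hy2, zpowers_le])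

theorem p8_three (hc : Nat.card G = 7920)
    (hf : ∀ y : G, orderOf y = 5 → Nat.card {Q : Sylow 11 G // y ∈ NorS (Q : Subgroup G)} = 4)
    (Q₀ : Sylow 11 G) (P' : Sylow 5 G)
    (h0 : (P' : Subgroup G) ≤ normalizer ((Q₀ : Subgroup G) : Set G)) :
    Nat.card {Q' : Sylow 11 G //
      (P' : Subgroup G) ≤ normalizer ((Q' : Subgroup G) : Set G) ∧ Q' ≠ Q₀} = 3 := by
  have h4 := p8_phi hc hf P'
  have hs := k5_card_split (α := {Q : Sylow 11 G //
    (P' : Subgroup G) ≤ normalizer ((Q : Subgroup G) : Set G)}) (fun x => x.1 = Q₀)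
  have h1 : Nat.card {x : {Q : Sylow 11 G //
      (P' : Subgroup G) ≤ normalizer ((Q : Subgroup G) : Set G)} // x.1 = Q₀} = 1 := by
    rw [Nat.card_eq_one_iff_unique]
    exact ⟨⟨fun a b => Subtype.ext (Subtype.ext (a.2.trans b.2.symm))⟩, ⟨⟨⟨Q₀, h0⟩, rfl⟩⟩⟩
  have h2 : Nat.card {x : {Q : Sylow 11 G //
      (P' : Subgroup G) ≤ normalizer ((Q : Subgroup G) : Set G)} // ¬ x.1 = Q₀} =
      Nat.card {Q' : Sylow 11 G //
        (P' : Subgroup G) ≤ normalizer ((Q' : Subgroup G) : Set G) ∧ Q' ≠ Q₀} :=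
    Nat.card_congr (Equiv.subtypeSubtypeEquivSubtypeInter
      (fun Q : Sylow 11 G => (P' : Subgroup G) ≤ normalizer ((Q : Subgroup G) : Set G))
      (fun Q => Q ≠ Q₀))
  beta_reduce at hs
  omega

/-- (P8b) -/
theorem card_short (hc : Nat.card G = 7920)
    (h11 : ∀ x : G, orderOf x = 11 → Nat.card (Cen x) = 11)
    (h11n : ∀ x : G, orderOf x = 11 → Nat.card (Nor x) = 55)
    (hf : ∀ y : G, orderOf y = 5 → Nat.card {Q : Sylow 11 G // y ∈ NorS (Q : Subgroup G)} = 4)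
    (Q0 : Sylow 11 G) :
    Nat.card {Q : Sylow 11 G // Q ≠ Q0 ∧
      Nat.card (NorS (Q0 : Subgroup G) ⊓ NorS (Q : Subgroup G) : Subgroup G) = 5} = 33 := by
  have hnq := p8_nq hc h11n
  have hm : Nat.card {R : Sylow 5 G //
      (R : Subgroup G) ≤ normalizer ((Q0 : Subgroup G) : Set G)} = 11 :=
    le_antisymm (p8_m_le hc hnq Q0) (p8_m_ge hc h11 hnq Q0)
  have hT3 := k5_card_pairs_const (α := {R : Sylow 5 G //
      (R : Subgroup G) ≤ normalizer ((Q0 : Subgroup G) : Set G)}) (β := Sylow 11 G)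
    (fun P' Q' => (P'.1 : Subgroup G) ≤ normalizer ((Q' : Subgroup G) : Set G) ∧ Q' ≠ Q0) 3
    (fun P' => p8_three hc hf Q0 P'.1 P'.2)
  rw [hm] at hT3
  rw [show (33 : ℕ) = 11 * 3 from rfl, ← hT3]
  symm
  apply Nat.card_congr
  refine Equiv.ofBijective (fun x => ⟨x.1.2, x.2.2, ?_⟩) ⟨?_, ?_⟩
  · exact (p8_eq_D hc Q0 x.1.2 (p8_card_D hc hnq Q0 x.1.2 x.2.2) x.1.1.1 x.1.1.2 x.2.1).2
  · intro a b hab
    simp only [Subtype.mk.injEq] at hab
    apply Subtype.ext
    apply Prod.ext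
    · apply Subtype.ext
      apply Sylow.ext
      have e1 := (p8_eq_D hc Q0 a.1.2 (p8_card_D hc hnq Q0 a.1.2 a.2.2) a.1.1.1 a.1.1.2 a.2.1).1
      have e2 := (p8_eq_D hc Q0 b.1.2 (p8_card_D hc hnq Q0 b.1.2 b.2.2) b.1.1.1 b.1.1.2 b.2.1).1
      rw [e1, e2, hab]
    · exact hab
  · intro Q
    obtain ⟨R, hR⟩ := p8_exists_sylow5 hc _ Q.2.2
    have hR0 : (R : Subgroup G) ≤ normalizer ((Q0 : Subgroup G) : Set G) := by
      rw [hR]; exact inf_le_left
    have hR1 : (R : Subgroup G) ≤ normalizer ((Q.1 : Subgroup G) : Set G) := by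
      rw [hR]; exact inf_le_right
    exact ⟨⟨(⟨R, hR0⟩, Q.1), hR1, Q.2.1⟩, Subtype.ext rfl⟩

theorem p8_inv_le (hc : Nat.card G = 7920) (m : ℕ)
    (hm : ∀ y : G, orderOf y = 5 → Nat.card {t : G // orderOf t = 2 ∧ t ∈ Nor y} ≤ m)
    (R : Sylow 5 G) :
    Nat.card {t : G // orderOf t = 2 ∧ t ∈ normalizer ((R : Subgroup G) : Set G)} ≤ m := by
  obtain ⟨y, hy1, hy2⟩ := p8_gen5 hc R
  rw [← hy2]; exact hm y hy1

theorem p8_partA
    (hnq : ∀ Q : Sylow 11 G, Nat.card (normalizer ((Q : Subgroup G) : Set G)) = 55)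
    (Q₀ : Sylow 11 G)
    (hinter : ∀ Q : Sylow 11 G, Q ≠ Q₀ →
      Nat.card ↥(normalizer ((Q₀ : Subgroup G) : Set G) ⊓
        normalizer ((Q : Subgroup G) : Set G)) = 1 ∨
      Nat.card ↥(normalizer ((Q₀ : Subgroup G) : Set G) ⊓
        normalizer ((Q : Subgroup G) : Set G)) = 5) :
    Nat.card {t : {t : G // orderOf t = 2} //
        ¬ Nat.card ↥(normalizer ((Q₀ : Subgroup G) : Set G) ⊓
          normalizer (((t.1 • Q₀ : Sylow 11 G) : Subgroup G) : Set G)) = 5} ≤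
    Nat.card {Q' : {Q' : Sylow 11 G // Q' ≠ Q₀} //
        ¬ Nat.card ↥(normalizer ((Q₀ : Subgroup G) : Set G) ⊓
          normalizer ((Q'.1 : Subgroup G) : Set G)) = 5} := by
  have hmove : ∀ t : G, orderOf t = 2 → t • Q₀ ≠ Q₀ := fun t ht h =>
    p8_invol_not_mem hnq Q₀ t ht ((k5_smul_eq_iff _ _).mp h)
  refine Nat.card_le_card_of_injective
    (fun t => ⟨⟨t.1.1 • Q₀, hmove t.1.1 t.1.2⟩, t.2⟩) ?_
  intro a b hab
  simp only [Subtype.mk.injEq] at hab
  apply Subtype.ext; apply Subtype.ext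
  have hs := b.1.2
  have ht := a.1.2
  have hD : normalizer ((Q₀ : Subgroup G) : Set G) ⊓
          normalizer (((a.1.1 • Q₀ : Sylow 11 G) : Subgroup G) : Set G) = ⊥ := by
    rcases hinter (a.1.1 • Q₀) (hmove a.1.1 ht) with h | h
    · exact Subgroup.card_eq_one.mp h
    · exact absurd h a.2
  have hmem : (b.1.1)⁻¹ * a.1.1 ∈ normalizer ((Q₀ : Subgroup G) : Set G) ⊓
        normalizer (((a.1.1 • Q₀ : Sylow 11 G) : Subgroup G) : Set G) := by
    rw [Subgroup.mem_inf, ← k5_smul_eq_iff, ← k5_smul_eq_iff]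
    constructor
    · rw [mul_smul, hab, smul_smul, inv_mul_cancel, one_smul]
    · rw [mul_smul, k5_invol_smul_smul a.1.1 ht, k5_invol_inv b.1.1 hs]; exact hab.symm
  rw [hD, Subgroup.mem_bot] at hmem
  exact (inv_mul_eq_one.mp hmem).symm

theorem p8_partB (hc : Nat.card G = 7920) (Q₀ : Sylow 11 G) :
    Nat.card {t : {t : G // orderOf t = 2} //
        Nat.card ↥(normalizer ((Q₀ : Subgroup G) : Set G) ⊓
          normalizer (((t.1 • Q₀ : Sylow 11 G) : Subgroup G) : Set G)) = 5} ≤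
    Nat.card {x : {P' : Sylow 5 G //
          (P' : Subgroup G) ≤ normalizer ((Q₀ : Subgroup G) : Set G)} × G //
        orderOf x.2 = 2 ∧ x.2 ∈ normalizer ((x.1.1 : Subgroup G) : Set G)} := by
  have hex : ∀ t : {t : {t : G // orderOf t = 2} //
        Nat.card ↥(normalizer ((Q₀ : Subgroup G) : Set G) ⊓
          normalizer (((t.1 • Q₀ : Sylow 11 G) : Subgroup G) : Set G)) = 5},
      ∃ P' : Sylow 5 G, (P' : Subgroup G) ≤ normalizer ((Q₀ : Subgroup G) : Set G) ∧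
        t.1.1 ∈ normalizer ((P' : Subgroup G) : Set G) := by
    intro t
    obtain ⟨P', hP'⟩ := p8_exists_sylow5 hc _ t.2
    refine ⟨P', ?_, ?_⟩
    · rw [hP']; exact inf_le_left
    · rw [hP']; exact k5_normalizes_D Q₀ t.1.1 t.1.2
  refine Nat.card_le_card_of_injective
    (fun t => ⟨(⟨(hex t).choose, (hex t).choose_spec.1⟩, t.1.1), t.1.2,
      (hex t).choose_spec.2⟩) ?_
  intro a b hab
  simp only [Subtype.mk.injEq, Prod.mk.injEq] at hab
  exact Subtype.ext (Subtype.ext hab.2)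

/-- (P8c) -/
theorem card_involutions_le (hc : Nat.card G = 7920)
    (h11n : ∀ x : G, orderOf x = 11 → Nat.card (Nor x) = 55)
    (hinter : ∀ Q0 Q : Sylow 11 G, Q ≠ Q0 →
      Nat.card (NorS (Q0 : Subgroup G) ⊓ NorS (Q : Subgroup G) : Subgroup G) = 1 ∨
      Nat.card (NorS (Q0 : Subgroup G) ⊓ NorS (Q : Subgroup G) : Subgroup G) = 5)
    (hshort : ∀ Q0 : Sylow 11 G, Nat.card {Q : Sylow 11 G // Q ≠ Q0 ∧
      Nat.card (NorS (Q0 : Subgroup G) ⊓ NorS (Q : Subgroup G) : Subgroup G) = 5} = 33)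
    (m : ℕ) (hm : ∀ y : G, orderOf y = 5 → Nat.card {t : G // orderOf t = 2 ∧ t ∈ Nor y} ≤ m) :
    Nat.card {t : G // orderOf t = 2} ≤ 110 + 11 * m := by
  classical
  have hnq := p8_nq hc h11n
  obtain ⟨Q₀⟩ : Nonempty (Sylow 11 G) := inferInstance
  have hI := k5_card_split (α := {t : G // orderOf t = 2})
    (fun t => Nat.card ↥(normalizer ((Q₀ : Subgroup G) : Set G) ⊓
      normalizer (((t.1 • Q₀ : Sylow 11 G) : Subgroup G) : Set G)) = 5)
  have hΩ := k5_card_split (α := {Q' : Sylow 11 G // Q' ≠ Q₀})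
    (fun Q' => Nat.card ↥(normalizer ((Q₀ : Subgroup G) : Set G) ⊓
      normalizer ((Q'.1 : Subgroup G) : Set G)) = 5)
  have h143 : Nat.card {Q' : Sylow 11 G // Q' ≠ Q₀} = 143 := by
    have := Nat.card_congr (Equiv.optionSubtypeNe Q₀)
    rw [Finite.card_option, p8_n11 hc hnq] at this
    omega
  have h33 : Nat.card {Q' : {Q' : Sylow 11 G // Q' ≠ Q₀} //
      Nat.card ↥(normalizer ((Q₀ : Subgroup G) : Set G) ⊓
        normalizer ((Q'.1 : Subgroup G) : Set G)) = 5} = 33 := by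
    rw [← hshort Q₀]
    exact Nat.card_congr (Equiv.subtypeSubtypeEquivSubtypeInter
      (fun Q : Sylow 11 G => Q ≠ Q₀)
      (fun Q => Nat.card ↥(normalizer ((Q₀ : Subgroup G) : Set G) ⊓
        normalizer ((Q : Subgroup G) : Set G)) = 5))
  have hA := p8_partA hnq Q₀ (fun Q hQ => hinter Q₀ Q hQ)
  have hB := p8_partB hc Q₀
  have hT2 := k5_card_pairs_le (α := {P' : Sylow 5 G //
      (P' : Subgroup G) ≤ normalizer ((Q₀ : Subgroup G) : Set G)}) (β := G)
    (fun P' t => orderOf t = 2 ∧ t ∈ normalizer ((P'.1 : Subgroup G) : Set G))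
    m (fun P' => p8_inv_le hc m hm P'.1)
  have hmle := p8_m_le hc hnq Q₀
  have hmul : Nat.card {P' : Sylow 5 G //
      (P' : Subgroup G) ≤ normalizer ((Q₀ : Subgroup G) : Set G)} * m ≤ 11 * m :=
    Nat.mul_le_mul_right m hmle
  beta_reduce at hI hΩ hT2
  omega

end Cfsg.Agent.Helper22.M11
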