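import Mathlib

set_option autoImplicit false
set_option linter.unusedSectionVars false
set_option linter.unusedVariables false

namespace Cfsg.Agent.Helper22.O4320

universe u

theorem h22_conj_zpowers {G : Type u} [Group G] (y t : G) (hty : t * y * t⁻¹ = y⁻¹) (z : G)
    (hz : z ∈ Subgroup.zpowers y) : t * z * t⁻¹ = z⁻¹ := by
  obtain ⟨k, rfl⟩ := Subgroup.mem_zpowers_iff.mp hz
  rw [← conj_zpow, hty, inv_zpow]

theorem h22_pow_five_zpowers {G : Type u} [Group G] (y : G) (hy : orderOf y = 5) (z : G)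
    (hz : z ∈ Subgroup.zpowers y) : z ^ 5 = 1 := by
  obtain ⟨k, rfl⟩ := Subgroup.mem_zpowers_iff.mp hz
  have h5 : y ^ 5 = 1 := by
    rw [← hy]
    exact pow_orderOf_eq_one y
  rw [← zpow_natCast, ← zpow_mul, mul_comm, zpow_mul, zpow_natCast, h5, one_zpow]

theorem h22_conj_sq {G : Type u} [Group G] (y t : G) (hy : orderOf y = 5)
    (hty : t * y * t⁻¹ = y⁻¹) (z : G) (hz : z ∈ Subgroup.zpowers y) :
    z ^ 2 * t * (z ^ 2)⁻¹ = t * z := by
  have h1 : t * z⁻¹ * t⁻¹ = z := by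
    have := h22_conj_zpowers y t hty z⁻¹ (Subgroup.inv_mem _ hz)
    rwa [inv_inv] at this
  have h2 : z * t = t * z⁻¹ := by
    calc z * t = (t * z⁻¹ * t⁻¹) * t := by rw [h1]
      _ = t * z⁻¹ := by group
  have h5 := h22_pow_five_zpowers y hy z hz
  have h4 : (z * z * z * z)⁻¹ = z := by
    apply inv_eq_of_mul_eq_one_right
    rw [← h5]
    simp only [pow_succ, pow_zero, one_mul]
  rw [pow_two]
  calc z * z * t * (z * z)⁻¹ = z * (z * t) * (z * z)⁻¹ := by simp only [mul_assoc]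
    _ = z * (t * z⁻¹) * (z * z)⁻¹ := by rw [h2]
    _ = (z * t) * z⁻¹ * (z * z)⁻¹ := by simp only [mul_assoc]
    _ = (t * z⁻¹) * z⁻¹ * (z * z)⁻¹ := by rw [h2]
    _ = t * (z * z * z * z)⁻¹ := by simp only [mul_assoc, mul_inv_rev]
    _ = t * z := by rw [h4]

open scoped Classical in
theorem h22_card_conjugators {G : Type u} [Group G] [Fintype G] (t x : G)
    (hx : ∃ g : G, g * t * g⁻¹ = x) :
    (Finset.univ.filter (fun a : G => a * t * a⁻¹ = x)).card =
      Nat.card (Subgroup.centralizer ({t} : Set G)) := by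
  obtain ⟨g, rfl⟩ := hx
  rw [Nat.card_eq_fintype_card, Fintype.card_subtype]
  apply Finset.card_nbij' (fun a => g⁻¹ * a) (fun c => g * c)
  · intro a ha
    simp only [Finset.coe_filter, Finset.mem_univ, true_and, Set.mem_ofPred_eq] at ha ⊢
    rw [Subgroup.mem_centralizer_singleton_iff]
    have h1 : g⁻¹ * (a * t * a⁻¹) * g = t := by
      rw [ha]
      group
    calc g⁻¹ * a * t = g⁻¹ * (a * t * a⁻¹) * g * (g⁻¹ * a) := by group
      _ = t * (g⁻¹ * a) := by rw [h1]
  · intro c hc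
    simp only [Finset.coe_filter, Finset.mem_univ, true_and, Set.mem_ofPred_eq] at hc ⊢
    rw [Subgroup.mem_centralizer_singleton_iff] at hc
    calc g * c * t * (g * c)⁻¹ = g * (c * t) * c⁻¹ * g⁻¹ := by group
      _ = g * (t * c) * c⁻¹ * g⁻¹ := by rw [hc]
      _ = g * t * g⁻¹ := by group
  · intro a _
    simp
  · intro c _
    simp

open scoped Classical in
/-- (B2d) -/
theorem pairs_count {G : Type u} [Group G] [Fintype G] (y t : G)
    (hy : orderOf y = 5) (hCy : Nat.card (Subgroup.centralizer ({y} : Set G)) = 5)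
    (ht : orderOf t = 2) (hty : t * y * t⁻¹ = y⁻¹) :
    (Finset.univ.filter (fun ab : G × G => ab.1 * t * ab.1⁻¹ * (ab.2 * t * ab.2⁻¹) * y⁻¹ = 1)).card =
      5 * Nat.card (Subgroup.centralizer ({t} : Set G)) ^ 2 := by
  have htt : t * t = 1 := by
    have := pow_orderOf_eq_one t
    rwa [ht, pow_two] at this
  have htinv : t⁻¹ = t := inv_eq_of_mul_eq_one_right htt
  have hZ : Subgroup.centralizer ({y} : Set G) = Subgroup.zpowers y := by
    symm
    apply Subgroup.eq_of_le_of_card_ge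
    · rw [Subgroup.zpowers_le, Subgroup.mem_centralizer_singleton_iff]
    · rw [hCy, Nat.card_zpowers, hy]
  have hZcard : (Finset.univ.filter (fun z : G => z ∈ Subgroup.zpowers y)).card = 5 := by
    rw [← Fintype.card_subtype, ← Nat.card_eq_fintype_card]
    exact (Nat.card_zpowers y).trans hy
  -- `t z` is an involution
  have hinvol : ∀ z ∈ Subgroup.zpowers y, (t * z) * (t * z) = 1 := by
    intro z hz
    have h1 := h22_conj_zpowers y t hty z hz
    rw [htinv] at h1
    calc t * z * (t * z) = (t * z * t) * z := by simp only [mul_assoc]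
      _ = 1 := by rw [h1, inv_mul_cancel]
  have hmaps : ((Finset.univ.filter (fun ab : G × G =>
      ab.1 * t * ab.1⁻¹ * (ab.2 * t * ab.2⁻¹) * y⁻¹ = 1) : Finset (G × G)) : Set (G × G)).MapsTo
      (fun ab : G × G => t⁻¹ * (ab.1 * t * ab.1⁻¹))
      ((Finset.univ.filter (fun z : G => z ∈ Subgroup.zpowers y) : Finset G) : Set G) := by
    rintro ⟨a, b⟩ hab
    simp only [Finset.coe_filter, Finset.mem_univ, true_and, Set.mem_ofPred_eq] at hab ⊢
    rw [← hZ, Subgroup.mem_centralizer_singleton_iff]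
    obtain ⟨t₁, ht₁⟩ : ∃ t₁, t₁ = a * t * a⁻¹ := ⟨_, rfl⟩
    obtain ⟨t₂, ht₂⟩ : ∃ t₂, t₂ = b * t * b⁻¹ := ⟨_, rfl⟩
    rw [← ht₁, ← ht₂] at hab
    rw [← ht₁]
    have h11 : t₁ * t₁ = 1 := by
      rw [ht₁]
      calc a * t * a⁻¹ * (a * t * a⁻¹) = a * (t * t) * a⁻¹ := by group
        _ = 1 := by rw [htt]; group
    have h22 : t₂ * t₂ = 1 := by
      rw [ht₂]
      calc b * t * b⁻¹ * (b * t * b⁻¹) = b * (t * t) * b⁻¹ := by group
        _ = 1 := by rw [htt]; group
    have h2inv : t₂⁻¹ = t₂ := inv_eq_of_mul_eq_one_right h22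
    have hy' : y = t₁ * t₂ := (mul_inv_eq_one.mp hab).symm
    have ha : t₁ * y = y⁻¹ * t₁ := by
      calc t₁ * y = t₁ * (t₁ * t₂) := by rw [hy']
        _ = t₂ := by rw [← mul_assoc, h11, one_mul]
        _ = t₂⁻¹ * t₁⁻¹ * t₁ := by rw [inv_mul_cancel_right, h2inv]
        _ = y⁻¹ * t₁ := by rw [hy', mul_inv_rev]
    have hb : t⁻¹ * y⁻¹ = y * t⁻¹ := by
      rw [← hty]
      group
    calc t⁻¹ * t₁ * y = t⁻¹ * (t₁ * y) := mul_assoc _ _ _
      _ = t⁻¹ * (y⁻¹ * t₁) := by rw [ha]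
      _ = (t⁻¹ * y⁻¹) * t₁ := (mul_assoc _ _ _).symm
      _ = y * t⁻¹ * t₁ := by rw [hb]
      _ = y * (t⁻¹ * t₁) := mul_assoc _ _ _
  rw [Finset.card_eq_sum_card_fiberwise hmaps]
  have hfib : ∀ z ∈ (Finset.univ.filter (fun z : G => z ∈ Subgroup.zpowers y)),
      ((Finset.univ.filter (fun ab : G × G =>
        ab.1 * t * ab.1⁻¹ * (ab.2 * t * ab.2⁻¹) * y⁻¹ = 1)).filter
        (fun ab : G × G => t⁻¹ * (ab.1 * t * ab.1⁻¹) = z)).card =
      Nat.card (Subgroup.centralizer ({t} : Set G)) *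
        Nat.card (Subgroup.centralizer ({t} : Set G)) := by
    intro z hz
    simp only [Finset.mem_filter, Finset.mem_univ, true_and] at hz
    have hzy : z * y ∈ Subgroup.zpowers y := mul_mem hz (Subgroup.mem_zpowers y)
    have hset : ((Finset.univ.filter (fun ab : G × G =>
        ab.1 * t * ab.1⁻¹ * (ab.2 * t * ab.2⁻¹) * y⁻¹ = 1)).filter
        (fun ab : G × G => t⁻¹ * (ab.1 * t * ab.1⁻¹) = z)) =
        (Finset.univ.filter (fun a : G => a * t * a⁻¹ = t * z)) ×ˢ
          (Finset.univ.filter (fun b : G => b * t * b⁻¹ = t * (z * y))) := by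
      ext ⟨a, b⟩
      simp only [Finset.mem_filter, Finset.mem_product, Finset.mem_univ, true_and]
      constructor
      · rintro ⟨hab, hz'⟩
        have h1 : a * t * a⁻¹ = t * z := inv_mul_eq_iff_eq_mul.mp hz'
        refine ⟨h1, ?_⟩
        rw [h1] at hab
        have h3 : t * z * (b * t * b⁻¹) = y := mul_inv_eq_one.mp hab
        have h4 : (t * z)⁻¹ = t * z := inv_eq_of_mul_eq_one_right (hinvol z hz)
        calc b * t * b⁻¹ = (t * z)⁻¹ * (t * z * (b * t * b⁻¹)) := by group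
          _ = t * z * y := by rw [h3, h4]
          _ = t * (z * y) := mul_assoc _ _ _
      · rintro ⟨h1, h2⟩
        refine ⟨?_, ?_⟩
        · rw [h1, h2]
          calc t * z * (t * (z * y)) * y⁻¹ = (t * z) * (t * z) := by group
            _ = 1 := hinvol z hz
        · rw [h1]
          group
    rw [hset, Finset.card_product,
      h22_card_conjugators t (t * z) ⟨z ^ 2, h22_conj_sq y t hy hty z hz⟩,
      h22_card_conjugators t (t * (z * y)) ⟨(z * y) ^ 2, h22_conj_sq y t hy hty (z * y) hzy⟩]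
  rw [Finset.sum_congr rfl hfib, Finset.sum_const, hZcard, smul_eq_mul, pow_two]

end Cfsg.Agent.Helper22.O4320
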