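import Mathlib
import Cfsg.Prelude.Def_Characters
import Cfsg.Prelude.Def_Blocks
import Cfsg.Agent.Lib.Helper80.RPD3Defs

/-!
Piece (DED) of helper80's lemma server "RPD3" (row S4863).
-/

set_option autoImplicit false

namespace Cfsg.Agent.Helper22.RPD3

open Cfsg Cfsg.Agent.Helper80.RPD3
open scoped ComplexConjugate

universe u

/-- (DED) Dedekind's modular law -/
theorem sup_inf_eq_of_inf_eq_bot {G : Type u} [Group G] (T N U : Subgroup G) [N.Normal]
    (hTU : T ≤ U) (hNU : N ⊓ U = ⊥) : (T ⊔ N) ⊓ U = T := by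
  apply le_antisymm
  · intro x hx
    obtain ⟨hx1, hxU⟩ := Subgroup.mem_inf.1 hx
    have hx2 : x ∈ ((T ⊔ N : Subgroup G) : Set G) := hx1
    rw [Subgroup.mul_normal] at hx2
    obtain ⟨t, ht, n, hn, rfl⟩ := hx2
    have htU : t ∈ U := hTU ht
    have hnU : n ∈ U := by
      have : n = t⁻¹ * (t * n) := by group
      rw [this]
      exact U.mul_mem (U.inv_mem htU) hxU
    have hn1 : n ∈ N ⊓ U := Subgroup.mem_inf.2 ⟨hn, hnU⟩
    rw [hNU, Subgroup.mem_bot] at hn1
    change t * n ∈ T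
    rw [hn1, mul_one]
    exact ht
  · exact le_inf le_sup_left hTU

end Cfsg.Agent.Helper22.RPD3
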