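import Mathlib
import Cfsg.Prelude.Def_Characters
import Cfsg.Prelude.Def_Blocks
import Cfsg.Agent.Lib.Helper80.RPD3Defs

/-!
Piece (PG) of helper80's lemma server "RPD3" (row S4863).
-/

set_option autoImplicit false

namespace Cfsg.Agent.Helper22.RPD3

open Cfsg Cfsg.Agent.Helper80.RPD3
open scoped ComplexConjugate

universe u

/-- (PG) a normal `p`-subgroup `N` lies in every `p`-subgroup `T` with `|T N : T|` prime to `p`
(`T N` is a `p`-group) -/
theorem le_of_normal_pgroup3 {G : Type u} [Group G] [Finite G] (p : ℕ) [Fact p.Prime]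
    (N T : Subgroup G) (hN : N.Normal) (hNp : IsPGroup p ↥N) (hT : IsPGroup p ↥T)
    (hTi : ¬ p ∣ T.relIndex (T ⊔ N)) : N ≤ T := by
  have hp : p.Prime := Fact.out
  have hsup : IsPGroup p ↥(T ⊔ N : Subgroup G) := IsPGroup.to_sup_of_normal_right hT hNp
  obtain ⟨k, hk⟩ := IsPGroup.iff_card.1 hsup
  have hdvd : T.relIndex (T ⊔ N) ∣ p ^ k := hk ▸ Subgroup.relIndex_dvd_card T (T ⊔ N)
  obtain ⟨j, _, hj⟩ := (Nat.dvd_prime_pow hp).1 hdvd
  have hj0 : j = 0 := by
    by_contra h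
    apply hTi
    rw [hj]
    exact dvd_pow_self p h
  rw [hj0, pow_zero] at hj
  have hle : T ⊔ N ≤ T := Subgroup.relIndex_eq_one.1 hj
  exact le_sup_right.trans hle

end Cfsg.Agent.Helper22.RPD3
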