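import Mathlib
import Cfsg.Prelude.Def_Characters
import Cfsg.Prelude.Def_Blocks
import Cfsg.Agent.Lib.Helper80.RPD3Defs

/-!
Piece (TQ1) of helper80's lemma server "RPD3" (row S4863).
-/

set_option autoImplicit false

namespace Cfsg.Agent.Helper22.RPD3

open Cfsg Cfsg.Agent.Helper80.RPD3
open scoped ComplexConjugate

universe u

/-- (TQ1) a Sylow-like `p`-subgroup `T` of `U` maps to a Sylow-like `p`-subgroup of the image -/
theorem sylow_like_quotient {G : Type u} [Group G] [Finite G] (p : ℕ) [Fact p.Prime]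
    (N : Subgroup G) [N.Normal] (T U : Subgroup G) (hTU : T ≤ U) (hT : IsPGroup p ↥T)
    (hTi : ¬ p ∣ T.relIndex U) :
    T.map (QuotientGroup.mk' N) ≤ U.map (QuotientGroup.mk' N) ∧
      IsPGroup p ↥(T.map (QuotientGroup.mk' N)) ∧
      ¬ p ∣ (T.map (QuotientGroup.mk' N)).relIndex (U.map (QuotientGroup.mk' N)) := by
  refine ⟨Subgroup.map_mono hTU, hT.map _, ?_⟩
  intro hdvd
  apply hTi
  set f := QuotientGroup.mk' N with hf
  -- the restriction of `f` to `U`
  have hsurj : Function.Surjective (f.subgroupMap U) := f.subgroupMap_surjective U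
  have h1 : ((T.subgroupOf U).map (f.subgroupMap U)).index ∣ (T.subgroupOf U).index :=
    Subgroup.index_map_dvd (T.subgroupOf U) hsurj
  have h2 : (T.subgroupOf U).map (f.subgroupMap U) = (T.map f).subgroupOf (U.map f) := by
    ext y
    constructor
    · rintro ⟨u, hu, rfl⟩
      rw [Subgroup.mem_subgroupOf]
      exact ⟨(u : G), Subgroup.mem_subgroupOf.1 hu, rfl⟩
    · intro hy
      rw [Subgroup.mem_subgroupOf] at hy
      obtain ⟨t, ht, hty⟩ := hy
      refine ⟨⟨t, hTU ht⟩, Subgroup.mem_subgroupOf.2 ht, ?_⟩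
      apply Subtype.ext
      exact hty
  rw [h2] at h1
  exact hdvd.trans h1

end Cfsg.Agent.Helper22.RPD3
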