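import Mathlib
import Cfsg.Prelude.Def_Characters
import Cfsg.Prelude.Def_Blocks
import Cfsg.Agent.Lib.Helper80.RPD3Defs

/-!
Piece (TQ2) of helper80's lemma server "RPD3" (row S4863).
-/

set_option autoImplicit false

namespace Cfsg.Agent.Helper22.RPD3

open Cfsg Cfsg.Agent.Helper80.RPD3
open scoped ComplexConjugate

universe u

/-- (TQ2) if the image of the `p`-subgroup `T` in `G ⧸ N` is normal then `T N ⊴ G`, and
`|T N : N|` is a power of `p` -/
theorem sup_normal_of_quotient3 {G : Type u} [Group G] [Finite G] (p : ℕ) [Fact p.Prime]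
    (N : Subgroup G) [N.Normal] (T : Subgroup G) (hT : IsPGroup p ↥T)
    (hq : (T.map (QuotientGroup.mk' N)).Normal) :
    (T ⊔ N).Normal ∧ ∃ k : ℕ, N.relIndex (T ⊔ N) = p ^ k := by
  have hp : p.Prime := Fact.out
  constructor
  · have h1 : (T.map (QuotientGroup.mk' N)).comap (QuotientGroup.mk' N) = T ⊔ N := by
      rw [Subgroup.comap_map_eq, QuotientGroup.ker_mk']
    rw [← h1]
    exact hq.comap _
  · rw [Subgroup.relIndex_sup_right]
    obtain ⟨a, ha⟩ := IsPGroup.iff_card.1 hT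
    have hdvd : N.relIndex T ∣ p ^ a := ha ▸ Subgroup.relIndex_dvd_card N T
    obtain ⟨k, _, hk⟩ := (Nat.dvd_prime_pow hp).1 hdvd
    exact ⟨k, hk⟩

end Cfsg.Agent.Helper22.RPD3
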