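import Mathlib

set_option autoImplicit false

/-!
# RT (S4), part (a)+(b): a concrete field with four elements and the 18 words
`u = J`, `v = g u g⁻¹`; every elementary transvection `x_ij(c)` of `SL_3(F_4)` is a word in `u, v`
(`u⁻¹ = u³`, `v⁻¹ = v³`).
-/

namespace Cfsg.Agent.Helper22.RT

/-- concrete field with four elements: `(a, b) = a + b ω`, `ω² = ω + 1` -/
structure C4 where
  re : Bool
  im : Bool
deriving DecidableEq, Fintype

namespace C4

instance : Zero C4 := ⟨⟨false, false⟩⟩
instance : One C4 := ⟨⟨true, false⟩⟩
instance : Add C4 := ⟨fun x y => ⟨xor x.re y.re, xor x.im y.im⟩⟩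
instance : Neg C4 := ⟨fun x => x⟩
instance : Mul C4 := ⟨fun x y => ⟨xor (x.re && y.re) (x.im && y.im),
  xor (xor (x.re && y.im) (x.im && y.re)) (x.im && y.im)⟩⟩

instance : CommRing C4 where
  add_assoc := by decide
  zero_add := by decide
  add_zero := by decide
  add_comm := by decide
  left_distrib := by decide
  right_distrib := by decide
  zero_mul := by decide
  mul_zero := by decide
  mul_assoc := by decide
  one_mul := by decide
  mul_one := by decide
  neg_add_cancel := by decide
  mul_comm := by decide
  nsmul := nsmulRec
  zsmul := zsmulRec

/-- `ω` -/
def w : C4 := ⟨false, true⟩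

theorem mul_def (x y : C4) : x * y = ⟨xor (x.re && y.re) (x.im && y.im),
    xor (xor (x.re && y.im) (x.im && y.re)) (x.im && y.im)⟩ := rfl

theorem add_def (x y : C4) : x + y = ⟨xor x.re y.re, xor x.im y.im⟩ := rfl

theorem zero_def : (0 : C4) = ⟨false, false⟩ := rfl

theorem one_def : (1 : C4) = ⟨true, false⟩ := rfl

theorem card_eq : Fintype.card C4 = 4 := by decide

theorem w_sq : w * w = w + 1 := by decide

theorem two_eq_zero : (1 : C4) + 1 = 0 := by decide

theorem eq_re_im (c : C4) : c = (if c.re then 1 else 0) + (if c.im then w else 0) := by
  revert c
  decide

end C4

open C4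

/-- `u = J` -/
def uM : Matrix (Fin (0 + 3)) (Fin (0 + 3)) C4 := !![1, 1, 0; 0, 1, 1; 0, 0, 1]
/-- `v = g u g⁻¹` -/
def vM : Matrix (Fin (0 + 3)) (Fin (0 + 3)) C4 := !![1, 0, 0; 1, 1, 0; w, 1, 1]
/-- `g` -/
def gM : Matrix (Fin (0 + 3)) (Fin (0 + 3)) C4 := !![0, 0, 1; 0, 1, 0; 1, w, 0]

theorem gM_mul_uM : gM * uM = vM * gM := by decide

theorem uM_det : uM.det = 1 := by decide

theorem vM_det : vM.det = 1 := by decide

theorem gM_det : gM.det = 1 := by decide

theorem uM_nilp : (uM - 1) ^ 3 = 0 := by decide

theorem uM_sq : ((uM - 1) ^ 2 : Matrix (Fin (0 + 3)) (Fin (0 + 3)) C4) 0 2 = 1 := by decide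

/-- the product of the word `w` (`true = A`, `false = B`) -/
def wprodM {R : Type*} [Monoid R] (A B : R) (w : List Bool) : R :=
  w.foldl (fun acc b => acc * (if b then A else B)) 1

/-- the word of `x_ij(c)` in `u` (`true`) and `v` (`false`) -/
def wordOf (i j : ℕ) (c : C4) : List Bool :=
  match i, j, c with
  | 0, 1, ⟨false, true⟩ => [false, true, false, true, false, false, false, true, false, false, true, false, true, true, false]
  | 0, 1, ⟨true, false⟩ => [true, false, true, true, true, false, false, false, true, true, true, false, false, true, true, true, false, true, true, true, false, true, true, true, false, false]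
  | 0, 1, ⟨true, true⟩ => [false, true, true, false, true, true, true, false, false, true, true, true, false, false, false, true, true, true, false, true, true, true, false]
  | 0, 2, ⟨false, true⟩ => [true, false, false, true, true, false, false, false, true, true, false, false]
  | 0, 2, ⟨true, false⟩ => [true, true]
  | 0, 2, ⟨true, true⟩ => [true, false, false, true, true, false, true, true, false, false]
  | 1, 0, ⟨false, true⟩ => [true, false, true, true, false, false, false, true, true, true, false, false, true, false, true, true, false, false, false, true, true, true]
  | 1, 0, ⟨true, false⟩ => [true, false, false, true, true, true, false, false, true, false, false, true, true, true]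
  | 1, 0, ⟨true, true⟩ => [true, false, false, false, true, true, false, true, true, true, false, false, true, false, false, false, true, true, false, true, true, true]
  | 1, 2, ⟨false, true⟩ => [false, true, true, false, true, false, false, true, false, false, false, true, false, true, false]
  | 1, 2, ⟨true, false⟩ => [true, true, true, false, true, false, false, false, true, false, false, true, false, true, false, true, false, false]
  | 1, 2, ⟨true, true⟩ => [false, true, true, true, false, true, true, true, false, false, false, true, true, true, false, false, true, true, true, false, true, true, false]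
  | 2, 0, ⟨false, true⟩ => [true, true, false, false, true, false, false, true, true, false, false, false]
  | 2, 0, ⟨true, false⟩ => [false, false]
  | 2, 0, ⟨true, true⟩ => [true, true, false, false, true, false, false, true, true, false]
  | 2, 1, ⟨false, true⟩ => [true, false, false, true, false, false, false, true, false, false, false, true, false, false, true, false, false, false, true, false, false, false]
  | 2, 1, ⟨true, false⟩ => [true, true, true, false, false, true, false, false, true, true, true, false, false, true]
  | 2, 1, ⟨true, true⟩ => [true, false, false, true, false, true, false, true, false, false, true, false, true, false]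
  | _, _, _ => []

set_option maxRecDepth 1000000 in
theorem word_check : ∀ (i j : Fin (0 + 3)), i ≠ j → ∀ c : C4,
    wprodM uM vM (wordOf i.val j.val c) = Matrix.transvection i j c := by
  decide

end Cfsg.Agent.Helper22.RT
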