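import Mathlib
import Cfsg.Agent.Lib.Helper98.RT0
import Cfsg.Agent.Lib.Helper5.SL
import Cfsg.Agent.Lib.Helper22.RTS4a

set_option autoImplicit false
set_option linter.unusedVariables false
set_option linter.unusedSectionVars false

namespace Cfsg.Agent.Helper22.RT

open Matrix Cfsg.Agent.Helper93.RU Cfsg.Agent.Helper98.RT

variable {F : Type*} [Field F]

/-- the ring homomorphism `C4 →+* F`, `ω ↦ ω` -/
def c4Hom (ω : F) (h2 : (1 : F) + 1 = 0) (hω : ω * ω = ω + 1) : C4 →+* F where
  toFun c := (if c.re then 1 else 0) + (if c.im then ω else 0)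
  map_one' := by simp [C4.one_def]
  map_zero' := by simp [C4.zero_def]
  map_mul' := by
    rintro ⟨a, b⟩ ⟨c, d⟩
    cases a <;> cases b <;> cases c <;> cases d <;> simp [C4.mul_def] <;>
      first
        | ring1
        | linear_combination (-1 : F) * hω
        | linear_combination (1 : F) * hω
        | linear_combination (-1 : F) * hω + (-ω) * h2
        | linear_combination (1 : F) * hω + (ω) * h2
        | linear_combination (-1 : F) * hω + (-1 - ω) * h2
  map_add' := by
    rintro ⟨a, b⟩ ⟨c, d⟩
    cases a <;> cases b <;> cases c <;> cases d <;> simp [C4.add_def] <;>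
      first
        | ring1
        | linear_combination (-1 : F) * h2
        | linear_combination (1 : F) * h2
        | linear_combination (-ω) * h2
        | linear_combination (ω) * h2
        | linear_combination (-1 - ω) * h2

theorem char_two_of_card_four [Fintype F] (h : Fintype.card F = 4) : (1 : F) + 1 = 0 := by
  have h4 : ((Fintype.card F : ℕ) : F) = 0 := Nat.cast_card_eq_zero F
  rw [h] at h4
  have h5 : ((1 : F) + 1) ^ 2 = 0 := by
    have h6 : ((4 : ℕ) : F) = ((1 : F) + 1) ^ 2 := by push_cast; ring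
    rw [← h6]; exact h4
  exact (pow_eq_zero_iff (two_ne_zero)).mp h5

theorem exists_omega [Fintype F] (h : Fintype.card F = 4) : ∃ ω : F, ω * ω = ω + 1 := by
  classical
  have h2 := char_two_of_card_four h
  have hex : ∃ x : F, x ≠ 0 ∧ x ≠ 1 := by
    by_contra hcon
    push Not at hcon
    have hsub : (Finset.univ : Finset F) ⊆ {0, 1} := fun x _ => by
      by_cases hx : x = 0
      · simp [hx]
      · simp [hcon x hx]
    have h7 := Finset.card_le_card hsub
    rw [Finset.card_univ, h] at h7
    have h3 : ({0, 1} : Finset F).card ≤ 2 := Finset.card_le_two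
    omega
  obtain ⟨x, hx0, hx1⟩ := hex
  have hx3 : x ^ 3 = 1 := by
    have h8 := FiniteField.pow_card_sub_one_eq_one x hx0
    rwa [h] at h8
  refine ⟨x, ?_⟩
  have hfac : (x - 1) * (x * x + x + 1) = 0 := by
    have h9 : (x - 1) * (x * x + x + 1) = x ^ 3 - 1 := by ring
    rw [h9, hx3, sub_self]
  rcases mul_eq_zero.mp hfac with h10 | h10
  · exact absurd (sub_eq_zero.mp h10) hx1
  · linear_combination h10 - (x + 1) * h2

theorem c4Hom_injective (ω : F) (h2 : (1 : F) + 1 = 0) (hω : ω * ω = ω + 1) :
    Function.Injective (c4Hom ω h2 hω) := by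
  have hω0 : ω ≠ 0 := by
    intro h0
    rw [h0] at hω
    simp at hω
  have hω1 : ω + 1 ≠ 0 := by
    intro h0
    have : ω * ω = 0 := by rw [hω, h0]
    exact hω0 (mul_self_eq_zero.mp this)
  rw [injective_iff_map_eq_zero]
  rintro ⟨a, b⟩ hc
  cases a <;> cases b <;> simp [c4Hom] at hc
  · rfl
  · exact absurd hc hω0
  · exact absurd (by rw [add_comm]; exact hc) hω1

theorem c4Hom_bijective [Fintype F] (h : Fintype.card F = 4) (ω : F) (h2 : (1 : F) + 1 = 0)
    (hω : ω * ω = ω + 1) : Function.Bijective (c4Hom ω h2 hω) :=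
  (Fintype.bijective_iff_injective_and_card _).mpr
    ⟨c4Hom_injective ω h2 hω, by rw [C4.card_eq, h]⟩

/-! ### generic word lemmas -/

theorem foldl_map_word {R S : Type*} [Monoid R] [Monoid S] (f : R → S)
    (hmul : ∀ a b, f (a * b) = f a * f b) (A B : R) (w : List Bool) (acc : R) :
    f (w.foldl (fun acc b => acc * (if b then A else B)) acc) =
      w.foldl (fun acc b => acc * (if b then f A else f B)) (f acc) := by
  induction w generalizing acc with
  | nil => rfl
  | cons b w ih =>
    rw [List.foldl_cons, List.foldl_cons, ih, hmul]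
    cases b <;> rfl

theorem wprodM_map {R S : Type*} [Monoid R] [Monoid S] (f : R → S) (h1 : f 1 = 1)
    (hmul : ∀ a b, f (a * b) = f a * f b) (A B : R) (w : List Bool) :
    f (wprodM A B w) = wprodM (f A) (f B) w := by
  unfold wprodM
  rw [foldl_map_word f hmul, h1]

theorem foldl_mem_closure {G : Type*} [Group G] (A B : G) (w : List Bool) (acc : G)
    (hacc : acc ∈ Subgroup.closure ({A, B} : Set G)) :
    w.foldl (fun acc b => acc * (if b then A else B)) acc ∈
      Subgroup.closure ({A, B} : Set G) := by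
  induction w generalizing acc with
  | nil => exact hacc
  | cons b w ih =>
    rw [List.foldl_cons]
    apply ih
    refine mul_mem hacc ?_
    cases b
    · exact Subgroup.subset_closure (by simp)
    · exact Subgroup.subset_closure (by simp)

theorem wprodM_mem_closure {G : Type*} [Group G] (A B : G) (w : List Bool) :
    wprodM A B w ∈ Subgroup.closure ({A, B} : Set G) :=
  foldl_mem_closure A B w 1 (one_mem _)

/-! ### the elements over `C4` -/

def u4 : Matrix.SpecialLinearGroup (Fin (0 + 3)) C4 := ⟨uM, uM_det⟩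
def v4 : Matrix.SpecialLinearGroup (Fin (0 + 3)) C4 := ⟨vM, vM_det⟩
def g4 : Matrix.SpecialLinearGroup (Fin (0 + 3)) C4 := ⟨gM, gM_det⟩

theorem g4_conj : g4 * u4 * g4⁻¹ = v4 := by
  rw [mul_inv_eq_iff_eq_mul]
  apply Subtype.ext
  exact gM_mul_uM

theorem wprod4_val (w : List Bool) : (wprodM u4 v4 w).1 = wprodM uM vM w :=
  wprodM_map (fun A : Matrix.SpecialLinearGroup (Fin (0 + 3)) C4 => A.1) rfl (fun _ _ => rfl)
    u4 v4 w

theorem transvection4_eq {i j : Fin (0 + 3)} (hij : i ≠ j) (c : C4) :
    Matrix.SpecialLinearGroup.transvection hij c = wprodM u4 v4 (wordOf i.val j.val c) := by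
  apply Subtype.ext
  rw [wprod4_val, word_check i j hij c]
  rfl

theorem map_transvection {R S : Type*} [CommRing R] [CommRing S] (φ : R →+* S)
    {i j : Fin (0 + 3)} (hij : i ≠ j) (c : R) :
    Matrix.SpecialLinearGroup.map φ (Matrix.SpecialLinearGroup.transvection hij c) =
      Matrix.SpecialLinearGroup.transvection hij (φ c) := by
  apply Subtype.ext
  ext a b
  change φ.mapMatrix (Matrix.transvection i j c) a b = Matrix.transvection i j (φ c) a b
  simp only [RingHom.mapMatrix_apply, Matrix.map_apply, Matrix.transvection, Matrix.add_apply,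
    Matrix.one_apply, Matrix.single_apply, map_add]
  split_ifs <;> simp

theorem small_four [Fintype F] (h : Fintype.card F = 4) :
    ∃ u g : G3 F, IsNilpotent (u.1 - 1) ∧ (u.1 - 1) ^ (3 - 1) ≠ 0 ∧
      Subgroup.closure ({u, g * u * g⁻¹} : Set (G3 F)) = ⊤ := by
  have h2 := char_two_of_card_four h
  obtain ⟨ω, hω⟩ := exists_omega h
  set φ := c4Hom ω h2 hω with hφ
  have hbij := c4Hom_bijective h ω h2 hω
  refine ⟨Matrix.SpecialLinearGroup.map φ u4, Matrix.SpecialLinearGroup.map φ g4, ?_, ?_, ?_⟩
  · -- nilpotent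
    refine ⟨3, ?_⟩
    have h1 : (Matrix.SpecialLinearGroup.map φ u4).1 - 1 = φ.mapMatrix (uM - 1) := by
      rw [map_sub, map_one]; rfl
    rw [h1, ← map_pow, uM_nilp, map_zero]
  · have h1 : (Matrix.SpecialLinearGroup.map φ u4).1 - 1 = φ.mapMatrix (uM - 1) := by
      rw [map_sub, map_one]; rfl
    rw [h1, ← map_pow]
    intro h0
    have h3 := congrFun (congrFun h0 0) 2
    rw [RingHom.mapMatrix_apply, Matrix.map_apply] at h3
    have h4 : ((uM - 1) ^ (3 - 1) : Matrix (Fin (0 + 3)) (Fin (0 + 3)) C4) 0 2 = 1 := uM_sq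
    rw [h4, map_one] at h3
    exact one_ne_zero h3
  · have hconj : Matrix.SpecialLinearGroup.map φ g4 * Matrix.SpecialLinearGroup.map φ u4 *
        (Matrix.SpecialLinearGroup.map φ g4)⁻¹ = Matrix.SpecialLinearGroup.map φ v4 := by
      rw [← map_inv, ← map_mul, ← map_mul, g4_conj]
    rw [hconj]
    refine le_antisymm le_top (fun A _ => ?_)
    refine Cfsg.Agent.Helper5.transvection_induction
      (fun B => B ∈ Subgroup.closure ({Matrix.SpecialLinearGroup.map φ u4,
        Matrix.SpecialLinearGroup.map φ v4} : Set (G3 F))) (fun i j hij c => ?_)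
      (fun _ _ => mul_mem) A
    obtain ⟨c4, rfl⟩ := hbij.2 c
    change Matrix.SpecialLinearGroup.transvection hij (φ c4) ∈ _
    rw [← map_transvection φ hij c4, transvection4_eq hij c4,
      wprodM_map (Matrix.SpecialLinearGroup.map φ) (map_one _) (map_mul _)]
    exact wprodM_mem_closure _ _ _

end Cfsg.Agent.Helper22.RT
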