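import Mathlib
import Cfsg.Prelude.Def_Local
import Cfsg.Prelude.Def_Balance
import Cfsg.Agent.Lib.Helper53.UniqueInvol4
import Cfsg.Agent.Lib.Helper34.PPrimeCore
import Cfsg.Agent.Lib.Helper22.Components
import Cfsg.Agent.Lib.Helper22.LBal1

/-!
# Quasisimple groups of 2-rank one (helper22)

A quasisimple group of even order and `2`-rank one has generalized quaternion Sylow `2`-subgroups
and (given the Brauer–Suzuki theorem) a central involution.
-/

set_option autoImplicit false
set_option linter.style.haveILetI false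
open scoped commutatorElement

namespace Cfsg.Agent.Helper22.RankOne

open Subgroup Cfsg.Agent.Helper22 Cfsg.Agent.Helper22.LBal

universe u

/-- The Brauer–Suzuki theorem as a hypothesis (statement of `S0201` over a universe). -/
def BSHyp : Prop :=
  ∀ (Q : Type u) [Group Q] [Finite Q] (S : Sylow 2 Q) (n : ℕ)
    (_ : (S : Subgroup Q) ≃* QuaternionGroup (2 ^ (n + 1)))
    (_ : ∀ N : Subgroup Q, N.Normal → Odd (Nat.card N) → N = ⊥), Nat.card (Subgroup.center Q) = 2

variable {L : Type u} [Group L]

theorem eq_one_or_eq_of_mem_zpowers {z x : L} (hz : orderOf z = 2) (hx : x ∈ zpowers z) :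
    x = 1 ∨ x = z := by
  obtain ⟨i, hi⟩ := Subgroup.mem_zpowers_iff.mp hx
  rw [← hi, ← zpow_mod_orderOf, hz]
  rcases Int.emod_two_eq_zero_or_one i with h | h
  · left
    have : (i % ((2 : ℕ) : ℤ)) = 0 := by exact_mod_cast h
    rw [this, zpow_zero]
  · right
    have : (i % ((2 : ℕ) : ℤ)) = 1 := by exact_mod_cast h
    rw [this, zpow_one]

/-- In a group of `2`-rank at most one, two commuting involutions coincide. -/
theorem eq_of_commute_invol [Finite L] (hrk : Cfsg.PRankLE 2 1 L) {z x : L}
    (hz : orderOf z = 2) (hx : orderOf x = 2) (hc : z * x = x * z) : x = z := by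
  by_contra hne
  set K : Subgroup L := closure ({z, x} : Set L) with hK
  have hzK : z ∈ K := subset_closure (by simp)
  have hxK : x ∈ K := subset_closure (by simp)
  have hKc : K ≤ centralizer (({z, x} : Set L)) := by
    rw [hK, closure_le]
    intro y hy
    rw [SetLike.mem_coe, mem_centralizer_iff]
    intro w hw
    rcases hy with rfl | rfl <;> rcases hw with rfl | rfl
    · rfl
    · exact hc.symm
    · exact hc
    · rfl
  have hKK : K ≤ centralizer (K : Set L) := by
    rw [hK, closure_le]
    intro y hy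
    rw [SetLike.mem_coe, mem_centralizer_iff]
    intro w hw
    have := hKc hw
    rw [mem_centralizer_iff] at this
    exact (this y hy).symm
  have hcomm : IsMulCommutative K := by
    refine ⟨⟨fun a b => ?_⟩⟩
    have := hKK b.2
    rw [mem_centralizer_iff] at this
    exact Subtype.ext (this a a.2)
  have hz2 : z ^ 2 = 1 := by rw [← hz]; exact pow_orderOf_eq_one z
  have hx2 : x ^ 2 = 1 := by rw [← hx]; exact pow_orderOf_eq_one x
  have hexp : ∀ a ∈ K, a ^ 2 = 1 := by
    intro a ha
    rw [hK] at ha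
    induction ha using closure_induction with
    | mem y hy =>
      rcases hy with rfl | rfl
      · exact hz2
      · exact hx2
    | one => simp
    | mul a b ha hb iha ihb =>
      have hab : a * b = b * a := by
        have := hKK (hK ▸ hb)
        rw [mem_centralizer_iff] at this
        exact this a (hK ▸ ha)
      rw [(Commute.mul_pow (show Commute a b from hab) 2), iha, ihb, one_mul]
    | inv a ha iha => rw [inv_pow, iha, inv_one]
  have hcard : Nat.card K ≤ 2 ^ 1 := hrk K hcomm hexp
  have hzc : Nat.card (zpowers z) = 2 := by rw [Nat.card_zpowers, hz]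
  have hle : zpowers z ≤ K := by rw [zpowers_le]; exact hzK
  have heq : zpowers z = K := by
    apply Subgroup.eq_of_le_of_card_ge hle
    rw [hzc]
    simpa using hcard
  have hxz : x ∈ zpowers z := heq ▸ hxK
  rcases eq_one_or_eq_of_mem_zpowers hz hxz with h | h
  · rw [h, orderOf_one] at hx
    omega
  · exact hne h

/-- A Sylow `2`-subgroup of a group of even order and `2`-rank one has a unique involution. -/
theorem exists_unique_invol [Finite L] (hrk : Cfsg.PRankLE 2 1 L) (heven : Even (Nat.card L))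
    (S : Sylow 2 L) :
    ∃ z : L, z ∈ (S : Subgroup L) ∧ orderOf z = 2 ∧
      ∀ x : L, x ∈ (S : Subgroup L) → orderOf x = 2 → x = z := by
  haveI : Fact (Nat.Prime 2) := ⟨Nat.prime_two⟩
  have h2 : 2 ∣ Nat.card (S : Subgroup L) := by
    have := S.card_eq_multiplicity
    rw [this]
    have hpos : 0 < (Nat.card L).factorization 2 := by
      apply Nat.Prime.factorization_pos_of_dvd Nat.prime_two Nat.card_pos.ne'
      exact even_iff_two_dvd.mp heven
    exact dvd_pow_self 2 hpos.ne'
  haveI : Nontrivial (S : Subgroup L) := by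
    rw [← Finite.one_lt_card_iff_nontrivial]
    exact lt_of_lt_of_le (by norm_num) (Nat.le_of_dvd Nat.card_pos h2)
  haveI : Nontrivial (center (S : Subgroup L)) := S.2.center_nontrivial
  have h2c : 2 ∣ Nat.card (center (S : Subgroup L)) := by
    have hp : IsPGroup 2 (center (S : Subgroup L)) := S.2.to_subgroup _
    obtain ⟨k, hk⟩ := hp.exists_card_eq
    have hk0 : k ≠ 0 := by
      rintro rfl
      rw [pow_zero] at hk
      have := Finite.one_lt_card_iff_nontrivial.mpr (inferInstance : Nontrivial (center (S : Subgroup L)))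
      omega
    rw [hk]
    exact dvd_pow_self 2 hk0
  obtain ⟨z0, hz0⟩ := exists_prime_orderOf_dvd_card' 2 h2c
  refine ⟨((z0 : (S : Subgroup L)) : L), (z0 : (S : Subgroup L)).2, ?_, ?_⟩
  · rw [Subgroup.orderOf_coe, Subgroup.orderOf_coe, hz0]
  · intro x hxS hx
    apply eq_of_commute_invol hrk _ hx
    · have := z0.2
      rw [mem_center_iff] at this
      have h := this ⟨x, hxS⟩
      have h' := congrArg Subtype.val h
      simpa using h'.symm
    · rw [Subgroup.orderOf_coe, Subgroup.orderOf_coe, hz0]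

/-- A perfect finite group of even order has no cyclic Sylow `2`-subgroup. -/
theorem not_isCyclic_sylow [Finite L] [hperf : Group.IsPerfect L] (heven : Even (Nat.card L))
    (S : Sylow 2 L) : ¬ IsCyclic (S : Subgroup L) := by
  intro hcyc
  have hmin : (Nat.card L).minFac = 2 := by
    rw [Nat.minFac_eq_two_iff]
    exact even_iff_two_dvd.mp heven
  have hcompl := IsCyclic.isComplement' hmin hcyc
  haveI : IsMulCommutative (S : Subgroup L) := by
    obtain ⟨g, hg⟩ := hcyc.exists_generator
    refine ⟨⟨fun a b => ?_⟩⟩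
    obtain ⟨i, rfl⟩ := Subgroup.mem_zpowers_iff.mp (hg a)
    obtain ⟨j, rfl⟩ := Subgroup.mem_zpowers_iff.mp (hg b)
    rw [← zpow_add, ← zpow_add, add_comm]
  have hker : (MonoidHom.transferSylow S (hcyc.normalizer_le_centralizer hmin)).ker = ⊤ := by
    rw [eq_top_iff]
    intro a _
    rw [MonoidHom.mem_ker]
    haveI : Group.IsSolvable (S : Subgroup L) :=
      Group.isSolvable_of_comm (fun a b => (inferInstance : IsMulCommutative (S : Subgroup L)).is_comm.comm a b)
    exact perfect_hom_solvable_trivial _ a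
  rw [hker] at hcompl
  have hcard := hcompl.card_mul_card
  rw [Subgroup.card_top] at hcard
  have hS1 : Nat.card (S : Subgroup L) = 1 := by
    have hpos : 0 < Nat.card L := Nat.card_pos
    nlinarith [Nat.eq_of_mul_eq_mul_left hpos (by rw [hcard, mul_one] : Nat.card L * Nat.card (S : Subgroup L) = Nat.card L * 1)]
  haveI : Fact (Nat.Prime 2) := ⟨Nat.prime_two⟩
  have := S.card_eq_multiplicity
  rw [hS1] at this
  have hpos : 0 < (Nat.card L).factorization 2 := by
    apply Nat.Prime.factorization_pos_of_dvd Nat.prime_two Nat.card_pos.ne'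
    exact even_iff_two_dvd.mp heven
  have h2 : 2 ∣ 2 ^ (Nat.card L).factorization 2 := dvd_pow_self 2 hpos.ne'
  rw [← this] at h2
  omega


/-- An element of order dividing `2` in a group of odd order is trivial. -/
theorem eq_one_of_sq_of_coprime [Finite L] {N : Subgroup L} (hN : (Nat.card N).Coprime 2) {c : L}
    (hc : c ∈ N) (h2 : c ^ 2 = 1) : c = 1 := by
  have h1 : (⟨c, hc⟩ : N) ^ Nat.card N = 1 := pow_card_eq_one'
  have h1' : c ^ Nat.card N = 1 := by
    have := congrArg Subtype.val h1
    simpa only [Subgroup.coe_pow, Subgroup.coe_one] using this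
  have h3 : c ^ Nat.gcd (Nat.card N) 2 = 1 := pow_gcd_eq_one.2 ⟨h1', h2⟩
  have h4 : Nat.gcd (Nat.card N) 2 = 1 := hN
  rwa [h4, pow_one] at h3

/-- A quasisimple group of even order and `2`-rank one has a central involution and generalized
quaternion Sylow `2`-subgroups (given the Brauer–Suzuki theorem). -/
theorem exists_central_invol [Finite L] (bs : BSHyp.{u}) (hq : Cfsg.IsQuasisimple L)
    (heven : Even (Nat.card L)) (hrk : Cfsg.PRankLE 2 1 L) :
    ∃ t : L, orderOf t = 2 ∧ t ∈ center L ∧
      ∃ (S : Sylow 2 L) (n : ℕ), Nonempty ((S : Subgroup L) ≃* QuaternionGroup (2 ^ (n + 1))) := by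
  haveI : Fact (Nat.Prime 2) := ⟨Nat.prime_two⟩
  haveI : Group.IsPerfect L := hq.1
  obtain ⟨S⟩ : Nonempty (Sylow 2 L) := inferInstance
  obtain ⟨z, hzS, hz, huniq⟩ := exists_unique_invol hrk heven S
  have hU : ∀ x y : (S : Subgroup L), orderOf x = 2 → orderOf y = 2 → x = y := by
    intro x y hx hy
    apply Subtype.ext
    rw [huniq x x.2 (by rw [Subgroup.orderOf_coe]; exact hx),
      huniq y y.2 (by rw [Subgroup.orderOf_coe]; exact hy)]
  rcases Cfsg.Agent.Helper53.isCyclic_or_quaternion_of_unique_invol (G := (S : Subgroup L)) S.2 hU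
    with hcyc | ⟨n, hn1, ⟨e⟩⟩
  · exact absurd hcyc (not_isCyclic_sylow heven S)
  obtain ⟨m, rfl⟩ : ∃ m, n = m + 1 := ⟨n - 1, by omega⟩
  refine ⟨z, hz, ?_, S, m, ⟨e⟩⟩
  -- the odd core
  set N : Subgroup L := Cfsg.pPrimeCore 2 L with hN
  have hNodd : (Nat.card N).Coprime 2 := Cfsg.Agent.Helper34.card_pPrimeCore_coprime 2
  have hNtop : N ≠ ⊤ := by
    intro h
    rw [h, Subgroup.card_top] at hNodd
    have h2 : 2 ∣ Nat.card L := even_iff_two_dvd.mp heven
    have := Nat.Coprime.eq_one_of_dvd hNodd.symm h2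
    omega
  have hNZ : N ≤ center L := by
    rcases quasisimple_normal_top_or_le_center hq N with h | h
    · exact absurd h hNtop
    · exact h
  -- the quotient
  let π : L →* L ⧸ N := QuotientGroup.mk' N
  let φ : (S : Subgroup L) →* L ⧸ N := π.comp (S : Subgroup L).subtype
  have hφinj : Function.Injective φ := by
    rw [injective_iff_map_eq_one]
    intro s hs
    have hsN : (s : L) ∈ N := by
      have : π (s : L) = 1 := hs
      rwa [QuotientGroup.mk'_apply, QuotientGroup.eq_one_iff] at this
    obtain ⟨k, hk⟩ := S.2 s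
    have hk' : (s : L) ^ 2 ^ k = 1 := by
      have := congrArg Subtype.val hk
      simpa only [Subgroup.coe_pow, Subgroup.coe_one] using this
    have h1 : (⟨(s : L), hsN⟩ : N) ^ Nat.card N = 1 := pow_card_eq_one'
    have h1' : (s : L) ^ Nat.card N = 1 := by
      have := congrArg Subtype.val h1
      simpa only [Subgroup.coe_pow, Subgroup.coe_one] using this
    have h3 : (s : L) ^ Nat.gcd (Nat.card N) (2 ^ k) = 1 := pow_gcd_eq_one.2 ⟨h1', hk'⟩
    have h4 : Nat.gcd (Nat.card N) (2 ^ k) = 1 := Nat.Coprime.pow_right k hNodd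
    rw [h4, pow_one] at h3
    exact Subtype.ext h3
  -- the image of S is a Sylow 2-subgroup of the quotient
  have hTp : IsPGroup 2 φ.range := by
    intro y
    obtain ⟨s, hs⟩ := y.2
    obtain ⟨k, hk⟩ := S.2 s
    refine ⟨k, Subtype.ext ?_⟩
    have : (y : L ⧸ N) ^ 2 ^ k = φ (s ^ 2 ^ k) := by rw [map_pow, hs]
    simpa [hk] using this
  have hrange : φ.range = (S : Subgroup L).map π := by
    rw [MonoidHom.range_comp, Subgroup.range_subtype]
  have hTindex : ¬ 2 ∣ φ.range.index := by
    rw [hrange]
    intro hdvd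
    have h1 : ((S : Subgroup L).map π).index ∣ (S : Subgroup L).index :=
      Subgroup.index_map_dvd _ (QuotientGroup.mk'_surjective N)
    exact S.not_dvd_index (hdvd.trans h1)
  let T : Sylow 2 (L ⧸ N) := hTp.toSylow hTindex
  have hTcoe : (T : Subgroup (L ⧸ N)) = φ.range := IsPGroup.toSylow_coe hTp hTindex
  let eT : (T : Subgroup (L ⧸ N)) ≃* QuaternionGroup (2 ^ (m + 1)) :=
    ((MulEquiv.subgroupCongr hTcoe).trans (MonoidHom.ofInjective hφinj).symm).trans e
  have hO : ∀ M : Subgroup (L ⧸ N), M.Normal → Odd (Nat.card M) → M = ⊥ := by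
    intro M hM hodd
    have h1 : M ≤ Cfsg.pPrimeCore 2 (L ⧸ N) := by
      apply Cfsg.Agent.Helper34.le_pPrimeCore hM
      exact (Nat.coprime_two_right.2 hodd)
    rw [Cfsg.Agent.Helper34.pPrimeCore_quotient_eq_bot] at h1
    exact le_bot_iff.mp h1
  have hcen : Nat.card (center (L ⧸ N)) = 2 := bs (L ⧸ N) T m eT hO
  -- a central involution of the quotient
  obtain ⟨w0, hw0⟩ := exists_prime_orderOf_dvd_card' (G := center (L ⧸ N)) 2 (by rw [hcen])
  set w : L ⧸ N := (w0 : L ⧸ N) with hw
  have hwo : orderOf w = 2 := by rw [hw, Subgroup.orderOf_coe, hw0]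
  have hwc : w ∈ center (L ⧸ N) := w0.2
  -- w lies in T
  have hwT : w ∈ (T : Subgroup (L ⧸ N)) := by
    have hp : IsPGroup 2 (zpowers w) := by
      rw [IsPGroup.iff_card]
      exact ⟨1, by rw [Nat.card_zpowers, hwo, pow_one]⟩
    obtain ⟨P, hP⟩ := hp.exists_le_sylow
    obtain ⟨g, hg⟩ := MulAction.exists_smul_eq (L ⧸ N) P T
    have hwP : w ∈ (P : Subgroup (L ⧸ N)) := hP (mem_zpowers w)
    have hgw : g * w * g⁻¹ ∈ (T : Subgroup (L ⧸ N)) := by
      rw [← hg, Sylow.coe_subgroup_smul, Subgroup.mem_pointwise_smul_iff_inv_smul_mem]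
      have : (MulAut.conj g)⁻¹ • (g * w * g⁻¹) = w := by
        rw [MulAut.smul_def, ← map_inv, MulAut.conj_apply]
        group
      rw [this]
      exact hwP
    have hcw : g * w * g⁻¹ = w := by
      rw [mem_center_iff] at hwc
      rw [hwc g, mul_inv_cancel_right]
    rwa [hcw] at hgw
  rw [hTcoe] at hwT
  obtain ⟨s, hs⟩ := hwT
  have hso : orderOf s = 2 := by
    rw [← orderOf_injective φ hφinj s, hs, hwo]
  have hsz : (s : L) = z := huniq s s.2 (by rw [Subgroup.orderOf_coe]; exact hso)
  have hπz : π z ∈ center (L ⧸ N) := by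
    have : π z = w := by rw [← hsz]; exact hs
    rw [this]; exact hwc
  -- z is central
  rw [mem_center_iff]
  intro l
  have hz2 : z ^ 2 = 1 := by rw [← hz]; exact pow_orderOf_eq_one z
  set c : L := l * z * l⁻¹ * z⁻¹ with hc
  have hcN : c ∈ N := by
    have h1 : π c = 1 := by
      rw [mem_center_iff] at hπz
      rw [hc, map_mul, map_mul, map_mul, map_inv, map_inv, hπz (π l)]
      group
    rwa [QuotientGroup.mk'_apply, QuotientGroup.eq_one_iff] at h1
  have hcz : c * z = z * c := by
    have := hNZ hcN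
    rw [mem_center_iff] at this
    exact (this z).symm
  have hlz : l * z * l⁻¹ = c * z := by rw [hc]; group
  have hc2 : c ^ 2 = 1 := by
    have h1 : (l * z * l⁻¹) ^ 2 = 1 := by
      rw [pow_two]
      calc l * z * l⁻¹ * (l * z * l⁻¹) = l * (z * z) * l⁻¹ := by group
        _ = 1 := by rw [← pow_two, hz2]; group
    rw [hlz, (Commute.mul_pow (show Commute c z from hcz) 2), hz2, mul_one] at h1
    exact h1
  have hc1 : c = 1 := eq_one_of_sq_of_coprime hNodd hcN hc2
  rw [hc1, one_mul] at hlz
  calc l * z = l * z * l⁻¹ * l := by group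
    _ = z * l := by rw [hlz]

end Cfsg.Agent.Helper22.RankOne
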