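import Mathlib
import Cfsg.Prelude.Def_CaseTheorems
import Cfsg.Agent.Lib.Helper5.PSL
import Cfsg.Agent.Lib.Helper39.Families

set_option autoImplicit false

namespace Cfsg.Agent.Helper22.SLQuasi

open Matrix

/-- `PSL₂(F)` is simple for `|F| ≥ 4`. -/
theorem psl2_isSimpleGroup {F : Type*} [Field F] [Fintype F] (hF : 4 ≤ Fintype.card F) :
    IsSimpleGroup (Matrix.ProjectiveSpecialLinearGroup (Fin 2) F) := by
  have hperf : Group.IsPerfect (SpecialLinearGroup (Fin 2) F) :=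
    ⟨Cfsg.Agent.Helper39.sl2_perfect hF⟩
  have hperf' : Group.IsPerfect (Matrix.ProjectiveSpecialLinearGroup (Fin 2) F) := inferInstance
  exact MulAction.IwasawaStructure.isSimpleGroup hperf'.commutator_eq_top
    Cfsg.Agent.Helper5.pslIwasawa inferInstance

/-- `SL_m(F)` is quasisimple for `m ≥ 2`, `(m, |F|) ∉ {(2,2),(2,3)}`. -/
theorem sl_isQuasisimple {F : Type*} [Field F] [Fintype F] (m : ℕ) (hm : 2 ≤ m)
    (h : 3 ≤ m ∨ 4 ≤ Fintype.card F) :
    Cfsg.IsQuasisimple (SpecialLinearGroup (Fin m) F) := by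
  by_cases h3 : 3 ≤ m
  · refine ⟨⟨Cfsg.Agent.Helper5.commutator_SL_eq_top (by simpa using h3)⟩, ?_⟩
    exact Cfsg.Agent.Helper5.psl_isSimpleGroup (by simpa using h3)
  · have hm2 : m = 2 := by omega
    subst hm2
    have hF : 4 ≤ Fintype.card F := by
      rcases h with h | h
      · omega
      · exact h
    exact ⟨⟨Cfsg.Agent.Helper39.sl2_perfect hF⟩, psl2_isSimpleGroup hF⟩

end Cfsg.Agent.Helper22.SLQuasi
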