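import Mathlib
import Cfsg.Agent.Lib.Helper98.SPE0
import Cfsg.Agent.Lib.Helper22.SPEQ6

set_option autoImplicit false
set_option linter.unusedSectionVars false

namespace Cfsg.Agent.Helper22.SPE

open Matrix Cfsg.Agent.Helper93.U2 Cfsg.Agent.Helper98.SPE

variable {F : Type*} [Field F] {n : ℕ}

theorem bv_congQ (g S : Matrix (Fin n) (Fin n) F) (x y : Fin n → F) :
    bv (congQ g S) x y = bv S (g *ᵥ x) (g *ᵥ y) := by
  unfold bv
  rw [qv_congQ, qv_congQ, qv_congQ, Matrix.mulVec_add]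

end Cfsg.Agent.Helper22.SPE
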