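import Mathlib
import Cfsg.Agent.Lib.Helper98.SPE0
import Cfsg.Agent.Lib.Helper22.SPEQ6

set_option autoImplicit false
set_option linter.unusedSectionVars false

namespace Cfsg.Agent.Helper22.SPE

open Matrix Cfsg.Agent.Helper93.U2 Cfsg.Agent.Helper98.SPE

variable {F : Type*} [Field F] {n : ℕ}

theorem h22_tauS_eq_trace (a M : Matrix (Fin n) (Fin n) F) :
    tauS a M = Matrix.trace (h22Upper a * Mᵀ) := by
  unfold tauS
  simp only [Matrix.trace, Matrix.diag, Matrix.mul_apply, Matrix.transpose_apply, h22Upper,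
    Matrix.of_apply]
  apply Finset.sum_congr rfl
  intro i _
  apply Finset.sum_congr rfl
  intro j _
  split_ifs <;> ring

theorem h22_trace_eq_sum (T b : Matrix (Fin n) (Fin n) F) (hb : bᵀ = b) :
    Matrix.trace (T * b) = ∑ k, ∑ l, T k l * b k l := by
  simp only [Matrix.trace, Matrix.diag, Matrix.mul_apply]
  apply Finset.sum_congr rfl
  intro k _
  apply Finset.sum_congr rfl
  intro l _
  have : b l k = b k l := by
    conv_lhs => rw [← hb]
    rfl
  rw [this]

theorem tauS_cong (g a b : Matrix (Fin n) (Fin n) F) (hb : bᵀ = b) :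
    tauS a (g * b * gᵀ) = tauS (congQ g a) b := by
  have hM : (g * b * gᵀ)ᵀ = g * b * gᵀ := by
    rw [Matrix.transpose_mul, Matrix.transpose_mul, Matrix.transpose_transpose, hb,
      Matrix.mul_assoc]
  have hbs : ∀ k l, b l k = b k l := by
    intro k l
    conv_lhs => rw [← hb]
    rfl
  rw [h22_tauS_eq_trace, hM]
  have e1 : h22Upper a * (g * b * gᵀ) = (h22Upper a * g * b) * gᵀ := by
    simp only [Matrix.mul_assoc]
  rw [e1, Matrix.trace_mul_comm]
  have e2 : gᵀ * (h22Upper a * g * b) = h22T g a * b := by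
    unfold h22T
    simp only [Matrix.mul_assoc]
  rw [e2, h22_trace_eq_sum _ _ hb, h22_sum_sum_split]
  unfold tauS
  apply Finset.sum_congr rfl
  intro k _
  apply Finset.sum_congr rfl
  intro l _
  by_cases hkl : k ≤ l
  · rw [if_pos hkl, if_pos hkl]
    by_cases he : k = l
    · subst he
      rw [if_pos rfl, h22_congQ_diag]
    · rw [if_neg he, h22_congQ_off g a k l he, hbs k l]
      ring
  · rw [if_neg hkl, if_neg hkl]

end Cfsg.Agent.Helper22.SPE
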