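import Mathlib
import Cfsg.Prelude.Def_Balance
import Cfsg.Agent.S1280
import Cfsg.Agent.S1282
import Cfsg.Agent.Lib.Helper52.CoprimeSylow
import Cfsg.Agent.Lib.Helper22.Radical

set_option autoImplicit false

namespace Cfsg.Agent.Helper22

open Subgroup Cfsg
open Cfsg.Agent.Helper52 (sylCard mem_map_conj card_map_conj)

section Signalizer

variable {G : Type*} [Group G] {p : ℕ} {A : Subgroup G} {θ : G → Subgroup G}

/-! ### Invariance under conjugation by `A` -/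

theorem le_normalizer_of_invariant {A U : Subgroup G}
    (h : ∀ b ∈ A, ∀ u ∈ U, b * u * b⁻¹ ∈ U) : A ≤ normalizer (U : Set G) := by
  intro b hb
  rw [mem_normalizer_iff]
  intro u
  refine ⟨h b hb u, fun hu => ?_⟩
  have := h b⁻¹ (A.inv_mem hb) _ hu
  simpa [mul_assoc] using this

theorem invariant_of_le_normalizer {A U : Subgroup G} (h : A ≤ normalizer (U : Set G)) :
    ∀ b ∈ A, ∀ u ∈ U, b * u * b⁻¹ ∈ U :=
  fun _ hb u hu => (mem_normalizer_iff.1 (h hb) u).1 hu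

theorem le_normalizer_inf' {A H K : Subgroup G} (hH : A ≤ normalizer (H : Set G))
    (hK : A ≤ normalizer (K : Set G)) : A ≤ normalizer ((H ⊓ K : Subgroup G) : Set G) :=
  fun x hx => by
    have h1 := hH hx
    have h2 := hK hx
    rw [mem_normalizer_iff] at h1 h2 ⊢
    intro y
    rw [mem_inf, mem_inf, ← h1 y, ← h2 y]

/-! ### Elementary abelian groups -/

theorem elemAb_comm {A : Subgroup G} (hA : IsElementaryAbelian p A) :
    ∀ x ∈ A, ∀ y ∈ A, x * y = y * x := fun x hx y hy => by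
  have := hA.1.is_comm.comm ⟨x, hx⟩ ⟨y, hy⟩
  exact congrArg Subtype.val this

theorem elemAb_isPGroup {A : Subgroup G} (hA : IsElementaryAbelian p A) : IsPGroup p A := by
  intro g
  refine ⟨1, ?_⟩
  rw [pow_one]
  exact Subtype.ext (by simpa using hA.2 g g.2)

theorem elemAb_le_centralizer {A : Subgroup G} (hA : IsElementaryAbelian p A) {a : G}
    (ha : a ∈ A) : A ≤ centralizer ({a} : Set G) := fun b hb => by
  rw [mem_centralizer_singleton_iff]
  exact elemAb_comm hA b hb a ha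

theorem elemAb_coprime [Finite G] [Fact p.Prime] {A : Subgroup G} (hA : IsElementaryAbelian p A)
    {H : Subgroup G} (hH : ¬ p ∣ Nat.card H) : (Nat.card A).Coprime (Nat.card H) := by
  obtain ⟨n, hn⟩ := IsPGroup.iff_card.mp (elemAb_isPGroup hA)
  rw [hn]
  exact Nat.Coprime.pow_left n ((Nat.Prime.coprime_iff_not_dvd Fact.out).2 hH)

/-! ### Members of the family -/

theorem sigFam_normalizer {U : Subgroup G} (hU : U ∈ signalizerFamily p A θ) :
    A ≤ normalizer (U : Set G) :=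
  le_normalizer_of_invariant hU.2.2.1

theorem sigFam_theta (hθ : IsSolvableSignalizerFunctor p A θ) {a : G} (ha : a ∈ A)
    (ha1 : a ≠ 1) : θ a ∈ signalizerFamily p A θ :=
  ⟨hθ.2 a ha ha1, hθ.1.2.1 a ha ha1, fun b hb u hu => hθ.1.2.2.1 a ha ha1 b hb u hu,
    fun b hb hb1 => hθ.1.2.2.2 a ha ha1 b hb hb1⟩

theorem sigFam_of_le {U V : Subgroup G} (hU : U ∈ signalizerFamily p A θ)
    (hVU : V ≤ U) (hV : A ≤ normalizer (V : Set G)) : V ∈ signalizerFamily p A θ := by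
  obtain ⟨hs, hc, hi, hb⟩ := hU
  refine ⟨?_, ?_, invariant_of_le_normalizer hV,
    fun a ha ha1 => le_trans (inf_le_inf_right _ hVU) (hb a ha ha1)⟩
  · have := hs
    exact Group.isSolvable_of_isSolvable_injective (f := Subgroup.inclusion hVU)
      (Subgroup.inclusion_injective hVU)
  · intro hd
    exact hc (dvd_trans hd (Subgroup.card_dvd_of_le hVU))

theorem sigFam_bot [Fact p.Prime] : (⊥ : Subgroup G) ∈ signalizerFamily p A θ := by
  refine ⟨inferInstance, ?_, ?_, fun a _ _ => inf_le_left.trans bot_le⟩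
  · rw [Subgroup.card_bot]
    exact (Fact.out : p.Prime).one_lt.ne' ∘ Nat.dvd_one.mp
  · intro _ _ u hu
    rw [mem_bot] at hu ⊢
    simp [hu]

theorem mem_signalizerInf {c : G} : c ∈ signalizerInf A θ ↔ ∀ a ∈ A, a ≠ 1 → c ∈ θ a := by
  unfold signalizerInf
  rw [mem_iInf]
  exact ⟨fun h a ha ha1 => h ⟨a, ha, ha1⟩, fun h a => h a.1 a.2.1 a.2.2⟩

theorem signalizerInf_commute (hθ : IsSignalizerFunctor p A θ) {c : G}
    (hc : c ∈ signalizerInf A θ) {b : G} (hb : b ∈ A) : c * b = b * c := by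
  by_cases hb1 : b = 1
  · simp [hb1]
  · exact mem_centralizer_singleton_iff.mp (hθ.1 b hb hb1 (mem_signalizerInf.mp hc b hb hb1))

theorem mem_signalizerInf_of_mem_sigFam {H : Subgroup G} (hH : H ∈ signalizerFamily p A θ)
    {c : G} (hcH : c ∈ H) (hcA : c ∈ centralizer (A : Set G)) : c ∈ signalizerInf A θ := by
  rw [mem_signalizerInf]
  intro a ha ha1
  refine hH.2.2.2 a ha ha1 (mem_inf.2 ⟨hcH, ?_⟩)
  rw [mem_centralizer_singleton_iff]
  exact (hcA a ha).symm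

/-! ### Conjugation by `signalizerInf` -/

theorem sigFam_conj [Finite G] (hθ : IsSignalizerFunctor p A θ) {c : G}
    (hc : c ∈ signalizerInf A θ) {U : Subgroup G} (hU : U ∈ signalizerFamily p A θ) :
    conjS c U ∈ signalizerFamily p A θ := by
  obtain ⟨hs, hcard, hi, hb⟩ := hU
  refine ⟨?_, ?_, ?_, ?_⟩
  · have := hs
    exact Group.isSolvable_of_surjective (f := (MulAut.conj c).toMonoidHom.subgroupMap U)
      ((MulAut.conj c).toMonoidHom.subgroupMap_surjective U)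
  · rw [card_conjS]; exact hcard
  · intro b hb' x hx
    rw [mem_map_conj] at hx ⊢
    have hcb : Commute c b := signalizerInf_commute hθ hc hb'
    have e : c⁻¹ * (b * x * b⁻¹) * c = b * (c⁻¹ * x * c) * b⁻¹ := by
      calc c⁻¹ * (b * x * b⁻¹) * c = (c⁻¹ * b) * x * (b⁻¹ * c) := by group
        _ = (b * c⁻¹) * x * (c * b⁻¹) := by rw [hcb.inv_left.eq, ← hcb.inv_right.eq]
        _ = _ := by group
    rw [e]
    exact hi b hb' _ hx
  · intro a ha ha1 x hx
    obtain ⟨hx1, hx2⟩ := mem_inf.1 hx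
    rw [mem_map_conj] at hx1
    have hca : c ∈ θ a := mem_signalizerInf.mp hc a ha ha1
    have hcC : c ∈ centralizer ({a} : Set G) := hθ.1 a ha ha1 hca
    have hy : c⁻¹ * x * c ∈ θ a :=
      hb a ha ha1 (mem_inf.2 ⟨hx1, mul_mem (mul_mem (inv_mem hcC) hx2) hcC⟩)
    have : x = c * (c⁻¹ * x * c) * c⁻¹ := by group
    rw [this]
    exact mul_mem (mul_mem hca hy) (inv_mem hca)

/-- `Q` is maximal among the `q`-subgroups in the family of `θ`. -/
def IsMaxQMember (p : ℕ) (A : Subgroup G) (θ : G → Subgroup G) (q : ℕ) (Q : Subgroup G) : Prop :=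
  Q ∈ signalizerFamily p A θ ∧ IsPGroup q Q ∧
    ∀ R ∈ signalizerFamily p A θ, IsPGroup q R → Q ≤ R → R = Q

theorem IsMaxQMember.conj [Finite G] (hθ : IsSignalizerFunctor p A θ) {q : ℕ} {c : G}
    (hc : c ∈ signalizerInf A θ) {Q : Subgroup G} (hQ : IsMaxQMember p A θ q Q) :
    IsMaxQMember p A θ q (conjS c Q) := by
  refine ⟨sigFam_conj hθ hc hQ.1, hQ.2.1.map _, fun R hR hRq hle => ?_⟩
  have hc' : c⁻¹ ∈ signalizerInf A θ := inv_mem hc
  have h1 : Q ≤ conjS c⁻¹ R := by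
    have := conjS_mono c⁻¹ hle
    rwa [conjS_inv_conjS] at this
  have h2 := hQ.2.2 _ (sigFam_conj hθ hc' hR) (hRq.map _) h1
  rw [← h2, conjS_conjS_inv]

theorem exists_isMaxQMember_ge [Finite G] {q : ℕ} {R : Subgroup G}
    (hR : R ∈ signalizerFamily p A θ) (hRq : IsPGroup q R) :
    ∃ Q, IsMaxQMember p A θ q Q ∧ R ≤ Q := by
  let S : Set (Subgroup G) := {X | X ∈ signalizerFamily p A θ ∧ IsPGroup q X ∧ R ≤ X}
  obtain ⟨Q, hQ⟩ := (Set.toFinite S).exists_maximal ⟨R, hR, hRq, le_rfl⟩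
  refine ⟨Q, ⟨hQ.1.1, hQ.1.2.1, fun X hX hXq hle => ?_⟩, hQ.1.2.2⟩
  exact le_antisymm (hQ.2 ⟨hX, hXq, hQ.1.2.2.trans hle⟩ hle) hle

/-- **Transitivity theorem** for solvable signalizer functors. -/
theorem signalizer_transitivity [Finite G] [Fact p.Prime] (hA : IsElementaryAbelian p A)
    (hA3 : p ^ 3 ≤ Nat.card A) (hθ : IsSolvableSignalizerFunctor p A θ) {q : ℕ} [Fact q.Prime]
    (hqp : q ≠ p) :
    ∀ Q₁ Q₂ : Subgroup G, IsMaxQMember p A θ q Q₁ → IsMaxQMember p A θ q Q₂ →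
      ∃ c ∈ signalizerInf A θ, conjS c Q₁ = Q₂ := by
  have hA2 : p ^ 2 ≤ Nat.card A :=
    le_trans (Nat.pow_le_pow_right (Fact.out : p.Prime).pos (by norm_num)) hA3
  suffices H : ∀ n : ℕ, ∀ Q₁ Q₂ : Subgroup G, IsMaxQMember p A θ q Q₁ → IsMaxQMember p A θ q Q₂ →
      Nat.card G - Nat.card (Q₁ ⊓ Q₂ : Subgroup G) = n →
      ∃ c ∈ signalizerInf A θ, conjS c Q₁ = Q₂ from
    fun Q₁ Q₂ h₁ h₂ => H _ Q₁ Q₂ h₁ h₂ rfl
  intro n
  induction n using Nat.strong_induction_on with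
  | _ n ih =>
  intro Q₁ Q₂ h₁ h₂ hn
  have IH : ∀ X Y : Subgroup G, IsMaxQMember p A θ q X → IsMaxQMember p A θ q Y →
      Nat.card (Q₁ ⊓ Q₂ : Subgroup G) < Nat.card (X ⊓ Y : Subgroup G) →
      ∃ c ∈ signalizerInf A θ, conjS c X = Y := by
    intro X Y hX hY hlt
    have hle : Nat.card (X ⊓ Y : Subgroup G) ≤ Nat.card G := Subgroup.card_le_card_group _
    exact ih _ (by omega) X Y hX hY rfl
  set D := Q₁ ⊓ Q₂ with hD
  by_cases hD1 : D = Q₁
  · have hle : Q₁ ≤ Q₂ := hD1 ▸ inf_le_right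
    have := h₁.2.2 Q₂ h₂.1 h₂.2.1 hle
    exact ⟨1, one_mem _, by rw [conjS_one, this]⟩
  by_cases hD2 : D = Q₂
  · have hle : Q₂ ≤ Q₁ := hD2 ▸ inf_le_left
    have := h₂.2.2 Q₁ h₁.1 h₁.2.1 hle
    exact ⟨1, one_mem _, by rw [conjS_one, this]⟩
  have hAQ₁ := sigFam_normalizer h₁.1
  have hAQ₂ := sigFam_normalizer h₂.1
  have hAD : A ≤ normalizer (D : Set G) := le_normalizer_inf' hAQ₁ hAQ₂
  obtain ⟨a, haA, ha1, hna₁, hna₂⟩ :=
    Cfsg.Agent.S1282.result p A hA hA3 q hqp Q₁ Q₂ h₁.2.1 h₂.2.1 hAQ₁ hAQ₂ hD1 hD2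
  have hDW : D ∈ signalizerFamily p A θ := sigFam_of_le h₁.1 inf_le_left hAD
  have hAND : A ≤ normalizer ((normalizer (D : Set G) : Subgroup G) : Set G) :=
    hAD.trans le_normalizer
  set T := θ a ⊓ normalizer (D : Set G) with hT
  have hTW : T ∈ signalizerFamily p A θ :=
    sigFam_of_le (sigFam_theta hθ haA ha1) inf_le_left
      (le_normalizer_inf' (sigFam_normalizer (sigFam_theta hθ haA ha1)) hAND)
  set H := D ⊔ T with hH
  have hHW : H ∈ signalizerFamily p A θ :=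
    Cfsg.Agent.S1280.result p A hA hA2 θ hθ D T hDW hTW inf_le_right
  have hAH := sigFam_normalizer hHW
  have hcop := elemAb_coprime hA hHW.2.1
  have key : ∀ Q : Subgroup G, Q ∈ signalizerFamily p A θ → IsPGroup q Q → D ≤ Q →
      ¬ (normalizer (D : Set G) ⊓ Q ⊓ centralizer {a} ≤ D) →
      ∃ R : Subgroup G, R ≤ H ∧ Nat.card R = sylCard q H ∧ A ≤ normalizer (R : Set G) ∧
        Nat.card D < Nat.card (Q ⊓ R : Subgroup G) := by
    intro Q hQW hQq hDQ hnot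
    have hU1 : Q ⊓ H ≤ H := inf_le_right
    have hUq : IsPGroup q (Q ⊓ H : Subgroup G) := hQq.to_le inf_le_left
    have hUA : A ≤ normalizer ((Q ⊓ H : Subgroup G) : Set G) :=
      le_normalizer_inf' (sigFam_normalizer hQW) hAH
    obtain ⟨R, hRH, hRc, hUR, hAR⟩ := Helper52.exists_invariant_sylow_ge A H hAH hcop
      (Or.inr hHW.1) q (Q ⊓ H) hU1 hUq hUA
    refine ⟨R, hRH, hRc, hAR, ?_⟩
    have hDU : D ≤ Q ⊓ H := le_inf hDQ le_sup_left
    have hNU : normalizer (D : Set G) ⊓ Q ⊓ centralizer {a} ≤ Q ⊓ H := by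
      intro x hx
      obtain ⟨hx12, hx3⟩ := mem_inf.1 hx
      obtain ⟨hx1, hx2⟩ := mem_inf.1 hx12
      exact mem_inf.2 ⟨hx2, (le_sup_right : T ≤ H)
        (mem_inf.2 ⟨hQW.2.2.2 a haA ha1 (mem_inf.2 ⟨hx2, hx3⟩), hx1⟩)⟩
    have hne : D ≠ Q ⊓ H := fun h => hnot (hNU.trans h.ge)
    have hlt : Nat.card D < Nat.card (Q ⊓ H : Subgroup G) := by
      by_contra hge
      rw [not_lt] at hge
      exact hne (Subgroup.eq_of_le_of_card_ge hDU hge)
    exact lt_of_lt_of_le hlt (Subgroup.card_le_of_le (le_inf inf_le_left hUR))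
  obtain ⟨R₁, hR₁H, hR₁c, hAR₁, hlt₁⟩ := key Q₁ h₁.1 h₁.2.1 inf_le_left hna₁
  obtain ⟨R₂, hR₂H, hR₂c, hAR₂, hlt₂⟩ := key Q₂ h₂.1 h₂.2.1 inf_le_right hna₂
  obtain ⟨c, hc, hcR⟩ := Helper52.exists_centralizer_conj_of_invariant A H hAH hcop
    (Or.inr hHW.1) q R₁ R₂ hR₁H hR₂H hR₁c hR₂c hAR₁ hAR₂
  have hcI : c ∈ signalizerInf A θ :=
    mem_signalizerInf_of_mem_sigFam hHW (mem_inf.1 hc).1 (mem_inf.1 hc).2
  have hR₁W : R₁ ∈ signalizerFamily p A θ := sigFam_of_le hHW hR₁H hAR₁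
  have hR₂W : R₂ ∈ signalizerFamily p A θ := sigFam_of_le hHW hR₂H hAR₂
  have hR₁q : IsPGroup q R₁ :=
    IsPGroup.of_card (hR₁c : Nat.card R₁ = q ^ (Nat.card H).factorization q)
  have hR₂q : IsPGroup q R₂ :=
    IsPGroup.of_card (hR₂c : Nat.card R₂ = q ^ (Nat.card H).factorization q)
  obtain ⟨Q₁', hQ₁', hRQ₁'⟩ := exists_isMaxQMember_ge hR₁W hR₁q
  obtain ⟨Q₂', hQ₂', hRQ₂'⟩ := exists_isMaxQMember_ge hR₂W hR₂q
  obtain ⟨c₁, hc₁, e₁⟩ := IH Q₁ Q₁' h₁ hQ₁'
    (lt_of_lt_of_le hlt₁ (Subgroup.card_le_of_le (inf_le_inf_left _ hRQ₁')))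
  have hcQ₁' := hQ₁'.conj hθ.1 hcI
  have hR₂le : R₂ ≤ conjS c Q₁' := by rw [hcR]; exact conjS_mono c hRQ₁'
  have hDR₂ : Nat.card D < Nat.card R₂ :=
    lt_of_lt_of_le hlt₂ (Subgroup.card_le_of_le inf_le_right)
  obtain ⟨c₂, hc₂, e₂⟩ := IH (conjS c Q₁') Q₂' hcQ₁' hQ₂'
    (lt_of_lt_of_le hDR₂ (Subgroup.card_le_of_le (le_inf hR₂le hRQ₂')))
  obtain ⟨c₃, hc₃, e₃⟩ := IH Q₂' Q₂ hQ₂' h₂
    (lt_of_lt_of_le hlt₂
      (Subgroup.card_le_of_le (le_inf (inf_le_right.trans hRQ₂') inf_le_left)))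
  refine ⟨c₃ * (c₂ * (c * c₁)), mul_mem hc₃ (mul_mem hc₂ (mul_mem hcI hc₁)), ?_⟩
  rw [conjS_mul, conjS_mul, conjS_mul, e₁, e₂, e₃]

/-! ### Consequences of transitivity -/

theorem card_le_sylCard [Finite G] {q : ℕ} [Fact q.Prime] {U H : Subgroup G} (hUH : U ≤ H)
    (hU : IsPGroup q U) : Nat.card U ≤ sylCard q H := by
  obtain ⟨n, hn⟩ := IsPGroup.iff_card.mp hU
  have hd : q ^ n ∣ Nat.card H := hn ▸ Subgroup.card_dvd_of_le hUH
  rw [hn]
  unfold sylCard
  exact Nat.pow_le_pow_right (Fact.out : q.Prime).pos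
    ((Nat.Prime.pow_dvd_iff_le_factorization Fact.out Nat.card_pos.ne').mp hd)

theorem sylCard_eq_card_of_isPGroup [Finite G] {q : ℕ} [Fact q.Prime] {H : Subgroup G}
    (hH : IsPGroup q H) : sylCard q H = Nat.card H := by
  obtain ⟨n, hn⟩ := IsPGroup.iff_card.mp hH
  unfold sylCard
  rw [hn, Nat.Prime.factorization_pow Fact.out, Finsupp.single_eq_same]

theorem exists_conj_inf_card [Finite G] [Fact p.Prime] (hA : IsElementaryAbelian p A)
    (hA3 : p ^ 3 ≤ Nat.card A) (hθ : IsSolvableSignalizerFunctor p A θ) {q : ℕ} [Fact q.Prime]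
    (hqp : q ≠ p) {Q : Subgroup G} (hQ : IsMaxQMember p A θ q Q) {H : Subgroup G}
    (hH : H ∈ signalizerFamily p A θ) :
    ∃ c ∈ signalizerInf A θ, Nat.card (conjS c Q ⊓ H : Subgroup G) = sylCard q H := by
  have hAH := sigFam_normalizer hH
  have hcop := elemAb_coprime hA hH.2.1
  obtain ⟨R, hRH, hRc, hAR⟩ := Helper52.exists_invariant_sylow A H hAH hcop (Or.inr hH.1) q
  have hRW := sigFam_of_le hH hRH hAR
  have hRq : IsPGroup q R :=
    IsPGroup.of_card (hRc : Nat.card R = q ^ (Nat.card H).factorization q)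
  obtain ⟨Q', hQ', hRQ'⟩ := exists_isMaxQMember_ge hRW hRq
  obtain ⟨c, hc, e⟩ := signalizer_transitivity hA hA3 hθ hqp Q Q' hQ hQ'
  refine ⟨c, hc, ?_⟩
  rw [e]
  apply le_antisymm
  · exact card_le_sylCard inf_le_right (hQ'.2.1.to_le inf_le_left)
  · rw [← hRc]; exact Subgroup.card_le_of_le (le_inf hRQ' hRH)

theorem signalizerInf_anti {B : Subgroup G} (hBA : B ≤ A) :
    signalizerInf A θ ≤ signalizerInf B θ := fun x hx => by
  rw [mem_signalizerInf] at hx ⊢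
  exact fun b hb hb1 => hx b (hBA hb) hb1

theorem signalizerInf_mem_sigFam (hθ : IsSolvableSignalizerFunctor p A θ)
    {B : Subgroup G} (hBA : B ≤ A) (hB : B ≠ ⊥) :
    signalizerInf B θ ∈ signalizerFamily p A θ := by
  obtain ⟨b₀, hb₀, hb₀1⟩ : ∃ b ∈ B, b ≠ 1 := by
    by_contra h
    push Not at h
    exact hB ((Subgroup.eq_bot_iff_forall B).2 h)
  refine sigFam_of_le (sigFam_theta hθ (hBA hb₀) hb₀1)
    (fun x hx => mem_signalizerInf.mp hx b₀ hb₀ hb₀1) (le_normalizer_of_invariant ?_)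
  intro b hb u hu
  rw [mem_signalizerInf] at hu ⊢
  exact fun b' hb' hb'1 => hθ.1.2.2.1 b' (hBA hb') hb'1 b hb u (hu b' hb' hb'1)

theorem signalizerInf_le_centralizer (hθ : IsSignalizerFunctor p A θ) {B : Subgroup G}
    (hBA : B ≤ A) : signalizerInf B θ ≤ centralizer (B : Set G) := by
  intro x hx
  rw [mem_centralizer_iff]
  intro b hb
  by_cases hb1 : b = 1
  · simp [hb1]
  · exact (mem_centralizer_singleton_iff.mp
      (hθ.1 b (hBA hb) hb1 (mem_signalizerInf.mp hx b hb hb1))).symm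

theorem inf_signalizerInf_eq {Q : Subgroup G} (hQ : Q ∈ signalizerFamily p A θ)
    (hθ : IsSignalizerFunctor p A θ) {B : Subgroup G} (hBA : B ≤ A) :
    Q ⊓ signalizerInf B θ = Q ⊓ centralizer (B : Set G) := by
  apply le_antisymm
  · exact inf_le_inf_left _ (signalizerInf_le_centralizer hθ hBA)
  · intro x hx
    obtain ⟨hx1, hx2⟩ := mem_inf.1 hx
    refine mem_inf.2 ⟨hx1, mem_signalizerInf.mpr fun b hb hb1 => ?_⟩
    refine hQ.2.2.2 b (hBA hb) hb1 (mem_inf.2 ⟨hx1, ?_⟩)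
    rw [mem_centralizer_singleton_iff]
    exact (hx2 b hb).symm

theorem card_inf_centralizer_eq_sylCard [Finite G] [Fact p.Prime]
    (hA : IsElementaryAbelian p A) (hA3 : p ^ 3 ≤ Nat.card A)
    (hθ : IsSolvableSignalizerFunctor p A θ) {q : ℕ} [Fact q.Prime] (hqp : q ≠ p)
    {Q : Subgroup G} (hQ : IsMaxQMember p A θ q Q) {B : Subgroup G} (hBA : B ≤ A)
    (hB : B ≠ ⊥) :
    Nat.card (Q ⊓ centralizer (B : Set G) : Subgroup G) = sylCard q (signalizerInf B θ) := by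
  have hH := signalizerInf_mem_sigFam hθ hBA hB
  obtain ⟨c, hc, hcard⟩ := exists_conj_inf_card hA hA3 hθ hqp hQ hH
  have hcH : c ∈ signalizerInf B θ := signalizerInf_anti hBA hc
  have e : conjS c Q ⊓ signalizerInf B θ = conjS c (Q ⊓ signalizerInf B θ) := by
    ext x
    rw [mem_inf, mem_map_conj, mem_map_conj, mem_inf]
    constructor
    · rintro ⟨h1, h2⟩
      exact ⟨h1, mul_mem (mul_mem (inv_mem hcH) h2) hcH⟩
    · rintro ⟨h1, h2⟩
      refine ⟨h1, ?_⟩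
      have : x = c * (c⁻¹ * x * c) * c⁻¹ := by group
      rw [this]
      exact mul_mem (mul_mem hcH h2) (inv_mem hcH)
  rw [e, card_conjS, inf_signalizerInf_eq hQ.1 hθ.1 hBA] at hcard
  exact hcard

theorem inf_centralizer_le_signalizerInf {Q : Subgroup G} (hQ : Q ∈ signalizerFamily p A θ)
    (hθ : IsSignalizerFunctor p A θ) {B : Subgroup G} (hBA : B ≤ A) :
    Q ⊓ centralizer (B : Set G) ≤ signalizerInf B θ := by
  rw [← inf_signalizerInf_eq hQ hθ hBA]
  exact inf_le_right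

/-- If every `θ a` is a `q`-group then `θ` is complete. -/
theorem signalizer_complete_of_qgroups [Finite G] [Fact p.Prime]
    (hA : IsElementaryAbelian p A) (hA3 : p ^ 3 ≤ Nat.card A)
    (hθ : IsSolvableSignalizerFunctor p A θ) {q : ℕ} [Fact q.Prime]
    (hq : ∀ a ∈ A, a ≠ 1 → IsPGroup q (θ a)) : IsCompleteSignalizerFunctor p A θ := by
  refine ⟨hθ.1, ?_⟩
  by_cases hqp : q = p
  · subst hqp
    refine ⟨⊥, fun b _ x hx => ?_, ?_, fun a ha ha1 => ?_⟩
    · rw [mem_bot] at hx ⊢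
      simp [hx]
    · rw [Subgroup.card_bot]
      exact (Fact.out : q.Prime).one_lt.ne' ∘ Nat.dvd_one.mp
    · rw [bot_inf_eq]
      symm
      obtain ⟨n, hn⟩ := IsPGroup.iff_card.mp (hq a ha ha1)
      have hnd := hθ.1.2.1 a ha ha1
      rw [← Subgroup.card_eq_one, hn]
      rcases Nat.eq_zero_or_pos n with h0 | hpos
      · rw [h0, pow_zero]
      · exact absurd (hn ▸ dvd_pow_self q hpos.ne') hnd
  · obtain ⟨Q, hQ, -⟩ := exists_isMaxQMember_ge (p := p) (A := A) (θ := θ) (q := q)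
      sigFam_bot IsPGroup.of_bot
    refine ⟨Q, hQ.1.2.2.1, hQ.1.2.1, fun a ha ha1 => le_antisymm (hQ.1.2.2.2 a ha ha1) ?_⟩
    have hBA : zpowers a ≤ A := (zpowers_le).2 ha
    have hB : zpowers a ≠ ⊥ := zpowers_ne_bot.2 ha1
    have hcard := card_inf_centralizer_eq_sylCard hA hA3 hθ hqp hQ hBA hB
    have h1 : θ a ≤ signalizerInf (zpowers a) θ := by
      intro x hx
      rw [mem_signalizerInf]
      intro b hb hb1
      refine hθ.1.2.2.2 a ha ha1 b (hBA hb) hb1 (mem_inf.2 ⟨hx, ?_⟩)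
      obtain ⟨k, rfl⟩ := mem_zpowers_iff.mp hb
      have hxa : Commute x a := mem_centralizer_singleton_iff.mp (hθ.1.1 a ha ha1 hx)
      rw [mem_centralizer_singleton_iff]
      exact (hxa.zpow_right k).eq
    have h2 : signalizerInf (zpowers a) θ ≤ θ a := fun x hx =>
      mem_signalizerInf.mp hx a (mem_zpowers a) ha1
    have hHq : IsPGroup q (signalizerInf (zpowers a) θ) := (hq a ha ha1).to_le h2
    rw [sylCard_eq_card_of_isPGroup hHq] at hcard
    have h3 : Q ⊓ centralizer ((zpowers a : Subgroup G) : Set G) = signalizerInf (zpowers a) θ :=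
      Subgroup.eq_of_le_of_card_ge (inf_centralizer_le_signalizerInf hQ.1 hθ.1 hBA) hcard.ge
    calc θ a ≤ signalizerInf (zpowers a) θ := h1
      _ = Q ⊓ centralizer ((zpowers a : Subgroup G) : Set G) := h3.symm
      _ ≤ Q ⊓ centralizer {a} := inf_le_inf_left _ (Subgroup.centralizer_le (by
          intro x hx
          rw [Set.mem_singleton_iff] at hx
          rw [hx]
          exact mem_zpowers a))

end Signalizer

end Cfsg.Agent.Helper22
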