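import Mathlib
import Cfsg.Agent.Lib.Helper84.Sp4Defs

/-!
# PSP4F (B1) TOR (helper84 server, S5320): the torus `Tor = C(i0) = {rot a b}` of `SL₂(F)`.
-/

set_option autoImplicit false

namespace Cfsg.Agent.Helper22.Sp4

open Matrix Cfsg.Agent.Helper84.Sp4

variable {F : Type*} [Field F]

/-- entrywise extensionality in `SL₂(F)` -/
theorem sl2_ext' {X Y : SL2 F}
    (h00 : (X : Matrix (Fin 2) (Fin 2) F) 0 0 = (Y : Matrix (Fin 2) (Fin 2) F) 0 0)
    (h01 : (X : Matrix (Fin 2) (Fin 2) F) 0 1 = (Y : Matrix (Fin 2) (Fin 2) F) 0 1)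
    (h10 : (X : Matrix (Fin 2) (Fin 2) F) 1 0 = (Y : Matrix (Fin 2) (Fin 2) F) 1 0)
    (h11 : (X : Matrix (Fin 2) (Fin 2) F) 1 1 = (Y : Matrix (Fin 2) (Fin 2) F) 1 1) : X = Y := by
  apply Subtype.ext
  ext i j
  fin_cases i <;> fin_cases j <;> assumption

theorem sl2_det' (X : SL2 F) :
    (X : Matrix (Fin 2) (Fin 2) F) 0 0 * (X : Matrix (Fin 2) (Fin 2) F) 1 1 -
      (X : Matrix (Fin 2) (Fin 2) F) 0 1 * (X : Matrix (Fin 2) (Fin 2) F) 1 0 = 1 := by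
  rw [← Matrix.det_fin_two]; exact X.2

/-- entries of a product -/
theorem sl2_mul_apply (X Y : SL2 F) (i j : Fin 2) :
    ((X * Y : SL2 F) : Matrix (Fin 2) (Fin 2) F) i j =
      (X : Matrix (Fin 2) (Fin 2) F) i 0 * (Y : Matrix (Fin 2) (Fin 2) F) 0 j +
        (X : Matrix (Fin 2) (Fin 2) F) i 1 * (Y : Matrix (Fin 2) (Fin 2) F) 1 j := by
  rw [Matrix.SpecialLinearGroup.coe_mul, Matrix.mul_apply, Fin.sum_univ_two]

theorem sl2_inv_00 (X : SL2 F) : ((X⁻¹ : SL2 F) : Matrix (Fin 2) (Fin 2) F) 0 0 =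
    (X : Matrix (Fin 2) (Fin 2) F) 1 1 := by
  rw [Matrix.SpecialLinearGroup.coe_inv, Matrix.adjugate_fin_two]; simp
theorem sl2_inv_01 (X : SL2 F) : ((X⁻¹ : SL2 F) : Matrix (Fin 2) (Fin 2) F) 0 1 =
    -(X : Matrix (Fin 2) (Fin 2) F) 0 1 := by
  rw [Matrix.SpecialLinearGroup.coe_inv, Matrix.adjugate_fin_two]; simp
theorem sl2_inv_10 (X : SL2 F) : ((X⁻¹ : SL2 F) : Matrix (Fin 2) (Fin 2) F) 1 0 =
    -(X : Matrix (Fin 2) (Fin 2) F) 1 0 := by
  rw [Matrix.SpecialLinearGroup.coe_inv, Matrix.adjugate_fin_two]; simp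
theorem sl2_inv_11 (X : SL2 F) : ((X⁻¹ : SL2 F) : Matrix (Fin 2) (Fin 2) F) 1 1 =
    (X : Matrix (Fin 2) (Fin 2) F) 0 0 := by
  rw [Matrix.SpecialLinearGroup.coe_inv, Matrix.adjugate_fin_two]; simp

theorem sl2_neg_apply (X : SL2 F) (i j : Fin 2) :
    ((-X : SL2 F) : Matrix (Fin 2) (Fin 2) F) i j = -(X : Matrix (Fin 2) (Fin 2) F) i j := by
  rw [Matrix.SpecialLinearGroup.coe_neg]; rfl

theorem i0_00 : ((i0 : SL2 F) : Matrix (Fin 2) (Fin 2) F) 0 0 = 0 := by simp [rot]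
theorem i0_01 : ((i0 : SL2 F) : Matrix (Fin 2) (Fin 2) F) 0 1 = 1 := by simp [rot]
theorem i0_10 : ((i0 : SL2 F) : Matrix (Fin 2) (Fin 2) F) 1 0 = -1 := by simp [rot]
theorem i0_11 : ((i0 : SL2 F) : Matrix (Fin 2) (Fin 2) F) 1 1 = 0 := by simp [rot]

theorem one_00 : ((1 : SL2 F) : Matrix (Fin 2) (Fin 2) F) 0 0 = 1 := by simp
theorem one_01 : ((1 : SL2 F) : Matrix (Fin 2) (Fin 2) F) 0 1 = 0 := by simp
theorem one_10 : ((1 : SL2 F) : Matrix (Fin 2) (Fin 2) F) 1 0 = 0 := by simp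
theorem one_11 : ((1 : SL2 F) : Matrix (Fin 2) (Fin 2) F) 1 1 = 1 := by simp

/-- `X` commutes with `i0` iff `X = rot a b` (entrywise form) -/
theorem comm_i0_iff (X : SL2 F) :
    i0 * X = X * i0 ↔ (X : Matrix (Fin 2) (Fin 2) F) 1 0 = -(X : Matrix (Fin 2) (Fin 2) F) 0 1 ∧
      (X : Matrix (Fin 2) (Fin 2) F) 1 1 = (X : Matrix (Fin 2) (Fin 2) F) 0 0 := by
  constructor
  · intro h
    have h00 := congrArg (fun Z : SL2 F => (Z : Matrix (Fin 2) (Fin 2) F) 0 0) h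
    have h01 := congrArg (fun Z : SL2 F => (Z : Matrix (Fin 2) (Fin 2) F) 0 1) h
    simp only [sl2_mul_apply, i0_00, i0_01, i0_10, i0_11] at h00 h01
    constructor
    · linear_combination h00
    · linear_combination h01
  · rintro ⟨h1, h2⟩
    apply sl2_ext' <;> simp only [sl2_mul_apply, i0_00, i0_01, i0_10, i0_11, h1, h2] <;> ring

theorem mem_Tor_iff' (X : SL2 F) :
    X ∈ (Tor : Subgroup (SL2 F)) ↔ i0 * X = X * i0 := by
  unfold Tor
  rw [Subgroup.mem_centralizer_iff]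
  constructor
  · intro h; exact h i0 rfl
  · intro h y hy
    rw [Set.mem_singleton_iff] at hy
    rw [hy]; exact h

theorem mem_Tor_iff (X : SL2 F) :
    X ∈ (Tor : Subgroup (SL2 F)) ↔ ∃ a b : F, (X : Matrix (Fin 2) (Fin 2) F) = rot a b := by
  rw [mem_Tor_iff', comm_i0_iff]
  constructor
  · rintro ⟨h1, h2⟩
    refine ⟨(X : Matrix (Fin 2) (Fin 2) F) 0 0, (X : Matrix (Fin 2) (Fin 2) F) 0 1, ?_⟩
    ext i j
    fin_cases i <;> fin_cases j <;> simp [rot, h1, h2]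
  · rintro ⟨a, b, h⟩
    rw [h]
    simp [rot]

/-- entrywise form of membership in `Tor` -/
theorem mem_Tor_entries {X : SL2 F} (hX : X ∈ (Tor : Subgroup (SL2 F))) :
    (X : Matrix (Fin 2) (Fin 2) F) 1 0 = -(X : Matrix (Fin 2) (Fin 2) F) 0 1 ∧
      (X : Matrix (Fin 2) (Fin 2) F) 1 1 = (X : Matrix (Fin 2) (Fin 2) F) 0 0 :=
  (comm_i0_iff X).1 ((mem_Tor_iff' X).1 hX)

theorem Tor_comm {X Y : SL2 F} (hX : X ∈ (Tor : Subgroup (SL2 F)))
    (hY : Y ∈ (Tor : Subgroup (SL2 F))) : X * Y = Y * X := by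
  obtain ⟨x1, x2⟩ := mem_Tor_entries hX
  obtain ⟨y1, y2⟩ := mem_Tor_entries hY
  apply sl2_ext' <;> simp only [sl2_mul_apply, x1, x2, y1, y2] <;> ring

theorem mem_Tor2_iff (X : SL2 F) :
    X ∈ (Tor2 : Subgroup (SL2 F)) ↔ X ∈ (Tor : Subgroup (SL2 F)) ∧ ∃ m : ℕ, X ^ (2 ^ m) = 1 := by
  constructor
  · intro h
    unfold Tor2 at h
    induction h using Subgroup.closure_induction with
    | mem x hx => exact hx
    | one => exact ⟨Subgroup.one_mem _, 0, by simp⟩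
    | mul x y _ _ hx hy =>
      obtain ⟨hxT, m, hm⟩ := hx
      obtain ⟨hyT, k, hk⟩ := hy
      refine ⟨Subgroup.mul_mem _ hxT hyT, m + k, ?_⟩
      have hc : Commute x y := Tor_comm hxT hyT
      rw [hc.mul_pow, pow_add, pow_mul, hm, one_pow, one_mul, mul_comm (2 ^ m) (2 ^ k), pow_mul, hk,
        one_pow]
    | inv x _ hx =>
      obtain ⟨hxT, m, hm⟩ := hx
      exact ⟨Subgroup.inv_mem _ hxT, m, by rw [inv_pow, hm, inv_one]⟩
  · intro h
    exact Subgroup.subset_closure h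

theorem i0_mul_i0 : (i0 : SL2 F) * i0 = -1 := by
  apply sl2_ext' <;>
    simp only [sl2_mul_apply, sl2_neg_apply, i0_00, i0_01, i0_10, i0_11, one_00, one_01, one_10,
      one_11] <;> ring

theorem i0_inv : (i0 : SL2 F)⁻¹ = -i0 := by
  apply sl2_ext' <;>
    simp only [sl2_inv_00, sl2_inv_01, sl2_inv_10, sl2_inv_11, sl2_neg_apply, i0_00, i0_01, i0_10,
      i0_11] <;> ring

theorem i0_mem_Tor : (i0 : SL2 F) ∈ (Tor : Subgroup (SL2 F)) := (mem_Tor_iff' _).2 rfl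

theorem i0_mem_Tor2 : (i0 : SL2 F) ∈ (Tor2 : Subgroup (SL2 F)) := by
  rw [mem_Tor2_iff]
  refine ⟨i0_mem_Tor, 2, ?_⟩
  have : (i0 : SL2 F) ^ (2 ^ 2) = (i0 * i0) * (i0 * i0) := by
    norm_num [pow_succ, mul_assoc]
  rw [this, i0_mul_i0, neg_mul_neg, one_mul]

theorem neg_one_mem_Tor2 : (-1 : SL2 F) ∈ (Tor2 : Subgroup (SL2 F)) := by
  rw [← i0_mul_i0]
  exact Subgroup.mul_mem _ i0_mem_Tor2 i0_mem_Tor2

theorem Tor_sq_eq_one (h2 : (2 : F) ≠ 0) {X : SL2 F} (hX : X ∈ (Tor : Subgroup (SL2 F)))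
    (h : X * X = 1) : X = 1 ∨ X = -1 := by
  obtain ⟨x1, x2⟩ := mem_Tor_entries hX
  have hd := sl2_det' X
  have h00 := congrArg (fun Z : SL2 F => (Z : Matrix (Fin 2) (Fin 2) F) 0 0) h
  simp only [sl2_mul_apply, one_00, x1, x2] at h00
  rw [x1, x2] at hd
  set a := (X : Matrix (Fin 2) (Fin 2) F) 0 0 with ha
  set b := (X : Matrix (Fin 2) (Fin 2) F) 0 1 with hb
  have hb0 : b = 0 := by
    have : (2 : F) * (b * b) = 0 := by linear_combination hd - h00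
    have := (mul_eq_zero.1 this).resolve_left h2
    exact mul_self_eq_zero.1 this
  have ha1 : a * a = 1 := by rw [hb0] at hd; linear_combination hd
  rcases mul_self_eq_one_iff.1 ha1 with h1 | h1
  · left
    apply sl2_ext' <;> simp only [one_00, one_01, one_10, one_11, x1, x2, ← ha, ← hb, hb0, h1] <;>
      simp
  · right
    apply sl2_ext' <;>
      simp only [sl2_neg_apply, one_00, one_01, one_10, one_11, x1, x2, ← ha, ← hb, hb0, h1] <;>
      simp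

theorem Tor_sq_eq_neg_one (h2 : (2 : F) ≠ 0) {X : SL2 F} (hX : X ∈ (Tor : Subgroup (SL2 F)))
    (h : X * X = -1) : X = i0 ∨ X = i0⁻¹ := by
  obtain ⟨x1, x2⟩ := mem_Tor_entries hX
  have hd := sl2_det' X
  have h00 := congrArg (fun Z : SL2 F => (Z : Matrix (Fin 2) (Fin 2) F) 0 0) h
  simp only [sl2_mul_apply, sl2_neg_apply, one_00, x1, x2] at h00
  rw [x1, x2] at hd
  set a := (X : Matrix (Fin 2) (Fin 2) F) 0 0 with ha
  set b := (X : Matrix (Fin 2) (Fin 2) F) 0 1 with hb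
  have ha0 : a = 0 := by
    have : (2 : F) * (a * a) = 0 := by linear_combination hd + h00
    have := (mul_eq_zero.1 this).resolve_left h2
    exact mul_self_eq_zero.1 this
  have hb1 : b * b = 1 := by rw [ha0] at hd; linear_combination hd
  rcases mul_self_eq_one_iff.1 hb1 with h1 | h1
  · left
    apply sl2_ext' <;> simp only [i0_00, i0_01, i0_10, i0_11, x1, x2, ← ha, ← hb, ha0, h1]
  · right
    rw [i0_inv]
    apply sl2_ext' <;>
      simp only [sl2_neg_apply, i0_00, i0_01, i0_10, i0_11, x1, x2, ← ha, ← hb, ha0, h1] <;>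
      simp

end Cfsg.Agent.Helper22.Sp4
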