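import Mathlib
import Cfsg.Agent.Lib.Helper84.Sp4Defs
import Cfsg.Agent.Lib.Helper22.Sp4TOR

/-!
# PSP4F (B2) NTOR (helper84 server, S5320): the coset `NTor = {ref x y}` of `N(Tor)` in `SL₂(F)`.
-/

set_option autoImplicit false
set_option linter.unusedSimpArgs false
set_option linter.unnecessarySeqFocus false

namespace Cfsg.Agent.Helper22.Sp4

open Matrix Cfsg.Agent.Helper84.Sp4

variable {F : Type*} [Field F]

/-- entrywise form of membership in `NTor` -/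
theorem mem_NTor_entries (X : SL2 F) :
    X ∈ (NTor : Set (SL2 F)) ↔
      (X : Matrix (Fin 2) (Fin 2) F) 1 0 = (X : Matrix (Fin 2) (Fin 2) F) 0 1 ∧
      (X : Matrix (Fin 2) (Fin 2) F) 1 1 = -(X : Matrix (Fin 2) (Fin 2) F) 0 0 := by
  unfold NTor
  constructor
  · rintro ⟨x, y, h⟩
    rw [h]
    simp [ref]
  · rintro ⟨h1, h2⟩
    refine ⟨(X : Matrix (Fin 2) (Fin 2) F) 0 0, (X : Matrix (Fin 2) (Fin 2) F) 0 1, ?_⟩
    ext i j
    fin_cases i <;> fin_cases j <;> simp [ref, h1, h2]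

theorem mem_NTor_iff (X : SL2 F) : X ∈ (NTor : Set (SL2 F)) ↔ X * i0 * X⁻¹ = i0⁻¹ := by
  rw [mem_NTor_entries, mul_inv_eq_iff_eq_mul, i0_inv]
  constructor
  · rintro ⟨h1, h2⟩
    apply sl2_ext' <;>
      simp only [sl2_mul_apply, sl2_neg_apply, i0_00, i0_01, i0_10, i0_11, h1, h2] <;> ring
  · intro h
    have h00 := congrArg (fun Z : SL2 F => (Z : Matrix (Fin 2) (Fin 2) F) 0 0) h
    have h01 := congrArg (fun Z : SL2 F => (Z : Matrix (Fin 2) (Fin 2) F) 0 1) h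
    simp only [sl2_mul_apply, sl2_neg_apply, i0_00, i0_01, i0_10, i0_11] at h00 h01
    constructor
    · linear_combination h00
    · linear_combination h01

theorem NTor_conj {X Y : SL2 F} (hX : X ∈ (NTor : Set (SL2 F)))
    (hY : Y ∈ (Tor : Subgroup (SL2 F))) : X * Y * X⁻¹ = Y⁻¹ := by
  obtain ⟨x1, x2⟩ := (mem_NTor_entries X).1 hX
  obtain ⟨y1, y2⟩ := mem_Tor_entries hY
  rw [mul_inv_eq_iff_eq_mul]
  apply sl2_ext' <;>
    simp only [sl2_mul_apply, sl2_inv_00, sl2_inv_01, sl2_inv_10, sl2_inv_11, x1, x2, y1, y2] <;>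
    ring

theorem NTor_mul_self {X : SL2 F} (hX : X ∈ (NTor : Set (SL2 F))) : X * X = -1 := by
  obtain ⟨x1, x2⟩ := (mem_NTor_entries X).1 hX
  have hd := sl2_det' X
  rw [x1, x2] at hd
  apply sl2_ext' <;>
    simp only [sl2_mul_apply, sl2_neg_apply, one_00, one_01, one_10, one_11, x1, x2]
  · linear_combination -hd
  · ring
  · ring
  · linear_combination -hd

theorem NTor_inv {X : SL2 F} (hX : X ∈ (NTor : Set (SL2 F))) : X⁻¹ ∈ (NTor : Set (SL2 F)) := by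
  obtain ⟨x1, x2⟩ := (mem_NTor_entries X).1 hX
  rw [mem_NTor_entries]
  constructor <;> simp [sl2_inv_00, sl2_inv_01, sl2_inv_10, sl2_inv_11, x1, x2]

theorem NTor_mul_NTor {X Y : SL2 F} (hX : X ∈ (NTor : Set (SL2 F)))
    (hY : Y ∈ (NTor : Set (SL2 F))) : X * Y ∈ (Tor : Subgroup (SL2 F)) := by
  obtain ⟨x1, x2⟩ := (mem_NTor_entries X).1 hX
  obtain ⟨y1, y2⟩ := (mem_NTor_entries Y).1 hY
  rw [mem_Tor_iff', comm_i0_iff]
  simp only [sl2_mul_apply, x1, x2, y1, y2]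
  constructor <;> ring

theorem NTor_mul_Tor {X Y : SL2 F} (hX : X ∈ (NTor : Set (SL2 F)))
    (hY : Y ∈ (Tor : Subgroup (SL2 F))) : X * Y ∈ (NTor : Set (SL2 F)) := by
  obtain ⟨x1, x2⟩ := (mem_NTor_entries X).1 hX
  obtain ⟨y1, y2⟩ := mem_Tor_entries hY
  rw [mem_NTor_entries]
  simp only [sl2_mul_apply, x1, x2, y1, y2]
  constructor <;> ring

theorem Tor_mul_NTor {X Y : SL2 F} (hX : X ∈ (Tor : Subgroup (SL2 F)))
    (hY : Y ∈ (NTor : Set (SL2 F))) : X * Y ∈ (NTor : Set (SL2 F)) := by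
  obtain ⟨x1, x2⟩ := mem_Tor_entries hX
  obtain ⟨y1, y2⟩ := (mem_NTor_entries Y).1 hY
  rw [mem_NTor_entries]
  simp only [sl2_mul_apply, x1, x2, y1, y2]
  constructor <;> ring

theorem not_mem_NTor_of_mem_Tor (h2 : (2 : F) ≠ 0) {X : SL2 F}
    (hX : X ∈ (Tor : Subgroup (SL2 F))) : X ∉ (NTor : Set (SL2 F)) := by
  intro hN
  obtain ⟨x1, x2⟩ := mem_Tor_entries hX
  obtain ⟨y1, y2⟩ := (mem_NTor_entries X).1 hN
  have hd := sl2_det' X
  have ha : (X : Matrix (Fin 2) (Fin 2) F) 0 0 = 0 := by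
    have : (2 : F) * (X : Matrix (Fin 2) (Fin 2) F) 0 0 = 0 := by linear_combination y2 - x2
    exact (mul_eq_zero.1 this).resolve_left h2
  have hb : (X : Matrix (Fin 2) (Fin 2) F) 0 1 = 0 := by
    have : (2 : F) * (X : Matrix (Fin 2) (Fin 2) F) 0 1 = 0 := by linear_combination x1 - y1
    exact (mul_eq_zero.1 this).resolve_left h2
  rw [ha, hb] at hd
  simp at hd

theorem mem_Tor_or_NTor_of_conj {g : SL2 F}
    (h : g * i0 * g⁻¹ = i0 ∨ g * i0 * g⁻¹ = i0⁻¹) :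
    g ∈ (Tor : Subgroup (SL2 F)) ∨ g ∈ (NTor : Set (SL2 F)) := by
  rcases h with h | h
  · left
    rw [mem_Tor_iff']
    rw [mul_inv_eq_iff_eq_mul] at h
    exact h.symm
  · right
    exact (mem_NTor_iff g).2 h

end Cfsg.Agent.Helper22.Sp4
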