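import Cfsg.Agent.Lib.Helper39.StbAsm

/-!
# STB2 (D3) `min_stab` (helper39 server, S2313): `B ∩ n K n⁻¹ = B ∩ n B n⁻¹` for `ψ n` minimal.
-/

set_option autoImplicit false
set_option linter.unusedSectionVars false

namespace Cfsg.Agent.Helper22.Stb2

open Cfsg Cfsg.Agent.Helper6 Cfsg.Agent.Helper6.Weyl Cfsg.Agent.Helper59.Poincare Cfsg.Agent.Helper39.Stb Matrix

section Group

variable {G : Type*} [Group G] (P : Cfsg.BNPair G) {l : ℕ} (V : VDatum l)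
  (ψ : P.N →* V.Wf)
  (hker : ∀ n : P.N, ψ n = 1 ↔ (n : G) ∈ P.B)
  (hS : ∀ s (hs : s ∈ P.S), ∃ i, ψ ⟨s, P.subset hs⟩ = V.σ i)
  (hS' : ∀ i, ∃ s, ∃ hs : s ∈ P.S, ψ ⟨s, P.subset hs⟩ = V.σ i)
variable (J : Fin l → Prop) [DecidablePred J] (T : Set G) (hT : T ⊆ P.S)
  (hT1 : ∀ s (hs : s ∈ T), ∃ i, J i ∧ ψ ⟨s, P.subset (hT hs)⟩ = V.σ i)
  (hT2 : ∀ i, J i → ∃ s, ∃ hs : s ∈ T, ψ ⟨s, P.subset (hT hs)⟩ = V.σ i)

include hT in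
/-- (D3) `B ∩ n K n⁻¹ = B ∩ n B n⁻¹` for `ψ n` minimal: `p = n⁻¹ g n ∈ C k`, `k ∈ ⟨T⟩`; `n p = g n ∈ C n`
and `n p ∈ C (n k)` (`hM`), so `C n = C (n k)`, `k ∈ B` (`bruhat_unique`), `p ∈ C k = B`. -/
theorem min_stab
    (hM : ∀ {n : G} (hn : n ∈ P.N), IsMin V J ((ψ ⟨n, hn⟩ : V.Wf) : (Mat l)ˣ) →
      ∀ {k : G}, k ∈ Subgroup.closure T → ∀ {x y : G}, x ∈ C P n → y ∈ C P k → x * y ∈ C P (n * k))
    {n : G} (hn : n ∈ P.N) (hmin : IsMin V J ((ψ ⟨n, hn⟩ : V.Wf) : (Mat l)ˣ))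
    {g : G} (hg : g ∈ P.B) (h : n⁻¹ * g * n ∈ P.parabolic T) : n⁻¹ * g * n ∈ P.B := by
  obtain ⟨k, hk, hp⟩ := (mem_parabolic_iff P hT _).1 h
  have h1 : n * (n⁻¹ * g * n) ∈ C P n := by
    have : n * (n⁻¹ * g * n) = g * n := by group
    rw [this]
    exact mul_left_mem_C P hg (self_mem_C P n)
  have h2 : n * (n⁻¹ * g * n) ∈ C P (n * k) := hM hn hmin hk (self_mem_C P n) hp
  have hC : C P n = C P (n * k) := C_eq_of_mem_of_mem P h1 h2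
  have hkN : k ∈ P.N := closure_le_N P hT hk
  have hkB : k ∈ P.B := by
    have := bruhat_unique P hn (P.N.mul_mem hn hkN) hC
    simpa using this
  exact (mem_C_iff_mem_B P hkB).1 hp

end Group

end Cfsg.Agent.Helper22.Stb2
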