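import Cfsg.Agent.Lib.Helper39.StbAsm

/-!
# STB2 (P) `card_partition` (helper39 server, S2313): counting along `G = ⊔_{u minimal} B ν(u) K`.
-/

set_option autoImplicit false
set_option linter.unusedSectionVars false
set_option linter.style.haveILetI false

namespace Cfsg.Agent.Helper22.Stb2

open Cfsg Cfsg.Agent.Helper6 Cfsg.Agent.Helper6.Weyl Cfsg.Agent.Helper59.Poincare Cfsg.Agent.Helper39.Stb Matrix

section Group

variable {G : Type*} [Group G] (P : Cfsg.BNPair G) {l : ℕ} (V : VDatum l)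
  (ψ : P.N →* V.Wf)
  (hker : ∀ n : P.N, ψ n = 1 ↔ (n : G) ∈ P.B)
  (hS : ∀ s (hs : s ∈ P.S), ∃ i, ψ ⟨s, P.subset hs⟩ = V.σ i)
  (hS' : ∀ i, ∃ s, ∃ hs : s ∈ P.S, ψ ⟨s, P.subset hs⟩ = V.σ i)
variable (J : Fin l → Prop) [DecidablePred J] (T : Set G) (hT : T ⊆ P.S)
  (hT1 : ∀ s (hs : s ∈ T), ∃ i, J i ∧ ψ ⟨s, P.subset (hT hs)⟩ = V.σ i)
  (hT2 : ∀ i, J i → ∃ s, ∃ hs : s ∈ T, ψ ⟨s, P.subset (hT hs)⟩ = V.σ i)

include hker in
/-- (P) counting along the partition `G = ⊔_{u minimal} B ν(u) K` (`ν` a section of `ψ`; `n` and `ν (ψ n)` differ by an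
element of `B` on the right, `hker`, so `B n K = B ν(ψ n) K`; `Finite V.Wf` is `Poincare.finite_Wf`;
`Nat.card_sigma` / `finsum_eq_sum_of_fintype` as in `BNCount.card_eq`). -/
theorem card_partition [Finite G]
    (hD1 : ∀ x : G, ∃ n, ∃ hn : n ∈ P.N, IsMin V J ((ψ ⟨n, hn⟩ : V.Wf) : (Mat l)ˣ) ∧
      ∃ c ∈ P.B, ∃ p ∈ P.parabolic T, x = c * n * p)
    (hD2 : ∀ {n n' : G} (hn : n ∈ P.N) (hn' : n' ∈ P.N),
      IsMin V J ((ψ ⟨n, hn⟩ : V.Wf) : (Mat l)ˣ) → IsMin V J ((ψ ⟨n', hn'⟩ : V.Wf) : (Mat l)ˣ) →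
      ∀ {c c' p p' : G}, c ∈ P.B → c' ∈ P.B → p ∈ P.parabolic T → p' ∈ P.parabolic T →
        c * n * p = c' * n' * p' → ψ ⟨n, hn⟩ = ψ ⟨n', hn'⟩)
    (ν : V.Wf → G) (hν : ∀ w, ν w ∈ P.N) (hψν : ∀ w, ψ ⟨ν w, hν w⟩ = w) (Q : G → Prop) :
    Nat.card {x : G // Q x} =
      ∑ᶠ u : {u : V.Wf // IsMin V J ((u : V.Wf) : (Mat l)ˣ)},
        Nat.card {x : G // (∃ c ∈ P.B, ∃ p ∈ P.parabolic T, x = c * ν (u : V.Wf) * p) ∧ Q x} := by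
  classical
  haveI : Finite V.Wf := finite_Wf V
  haveI : Fintype {u : V.Wf // IsMin V J ((u : V.Wf) : (Mat l)ˣ)} := Fintype.ofFinite _
  have hBK : P.B ≤ P.parabolic T := by
    unfold BNPair.parabolic
    exact le_sup_left
  have hbij : Function.Bijective
      (fun z : (Σ u : {u : V.Wf // IsMin V J ((u : V.Wf) : (Mat l)ˣ)},
          {x : G // (∃ c ∈ P.B, ∃ p ∈ P.parabolic T, x = c * ν (u : V.Wf) * p) ∧ Q x}) =>
        (⟨(z.2 : G), z.2.2.2⟩ : {x : G // Q x})) := by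
    constructor
    · rintro ⟨⟨u, hu⟩, x, ⟨c, hc, p, hp, hx⟩, hQ⟩ ⟨⟨u', hu'⟩, x', ⟨c', hc', p', hp', hx'⟩, hQ'⟩ h
      have hxx : x = x' := congrArg Subtype.val h
      subst hxx
      have hm : IsMin V J ((ψ ⟨ν u, hν u⟩ : V.Wf) : (Mat l)ˣ) := by rw [hψν u]; exact hu
      have hm' : IsMin V J ((ψ ⟨ν u', hν u'⟩ : V.Wf) : (Mat l)ˣ) := by rw [hψν u']; exact hu'
      have := hD2 (hν u) (hν u') hm hm' hc hc' hp hp' (hx.symm.trans hx')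
      rw [hψν u, hψν u'] at this
      subst this
      rfl
    · rintro ⟨x, hQ⟩
      obtain ⟨n, hn, hmin, c, hc, p, hp, hx⟩ := hD1 x
      have hmem : (ν (ψ ⟨n, hn⟩))⁻¹ * n ∈ P.B := by
        have h1 : ψ ((⟨ν (ψ ⟨n, hn⟩), hν _⟩ : P.N)⁻¹ * ⟨n, hn⟩) = 1 := by
          rw [map_mul, map_inv, hψν]
          exact inv_mul_cancel _
        exact (hker _).1 h1
      refine ⟨⟨⟨ψ ⟨n, hn⟩, hmin⟩, x, ⟨c, hc, (ν (ψ ⟨n, hn⟩))⁻¹ * n * p,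
        (P.parabolic T).mul_mem (hBK hmem) hp, ?_⟩, hQ⟩, rfl⟩
      rw [hx]
      group
  calc Nat.card {x : G // Q x}
      = Nat.card (Σ u : {u : V.Wf // IsMin V J ((u : V.Wf) : (Mat l)ˣ)},
          {x : G // (∃ c ∈ P.B, ∃ p ∈ P.parabolic T, x = c * ν (u : V.Wf) * p) ∧ Q x}) :=
        (Nat.card_congr (Equiv.ofBijective _ hbij)).symm
    _ = ∑ u : {u : V.Wf // IsMin V J ((u : V.Wf) : (Mat l)ˣ)},
          Nat.card {x : G // (∃ c ∈ P.B, ∃ p ∈ P.parabolic T, x = c * ν (u : V.Wf) * p) ∧ Q x} :=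
        Nat.card_sigma
    _ = _ := (finsum_eq_sum_of_fintype _).symm

end Group

end Cfsg.Agent.Helper22.Stb2
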