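import Cfsg.Agent.Lib.Helper39.StbAsm
import Cfsg.Agent.Lib.Helper39.Stb3Defs
import Cfsg.Agent.Lib.Helper40.FlagOrbit

/-!
# STB3 (ORB) `card_orbits_parabolic` (helper39 server, S2311): the orbits of `G` on
`G/P_T × G/P_T'` are counted by the bi-minimal elements.
-/

set_option autoImplicit false
set_option linter.unusedSectionVars false

namespace Cfsg.Agent.Helper22.Stb3

open Cfsg Cfsg.Agent.Helper6 Cfsg.Agent.Helper6.Weyl Cfsg.Agent.Helper59.Poincare Cfsg.Agent.Helper39.Stb Matrix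

/-- the quotient by the bottom setoid -/
theorem orb_card_quotient_bot (I : Type*) : Nat.card (Quotient (⊥ : Setoid I)) = Nat.card I := by
  symm
  apply Nat.card_congr
  refine Equiv.ofBijective (Quotient.mk (⊥ : Setoid I)) ⟨?_, ?_⟩
  · intro a b h
    have := Quotient.exact h
    exact this
  · intro q
    exact Quotient.exists_rep q

section Group

variable {G : Type*} [Group G] (P : Cfsg.BNPair G)

variable {l : ℕ} (V : VDatum l)
  (ψ : P.N →* V.Wf)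
  (hker : ∀ n : P.N, ψ n = 1 ↔ (n : G) ∈ P.B)
variable (J K : Fin l → Prop) [DecidablePred J] [DecidablePred K] (T T' : Set G) (hT : T ⊆ P.S) (hT' : T' ⊆ P.S)
  (hT1 : ∀ s (hs : s ∈ T), ∃ i, J i ∧ ψ ⟨s, P.subset (hT hs)⟩ = V.σ i)
  (hT2 : ∀ i, J i → ∃ s, ∃ hs : s ∈ T, ψ ⟨s, P.subset (hT hs)⟩ = V.σ i)
  (hT1' : ∀ s (hs : s ∈ T'), ∃ i, K i ∧ ψ ⟨s, P.subset (hT' hs)⟩ = V.σ i)
  (hT2' : ∀ i, K i → ∃ s, ∃ hs : s ∈ T', ψ ⟨s, P.subset (hT' hs)⟩ = V.σ i)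

include hker in
/-- `ψ n = ψ n'` gives `n⁻¹ n' ∈ B` -/
theorem orb_mem_B_of_psi_eq {n n' : G} (hn : n ∈ P.N) (hn' : n' ∈ P.N)
    (h : ψ ⟨n, hn⟩ = ψ ⟨n', hn'⟩) : n⁻¹ * n' ∈ P.B := by
  have h1 : ψ ((⟨n, hn⟩ : P.N)⁻¹ * ⟨n', hn'⟩) = 1 := by
    rw [map_mul, map_inv, h]
    exact inv_mul_cancel _
  exact (hker _).1 h1

include hker in
/-- `n⁻¹ n' ∈ B` gives `ψ n = ψ n'` -/
theorem orb_psi_eq_of_mem_B {n n' : G} (hn : n ∈ P.N) (hn' : n' ∈ P.N)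
    (h : n⁻¹ * n' ∈ P.B) : ψ ⟨n, hn⟩ = ψ ⟨n', hn'⟩ := by
  have h1 : ψ ((⟨n, hn⟩ : P.N)⁻¹ * ⟨n', hn'⟩) = 1 := (hker _).2 h
  rw [map_mul, map_inv] at h1
  exact inv_mul_eq_one.1 h1

include hker hT1 hT2 hT1' hT2' in
/-- (ORB) the orbits of `G` on `G/P_T × G/P_T'` are counted by the bi-minimal elements.  Use
`Cfsg.Agent.Helper40.Flag.card_orbits_eq` with `I = {w : V.Wf // IsBiMin V J K w}`, the setoid `⊥` (equality; then
`Nat.card (Quotient ⊥) = Nat.card I`), and `r w = (mk 1, mk (ν w))`.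
`ha`: for `(xP_T, yP_T')` take `x⁻¹ y ∈ C m` (`bruhat_exists`), `ψ m = a d b` (`hEx`), lift `a, b` (`Helper15.Stb.exists_lift_W`);
`hb`: `g • r d = r d'` means `g ∈ P_T` and `(g ν d)⁻¹ ν d' ∈ P_T'`, so `ν d' ∈ P_T (ν d) P_T'`, hence `ν d' ∈ C (a (ν d) b)`
(`hPR`), `bruhat_unique` + `hker` give `d' = ψ a * d * ψ b` with `ψ a ∈ W_J`, `ψ b ∈ W_K` (`Helper15.Stb.psi_mem_W`), and `hUn`. -/
theorem card_orbits_parabolic [Finite G]
    (hPR : ∀ {n x y z : G}, n ∈ P.N → x ∈ P.parabolic T → y ∈ C P n → z ∈ P.parabolic T' →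
      ∃ a ∈ Subgroup.closure T, ∃ b ∈ Subgroup.closure T', x * y * z ∈ C P (a * n * b))
    (hEx : ∀ w ∈ V.Wf, ∃ a ∈ V.W J, ∃ d ∈ V.Wf, ∃ b ∈ V.W K, w = a * d * b ∧ IsBiMin V J K d)
    (hUn : ∀ {d d' a b : (Mat l)ˣ}, d ∈ V.Wf → a ∈ V.W J → b ∈ V.W K →
      IsBiMin V J K d → IsBiMin V J K d' → d' = a * d * b → d' = d)
    (ν : V.Wf → G) (hν : ∀ w, ν w ∈ P.N) (hψν : ∀ w, ψ ⟨ν w, hν w⟩ = w) :
    Nat.card (MulAction.orbitRel.Quotient G ((G ⧸ P.parabolic T) × (G ⧸ P.parabolic T'))) =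
      Nat.card {w : V.Wf // IsBiMin V J K ((w : V.Wf) : (Mat l)ˣ)} := by
  classical
  have hBT : P.B ≤ P.parabolic T := by unfold BNPair.parabolic; exact le_sup_left
  have hBT' : P.B ≤ P.parabolic T' := by unfold BNPair.parabolic; exact le_sup_left
  have hcT : Subgroup.closure T ≤ P.parabolic T := by unfold BNPair.parabolic; exact le_sup_right
  have hcT' : Subgroup.closure T' ≤ P.parabolic T' := by
    unfold BNPair.parabolic; exact le_sup_right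
  rw [← orb_card_quotient_bot {w : V.Wf // IsBiMin V J K ((w : V.Wf) : (Mat l)ˣ)}]
  refine Cfsg.Agent.Helper40.Flag.card_orbits_eq (G := G)
    (Ω := (G ⧸ P.parabolic T) × (G ⧸ P.parabolic T'))
    (⊥ : Setoid {w : V.Wf // IsBiMin V J K ((w : V.Wf) : (Mat l)ˣ)})
    (fun w => (((1 : G) : G ⧸ P.parabolic T), ((ν w.1 : G) : G ⧸ P.parabolic T'))) ?_ ?_
  · -- every pair of cosets is in the orbit of some `r d`
    rintro ⟨X, Y⟩
    obtain ⟨x, rfl⟩ := QuotientGroup.mk_surjective X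
    obtain ⟨y, rfl⟩ := QuotientGroup.mk_surjective Y
    obtain ⟨m, hm, hxy⟩ := bruhat_exists P (x⁻¹ * y)
    obtain ⟨a, ha, d, hd, b, hb, hw, hbm⟩ := hEx _ (ψ ⟨m, hm⟩).2
    obtain ⟨ka, hka, hka'⟩ := Cfsg.Agent.Helper15.Stb.exists_lift_W P V ψ J T hT hT2 ha
    obtain ⟨kb, hkb, hkb'⟩ := Cfsg.Agent.Helper15.Stb.exists_lift_W P V ψ K T' hT' hT2' hb
    have hkaN : ka ∈ P.N := closure_le_N P hT hka
    have hkbN : kb ∈ P.N := closure_le_N P hT' hkb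
    have hnN : ka * ν ⟨d, hd⟩ * kb ∈ P.N := P.N.mul_mem (P.N.mul_mem hkaN (hν _)) hkbN
    have hψ : ψ ⟨ka * ν ⟨d, hd⟩ * kb, hnN⟩ = ψ ⟨m, hm⟩ := by
      have e : (⟨ka * ν ⟨d, hd⟩ * kb, hnN⟩ : P.N) =
          ⟨ka, hkaN⟩ * ⟨ν ⟨d, hd⟩, hν _⟩ * ⟨kb, hkbN⟩ := rfl
      rw [e, map_mul, map_mul, hψν]
      apply Subtype.ext
      rw [hw, Subgroup.coe_mul, Subgroup.coe_mul, hka', hkb']
    have hB := orb_mem_B_of_psi_eq P V ψ hker hnN hm hψ
    have hC : C P (ka * ν ⟨d, hd⟩ * kb) = C P m := C_congr P hB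
    rw [← hC] at hxy
    obtain ⟨b1, hb1, b2, hb2, hxy'⟩ := (mem_C P).1 hxy
    refine ⟨⟨⟨d, hd⟩, hbm⟩, x * b1 * ka, ?_⟩
    apply Prod.ext
    · change (((x * b1 * ka * 1 : G)) : G ⧸ P.parabolic T) = (x : G ⧸ P.parabolic T)
      rw [QuotientGroup.eq]
      have e : (x * b1 * ka * 1)⁻¹ * x = ka⁻¹ * b1⁻¹ := by group
      rw [e]
      exact (P.parabolic T).mul_mem ((P.parabolic T).inv_mem (hcT hka))
        ((P.parabolic T).inv_mem (hBT hb1))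
    · change (((x * b1 * ka * ν ⟨d, hd⟩ : G)) : G ⧸ P.parabolic T') = (y : G ⧸ P.parabolic T')
      rw [QuotientGroup.eq]
      have hy : y = x * (b1 * (ka * ν ⟨d, hd⟩ * kb) * b2) := by rw [← hxy']; group
      have e : (x * b1 * ka * ν ⟨d, hd⟩)⁻¹ * y = kb * b2 := by rw [hy]; group
      rw [e]
      exact (P.parabolic T').mul_mem (hcT' hkb) (hBT' hb2)
  · -- two representatives in the same orbit are equal
    rintro ⟨i, hi⟩ ⟨j, hj⟩
    constructor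
    · rintro ⟨g, hg⟩
      have h1 : ((g * 1 : G) : G ⧸ P.parabolic T) = ((1 : G) : G ⧸ P.parabolic T) :=
        congrArg Prod.fst hg
      have h2 : ((g * ν i : G) : G ⧸ P.parabolic T') = ((ν j : G) : G ⧸ P.parabolic T') :=
        congrArg Prod.snd hg
      rw [QuotientGroup.eq] at h1 h2
      have hgT : g ∈ P.parabolic T := by
        have := (P.parabolic T).inv_mem h1
        simpa using this
      obtain ⟨a, ha, b, hb, hab⟩ := hPR (hν i) hgT (self_mem_C P (ν i)) h2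
      have e : g * ν i * ((g * ν i)⁻¹ * ν j) = ν j := by group
      rw [e] at hab
      have haN : a ∈ P.N := closure_le_N P hT ha
      have hbN : b ∈ P.N := closure_le_N P hT' hb
      have hnN : a * ν i * b ∈ P.N := P.N.mul_mem (P.N.mul_mem haN (hν _)) hbN
      have hB := bruhat_unique P (hν j) hnN (C_eq_of_mem_of_mem P (self_mem_C P (ν j)) hab)
      have hψ := orb_psi_eq_of_mem_B P V ψ hker (hν j) hnN hB
      have e2 : (⟨a * ν i * b, hnN⟩ : P.N) = ⟨a, haN⟩ * ⟨ν i, hν _⟩ * ⟨b, hbN⟩ := rfl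
      rw [e2, map_mul, map_mul, hψν, hψν] at hψ
      have hψ' : ((j : V.Wf) : (Mat l)ˣ) =
          ((ψ ⟨a, haN⟩ : V.Wf) : (Mat l)ˣ) * ((i : V.Wf) : (Mat l)ˣ) *
            ((ψ ⟨b, hbN⟩ : V.Wf) : (Mat l)ˣ) := by
        rw [hψ]; rfl
      have haW := Cfsg.Agent.Helper15.Stb.psi_mem_W P V ψ J T hT hT1 ha
      have hbW := Cfsg.Agent.Helper15.Stb.psi_mem_W P V ψ K T' hT' hT1' hb
      have := hUn i.2 haW hbW hi hj hψ'
      show (⟨i, hi⟩ : {w : V.Wf // IsBiMin V J K ((w : V.Wf) : (Mat l)ˣ)}) = ⟨j, hj⟩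
      apply Subtype.ext
      apply Subtype.ext
      exact this.symm
    · intro h
      have h' : (⟨i, hi⟩ : {w : V.Wf // IsBiMin V J K ((w : V.Wf) : (Mat l)ˣ)}) = ⟨j, hj⟩ := h
      rw [h']
      exact ⟨1, one_smul _ _⟩

end Group

end Cfsg.Agent.Helper22.Stb3
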