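import Cfsg.Agent.Lib.Helper39.StbAsm
import Cfsg.Agent.Lib.Helper39.Stb3Defs

/-!
# STB3 (PR) `parabolic_mul_C_mul_parabolic` (helper39 server, S2311):
`P_T · C(n) · P_T' ⊆ ⋃ C(a n b)`, `a ∈ ⟨T⟩`, `b ∈ ⟨T'⟩`.
-/

set_option autoImplicit false
set_option linter.unusedSectionVars false

namespace Cfsg.Agent.Helper22.Stb3

open Cfsg Cfsg.Agent.Helper6 Cfsg.Agent.Helper6.Weyl Cfsg.Agent.Helper59.Poincare Cfsg.Agent.Helper39.Stb Matrix

section Group

variable {G : Type*} [Group G] (P : Cfsg.BNPair G)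

/-- list version of the left-hand half -/
theorem pr_list {T : Set G} (hT : T ⊆ P.S) {m : G} (hm : m ∈ P.N) {y : G} (hy : y ∈ C P m) :
    ∀ (L : List G), (∀ s ∈ L, s ∈ T) → ∀ x ∈ C P L.prod,
      ∃ a ∈ Subgroup.closure T, x * y ∈ C P (a * m) := by
  intro L
  induction L with
  | nil =>
    intro _ x hx
    rw [List.prod_nil] at hx
    have hxB : x ∈ P.B := (mem_C_iff_mem_B P P.B.one_mem).1 hx
    exact ⟨1, Subgroup.one_mem _, by rw [one_mul]; exact mul_left_mem_C P hxB hy⟩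
  | cons s L ih =>
    intro hL x hx
    rw [List.prod_cons] at hx
    obtain ⟨b1, hb1, b2, hb2, rfl⟩ := (mem_C P).1 hx
    have hsT : s ∈ T := hL s List.mem_cons_self
    have hx2 : L.prod * b2 ∈ C P L.prod := mul_right_mem_C P hb2 (self_mem_C P _)
    obtain ⟨a', ha', h'⟩ := ih (fun t ht => hL t (List.mem_cons_of_mem _ ht)) _ hx2
    have hx1 : b1 * s ∈ C P s := mul_left_mem_C P hb1 (self_mem_C P s)
    have ha'N : a' * m ∈ P.N := P.N.mul_mem (closure_le_N P hT ha') hm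
    have e : b1 * (s * L.prod) * b2 * y = (b1 * s) * (L.prod * b2 * y) := by group
    rw [e]
    rcases T3_left' P (hT hsT) ha'N hx1 h' with h | h
    · exact ⟨s * a', Subgroup.mul_mem _ (Subgroup.subset_closure hsT) ha', by rwa [mul_assoc]⟩
    · exact ⟨a', ha', h⟩

/-- the left-hand half: `P_T · C(m) ⊆ ⋃ C(a m)` -/
theorem pr_left {T : Set G} (hT : T ⊆ P.S) {m : G} (hm : m ∈ P.N) {x y : G}
    (hx : x ∈ P.parabolic T) (hy : y ∈ C P m) :
    ∃ a ∈ Subgroup.closure T, x * y ∈ C P (a * m) := by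
  obtain ⟨k, hk, hxk⟩ := (mem_parabolic_iff P hT x).1 hx
  obtain ⟨L, hL, hLk⟩ := exists_word_of_mem_closure' P hT hk
  have hC : C P L.prod = C P k := C_congr P hLk
  rw [← hC] at hxk
  exact pr_list P hT hm hy L hL x hxk

/-- the right-hand half: `C(m) · P_T' ⊆ ⋃ C(m b)` -/
theorem pr_right {T' : Set G} (hT' : T' ⊆ P.S) {m : G} (hm : m ∈ P.N) {y z : G}
    (hy : y ∈ C P m) (hz : z ∈ P.parabolic T') :
    ∃ b ∈ Subgroup.closure T', y * z ∈ C P (m * b) := by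
  obtain ⟨b', hb', h⟩ := pr_left P hT' (P.N.inv_mem hm) ((P.parabolic T').inv_mem hz)
    (inv_mem_C P hy)
  refine ⟨b'⁻¹, Subgroup.inv_mem _ hb', ?_⟩
  have := inv_mem_C P h
  have e1 : (z⁻¹ * y⁻¹)⁻¹ = y * z := by group
  have e2 : (b' * m⁻¹)⁻¹ = m * b'⁻¹ := by group
  rwa [e1, e2] at this

/-- (PR) `P_T · C(n) · P_T' ⊆ ⋃ C(a n b)`, `a ∈ ⟨T⟩`, `b ∈ ⟨T'⟩`.  First for `x ∈ C k`, `k` a product of a list of letters of `T`
(induction on the list with `T3_left'`: `C(s) C(m) ⊆ C(s m) ∪ C(m)`), then `x ∈ P.parabolic T` is in some `C k`, `k ∈ ⟨T⟩`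
(`mem_parabolic_iff`), and `k` is a list product up to `B` (`exists_word_of_mem_closure'`, `C_congr`); mirror image on the right
with `T3_right'`. -/
theorem parabolic_mul_C_mul_parabolic {T T' : Set G} (hT : T ⊆ P.S) (hT' : T' ⊆ P.S) {n : G} (hn : n ∈ P.N)
    {x y z : G} (hx : x ∈ P.parabolic T) (hy : y ∈ C P n) (hz : z ∈ P.parabolic T') :
    ∃ a ∈ Subgroup.closure T, ∃ b ∈ Subgroup.closure T', x * y * z ∈ C P (a * n * b) := by
  obtain ⟨a, ha, h1⟩ := pr_left P hT hn hx hy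
  have haN : a * n ∈ P.N := P.N.mul_mem (closure_le_N P hT ha) hn
  obtain ⟨b, hb, h2⟩ := pr_right P hT' haN h1 hz
  exact ⟨a, ha, b, hb, h2⟩

end Group

end Cfsg.Agent.Helper22.Stb3
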