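import Mathlib
import Cfsg.Agent.Lib.Helper98.WR0

set_option autoImplicit false
set_option linter.unusedSectionVars false
set_option linter.unusedVariables false

namespace Cfsg.Agent.Helper22.WR

open Matrix Cfsg.Agent.Helper98.SPE Cfsg.Agent.Helper98.WR

variable {F : Type*} [Field F] {n : ℕ} (ψ : AddChar F ℂ)

theorem h22_J_mulVec_inl (v : Fin n ⊕ Fin n → F) (i : Fin n) :
    (Matrix.J (Fin n) F *ᵥ v) (Sum.inl i) = - v (Sum.inr i) := by
  simp [Matrix.J, Matrix.fromBlocks_mulVec, Matrix.neg_mulVec]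

theorem h22_J_mulVec_inr (v : Fin n ⊕ Fin n → F) (i : Fin n) :
    (Matrix.J (Fin n) F *ᵥ v) (Sum.inr i) = v (Sum.inl i) := by
  simp [Matrix.J, Matrix.fromBlocks_mulVec]

theorem h22_sympForm_eq (u v : Fin n ⊕ Fin n → F) :
    Cfsg.sympForm n F u v = (u ∘ Sum.inr) ⬝ᵥ (v ∘ Sum.inl) - (u ∘ Sum.inl) ⬝ᵥ (v ∘ Sum.inr) := by
  unfold Cfsg.sympForm
  simp only [dotProduct, Fintype.sum_sum_type, h22_J_mulVec_inl, h22_J_mulVec_inr,
    Function.comp_apply]
  rw [sub_eq_add_neg, ← Finset.sum_neg_distrib, add_comm]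
  congr 1
  apply Finset.sum_congr rfl
  intro i _
  ring

theorem h22_wOp_mul (h2 : (2 : F) ≠ 0) (u v : Fin n ⊕ Fin n → F) :
    wOp ψ u * wOp ψ v = ψ (Cfsg.sympForm n F u v / 2) • wOp ψ (u + v) := by
  apply LinearMap.ext
  intro f
  funext x
  rw [Module.End.mul_apply, wOp_apply, wOp_apply, LinearMap.smul_apply, Pi.smul_apply, wOp_apply,
    smul_eq_mul]
  have hcomp : ∀ (i : Fin n → Fin n ⊕ Fin n), (u + v) ∘ i = u ∘ i + v ∘ i := fun i => rfl
  rw [hcomp, hcomp, add_assoc x]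
  rw [← mul_assoc, ← mul_assoc, ← AddChar.map_add_eq_mul, ← AddChar.map_add_eq_mul]
  congr 2
  rw [h22_sympForm_eq]
  simp only [dotProduct_add, add_dotProduct]
  rw [dotProduct_comm (u ∘ Sum.inr) (v ∘ Sum.inl)]
  field_simp
  ring

theorem h22_wOp_zero : wOp ψ (0 : Fin n ⊕ Fin n → F) = 1 := by
  apply LinearMap.ext
  intro f
  funext x
  rw [wOp_apply]
  have h0 : ∀ (i : Fin n → Fin n ⊕ Fin n), (0 : Fin n ⊕ Fin n → F) ∘ i = 0 := fun i => rfl
  rw [h0, h0]
  simp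

theorem h22_vecMulVec_mulVec (w u x : Fin n ⊕ Fin n → F) :
    Matrix.vecMulVec w u *ᵥ x = (u ⬝ᵥ x) • w := by
  funext i
  simp only [Matrix.mulVec, dotProduct, Matrix.vecMulVec_apply, Pi.smul_apply, smul_eq_mul,
    Finset.sum_mul]
  apply Finset.sum_congr rfl
  intro j _
  ring

theorem h22_transv_mulVec (w x : Fin n ⊕ Fin n → F) (c : F) :
    Cfsg.sympTransvection n w c *ᵥ x = x + (c * Cfsg.sympForm n F x w) • w := by
  unfold Cfsg.sympTransvection
  rw [Matrix.add_mulVec, Matrix.one_mulVec, Matrix.smul_mulVec, h22_vecMulVec_mulVec,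
    dotProduct_comm, smul_smul]
  rfl

theorem h22_sympForm_self (w : Fin n ⊕ Fin n → F) : Cfsg.sympForm n F w w = 0 := by
  rw [h22_sympForm_eq, dotProduct_comm]
  ring

theorem h22_sympForm_smul_left (s : F) (u v : Fin n ⊕ Fin n → F) :
    Cfsg.sympForm n F (s • u) v = s * Cfsg.sympForm n F u v := by
  rw [h22_sympForm_eq, h22_sympForm_eq]
  have hc : ∀ (i : Fin n → Fin n ⊕ Fin n), (s • u) ∘ i = s • (u ∘ i) := fun i => rfl
  rw [hc, hc, smul_dotProduct, smul_dotProduct, smul_eq_mul, smul_eq_mul]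
  ring

theorem h22_sympForm_smul_right (s : F) (u v : Fin n ⊕ Fin n → F) :
    Cfsg.sympForm n F u (s • v) = s * Cfsg.sympForm n F u v := by
  rw [h22_sympForm_eq, h22_sympForm_eq]
  have hc : ∀ (i : Fin n → Fin n ⊕ Fin n), (s • v) ∘ i = s • (v ∘ i) := fun i => rfl
  rw [hc, hc, dotProduct_smul, dotProduct_smul, smul_eq_mul, smul_eq_mul]
  ring

theorem h22_sympForm_add_left (u u' v : Fin n ⊕ Fin n → F) :
    Cfsg.sympForm n F (u + u') v = Cfsg.sympForm n F u v + Cfsg.sympForm n F u' v := by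
  rw [h22_sympForm_eq, h22_sympForm_eq, h22_sympForm_eq]
  have hc : ∀ (i : Fin n → Fin n ⊕ Fin n), (u + u') ∘ i = u ∘ i + u' ∘ i := fun i => rfl
  rw [hc, hc, add_dotProduct, add_dotProduct]
  ring

theorem h22_sympForm_swap (u v : Fin n ⊕ Fin n → F) :
    Cfsg.sympForm n F u v = - Cfsg.sympForm n F v u := by
  rw [h22_sympForm_eq, h22_sympForm_eq, dotProduct_comm (u ∘ Sum.inr), dotProduct_comm (u ∘ Sum.inl)]
  ring

end Cfsg.Agent.Helper22.WR
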