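import Mathlib
import Cfsg.Agent.Lib.Helper98.WR0
import Cfsg.Agent.Lib.Helper22.WRW3a

set_option autoImplicit false
set_option linter.unusedSectionVars false
set_option linter.unusedVariables false

namespace Cfsg.Agent.Helper22.WR

open Matrix Cfsg.Agent.Helper98.SPE Cfsg.Agent.Helper98.WR

variable {F : Type*} [Field F] {n : ℕ} (ψ : AddChar F ℂ)
variable [Fintype F]

/-- `∑ s, g s • wOp ψ (s • w)` -/
noncomputable def h22_Op (w : Fin n ⊕ Fin n → F) (g : F → ℂ) : Module.End ℂ ((Fin n → F) → ℂ) :=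
  ∑ s : F, g s • wOp ψ (s • w)

theorem h22_wOp_line_mul (h2 : (2 : F) ≠ 0) (w : Fin n ⊕ Fin n → F) (s t : F) :
    wOp ψ (s • w) * wOp ψ (t • w) = wOp ψ ((s + t) • w) := by
  rw [h22_wOp_mul ψ h2, h22_sympForm_smul_left, h22_sympForm_smul_right, h22_sympForm_self]
  simp [add_smul]

theorem h22_Op_mul (h2 : (2 : F) ≠ 0) (w : Fin n ⊕ Fin n → F) (g h : F → ℂ) :
    h22_Op ψ w g * h22_Op ψ w h = h22_Op ψ w (fun r => ∑ s : F, g s * h (r - s)) := by
  unfold h22_Op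
  rw [Finset.sum_mul]
  simp only [Finset.mul_sum, smul_mul_assoc, mul_smul_comm, smul_smul, h22_wOp_line_mul ψ h2]
  have h1 : ∀ s : F, ∑ t : F, (h t * g s) • wOp ψ ((s + t) • w) =
      ∑ r : F, (g s * h (r - s)) • wOp ψ (r • w) := by
    intro s
    apply Fintype.sum_equiv (Equiv.addLeft s)
    intro t
    simp [mul_comm]
  rw [Finset.sum_congr rfl (fun s _ => h1 s), Finset.sum_comm]
  apply Finset.sum_congr rfl
  intro r _
  rw [Finset.sum_smul]

theorem h22_sum_mulShift (hψ : ψ 1 ≠ 1) (a : F) (ha : a ≠ 0) : ∑ s : F, ψ (a * s) = 0 := by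
  have hne : AddChar.mulShift ψ a ≠ 1 := by
    intro h
    apply hψ
    have h3 := DFunLike.congr_fun h a⁻¹
    rw [AddChar.mulShift_apply, mul_inv_cancel₀ ha] at h3
    simpa using h3
  have h4 := AddChar.sum_eq_zero_of_ne_one hne
  simpa [AddChar.mulShift_apply] using h4

open Classical in
/-- the Gauss-type convolution -/
theorem h22_conv_gauss (h2 : (2 : F) ≠ 0) (hψ : ψ 1 ≠ 1) (c : F) (hc : c ≠ 0) (r : F) :
    ∑ s : F, ψ (s ^ 2 / (2 * c)) * ψ (-((r - s) ^ 2) / (2 * c)) =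
      if r = 0 then (Fintype.card F : ℂ) else 0 := by
  have hterm : ∀ s : F, ψ (s ^ 2 / (2 * c)) * ψ (-((r - s) ^ 2) / (2 * c)) =
      ψ (-(r ^ 2) / (2 * c)) * ψ ((r / c) * s) := by
    intro s
    rw [← AddChar.map_add_eq_mul, ← AddChar.map_add_eq_mul]
    congr 1
    field_simp
    ring
  rw [Finset.sum_congr rfl (fun s _ => hterm s), ← Finset.mul_sum]
  by_cases hr : r = 0
  · subst hr
    simp
  · rw [if_neg hr, h22_sum_mulShift ψ hψ (r / c) (div_ne_zero hr hc), mul_zero]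

theorem h22_Op_mul_inv (h2 : (2 : F) ≠ 0) (hψ : ψ 1 ≠ 1) (w : Fin n ⊕ Fin n → F) (c : F)
    (hc : c ≠ 0) :
    h22_Op ψ w (fun s => ψ (s ^ 2 / (2 * c))) * h22_Op ψ w (fun s => ψ (-(s ^ 2) / (2 * c))) =
      (Fintype.card F : ℂ) • (1 : Module.End ℂ ((Fin n → F) → ℂ)) := by
  classical
  rw [h22_Op_mul ψ h2]
  unfold h22_Op
  simp only [h22_conv_gauss ψ h2 hψ c hc]
  rw [Finset.sum_eq_single 0]
  · simp [h22_wOp_zero]
  · intro b _ hb
    simp [hb]
  · intro h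
    exact absurd (Finset.mem_univ _) h

theorem h22_Op_intertwine (h2 : (2 : F) ≠ 0) (w : Fin n ⊕ Fin n → F) (c : F) (hc : c ≠ 0)
    (x : Fin n ⊕ Fin n → F) :
    h22_Op ψ w (fun s => ψ (s ^ 2 / (2 * c))) * wOp ψ x =
      wOp ψ (Cfsg.sympTransvection n w c *ᵥ x) * h22_Op ψ w (fun s => ψ (s ^ 2 / (2 * c))) := by
  rw [h22_transv_mulVec]
  obtain ⟨u, hu⟩ : ∃ u, u = Cfsg.sympForm n F x w := ⟨_, rfl⟩
  rw [← hu]
  unfold h22_Op
  rw [Finset.sum_mul, Finset.mul_sum]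
  simp only [smul_mul_assoc, mul_smul_comm, h22_wOp_mul ψ h2, smul_smul]
  symm
  apply Fintype.sum_equiv (Equiv.addLeft (c * u))
  intro s
  have hv : x + (c * u) • w + s • w = ((Equiv.addLeft (c * u)) s) • w + x := by
    simp only [Equiv.coe_addLeft, add_smul]
    abel
  have hs1 : Cfsg.sympForm n F (x + (c * u) • w) (s • w) = s * u := by
    rw [h22_sympForm_smul_right, h22_sympForm_add_left, h22_sympForm_smul_left, h22_sympForm_self,
      ← hu]
    ring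
  have hs2 : Cfsg.sympForm n F (((Equiv.addLeft (c * u)) s) • w) x = -((c * u + s) * u) := by
    rw [h22_sympForm_smul_left, h22_sympForm_swap w x, ← hu]
    simp only [Equiv.coe_addLeft]
    ring
  rw [hv, hs1, hs2]
  congr 1
  simp only [Equiv.coe_addLeft]
  rw [← AddChar.map_add_eq_mul, ← AddChar.map_add_eq_mul]
  congr 1
  field_simp
  ring

theorem exists_transvection_op (h2 : (2 : F) ≠ 0) (hψ : ψ 1 ≠ 1) (w : Fin n ⊕ Fin n → F) (c : F) :
    ∃ A : (Module.End ℂ ((Fin n → F) → ℂ))ˣ, ∀ v : Fin n ⊕ Fin n → F,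
      (A : Module.End ℂ ((Fin n → F) → ℂ)) * wOp ψ v =
        wOp ψ (Cfsg.sympTransvection n w c *ᵥ v) * (A : Module.End ℂ ((Fin n → F) → ℂ)) := by
  by_cases hc : c = 0
  · refine ⟨1, fun v => ?_⟩
    rw [h22_transv_mulVec, hc]
    simp
  · have hq : (Fintype.card F : ℂ) ≠ 0 := by
      exact_mod_cast Fintype.card_ne_zero
    have h1 : h22_Op ψ w (fun s => ψ (s ^ 2 / (2 * c))) *
        ((Fintype.card F : ℂ)⁻¹ • h22_Op ψ w (fun s => ψ (-(s ^ 2) / (2 * c)))) = 1 := by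
      rw [mul_smul_comm, h22_Op_mul_inv ψ h2 hψ w c hc, smul_smul, inv_mul_cancel₀ hq, one_smul]
    have h1' : ((Fintype.card F : ℂ)⁻¹ • h22_Op ψ w (fun s => ψ (-(s ^ 2) / (2 * c)))) *
        h22_Op ψ w (fun s => ψ (s ^ 2 / (2 * c))) = 1 := mul_eq_one_comm.mp h1
    exact ⟨⟨_, _, h1, h1'⟩, fun v => h22_Op_intertwine ψ h2 w c hc v⟩

end Cfsg.Agent.Helper22.WR
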