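import Mathlib
import Cfsg.Prelude.Def_OddOrderLocal
import Cfsg.Agent.Lib.Helper98.TIHDefs
import Cfsg.Agent.Lib.Helper19.TIHP6c

/-!
Piece (A1) `exists_fpf_action_of_section` of helper98's lemma server "ZTI" (row S4151).
Adapted from `Cfsg/Agent/Lib/Helper19/TIHP6q.lean`.
-/

set_option autoImplicit false
set_option linter.style.haveILetI false

namespace Cfsg.Agent.Helper22.ZTI

open Cfsg.Agent.Helper98.TIH

universe u

/-- (A1) the fixed-point-free action on a section. -/
theorem exists_fpf_action_of_section {G : Type u} [Group G] [Finite G] {H : Subgroup G}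
    (hTI : Cfsg.IsTISubset (H : Set G)) (P X : Subgroup G) (hPH : P ≤ H)
    (hPX : P ≤ Subgroup.normalizer (X : Set G))
    (hXD : X ≤ Subgroup.normalizer ((X ⊓ Subgroup.normalizer (H : Set G) : Subgroup G) : Set G))
    (hXN : ¬ X ≤ Subgroup.normalizer (H : Set G))
    (hcop : (Nat.card X).Coprime (Nat.card P)) :
    ∃ (W : Type u) (_ : Group W) (_ : Finite W) (_ : Nontrivial W) (ψ : P →* MulAut W),
      ∀ y : P, y ≠ 1 → ∀ w : W, ψ y w = w → w = 1 := by
  classical
  set N : Subgroup G := Subgroup.normalizer (H : Set G) with hN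
  have hHN : H ≤ N := Subgroup.le_normalizer
  have hPN : P ≤ N := hPH.trans hHN
  -- `Y' = X ⊓ N` as a subgroup of `X` is normal
  set Y' : Subgroup X := (X ⊓ N).subgroupOf X with hY'
  have hmemY : ∀ x : X, x ∈ Y' ↔ (x : G) ∈ N := by
    intro x
    rw [hY', Subgroup.mem_subgroupOf, Subgroup.mem_inf]
    exact ⟨fun h => h.2, fun h => ⟨x.2, h⟩⟩
  have hYn : Y'.Normal := by
    constructor
    intro y hy x
    have hx := hXD x.2
    have hy' : (y : G) ∈ X ⊓ N := Subgroup.mem_subgroupOf.1 hy
    have := (Subgroup.mem_normalizer_iff.1 hx (y : G)).1 hy'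
    rw [hY', Subgroup.mem_subgroupOf]
    simpa using this
  -- the conjugation action of `P` on `X`
  let φ : P →* MulAut X := X.normalizerMonoidHom.comp (Subgroup.inclusion hPX)
  have hφ : ∀ (y : P) (x : X), ((φ y x : X) : G) = (y : G) * (x : G) * (y : G)⁻¹ := by
    intro y x
    rfl
  have hconjmem : ∀ (y : P) (x : X), x ∈ Y' → φ y x ∈ Y' := by
    intro y x hx
    rw [hmemY] at hx ⊢
    rw [hφ]
    exact N.mul_mem (N.mul_mem (hPN y.2) hx) (N.inv_mem (hPN y.2))
  have hφinv : ∀ (y : P) (x : X), φ y (φ y⁻¹ x) = x := by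
    intro y x
    rw [← MulAut.mul_apply, ← map_mul, mul_inv_cancel, map_one, MulAut.one_apply]
  have hmapY : ∀ y : P, Y'.map ((φ y : X ≃* X) : X →* X) = Y' := by
    intro y
    apply le_antisymm
    · rintro _ ⟨x, hx, rfl⟩
      exact hconjmem y x hx
    · intro x hx
      exact ⟨φ y⁻¹ x, hconjmem y⁻¹ x hx, hφinv y x⟩
  -- the action on the quotient
  let ψ : P →* MulAut (X ⧸ Y') :=
    { toFun := fun y => QuotientGroup.congr Y' Y' (φ y) (hmapY y)
      map_one' := by
        ext w
        induction w using QuotientGroup.induction_on with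
        | H x =>
          rw [QuotientGroup.congr_mk]
          simp
      map_mul' := by
        intro a b
        ext w
        induction w using QuotientGroup.induction_on with
        | H x =>
          rw [MulAut.mul_apply, QuotientGroup.congr_mk, QuotientGroup.congr_mk,
            QuotientGroup.congr_mk]
          simp [map_mul] }
  have hψmk : ∀ (y : P) (x : X), ψ y (QuotientGroup.mk x) = QuotientGroup.mk (φ y x) := by
    intro y x
    exact QuotientGroup.congr_mk Y' Y' (φ y) (hmapY y) x
  obtain ⟨x0, hx0X, hx0N⟩ := SetLike.not_le_iff_exists.mp hXN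
  have hnt : Nontrivial (X ⧸ Y') := by
    refine ⟨⟨QuotientGroup.mk ⟨x0, hx0X⟩, 1, ?_⟩⟩
    rw [Ne, QuotientGroup.eq_one_iff, hmemY]
    exact hx0N
  refine ⟨X ⧸ Y', inferInstance, inferInstance, hnt, ψ, ?_⟩
  intro h hne w hw
  induction w using QuotientGroup.induction_on with
  | H x =>
    rw [QuotientGroup.eq_one_iff, hmemY]
    -- a power of `h` of prime order
    have hord1 : orderOf h ≠ 1 := fun h1 => hne (orderOf_eq_one_iff.mp h1)
    obtain ⟨p, hp, hpd⟩ := Nat.exists_prime_and_dvd hord1
    set h' : P := h ^ (orderOf h / p) with hh'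
    have hordh' : orderOf h' = p := orderOf_pow_orderOf_div (orderOf_pos h).ne' hpd
    have hh'ne : (h' : G) ≠ 1 := by
      intro h1
      have h2 : h' = 1 := Subtype.ext h1
      rw [h2, orderOf_one] at hordh'
      exact hp.one_lt.ne hordh'
    -- `ψ h'` fixes `mk x`
    have hpowfix : ∀ k : ℕ, (ψ h ^ k) (QuotientGroup.mk x) = QuotientGroup.mk x := by
      intro k
      induction k with
      | zero => simp
      | succ k ih => rw [pow_succ, MulAut.mul_apply, hw, ih]
    have hw' : ψ h' (QuotientGroup.mk x) = QuotientGroup.mk x := by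
      rw [hh', map_pow]; exact hpowfix _
    set α : MulAut X := φ h' with hα
    have hαp : α ^ p = 1 := by
      rw [hα, ← map_pow, ← hordh', pow_orderOf_eq_one, map_one]
    have hYinv : ∀ y ∈ Y', α y ∈ Y' := fun y hy => hconjmem h' y hy
    have hpY : ¬ p ∣ Nat.card Y' := by
      intro hpY
      have h1 : Nat.card Y' ∣ Nat.card X := Subgroup.card_subgroup_dvd_card Y'
      have hpX : p ∣ Nat.card X := hpY.trans h1
      have hpP : p ∣ Nat.card P := hpd.trans (orderOf_dvd_natCard h)
      have h3 := Nat.dvd_gcd hpX hpP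
      rw [Nat.Coprime.gcd_eq_one hcop] at h3
      exact hp.one_lt.ne' (Nat.dvd_one.mp h3)
    have hx : x⁻¹ * α x ∈ Y' := by
      rw [hψmk] at hw'
      exact QuotientGroup.eq.mp hw'.symm
    obtain ⟨y, hyY, hy⟩ :=
      Cfsg.Agent.Helper19.TIH.exists_fixed_of_prime α p hp hαp Y' hYinv hpY x hx
    -- `g = x * y` commutes with `h'`
    have hg : ((h' : P) : G) * ((x * y : X) : G) * ((h' : P) : G)⁻¹ = ((x * y : X) : G) := by
      have := congrArg (Subtype.val) hy
      rwa [hα, hφ] at this
    have hh'H : ((h' : P) : G) ∈ H := hPH h'.2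
    have hgN : ((x * y : X) : G) ∈ N := by
      by_contra hgN
      apply hh'ne
      apply hTI _ hgN _ hh'H
      have h2 : ((x * y : X) : G) * ((h' : P) : G) * ((x * y : X) : G)⁻¹ = ((h' : P) : G) := by
        have h3 : ((h' : P) : G) * ((x * y : X) : G) = ((x * y : X) : G) * ((h' : P) : G) := by
          calc ((h' : P) : G) * ((x * y : X) : G)
              = (((h' : P) : G) * ((x * y : X) : G) * ((h' : P) : G)⁻¹) * ((h' : P) : G) := by
                group
            _ = ((x * y : X) : G) * ((h' : P) : G) := by rw [hg]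
        rw [← h3]; group
      rw [h2]; exact hh'H
    have hyN : (y : G) ∈ N := (hmemY y).mp hyY
    have : (x : G) = ((x * y : X) : G) * (y : G)⁻¹ := by
      rw [Subgroup.coe_mul]; group
    rw [this]
    exact N.mul_mem hgN (N.inv_mem hyN)

end Cfsg.Agent.Helper22.ZTI
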