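import Mathlib
import Cfsg.Prelude.Def_OddOrderLocal
import Cfsg.Agent.Lib.Helper98.TIHDefs
import Cfsg.Agent.Lib.Helper52.CoprimeSylow

/-!
Piece (A2) `exists_invariant_sylow_not_le` of helper98's lemma server "ZTI" (row S4151).
-/

set_option autoImplicit false
set_option linter.style.haveILetI false

namespace Cfsg.Agent.Helper22.ZTI

open Cfsg.Agent.Helper98.TIH

universe u

/-- (A2) [S] a `P`-invariant Sylow subgroup of `O` outside `N`.  `¬ O ≤ N`, so `(O ⊓ N).relIndex O ≠ 1`; `r` := a prime divisor.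
`Cfsg.Agent.Helper52.exists_invariant_sylow (A := P) (K := O)` (Lib/Helper52/CoprimeSylow.lean; `P` is a `p`-group, so solvable;
`sylCard r O = r ^ (Nat.card O).factorization r`) gives `R`.  If `R ≤ N`: `R ≤ O ⊓ N`, `|R|` divides `|O ⊓ N|`, and
`|O| = |O ⊓ N| * relIndex` gives `r ∤ relIndex`.  `IsPGroup r R` from the cardinality (`IsPGroup.of_card`). -/
theorem exists_invariant_sylow_not_le {G : Type u} [Group G] [Finite G] (O N P : Subgroup G)
    (hO : O.Normal) (hON : ¬ O ≤ N) (p : ℕ) (hp : p.Prime) (hP : IsPGroup p P)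
    (hcop : (Nat.card P).Coprime (Nat.card O)) :
    ∃ (r : ℕ) (R : Subgroup G), r.Prime ∧ IsPGroup r R ∧ R ≤ O ∧ ¬ R ≤ N ∧
      P ≤ Subgroup.normalizer (R : Set G) := by
  have h1 : (O ⊓ N).relIndex O ≠ 1 := by
    intro h
    apply hON
    exact (Subgroup.relIndex_eq_one.1 h).trans inf_le_right
  obtain ⟨r, hr, hrd⟩ := Nat.exists_prime_and_dvd h1
  haveI : Fact r.Prime := ⟨hr⟩
  haveI : Fact p.Prime := ⟨hp⟩
  have hsolv : Group.IsSolvable P := by
    haveI : Group.IsNilpotent P := hP.isNilpotent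
    infer_instance
  have hPO : P ≤ Subgroup.normalizer (O : Set G) := by
    rw [Subgroup.normalizer_eq_top_iff.2 hO]; exact le_top
  obtain ⟨R, hRO, hRcard, hPR⟩ :=
    Cfsg.Agent.Helper52.exists_invariant_sylow P O hPO hcop (Or.inl hsolv) r
  refine ⟨r, R, hr, ?_, hRO, ?_, hPR⟩
  · exact IsPGroup.of_card hRcard
  · intro hRN
    have hdvd : Nat.card R ∣ Nat.card (O ⊓ N : Subgroup G) :=
      Subgroup.card_dvd_of_le (le_inf hRO hRN)
    have hmul : Nat.card (O ⊓ N : Subgroup G) * (O ⊓ N).relIndex O = Nat.card O :=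
      Cfsg.Agent.Helper52.card_mul_relIndex_eq inf_le_left
    have hOpos : Nat.card O ≠ 0 := Nat.card_pos.ne'
    -- `r ^ (k + 1)` divides `|O|`
    have hR' : Nat.card R = r ^ (Nat.card O).factorization r := hRcard
    have hpow : r ^ ((Nat.card O).factorization r + 1) ∣ Nat.card O := by
      have h2 : r ^ (Nat.card O).factorization r * r ∣
          Nat.card (O ⊓ N : Subgroup G) * (O ⊓ N).relIndex O :=
        Nat.mul_dvd_mul (hR' ▸ hdvd) hrd
      rw [hmul] at h2
      rw [pow_succ]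
      exact h2
    exact (Nat.pow_succ_factorization_not_dvd hOpos hr) hpow

end Cfsg.Agent.Helper22.ZTI
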