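import Mathlib
import Cfsg.Prelude.Def_OddOrderLocal
import Cfsg.Agent.Lib.Helper98.TIHDefs

/-!
Piece (A3) `exists_section_of_pgroup` of helper98's lemma server "ZTI" (row S4151).
-/

set_option autoImplicit false
set_option linter.style.haveILetI false

namespace Cfsg.Agent.Helper22.ZTI

open Cfsg.Agent.Helper98.TIH

universe u

/-- (A3) [M] the normalizer grows in the nilpotent group `R`.  `D := R ⊓ N < R`; `X := R ⊓ normalizer D`; `D < X`
(`normalizerCondition_of_isNilpotent` in `↥R`, `IsPGroup.isNilpotent`); `P` normalizes `R`, `N`, hence `D`, `normalizer D`, `X`;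
`X ⊓ N = D` (`X ≤ R`; `D ≤ X`), so `X ≤ normalizer (X ⊓ N)`; `X ≤ N` would give `X = D`. -/
theorem exists_section_of_pgroup {G : Type u} [Group G] [Finite G] (N R P : Subgroup G) (r : ℕ)
    (hr : r.Prime) (hR : IsPGroup r R) (hRN : ¬ R ≤ N)
    (hPR : P ≤ Subgroup.normalizer (R : Set G)) (hPN : P ≤ Subgroup.normalizer (N : Set G)) :
    ∃ X : Subgroup G, X ≤ R ∧ P ≤ Subgroup.normalizer (X : Set G) ∧
      X ≤ Subgroup.normalizer ((X ⊓ N : Subgroup G) : Set G) ∧ ¬ X ≤ N := by
  haveI : Fact r.Prime := ⟨hr⟩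
  set D : Subgroup G := R ⊓ N with hD
  set X : Subgroup G := R ⊓ Subgroup.normalizer (D : Set G) with hX
  have hDR : D ≤ R := inf_le_left
  have hDN : D ≤ N := inf_le_right
  have hDX : D ≤ X := le_inf hDR Subgroup.le_normalizer
  have hXR : X ≤ R := inf_le_left
  have hXND : X ⊓ N = D := by
    apply le_antisymm
    · exact le_inf (inf_le_left.trans hXR) inf_le_right
    · exact le_inf hDX hDN
  -- `P` normalizes `D`
  have hPD : P ≤ Subgroup.normalizer (D : Set G) := by
    intro y hy
    rw [Subgroup.mem_normalizer_iff]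
    intro x
    have h1 := Subgroup.mem_normalizer_iff.1 (hPR hy) x
    have h2 := Subgroup.mem_normalizer_iff.1 (hPN hy) x
    simp only [hD, Subgroup.mem_inf]
    rw [h1, h2]
  have hPX : P ≤ Subgroup.normalizer (X : Set G) := by
    intro y hy
    rw [Subgroup.mem_normalizer_iff]
    intro x
    have h1 := Subgroup.mem_normalizer_iff.1 (hPR hy) x
    have hyD := hPD hy
    have h2 : x ∈ Subgroup.normalizer (D : Set G) ↔
        y * x * y⁻¹ ∈ Subgroup.normalizer (D : Set G) := by
      constructor
      · intro hx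
        exact Subgroup.mul_mem _ (Subgroup.mul_mem _ hyD hx) (Subgroup.inv_mem _ hyD)
      · intro hx
        have : x = y⁻¹ * (y * x * y⁻¹) * y := by group
        rw [this]
        exact Subgroup.mul_mem _ (Subgroup.mul_mem _ (Subgroup.inv_mem _ hyD) hx) hyD
    simp only [hX, Subgroup.mem_inf]
    rw [h1, h2]
  refine ⟨X, hXR, hPX, ?_, ?_⟩
  · rw [hXND]; exact inf_le_right
  · intro hXN
    have hXD : X = D := le_antisymm (le_inf hXR hXN) hDX
    -- normalizer condition in `↥R`
    haveI : Group.IsNilpotent R := hR.isNilpotent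
    have hnc := Group.normalizerCondition_of_isNilpotent (G := R)
    have hlt : D.subgroupOf R < ⊤ := by
      rw [lt_top_iff_ne_top]
      intro h
      rw [Subgroup.subgroupOf_eq_top] at h
      exact hRN (h.trans hDN)
    have h3 := hnc _ hlt
    obtain ⟨x, hxn, hxD⟩ := SetLike.exists_of_lt h3
    apply hxD
    rw [Subgroup.mem_subgroupOf]
    have hxX : (x : G) ∈ X := by
      refine Subgroup.mem_inf.2 ⟨x.2, ?_⟩
      rw [Subgroup.mem_normalizer_iff]
      intro h
      constructor
      · intro hh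
        have := (Subgroup.mem_normalizer_iff.1 hxn ⟨h, hDR hh⟩).1 (Subgroup.mem_subgroupOf.2 hh)
        exact Subgroup.mem_subgroupOf.1 this
      · intro hh
        have hhR : h ∈ R := by
          have : h = (x : G)⁻¹ * ((x : G) * h * (x : G)⁻¹) * (x : G) := by group
          rw [this]
          exact R.mul_mem (R.mul_mem (R.inv_mem x.2) (hDR hh)) x.2
        have := (Subgroup.mem_normalizer_iff.1 hxn ⟨h, hhR⟩).2 (Subgroup.mem_subgroupOf.2 hh)
        exact Subgroup.mem_subgroupOf.1 this
    rw [hXD] at hxX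
    exact hxX

end Cfsg.Agent.Helper22.ZTI
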